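/-
Automorphism groups of dihedral and quaternion groups of order at least 16 are 2-groups.
-/
import Mathlib.GroupTheory.SpecificGroups.Dihedral
import Mathlib.GroupTheory.SpecificGroups.Quaternion
import Mathlib.GroupTheory.PGroup
import Mathlib.FieldTheory.Finite.Basic
set_option autoImplicit false

namespace Cfsg.Agent.Fusion

/-- The automorphism group of a group generated by a large cyclic characteristic subgroup and one
further element is a 2-group. -/
theorem isPGroup_two_mulAut {G : Type*} [Group G] {N : ℕ} (hN : 1 ≤ N)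
    (R : ZMod (2 ^ N) → G) (Sx : ZMod (2 ^ N) → G) (hR : ∀ i, R i = R 1 ^ i.val)
    (hcover : ∀ g, (∃ i, g = R i) ∨ ∃ i, g = Sx i)
    (hmul : ∀ i j, Sx i * R j = Sx (i + j))
    (hchar : ∀ (α : MulAut G), ∃ k, α (R 1) = R k) (hinj : Function.Injective R)
    (hne : ∀ i j, R i ≠ Sx j) : IsPGroup 2 (MulAut G) := by
  intro α
  have hRmul : ∀ (β : MulAut G) (k : ZMod (2 ^ N)), β (R 1) = R k → ∀ i, β (R i) = R (k * i) := by
    intro β k hk i
    rw [hR i, map_pow, hk, hR k, ← pow_mul, hR (k * i)]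
    have h1 : R 1 ^ (2 ^ N) = 1 := by
      have h := hR 0
      have h0 : R 0 = 1 := by rw [h, ZMod.val_zero, pow_zero]
      rcases Nat.eq_or_lt_of_le (Nat.one_le_two_pow (n := N)) with h' | h'
      · have := Nat.one_lt_two_pow (n := N) (by omega); omega
      · haveI : Fact (1 < 2 ^ N) := ⟨h'⟩
        have e : R (-1) * R 1 = R 1 ^ (2 ^ N) := by
          conv_lhs => rw [hR (-1)]
          rw [← pow_succ]
          congr 1
          have := ZMod.neg_val (1 : ZMod (2 ^ N))
          rw [if_neg one_ne_zero, ZMod.val_one] at this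
          omega
        obtain ⟨j, hj⟩ | ⟨j, hj⟩ := hcover (R 1 ^ (2 ^ N))
        · have h2 : Sx 0 * (R (-1) * R 1) = Sx 0 := by rw [← mul_assoc, hmul, hmul, zero_add, neg_add_cancel]
          rw [← e]
          exact mul_eq_left.mp h2
        · have h2 : Sx 0 * (R (-1) * R 1) = Sx 0 := by rw [← mul_assoc, hmul, hmul, zero_add, neg_add_cancel]
          rw [← e]
          exact mul_eq_left.mp h2
    rw [ZMod.val_mul, ← pow_eq_pow_mod _ h1]
  obtain ⟨k, hk⟩ := hchar α
  obtain ⟨l, hl⟩ := hchar α⁻¹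
  have hkl : k * l = 1 := hinj (by rw [← hRmul α k hk l, ← hl, MulAut.apply_inv_self])
  have hpow : ∀ n : ℕ, (α ^ n) (R 1) = R (k ^ n) := by
    intro n
    induction n with
    | zero => simp
    | succ n ih => rw [pow_succ', MulAut.mul_apply, ih, hRmul α k hk, pow_succ']
  have hk1 : k ^ (2 ^ (N - 1)) = 1 := by
    have h := ZMod.pow_totient (Units.mk k l hkl (mul_comm k l ▸ hkl))
    rw [Nat.totient_prime_pow Nat.prime_two hN] at h
    simpa using congrArg Units.val h
  set β := α ^ (2 ^ (N - 1)) with hβ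
  have hβR : ∀ i, β (R i) = R i := fun i => by
    have := hpow (2 ^ (N - 1))
    rw [hk1] at this
    rw [hRmul β 1 this i, one_mul]
  obtain ⟨j, hj⟩ : ∃ j, β (Sx 0) = Sx j := by
    rcases hcover (β (Sx 0)) with ⟨i, hi⟩ | h
    · exact absurd (β.injective ((hβR i).trans hi.symm)) (hne i 0)
    · exact h
  have hn : ∀ n : ℕ, (β ^ n) (Sx 0) = Sx (n • j) ∧ ∀ i, (β ^ n) (R i) = R i := by
    intro n
    induction n with
    | zero => simp
    | succ n ih =>
      refine ⟨?_, fun i => by rw [pow_succ, MulAut.mul_apply, hβR, ih.2]⟩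
      rw [pow_succ, MulAut.mul_apply, hj, show Sx j = Sx 0 * R j by rw [hmul, zero_add],
        _root_.map_mul, ih.1, ih.2, hmul, succ_nsmul]
  refine ⟨(N - 1) + N, MulEquiv.ext fun g => ?_⟩
  rw [pow_add, pow_mul, ← hβ, MulAut.one_apply]
  obtain ⟨h0, hi⟩ := hn (2 ^ N)
  rw [nsmul_eq_mul, ZMod.natCast_self, zero_mul] at h0
  rcases hcover g with ⟨i, rfl⟩ | ⟨i, rfl⟩
  · exact hi i
  · rw [show Sx i = Sx 0 * R i by rw [hmul, zero_add], _root_.map_mul, h0, hi]

theorem isPGroup_mulAut_dihedral (N : ℕ) (hN : 2 ≤ N) :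
    IsPGroup 2 (MulAut (DihedralGroup (2 ^ N))) := by
  haveI : NeZero (2 ^ N) := ⟨by positivity⟩
  refine isPGroup_two_mulAut (by omega) DihedralGroup.r DihedralGroup.sr
    (fun i => by rw [DihedralGroup.r_one_pow, ZMod.natCast_zmod_val]) ?_ (fun _ _ => rfl)
    (fun α => ?_) (fun i j h => DihedralGroup.r.inj h) (fun i j h => by cases h)
  · rintro (i | i)
    exacts [Or.inl ⟨i, rfl⟩, Or.inr ⟨i, rfl⟩]
  · rcases h : α (DihedralGroup.r 1) with k | k
    · exact ⟨k, rfl⟩
    · exfalso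
      have ho := α.orderOf_eq (DihedralGroup.r 1)
      rw [h, DihedralGroup.orderOf_sr, DihedralGroup.orderOf_r_one] at ho
      have : 2 ^ 2 ≤ 2 ^ N := Nat.pow_le_pow_right two_pos hN
      omega

theorem isPGroup_mulAut_quaternion (M : ℕ) (hM : 2 ≤ M) :
    IsPGroup 2 (MulAut (QuaternionGroup (2 ^ M))) := by
  haveI : NeZero (2 ^ M) := ⟨by positivity⟩
  have he : 2 * 2 ^ M = 2 ^ (M + 1) := by rw [pow_succ']
  let c : ZMod (2 ^ (M + 1)) ≃+* ZMod (2 * 2 ^ M) := ZMod.ringEquivCongr he.symm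
  haveI : NeZero (2 ^ (M + 1)) := ⟨by positivity⟩
  refine isPGroup_two_mulAut (N := M + 1) (by omega) (fun i => QuaternionGroup.a (c i))
    (fun i => QuaternionGroup.xa (c i)) (fun i => ?_) ?_
    (fun i j => by rw [QuaternionGroup.xa_mul_a, map_add])
    (fun α => ?_) (fun i j h => c.injective (QuaternionGroup.a.inj h)) (fun i j h => by cases h)
  · show _ = QuaternionGroup.a (c 1) ^ i.val
    rw [map_one, QuaternionGroup.a_one_pow, ← map_natCast c, ZMod.natCast_zmod_val]
  · rintro (i | i)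
    exacts [Or.inl ⟨c.symm i, by simp⟩, Or.inr ⟨c.symm i, by simp⟩]
  · rcases h : α (QuaternionGroup.a (c 1)) with k | k
    · exact ⟨c.symm k, by simp⟩
    · exfalso
      have ho := α.orderOf_eq (QuaternionGroup.a (c 1))
      rw [h, map_one, QuaternionGroup.orderOf_xa, QuaternionGroup.orderOf_a_one] at ho
      have : 2 ^ 2 ≤ 2 ^ M := Nat.pow_le_pow_right two_pos hM
      omega

end Cfsg.Agent.Fusion
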