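/-
Generalized extraspecial strongly closed subgroups.
-/
import Cfsg.Agent.Fusion.NormalMore
import Cfsg.Agent.Fusion.Saturation
import Cfsg.Agent.Fusion.Normal
import Cfsg.Agent.FGS3.PGroupFrattini
import Cfsg.Agent.FGS3.ClassTwo
import Cfsg.Agent.OddLocal.NilBasics
import Mathlib.GroupTheory.SpecificGroups.Dihedral
set_option autoImplicit false

namespace Cfsg.Agent.Fusion.GenExtra

open Cfsg Cfsg.FusionSystem
open scoped commutatorElement

section Abstract

variable {P : Type*} [Group P] {p : ℕ} [hp : Fact p.Prime] {z y b : P} {M : Subgroup P}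

theorem elementary_complement [Finite P] {C : Subgroup P} (hab : ∀ a ∈ C, ∀ c ∈ C, a * c = c * a)
    (hel : ∀ a ∈ C, a ^ p = 1) (hz : z ∈ C) (hz1 : z ≠ 1) :
    ∃ A ≤ C, z ∉ A ∧ ∀ c ∈ C, ∃ i : ℤ, ∃ a ∈ A, c = z ^ i * a := by
  obtain ⟨A, -, ⟨hAC, hzA⟩, hmax⟩ := (Set.toFinite {A : Subgroup P | A ≤ C ∧ z ∉ A}).exists_le_maximal
    (a := ⊥) ⟨bot_le, fun h => hz1 (Subgroup.mem_bot.mp h)⟩
  refine ⟨A, hAC, hzA, fun c hc => ?_⟩
  by_cases hcA : c ∈ A
  · exact ⟨0, c, hcA, by simp⟩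
  let X : Subgroup P :=
    { carrier := {x | ∃ i : ℤ, ∃ a ∈ A, x = a * c ^ i}
      one_mem' := ⟨0, 1, A.one_mem, by simp⟩
      mul_mem' := by
        rintro _ _ ⟨i, a, ha, rfl⟩ ⟨j, a', ha', rfl⟩
        refine ⟨i + j, a * a', A.mul_mem ha ha', ?_⟩
        rw [zpow_add, mul_assoc, ← mul_assoc (c ^ i), hab _ (C.zpow_mem hc i) a' (hAC ha'), mul_assoc,
          ← mul_assoc a]
      inv_mem' := by
        rintro _ ⟨i, a, ha, rfl⟩
        exact ⟨-i, a⁻¹, A.inv_mem ha, by rw [mul_inv_rev, zpow_neg, hab _ (C.inv_mem (C.zpow_mem hc i)) _ (C.inv_mem (hAC ha))]⟩ }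
  have hzX : z ∈ X := by
    by_contra h
    have hle : A ≤ X := fun a ha => ⟨0, a, ha, by simp⟩
    have hXC : X ≤ C := by
      rintro _ ⟨i, a, ha, rfl⟩; exact C.mul_mem (hAC ha) (C.zpow_mem hc i)
    exact hcA (hmax ⟨hXC, h⟩ hle ⟨1, 1, A.one_mem, by simp⟩)
  obtain ⟨i, a, ha, hzi⟩ := hzX
  have hi : ¬ (p : ℤ) ∣ i := by
    rintro ⟨k, rfl⟩
    rw [zpow_mul, zpow_natCast, hel c hc, one_zpow, mul_one] at hzi
    exact hzA (hzi ▸ ha)
  obtain ⟨j, k, hjk⟩ : ∃ j k : ℤ, i * j + (p : ℤ) * k = 1 := by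
    have := (Nat.prime_iff_prime_int.mp hp.out).coprime_iff_not_dvd.mpr hi
    obtain ⟨u, v, huv⟩ := this
    exact ⟨v, u, by linarith⟩
  refine ⟨j, a ^ (-j), A.zpow_mem ha _, ?_⟩
  have hcc : Commute a (c ^ i) := hab a (hAC ha) _ (C.zpow_mem hc i)
  rw [hzi, hcc.mul_zpow, zpow_neg, mul_assoc, hab _ (C.zpow_mem (C.zpow_mem hc i) j) _ (C.inv_mem (C.zpow_mem (hAC ha) j)),
    ← mul_assoc, mul_inv_cancel, one_mul, ← zpow_mul]
  conv_lhs => rw [← zpow_one c, ← hjk, zpow_add, zpow_mul c (p : ℤ) k, zpow_natCast, hel c hc, one_zpow, mul_one]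

/-- The product of a nonabelian subgroup of order `p³` and an elementary abelian central factor. -/
structure Split (p : ℕ) (z y b : P) (A : Subgroup P) : Prop where
  zc : ∀ x, z * x = x * z
  zo : z ^ p = 1
  yo : y ^ p = 1
  z1 : z ≠ 1
  bp : b ^ p ∈ Subgroup.zpowers z
  rel : b * y * b⁻¹ = y * z
  Ac : ∀ a ∈ A, ∀ x, a * x = x * a
  Ael : ∀ a ∈ A, a ^ p = 1
  gen : ∀ x, ∃ i j k : ℕ, ∃ a ∈ A, x = b ^ i * y ^ j * z ^ k * a
  uniq : ∀ i j k : ℕ, ∀ a ∈ A, b ^ i * y ^ j * z ^ k * a = 1 → p ∣ i ∧ p ∣ j ∧ a = 1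

variable {A : Subgroup P} (h : Split p z y b A)
include h

theorem Split.nc : b * y ≠ y * b := fun e => h.z1 (by
  have h1 := h.rel
  rw [e, mul_inv_cancel_right] at h1
  exact mul_left_cancel (h1.symm.trans (mul_one y).symm))

theorem Split.comm_mem (u v : P) : ⁅u, v⁆ ∈ Subgroup.zpowers z := by
  haveI : (Subgroup.zpowers z).Normal := ⟨fun w hw g => by
    obtain ⟨n, rfl⟩ := Subgroup.mem_zpowers_iff.mp hw
    rw [((show Commute g z from (h.zc g).symm).zpow_right n).eq, mul_inv_cancel_right]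
    exact zpow_mem (Subgroup.mem_zpowers z) n⟩
  let π := QuotientGroup.mk' (Subgroup.zpowers z)
  have hyb : Commute (π b) (π y) := by
    show π b * π y = π y * π b
    rw [← map_mul, ← map_mul, QuotientGroup.mk'_eq_mk']
    exact ⟨z⁻¹, inv_mem (Subgroup.mem_zpowers z), by
      rw [show b * y = y * z * b from mul_inv_eq_iff_eq_mul.mp h.rel, mul_assoc, mul_assoc, ← mul_assoc z,
        h.zc, mul_assoc, mul_inv_cancel, mul_one]⟩
  have hcom : ∀ w, Commute (π w) (π b) ∧ Commute (π w) (π y) := by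
    intro w
    obtain ⟨i, j, k, a, ha, rfl⟩ := h.gen w
    simp only [map_mul, map_pow]
    have hza : ∀ t, Commute (π z) (π t) := fun t => by
      show _ = _; rw [← map_mul, ← map_mul, h.zc]
    have haa : ∀ t, Commute (π a) (π t) := fun t => by
      show _ = _; rw [← map_mul, ← map_mul, h.Ac a ha]
    exact ⟨((((Commute.refl (π b)).pow_left i).mul_left (hyb.symm.pow_left j)).mul_left ((hza b).pow_left k)).mul_left (haa b),
      (((hyb.pow_left i).mul_left ((Commute.refl (π y)).pow_left j)).mul_left ((hza y).pow_left k)).mul_left (haa y)⟩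
  rw [← QuotientGroup.eq_one_iff, show ((⁅u, v⁆ : P) : P ⧸ Subgroup.zpowers z) = ⁅π u, π v⁆ from
    map_commutatorElement π u v, commutatorElement_eq_one_iff_mul_comm]
  obtain ⟨i, j, k, a, ha, rfl⟩ := h.gen v
  simp only [map_mul, map_pow]
  have hza : Commute (π u) (π z) := by show _ = _; rw [← map_mul, ← map_mul, h.zc]
  have haa : Commute (π u) (π a) := by show _ = _; rw [← map_mul, ← map_mul, h.Ac a ha]
  exact ((((hcom u).1.pow_right i).mul_right ((hcom u).2.pow_right j)).mul_right (hza.pow_right k)).mul_right haa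

theorem Split.center_small (hP : IsPGroup p P) {i j k : ℕ} {a : P} (ha : a ∈ A)
    (hy : Commute (b ^ i * y ^ j * z ^ k * a) y) (hb : Commute (b ^ i * y ^ j * z ^ k * a) b) :
    p ∣ i ∧ p ∣ j := by
  have hzb : ∀ (t : P) (n : ℕ), Commute (z ^ n) t := fun t n => (show Commute z t from h.zc t).pow_left n
  have haa : ∀ t : P, Commute a t := fun t => h.Ac a ha t
  have h1 : ∀ t, Commute (b ^ i * y ^ j * z ^ k * a) t → Commute (b ^ i * y ^ j) t := fun t ht => by
    have h2 : b ^ i * y ^ j = (b ^ i * y ^ j * z ^ k * a) * (z ^ k * a)⁻¹ := by group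
    rw [h2]; exact ht.mul_left ((hzb t k).mul_left (haa t)).inv_left
  have hp_not : ∀ (u : P), ∀ n : ℕ, ∀ (q : P), u * q ≠ q * u → Commute (u ^ n) q → p ∣ n := by
    intro u n q hne hc
    by_contra hn
    obtain ⟨e, he⟩ := IsPGroup.iff_orderOf.mp hP u
    obtain ⟨m, hm⟩ := exists_pow_eq_self_of_coprime (show n.Coprime (orderOf u) from
      he ▸ (((hp.out.coprime_iff_not_dvd).mpr hn).symm).pow_right e)
    exact hne (hm ▸ (hc.pow_left m).eq)
  refine ⟨hp_not b i y h.nc ?_, hp_not y j b (Ne.symm h.nc) ?_⟩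
  · have := (h1 y hy).mul_left ((Commute.refl y).pow_left j).inv_left
    rwa [mul_inv_cancel_right] at this
  · have := ((Commute.refl b).pow_left i).inv_left.mul_left (h1 b hb)
    rwa [inv_mul_cancel_left] at this

theorem Split.to_extraspecial [Finite P] (hP : IsPGroup p P) (hp2 : p ≠ 2) (hbp : b ^ p = 1) :
    ∃ (E : Subgroup P), IsExtraspecial p E ∧ Nat.card E = p ^ 3 ∧ Monoid.exponent E = p ∧
      Nonempty (P ≃* E × A) := by
  set E := Subgroup.closure ({b, y, z} : Set P) with hE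
  have hbE : b ∈ E := Subgroup.subset_closure (by simp)
  have hyE : y ∈ E := Subgroup.subset_closure (by simp)
  have hzE : z ∈ E := Subgroup.subset_closure (by simp)
  have hEA : ∀ x ∈ E, x ∈ A → x = 1 := by
    intro x hx hxA
    have hform : ∀ w ∈ E, ∃ i j k : ℕ, w = b ^ i * y ^ j * z ^ k := by
      intro w hw
      induction hw using Subgroup.closure_induction with
      | mem v hv =>
        rcases hv with rfl | rfl | rfl
        · exact ⟨1, 0, 0, by simp⟩
        · exact ⟨0, 1, 0, by simp⟩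
        · exact ⟨0, 0, 1, by simp⟩
      | one => exact ⟨0, 0, 0, by simp⟩
      | mul u v _ _ hu hv =>
        obtain ⟨i, j, k, rfl⟩ := hu
        obtain ⟨i', j', k', rfl⟩ := hv
        obtain ⟨c, hc⟩ := (mem_powers_iff_mem_zpowers).mpr (h.comm_mem (y ^ j) (b ^ i'))
        refine ⟨i + i', j + j', k + k' + c, ?_⟩
        have e : y ^ j * b ^ i' = b ^ i' * y ^ j * z ^ c := by
          rw [← ((show Commute z (b ^ i' * y ^ j) from h.zc _).pow_left c).eq,
            show z ^ c = ⁅y ^ j, b ^ i'⁆ from hc]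
          group
        have hzz : ∀ (n : ℕ) (t : P), z ^ n * t = t * z ^ n := fun n t =>
          ((show Commute z t from h.zc t).pow_left n).eq
        calc b ^ i * y ^ j * z ^ k * (b ^ i' * y ^ j' * z ^ k')
            = b ^ i * y ^ j * (z ^ k * (b ^ i' * y ^ j' * z ^ k')) := by group
          _ = b ^ i * (y ^ j * b ^ i') * y ^ j' * z ^ k' * z ^ k := by rw [hzz]; group
          _ = b ^ i * b ^ i' * y ^ j * (z ^ c * y ^ j') * z ^ k' * z ^ k := by rw [e]; group
          _ = b ^ (i + i') * y ^ (j + j') * z ^ (k + k' + c) := by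
            rw [hzz c, pow_add b, pow_add y, show k + k' + c = c + k' + k by ring, pow_add z, pow_add z]; group
      | inv u _ hu =>
        obtain ⟨n, hn⟩ := IsPGroup.iff_orderOf.mp hP u
        have hu' : u⁻¹ = u ^ (p ^ n - 1) := by
          refine inv_eq_of_mul_eq_one_right ?_
          rw [← pow_succ', Nat.sub_add_cancel (pow_pos hp.out.pos n), ← hn, pow_orderOf_eq_one]
        rw [hu']
        clear hu'
        induction (p ^ n - 1) with
        | zero => exact ⟨0, 0, 0, by simp⟩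
        | succ m ih =>
          obtain ⟨i, j, k, e⟩ := hu
          obtain ⟨i', j', k', e'⟩ := ih
          obtain ⟨c, hc⟩ := (mem_powers_iff_mem_zpowers).mpr (h.comm_mem (y ^ j') (b ^ i))
          refine ⟨i' + i, j' + j, k' + k + c, ?_⟩
          have e2 : y ^ j' * b ^ i = b ^ i * y ^ j' * z ^ c := by
            rw [← ((show Commute z (b ^ i * y ^ j') from h.zc _).pow_left c).eq,
              show z ^ c = ⁅y ^ j', b ^ i⁆ from hc]
            group
          have hzz : ∀ (n : ℕ) (t : P), z ^ n * t = t * z ^ n := fun n t =>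
            ((show Commute z t from h.zc t).pow_left n).eq
          rw [pow_succ, e', e]
          calc b ^ i' * y ^ j' * z ^ k' * (b ^ i * y ^ j * z ^ k)
              = b ^ i' * y ^ j' * (z ^ k' * (b ^ i * y ^ j * z ^ k)) := by group
            _ = b ^ i' * (y ^ j' * b ^ i) * y ^ j * z ^ k * z ^ k' := by rw [hzz]; group
            _ = b ^ i' * b ^ i * y ^ j' * (z ^ c * y ^ j) * z ^ k * z ^ k' := by rw [e2]; group
            _ = b ^ (i' + i) * y ^ (j' + j) * z ^ (k' + k + c) := by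
              rw [hzz c, pow_add b, pow_add y, show k' + k + c = c + k + k' by ring, pow_add z, pow_add z]; group
    obtain ⟨i, j, k, e⟩ := hform x hx
    have h1 := (h.uniq i j k x⁻¹ (A.inv_mem hxA) (by rw [← e, mul_inv_cancel])).2.2
    exact inv_eq_one.mp h1
  let φ : E × A →* P := MonoidHom.mk' (fun w => (w.1 : P) * w.2) fun u v => by
    simp only [Prod.fst_mul, Prod.snd_mul, Subgroup.coe_mul]
    rw [mul_assoc (u.1 : P), mul_assoc (u.1 : P), ← mul_assoc (u.2 : P), h.Ac _ u.2.2 v.1, mul_assoc]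
  have hinj : Function.Injective φ := (injective_iff_map_eq_one φ).mpr fun w hw => by
    have h1 : (w.1 : P) = (w.2 : P)⁻¹ := eq_inv_of_mul_eq_one_left hw
    have h2 := hEA _ w.1.2 (h1 ▸ A.inv_mem w.2.2)
    exact Prod.ext (Subtype.ext h2) (Subtype.ext (inv_eq_one.mp (h1.symm.trans h2)))
  have hsurj : Function.Surjective φ := fun x => by
    obtain ⟨i, j, k, a, ha, rfl⟩ := h.gen x
    exact ⟨(⟨_, E.mul_mem (E.mul_mem (E.pow_mem hbE i) (E.pow_mem hyE j)) (E.pow_mem hzE k)⟩, ⟨a, ha⟩), rfl⟩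
  have hclass : commutator E ≤ Subgroup.center E := by
    rw [commutator_def, Subgroup.commutator_le]
    intro u _ v _
    refine Subgroup.mem_center_iff.mpr fun w => Subtype.ext ?_
    obtain ⟨n, hn⟩ := Subgroup.mem_zpowers_iff.mp (h.comm_mem (u : P) v)
    show (w : P) * ⁅(u : P), (v : P)⁆ = ⁅(u : P), (v : P)⁆ * w
    rw [← hn]
    exact ((show Commute (w : P) z from (h.zc _).symm).zpow_right n).eq
  have hpow : ∀ x : E, x ^ p = 1 := by
    have hmul : ∀ u v : E, (u * v) ^ p = u ^ p * v ^ p := fun u v =>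
      FGS3.mul_pow_of_center_odd hclass u v (hp.out.odd_of_ne_two hp2) (by
        refine Subtype.ext ?_
        obtain ⟨n, hn⟩ := Subgroup.mem_zpowers_iff.mp (h.comm_mem (v : P) u)
        show ⁅(v : P), (u : P)⁆ ^ p = 1
        rw [← hn, ← zpow_natCast, ← zpow_mul, mul_comm, zpow_mul, zpow_natCast, h.zo, one_zpow])
    rintro ⟨x, hx⟩
    refine Subtype.ext ?_
    show x ^ p = 1
    induction hx using Subgroup.closure_induction with
    | mem v hv =>
      rcases hv with rfl | rfl | rfl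
      exacts [hbp, h.yo, h.zo]
    | one => exact one_pow p
    | mul u v hu hv e1 e2 =>
      have := congrArg Subtype.val (hmul ⟨u, hu⟩ ⟨v, hv⟩)
      simpa [e1, e2] using this
    | inv u _ e1 => rw [inv_pow, e1, inv_one]
  have hEP : IsPGroup p E := hP.to_subgroup E
  have hcE : Subgroup.center E = Subgroup.zpowers (⟨z, hzE⟩ : E) := by
    refine le_antisymm (fun x hx => ?_) (Subgroup.zpowers_le.mpr (Subgroup.mem_center_iff.mpr fun w => Subtype.ext (h.zc w).symm))
    obtain ⟨i, j, k, a, ha, e⟩ := h.gen (x : P)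
    have haE : a ∈ E := by
      have h1 := E.mul_mem (E.inv_mem (E.mul_mem (E.mul_mem (E.pow_mem hbE i) (E.pow_mem hyE j)) (E.pow_mem hzE k))) x.2
      rwa [e, inv_mul_cancel_left] at h1
    have hxy : Commute (x : P) y := (congrArg Subtype.val (Subgroup.mem_center_iff.mp hx ⟨y, hyE⟩)).symm
    have hxb : Commute (x : P) b := (congrArg Subtype.val (Subgroup.mem_center_iff.mp hx ⟨b, hbE⟩)).symm
    rw [e] at hxy hxb
    obtain ⟨hi, hj⟩ := h.center_small hP ha hxy hxb
    obtain ⟨i', rfl⟩ := hi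
    obtain ⟨j', rfl⟩ := hj
    rw [pow_mul, hbp, one_pow, pow_mul, h.yo, one_pow, hEA a haE ha, one_mul, one_mul, mul_one] at e
    exact Subgroup.mem_zpowers_iff.mpr ⟨k, Subtype.ext (by simp [e])⟩
  have hzcard : Nat.card (Subgroup.center E) = p := by
    rw [hcE, Nat.card_zpowers, ← Subgroup.orderOf_coe]
    exact orderOf_eq_prime h.zo h.z1
  have hzc' : Subgroup.zpowers (⟨z, hzE⟩ : E) ≤ commutator E := Subgroup.zpowers_le.mpr (by
    have h2 : ⁅(⟨b, hbE⟩ : E), ⟨y, hyE⟩⁆ ∈ commutator E :=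
      Subgroup.commutator_mem_commutator (Subgroup.mem_top _) (Subgroup.mem_top _)
    convert h2 using 1
    refine Subtype.ext ?_
    show z = b * y * b⁻¹ * y⁻¹
    rw [h.rel, ← h.zc y, mul_inv_cancel_right])
  have hcz : commutator E = Subgroup.center E := le_antisymm hclass (hcE ▸ hzc')
  have hfr : frattini E = Subgroup.center E :=
    le_antisymm (FGS3.frattini_le_of_elementary (p := p) hclass fun x => by rw [hpow x]; exact one_mem _)
      (hcz ▸ FGS3.commutator_le_frattini hEP)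
  refine ⟨E, ⟨⟨hEP, hfr, hcz⟩, hzcard⟩, ?_, ?_, ⟨(MulEquiv.ofBijective φ ⟨hinj, hsurj⟩).symm⟩⟩
  · -- the order of `E`
    let g : Fin p × Fin p × Fin p → E := fun w =>
      ⟨b ^ (w.1 : ℕ) * y ^ (w.2.1 : ℕ) * z ^ (w.2.2 : ℕ),
        E.mul_mem (E.mul_mem (E.pow_mem hbE _) (E.pow_mem hyE _)) (E.pow_mem hzE _)⟩
    have hmodp : ∀ (t : P), t ^ p = 1 → ∀ n : ℕ, t ^ n = t ^ (n % p) := fun t ht n => by
      conv_lhs => rw [← Nat.mod_add_div n p, pow_add, pow_mul, ht, one_pow, mul_one]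
    have hgs : Function.Surjective g := fun x => by
      obtain ⟨i, j, k, a, ha, e⟩ := h.gen (x : P)
      have haE : a ∈ E := by
        have h1 := E.mul_mem (E.inv_mem (E.mul_mem (E.mul_mem (E.pow_mem hbE i) (E.pow_mem hyE j)) (E.pow_mem hzE k))) x.2
        rwa [e, inv_mul_cancel_left] at h1
      rw [hEA a haE ha, mul_one] at e
      exact ⟨(⟨i % p, Nat.mod_lt _ hp.out.pos⟩, ⟨j % p, Nat.mod_lt _ hp.out.pos⟩, ⟨k % p, Nat.mod_lt _ hp.out.pos⟩),
        Subtype.ext (by
          show b ^ (i % p) * y ^ (j % p) * z ^ (k % p) = x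
          rw [← hmodp b hbp, ← hmodp y h.yo, ← hmodp z h.zo, e])⟩
    have hle : Nat.card E ≤ p ^ 3 := by
      refine (Nat.card_le_card_of_surjective g hgs).trans ?_
      simp only [Nat.card_prod, Nat.card_fin]
      exact le_of_eq (by ring)
    obtain ⟨n, hn⟩ := IsPGroup.iff_card.mp hEP
    have hnc : ¬ ∀ u v : E, u * v = v * u := fun hc =>
      h.nc (congrArg Subtype.val (hc ⟨b, hbE⟩ ⟨y, hyE⟩))
    rcases Nat.lt_or_ge n 3 with hn3 | hn3
    · exfalso
      refine hnc ?_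
      interval_cases n
      · intro u v
        haveI := (Nat.card_eq_one_iff_unique.mp (hn.trans (pow_zero p))).1
        exact Subsingleton.elim _ _
      · rw [pow_one] at hn
        haveI := isCyclic_of_prime_card hn
        letI := IsCyclic.commGroup (α := E)
        exact fun u v => mul_comm u v
      · exact IsPGroup.commutative_of_card_eq_prime_sq hn
    · exact le_antisymm hle (hn ▸ Nat.pow_le_pow_right hp.out.pos hn3)
  · refine ((Nat.dvd_prime hp.out).mp (Monoid.exponent_dvd_of_forall_pow_eq_one hpow)).resolve_left fun e => ?_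
    have := Monoid.pow_exponent_eq_one (⟨z, hzE⟩ : E)
    rw [e, pow_one] at this
    exact h.z1 (congrArg Subtype.val this)

theorem Split.to_dihedral [Finite P] (hP : IsPGroup p P) (hp2 : p = 2) :
    Nonempty (P ≃* DihedralGroup 4 × A) := by
  subst hp2
  obtain ⟨r, hr, hrel, hrform⟩ : ∃ r, r * r = z ∧ r * y * r⁻¹ = y * z ∧ (r = b ∨ r = b * y) := by
    obtain ⟨n, hn⟩ := (mem_powers_iff_mem_zpowers).mpr h.bp
    have hz2 : z * z = 1 := by rw [← sq, h.zo]
    rcases Nat.even_or_odd n with ⟨m, rfl⟩ | ⟨m, rfl⟩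
    · refine ⟨b * y, ?_, ?_, Or.inr rfl⟩
      · have hb : b ^ 2 = 1 := by rw [← hn]; show z ^ (m + m) = 1; rw [← two_mul, pow_mul, h.zo, one_pow]
        have hb' : b⁻¹ = b := inv_eq_of_mul_eq_one_right (by rw [← sq, hb])
        have hy' : y * y = 1 := by rw [← sq, h.yo]
        calc b * y * (b * y) = (b * y * b⁻¹) * y := by rw [hb']; group
          _ = z := by rw [h.rel, mul_assoc, h.zc, ← mul_assoc, hy', one_mul]
      · calc b * y * y * (b * y)⁻¹ = b * y * b⁻¹ := by group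
          _ = y * z := h.rel
    · refine ⟨b, ?_, h.rel, Or.inl rfl⟩
      rw [← sq, ← hn]; show z ^ (2 * m + 1) = z
      rw [pow_succ, pow_mul, h.zo, one_pow, one_mul]
  have hr4 : r ^ 4 = 1 := by rw [show 4 = 2 + 2 from rfl, pow_add, sq, hr, ← sq, h.zo]
  have hyy : y * y = 1 := by rw [← sq, h.yo]
  have hzz : z * z = 1 := by rw [← sq, h.zo]
  have hrinv : r⁻¹ = r * z := inv_eq_of_mul_eq_one_right (by rw [← mul_assoc, hr, hzz])
  have hswap : r * y = y * r⁻¹ := by
    rw [hrinv, ← h.zc r, ← mul_assoc, ← hrel]; group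
  have hpowswap : ∀ n : ℕ, r ^ n * y = y * (r⁻¹) ^ n := by
    intro n
    induction n with
    | zero => simp
    | succ n ih => rw [pow_succ', mul_assoc, ih, ← mul_assoc, hswap, mul_assoc, ← pow_succ']
  let R : ZMod 4 → P := fun i => r ^ i.val
  have hRadd : ∀ i j, R i * R j = R (i + j) := fun i j => by
    show r ^ i.val * r ^ j.val = r ^ (i + j).val
    rw [← pow_add, ZMod.val_add]
    conv_lhs => rw [← Nat.mod_add_div (i.val + j.val) 4, pow_add, pow_mul, hr4, one_pow, mul_one]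
  have hR0 : R 0 = 1 := by show r ^ (0 : ZMod 4).val = 1; rw [ZMod.val_zero, pow_zero]
  have hRinv : ∀ i, (R i)⁻¹ = R (-i) := fun i => inv_eq_of_mul_eq_one_right (by rw [hRadd, add_neg_cancel, hR0])
  have hRy : ∀ i, R i * y = y * R (-i) := fun i => by
    show r ^ i.val * y = _
    rw [hpowswap, inv_pow]
    exact congrArg (y * ·) (hRinv i)
  let d : DihedralGroup 4 → P := fun w => match w with
    | .r i => R i
    | .sr i => y * R i
  have hd : ∀ u v, d (u * v) = d u * d v := by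
    intro u v
    rcases u with i | i <;> rcases v with j | j
    · exact (hRadd i j).symm
    · show y * R (j - i) = R i * (y * R j)
      rw [← mul_assoc, hRy, mul_assoc, hRadd, neg_add_eq_sub]
    · show y * R (i + j) = y * R i * R j
      rw [mul_assoc, hRadd]
    · show R (j - i) = y * R i * (y * R j)
      rw [mul_assoc, ← mul_assoc (R i), hRy, mul_assoc, ← mul_assoc, hyy, one_mul, hRadd, neg_add_eq_sub]
  let φ : DihedralGroup 4 × A →* P := MonoidHom.mk' (fun w => d w.1 * w.2) fun u v => by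
    simp only [Prod.fst_mul, Prod.snd_mul, Subgroup.coe_mul, hd]
    rw [mul_assoc (d u.1), mul_assoc (d u.1), ← mul_assoc (u.2 : P), h.Ac _ u.2.2 (d v.1), mul_assoc]
  have hrn : ∀ n : ℕ, n < 4 → ∃ i j k : ℕ, r ^ n = b ^ i * y ^ j * z ^ k ∧ (2 ∣ i → 2 ∣ j ∧ (i = 0 ∧ j = 0 ∧ (n = 0 ∧ k = 0 ∨ n = 2 ∧ k = 1))) := by
    intro n hn
    interval_cases n
    · exact ⟨0, 0, 0, by simp, fun _ => ⟨dvd_zero 2, rfl, rfl, Or.inl ⟨rfl, rfl⟩⟩⟩
    · rcases hrform with rfl | rfl
      · exact ⟨1, 0, 0, by simp, fun h2 => absurd h2 (by norm_num)⟩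
      · exact ⟨1, 1, 0, by simp, fun h2 => absurd h2 (by norm_num)⟩
    · exact ⟨0, 0, 1, by rw [sq, hr]; simp, fun _ => ⟨dvd_zero 2, rfl, rfl, Or.inr ⟨rfl, rfl⟩⟩⟩
    · rcases hrform with rfl | rfl
      · exact ⟨1, 0, 1, by rw [pow_succ, sq, hr, h.zc]; simp, fun h2 => absurd h2 (by norm_num)⟩
      · exact ⟨1, 1, 1, by rw [pow_succ, sq, hr, h.zc]; simp, fun h2 => absurd h2 (by norm_num)⟩
  refine ⟨(MulEquiv.ofBijective φ ⟨(injective_iff_map_eq_one φ).mpr ?_, fun x => ?_⟩).symm⟩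
  · rintro ⟨w, a⟩ hw
    change d w * a = 1 at hw
    rcases w with i | i
    · obtain ⟨u, v, k, e, he⟩ := hrn i.val (ZMod.val_lt i)
      have hw' : b ^ u * y ^ v * z ^ k * a = 1 := by rw [← e]; exact hw
      obtain ⟨hu, -, ha⟩ := h.uniq u v k a a.2 hw'
      obtain ⟨-, rfl, rfl, ⟨hi, -⟩ | ⟨-, rfl⟩⟩ := he hu
      · exact Prod.ext (congrArg DihedralGroup.r ((ZMod.val_eq_zero i).mp hi)) (Subtype.ext ha)
      · simp [ha] at hw'; exact absurd hw' h.z1
    · obtain ⟨u, v, k, e, he⟩ := hrn i.val (ZMod.val_lt i)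
      exfalso
      obtain ⟨c, hc⟩ := (mem_powers_iff_mem_zpowers).mpr (h.comm_mem y (b ^ u))
      have hw' : b ^ u * y ^ (1 + v) * z ^ (c + k) * a = 1 := by
        have e2 : y * b ^ u = b ^ u * y * z ^ c := by
          rw [← ((show Commute z (b ^ u * y) from h.zc _).pow_left c).eq, show z ^ c = ⁅y, b ^ u⁆ from hc]
          group
        calc b ^ u * y ^ (1 + v) * z ^ (c + k) * a = b ^ u * y * (y ^ v * z ^ c) * z ^ k * a := by
              rw [pow_add, pow_one, pow_add]; group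
          _ = b ^ u * y * z ^ c * y ^ v * z ^ k * a := by
              rw [← ((show Commute z (y ^ v) from h.zc _).pow_left c).eq]; group
          _ = y * (b ^ u * y ^ v * z ^ k) * a := by rw [← e2]; group
          _ = 1 := by rw [← e]; exact hw
      obtain ⟨hu, hv, -⟩ := h.uniq u (1 + v) (c + k) a a.2 hw'
      obtain ⟨hv2, -⟩ := he hu
      omega
  · obtain ⟨i, j, k, a, ha, rfl⟩ := h.gen x
    have hrange : ∀ t ∈ ({b, y, z} : Set P), t ∈ φ.range := by
      have hyR : y ∈ φ.range := ⟨(.sr 0, 1), by show y * R 0 * 1 = y; rw [hR0, mul_one, mul_one]⟩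
      have hrR : r ∈ φ.range := ⟨(.r 1, 1), by
        show R 1 * 1 = r; rw [mul_one]; show r ^ (1 : ZMod 4).val = r; exact pow_one r⟩
      rintro t (rfl | rfl | rfl)
      · rcases hrform with rfl | e
        · exact hrR
        · rw [show t = r * y⁻¹ by rw [e]; group]
          exact mul_mem hrR (inv_mem hyR)
      · exact hyR
      · rw [← hr]; exact mul_mem hrR hrR
    have haR : a ∈ φ.range := ⟨(1, ⟨a, ha⟩), by show R 0 * a = a; rw [hR0, one_mul]⟩
    exact mul_mem (mul_mem (mul_mem (pow_mem (hrange b (by simp)) i) (pow_mem (hrange y (by simp)) j))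
      (pow_mem (hrange z (by simp)) k)) haR

end Abstract

variable {Ω : Type*} [Group Ω] {S : Subgroup Ω} {F : FusionSystem S} {p : ℕ} [hp : Fact p.Prime]

/-- A generalized extraspecial strongly closed subgroup is normal or splits off an elementary
abelian factor. -/
theorem isNormal_or_split [Finite S] (hS : IsPGroup p S) (hF : F.IsSaturated p) {P : Subgroup Ω}
    (hP : F.StronglyClosed P) (hfr : frattini P = commutator P) (hcard : Nat.card (commutator P) = p) :
    F.IsNormal P ∨ ∃ (z y b : P) (A : Subgroup P), Split p z y b A ∧ (p ≠ 2 → b ^ p = 1) := by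
  classical
  haveI := finite_of_le hP.1
  have hPp : IsPGroup p P := hS.to_le hP.1
  have hPn : S ≤ Subgroup.normalizer (P : Set Ω) := stronglyClosed_normalizer hP
  obtain ⟨z, hzgen⟩ := (Subgroup.isCyclic_iff_exists_zpowers_eq_top (commutator P)).mp (isCyclic_of_prime_card hcard)
  have hz1 : z ≠ 1 := fun h => by
    rw [h, Subgroup.zpowers_one_eq_bot] at hzgen
    rw [← hzgen, Subgroup.card_bot] at hcard
    exact hp.out.ne_one hcard.symm
  have hzo : z ^ p = 1 := by
    have hzm : z ∈ commutator P := hzgen ▸ Subgroup.mem_zpowers z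
    have := pow_card_eq_one' (x := (⟨z, hzm⟩ : commutator P))
    rw [hcard] at this
    exact congrArg Subtype.val this
  set Z : Subgroup Ω := (commutator P).map P.subtype
  have hZP : Z ≤ P := Subgroup.map_subtype_le _
  have hZmem : ∀ w : P, (w : Ω) ∈ Z ↔ w ∈ Subgroup.zpowers z := fun w => by
    rw [hzgen]
    exact ⟨fun ⟨v, hv, e⟩ => Subtype.ext e ▸ hv, fun hw => ⟨w, hw, rfl⟩⟩
  have hZn : S ≤ Subgroup.normalizer (Z : Set Ω) := by
    intro s hs
    have key : ∀ t ∈ S, ∀ x ∈ Z, t * x * t⁻¹ ∈ Z := by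
      rintro t ht _ ⟨v, hv, rfl⟩
      let e : P ≃* P := ((actHom S P ⟨t, ht, hPn ht⟩ : MulAut P))
      refine ⟨e v, (Subgroup.characteristic_iff_map_le.mp (inferInstance : (commutator P).Characteristic) e) ⟨v, hv, rfl⟩, ?_⟩
      exact actHom_apply S P _ v
    rw [Subgroup.mem_normalizer_iff]
    refine fun x => ⟨key s hs x, fun hx => ?_⟩
    have := key s⁻¹ (S.inv_mem hs) _ hx
    simpa [mul_assoc] using this
  haveI hZfin : Finite Z := finite_of_le (hZP.trans hP.1)
  have hZc : ∀ s ∈ S, ∀ x ∈ Z, s * x = x * s := by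
    intro s hs x hx
    haveI : (Z.subgroupOf S).Normal := (Subgroup.normal_subgroupOf_iff_le_normalizer (hZP.trans hP.1)).mpr hZn
    haveI : Group.IsNilpotent S := hS.isNilpotent
    have hcZ : Nat.card (Z.subgroupOf S) = p := by
      rw [Nat.card_congr (Subgroup.subgroupOfEquivOfLe (hZP.trans hP.1)).toEquiv,
        ← Nat.card_congr ((commutator P).equivMapOfInjective P.subtype P.subtype_injective).toEquiv, hcard]
    obtain ⟨w, hw, hw1, hwc⟩ := OddLocal.exists_ne_one_mem_center_of_normal (Z.subgroupOf S)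
      fun e => hp.out.ne_one (by rw [← hcZ, e, Subgroup.card_bot])
    haveI : Fact (Nat.card (Z.subgroupOf S)).Prime := ⟨hcZ ▸ hp.out⟩
    have hle : Z.subgroupOf S ≤ Subgroup.center S := by
      rcases ((Subgroup.center S).subgroupOf (Z.subgroupOf S)).eq_bot_or_eq_top_of_prime_card with e | e
      · have : (⟨w, hw⟩ : Z.subgroupOf S) ∈ (Subgroup.center S).subgroupOf (Z.subgroupOf S) := hwc
        rw [e, Subgroup.mem_bot] at this
        exact absurd (congrArg Subtype.val this) hw1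
      · exact Subgroup.subgroupOf_eq_top.mp e
    exact congrArg Subtype.val (Subgroup.mem_center_iff.mp
      (hle (show (⟨x, hP.1 (hZP hx)⟩ : S) ∈ Z.subgroupOf S from hx)) ⟨s, hs⟩)
  have hzc : ∀ x : P, z * x = x * z := fun x =>
    Subtype.ext (hZc x (hP.1 x.2) z ((hZmem z).mpr (Subgroup.mem_zpowers z))).symm
  have hcomm : ∀ u v : P, ⁅u, v⁆ ∈ Subgroup.zpowers z := fun u v => hzgen.symm ▸
    Subgroup.commutator_mem_commutator (Subgroup.mem_top u) (Subgroup.mem_top v)
  have hpow : ∀ u : P, u ^ p ∈ Subgroup.zpowers z := fun u => by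
    rw [hzgen, ← hfr]; exact FGS3.pow_mem_frattini hPp u
  by_cases hw : F.WeaklyClosed Z
  · left
    refine isNormal_of_chain hS hF hP 2 (fun i => if i = 0 then ⊥ else if i = 1 then Z else P) rfl rfl
      (fun i hi => by rcases i with _ | _ | i; exacts [bot_le, hZP, by omega])
      (fun i hi => by
        rcases i with _ | _ | i
        exacts [weaklyClosed_of_stronglyClosed (stronglyClosed_bot F), hw, by omega])
      fun i hi x hx q hq => ?_
    rcases i with _ | _ | i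
    · exact Subgroup.mem_bot.mpr (commutatorElement_eq_one_iff_mul_comm.mpr (hZc q (hP.1 hq) x hx).symm)
    · have := (hZmem ⁅(⟨x, hx⟩ : P), ⟨q, hq⟩⁆).mpr (hcomm _ _)
      exact this
    · omega
  -- a conjugate of `z` outside `Z`
  obtain ⟨φ, hφ, hne⟩ : ∃ φ ∈ F.Hom Z, φ.range ≠ Z := by
    by_contra h
    exact hw ⟨hZP.trans hP.1, fun φ hφ => by by_contra hne; exact h ⟨φ, hφ, hne⟩⟩
  set f := extFun φ
  have hf : Mor F Z f := mor_of_mem hφ
  have hzZ : (z : Ω) ∈ Z := (hZmem z).mpr (Subgroup.mem_zpowers z)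
  have hyP : f z ∈ P := stronglyClosed_mem hP hf hzZ (hZP hzZ)
  set y : P := ⟨f z, hyP⟩ with hy
  have hyZ : (y : Ω) ∉ Z := by
    intro h
    refine hne (eq_of_le_of_card ?_ ?_)
    · rintro _ ⟨w, rfl⟩
      obtain ⟨n, hn⟩ := Subgroup.mem_zpowers_iff.mp ((hZmem ⟨w, hZP w.2⟩).mp w.2)
      have e : (w : Ω) = (z : Ω) ^ n := (congrArg Subtype.val hn).symm
      have e2 := map_zpow hf.hom ⟨z, hzZ⟩ n
      rw [show φ w = f w from (extFun_coe φ w).symm, e]
      exact (show f ((z : Ω) ^ n) = f z ^ n from e2) ▸ Z.zpow_mem h n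
    · have hi : Function.Injective φ := fun u v e => Subtype.ext (hf.injOn u.2 v.2 (by
        rw [show f u = _ from extFun_coe φ u, show f v = _ from extFun_coe φ v, e]))
      exact (Nat.card_congr (MonoidHom.ofInjective hi).toEquiv).le
  have hyo : y ^ p = 1 := Subtype.ext (by
    show f z ^ p = 1
    rw [← hf.map_pow hzZ, ← SubmonoidClass.coe_pow, hzo, OneMemClass.coe_one, hf.map_one])
  -- extend the inverse map to the centralizer of `y`
  have hZfn : F.IsFullyNormalized Z := by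
    refine ⟨hZP.trans hP.1, fun Q _ => ?_⟩
    haveI := finite_of_le (normalizerIn_le (S := S) (P := Z))
    exact card_le_of_le (le_inf normalizerIn_le (normalizerIn_le.trans hZn))
  obtain ⟨f', hf', hl, hr⟩ := hf.toIso.exists_symm
  obtain ⟨g₀, hg₀, eg₀⟩ := (receptive_iff.mp (IsSaturated_fullyNormalized hS hF hZfn).2.2).2 _ f' hf'
  have hyimg : (y : Ω) ∈ hf.img := hf.mem_img.mpr ⟨z, hzZ, rfl⟩
  have hgy : g₀ y = z := by rw [eg₀ _ hyimg]; exact hl z hzZ
  have hCN : ∀ u : P, Commute u y → (u : Ω) ∈ nphi S hf.img f' := by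
    intro u hu
    refine centralizerIn_le_nphi (show (u : Ω) ∈ centralizerIn S hf.img from ⟨hP.1 u.2, fun w hw => ?_⟩)
    obtain ⟨v, hv, rfl⟩ := hf.mem_img.mp hw
    obtain ⟨n, hn⟩ := Subgroup.mem_zpowers_iff.mp ((hZmem ⟨v, hZP hv⟩).mp hv)
    have e : v = (z : Ω) ^ n := (congrArg Subtype.val hn).symm
    have e2 := map_zpow hf.hom ⟨z, hzZ⟩ n
    rw [e, show f ((z : Ω) ^ n) = f z ^ n from e2]
    exact congrArg Subtype.val ((hu.symm.zpow_left n).eq)
  -- commutators and powers in the centralizer of `y` are trivial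
  have htriv : ∀ w : P, w ∈ Subgroup.zpowers z → Commute w y → (g₀ w ∈ Z) → w = 1 := by
    intro w hwz hwy hgw
    by_contra hw1
    obtain ⟨n, hn⟩ := Subgroup.mem_zpowers_iff.mp ((hZmem ⟨g₀ w, hZP hgw⟩).mp hgw)
    have hgwne : g₀ w ≠ 1 := fun e => hw1 (Subtype.ext (hg₀.injOn (hCN w hwy) (one_mem _) (e.trans hg₀.map_one.symm)))
    have hnp : ¬ (p : ℤ) ∣ n := by
      rintro ⟨k, rfl⟩
      rw [zpow_mul, zpow_natCast, hzo, one_zpow] at hn
      exact hgwne (congrArg Subtype.val hn).symm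
    obtain ⟨j, k, hjk⟩ := (Nat.prime_iff_prime_int.mp hp.out).coprime_iff_not_dvd.mpr hnp
    have hwj : g₀ ((w : Ω) ^ k) = z := by
      have e2 := map_zpow hg₀.hom ⟨w, hCN w hwy⟩ k
      rw [show g₀ ((w : Ω) ^ k) = g₀ w ^ k from e2, show g₀ (w : Ω) = ((z ^ n : P) : Ω) from (congrArg Subtype.val hn).symm]
      have : z ^ (n * k) = z := by
        conv_rhs => rw [← zpow_one z, ← hjk, zpow_add, mul_comm j, zpow_mul, zpow_natCast, hzo, one_zpow, one_mul, mul_comm k]
      exact congrArg Subtype.val ((zpow_mul z n k).symm.trans this)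
    have heq : (w : Ω) ^ k = y := hg₀.injOn ((nphi S hf.img f').zpow_mem (hCN w hwy) k) (hCN y (Commute.refl y)) (hwj.trans hgy.symm)
    exact hyZ (heq ▸ Z.zpow_mem ((hZmem w).mpr hwz) k)
  have hgP : ∀ u : P, Commute u y → g₀ u ∈ P := fun u hu => stronglyClosed_mem hP hg₀ (hCN u hu) u.2
  have hMc : ∀ u v : P, Commute u y → Commute v y → u * v = v * u := by
    intro u v hu hv
    refine commutatorElement_eq_one_iff_mul_comm.mp (htriv _ (hcomm u v) ?_ ?_)
    · exact ((hu.mul_left hv).mul_left hu.inv_left).mul_left hv.inv_left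
    · have e : g₀ (⁅u, v⁆ : P) = (⁅(⟨_, hgP u hu⟩ : P), ⟨_, hgP v hv⟩⁆ : P) := by
        have := map_commutatorElement hg₀.hom ⟨u, hCN u hu⟩ ⟨v, hCN v hv⟩
        exact this
      rw [e]
      exact (hZmem _).mpr (hcomm _ _)
  have hMe : ∀ u : P, Commute u y → u ^ p = 1 := by
    intro u hu
    refine htriv _ (hpow u) (hu.pow_left p) ?_
    rw [SubmonoidClass.coe_pow, hg₀.map_pow (hCN u hu)]
    exact (hZmem ((⟨_, hgP u hu⟩ : P) ^ p)).mpr (hpow _)
  -- an element not centralizing `y`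
  obtain ⟨b₀, hb₀⟩ : ∃ b₀ : P, ¬ Commute b₀ y := by
    by_contra h
    push_neg at h
    have hab : commutator P = ⊥ := by
      rw [eq_bot_iff, commutator_def, Subgroup.commutator_le]
      exact fun u _ v _ => Subgroup.mem_bot.mpr (commutatorElement_eq_one_iff_mul_comm.mpr (hMc u v (h u) (h v)))
    rw [hab, Subgroup.card_bot] at hcard
    exact hp.out.ne_one hcard.symm
  have hz_coprime : ∀ n : ℤ, z ^ n ≠ 1 → ∃ k : ℤ, z ^ (n * k) = z := by
    intro n hn
    have hnp : ¬ (p : ℤ) ∣ n := by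
      rintro ⟨k, rfl⟩
      exact hn (by rw [zpow_mul, zpow_natCast, hzo, one_zpow])
    obtain ⟨j, k, hjk⟩ := (Nat.prime_iff_prime_int.mp hp.out).coprime_iff_not_dvd.mpr hnp
    refine ⟨k, ?_⟩
    conv_rhs => rw [← zpow_one z, ← hjk, zpow_add, mul_comm j, zpow_mul, zpow_natCast, hzo, one_zpow, one_mul, mul_comm k]
  have hrel_pow : ∀ (u : P) (n : ℤ), u * y * u⁻¹ = y * z ^ n → ∀ k : ℕ, u ^ k * y * (u ^ k)⁻¹ = y * z ^ (n * k) := by
    intro u n hu k
    induction k with
    | zero => simp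
    | succ k ih =>
      have hcz : u * z ^ (n * k) * u⁻¹ = z ^ (n * k) := by
        rw [← ((show Commute z u from hzc u).zpow_left _).eq, mul_inv_cancel_right]
      calc u ^ (k + 1) * y * (u ^ (k + 1))⁻¹ = u * (u ^ k * y * (u ^ k)⁻¹) * u⁻¹ := by group
        _ = (u * y * u⁻¹) * (u * z ^ (n * k) * u⁻¹) := by rw [ih]; group
        _ = y * z ^ (n * ((k + 1 : ℕ) : ℤ)) := by rw [hu, hcz, mul_assoc, ← zpow_add]; congr 2; push_cast; ring
  have hrel_ex : ∀ u : P, ∃ n : ℤ, u * y * u⁻¹ = y * z ^ n := fun u => by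
    obtain ⟨n, hn⟩ := Subgroup.mem_zpowers_iff.mp (hcomm u y)
    refine ⟨n, ?_⟩
    rw [← ((show Commute z y from hzc y).zpow_left n).eq, hn, commutatorElement_def, inv_mul_cancel_right]
  obtain ⟨b, hb⟩ : ∃ b : P, b * y * b⁻¹ = y * z := by
    obtain ⟨n, hn⟩ := hrel_ex b₀
    have hn1 : z ^ n ≠ 1 := fun e => hb₀ (mul_inv_eq_iff_eq_mul.mp (by rw [hn, e, mul_one]))
    obtain ⟨k, hk⟩ := hz_coprime n hn1
    obtain ⟨k', hk'⟩ := Int.eq_ofNat_of_zero_le (Int.emod_nonneg k (by exact_mod_cast hp.out.ne_zero : (p : ℤ) ≠ 0))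
    refine ⟨b₀ ^ k', (hrel_pow b₀ n hn k').trans ?_⟩
    congr 1
    rw [← hk', show n * (k % p) = n * k + (p : ℤ) * (-(n * (k / p))) by rw [Int.emod_def]; ring,
      zpow_add, zpow_mul z (p : ℤ), zpow_natCast, hzo, one_zpow, mul_one, hk]
  -- the centre and a complement
  let C : Subgroup P := Subgroup.center P
  have hCM : ∀ c ∈ C, Commute c y := fun c hc => (Subgroup.mem_center_iff.mp hc y).symm
  obtain ⟨A, hAC, hzA, hAspan⟩ := elementary_complement (p := p) (C := C) (z := z)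
    (fun a ha c hc => hMc a c (hCM a ha) (hCM c hc)) (fun a ha => hMe a (hCM a ha))
    (Subgroup.mem_center_iff.mpr fun x => (hzc x).symm) hz1
  have hAc : ∀ a ∈ A, ∀ x : P, a * x = x * a := fun a ha x => (Subgroup.mem_center_iff.mp (hAC ha) x).symm
  have hby : ∀ n : ℕ, ∀ t : P, Commute (b ^ n * t) y → Commute t y → p ∣ n := by
    intro n t h1 h2
    have h3 : Commute (b ^ n) y := by simpa using h1.mul_left h2.inv_left
    have h4 := hrel_pow b 1 (by rw [zpow_one]; exact hb) n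
    rw [h3.eq, mul_inv_cancel_right, one_mul, zpow_natCast, left_eq_mul] at h4
    exact (orderOf_eq_prime hzo hz1) ▸ orderOf_dvd_of_pow_eq_one h4
  have hgen : ∀ x : P, ∃ i j k : ℕ, ∃ a ∈ A, x = b ^ i * y ^ j * z ^ k * a := by
    intro x
    obtain ⟨n, hn⟩ := hrel_ex x
    obtain ⟨i, hi⟩ := Int.eq_ofNat_of_zero_le (Int.emod_nonneg n (by exact_mod_cast hp.out.ne_zero : (p : ℤ) ≠ 0))
    have hzn : z ^ n = z ^ i := by
      rw [← zpow_natCast z i, ← hi, Int.emod_def, sub_eq_add_neg, ← mul_neg, zpow_add, zpow_mul z (p : ℤ),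
        zpow_natCast, hzo, one_zpow, mul_one]
    set m := (b ^ i)⁻¹ * x with hm
    have hbi := hrel_pow b 1 (by rw [zpow_one]; exact hb) i
    rw [one_mul, zpow_natCast] at hbi
    have hmy : Commute m y := by
      have h1 : x * y = y * z ^ i * x := by rw [← hzn]; exact mul_inv_eq_iff_eq_mul.mp hn
      have h2 : y * z ^ i = b ^ i * y * (b ^ i)⁻¹ := hbi.symm
      show (b ^ i)⁻¹ * x * y = y * ((b ^ i)⁻¹ * x)
      rw [mul_assoc, h1, h2]; group
    -- remove the `y` component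
    obtain ⟨e, he⟩ := Subgroup.mem_zpowers_iff.mp (hcomm b m)
    obtain ⟨j, hj⟩ := Int.eq_ofNat_of_zero_le (Int.emod_nonneg e (by exact_mod_cast hp.out.ne_zero : (p : ℤ) ≠ 0))
    have hze : z ^ e = z ^ j := by
      rw [← zpow_natCast z j, ← hj, Int.emod_def, sub_eq_add_neg, ← mul_neg, zpow_add, zpow_mul z (p : ℤ),
        zpow_natCast, hzo, one_zpow, mul_one]
    have hbm : b * m * b⁻¹ = z ^ j * m := by
      rw [← hze, he, commutatorElement_def, inv_mul_cancel_right]
    have hbyj : b * y ^ j * b⁻¹ = y ^ j * z ^ j := by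
      rw [← conj_pow, hb, (show Commute y z from (hzc y).symm).mul_pow]
    set c := (y ^ j)⁻¹ * m
    have hcy : Commute c y := ((Commute.refl y).pow_left j).inv_left.mul_left hmy
    have hcb : Commute c b := by
      have h1 : b * c * b⁻¹ = c := by
        calc b * ((y ^ j)⁻¹ * m) * b⁻¹ = (b * y ^ j * b⁻¹)⁻¹ * (b * m * b⁻¹) := by group
          _ = (y ^ j)⁻¹ * m := by
            rw [hbyj, hbm, mul_inv_rev, ((show Commute z (y ^ j) from hzc _).pow_left j).inv_inv.eq]; group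
      exact (mul_inv_eq_iff_eq_mul.mp h1).symm
    have hcC : c ∈ C := Subgroup.mem_center_iff.mpr fun u => by
      obtain ⟨n', hn'⟩ := hrel_ex u
      obtain ⟨i', hi'⟩ := Int.eq_ofNat_of_zero_le (Int.emod_nonneg n' (by exact_mod_cast hp.out.ne_zero : (p : ℤ) ≠ 0))
      have hzn' : z ^ n' = z ^ i' := by
        rw [← zpow_natCast z i', ← hi', Int.emod_def, sub_eq_add_neg, ← mul_neg, zpow_add, zpow_mul z (p : ℤ),
          zpow_natCast, hzo, one_zpow, mul_one]
      have hbi' := hrel_pow b 1 (by rw [zpow_one]; exact hb) i'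
      rw [one_mul, zpow_natCast] at hbi'
      have huy : Commute ((b ^ i')⁻¹ * u) y := by
        have h1 : u * y = y * z ^ i' * u := by rw [← hzn']; exact mul_inv_eq_iff_eq_mul.mp hn'
        have h2 : y * z ^ i' = b ^ i' * y * (b ^ i')⁻¹ := hbi'.symm
        show (b ^ i')⁻¹ * u * y = y * ((b ^ i')⁻¹ * u)
        rw [mul_assoc, h1, h2]; group
      have h3 : Commute c ((b ^ i')⁻¹ * u) := hMc c _ hcy huy
      have h4 := (hcb.pow_right i').mul_right h3
      rw [mul_inv_cancel_left] at h4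
      exact h4.symm.eq
    obtain ⟨k₀, a, ha, hca⟩ := hAspan c hcC
    obtain ⟨k, hk⟩ := Int.eq_ofNat_of_zero_le (Int.emod_nonneg k₀ (by exact_mod_cast hp.out.ne_zero : (p : ℤ) ≠ 0))
    have hzk : z ^ k₀ = z ^ k := by
      rw [← zpow_natCast z k, ← hk, Int.emod_def, sub_eq_add_neg, ← mul_neg, zpow_add, zpow_mul z (p : ℤ),
        zpow_natCast, hzo, one_zpow, mul_one]
    exact ⟨i, j, k, a, ha, by rw [mul_assoc, mul_assoc, ← hzk, ← hca]; simp [c, m, mul_assoc]⟩
  have hzy : ∀ n : ℕ, Commute (z ^ n) y := fun n => (show Commute z y from hzc y).pow_left n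
  have huniq : ∀ i j k : ℕ, ∀ a ∈ A, b ^ i * y ^ j * z ^ k * a = 1 → p ∣ i ∧ p ∣ j ∧ a = 1 := by
    intro i j k a ha h1
    have hay : Commute a y := hAc a ha y
    have hrest : Commute (y ^ j * z ^ k * a) y := (((Commute.refl y).pow_left j).mul_left (hzy k)).mul_left hay
    have hi := hby i (y ^ j * z ^ k * a) (by rw [← mul_assoc, ← mul_assoc, h1]; exact Commute.one_left y) hrest
    obtain ⟨i', rfl⟩ := hi
    obtain ⟨n, hn⟩ := Subgroup.mem_zpowers_iff.mp (hpow b)
    rw [pow_mul, ← hn] at h1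
    have hyc : Commute b (y ^ j) := by
      have e : y ^ j = ((z ^ n) ^ i')⁻¹ * (z ^ k * a)⁻¹ := by
        rw [← mul_inv_rev, eq_inv_iff_mul_eq_one, ← h1]
        have hzn : Commute ((z ^ n) ^ i') (y ^ j * (z ^ k * a)) :=
          ((show Commute z _ from hzc _).zpow_left n).pow_left i'
        rw [← mul_assoc, ← hzn.eq]; group
      rw [e]
      exact (((show Commute b z from (hzc b).symm).zpow_right n).pow_right i').inv_right.mul_right
        (((show Commute b z from (hzc b).symm).pow_right k).mul_right (show Commute b a from (hAc a ha b).symm)).inv_right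
    have hbyj : b * y ^ j * b⁻¹ = y ^ j * z ^ j := by
      rw [← conj_pow, hb, (show Commute y z from (hzc y).symm).mul_pow]
    rw [hyc.eq, mul_inv_cancel_right, left_eq_mul] at hbyj
    have hj : p ∣ j := (orderOf_eq_prime hzo hz1) ▸ orderOf_dvd_of_pow_eq_one hbyj
    refine ⟨dvd_mul_right p i', hj, ?_⟩
    obtain ⟨j', rfl⟩ := hj
    rw [pow_mul y, hyo, one_pow, mul_one] at h1
    have haz : a ∈ Subgroup.zpowers z := by
      have e : a = ((z ^ n) ^ i' * z ^ k)⁻¹ := eq_inv_of_mul_eq_one_right h1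
      rw [e]
      exact inv_mem (mul_mem (pow_mem (zpow_mem (Subgroup.mem_zpowers z) n) i') (pow_mem (Subgroup.mem_zpowers z) k))
    obtain ⟨m', hm'⟩ := Subgroup.mem_zpowers_iff.mp haz
    by_contra ha1
    obtain ⟨q, hq⟩ := hz_coprime m' (fun e => ha1 (hm' ▸ e))
    exact hzA (by rw [← hq, zpow_mul, hm']; exact A.zpow_mem ha q)
  have hsplit : ∀ b' : P, b' * y * b'⁻¹ = y * z → (∀ x, ∃ i j k : ℕ, ∃ a ∈ A, x = b' ^ i * y ^ j * z ^ k * a) →
      (∀ i j k : ℕ, ∀ a ∈ A, b' ^ i * y ^ j * z ^ k * a = 1 → p ∣ i ∧ p ∣ j ∧ a = 1) → Split p z y b' A :=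
    fun b' h1 h2 h3 => ⟨hzc, hzo, hyo, hz1, hpow b', h1, hAc, fun a ha => hMe a (hCM a (hAC ha)), h2, h3⟩
  by_cases hcase : p = 2 ∨ b ^ p = 1
  · exact Or.inr ⟨z, y, b, A, hsplit b hb hgen huniq, fun hp2 => hcase.resolve_left hp2⟩
  push_neg at hcase
  obtain ⟨hp2, hbp⟩ := hcase
  left
  -- the elements of order `p` form an abelian normal subgroup `M`
  set M₀ : Subgroup P := Subgroup.centralizer {y} with hM₀
  have hM₀mem : ∀ u : P, u ∈ M₀ ↔ Commute u y := fun u =>
    ⟨fun h => (Subgroup.mem_centralizer_iff.mp h y rfl).symm,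
      fun h => Subgroup.mem_centralizer_iff.mpr fun w hw => hw ▸ h.symm.eq⟩
  have hclass : commutator P ≤ Subgroup.center P := fun w hw => Subgroup.mem_center_iff.mpr fun u => by
    obtain ⟨n, rfl⟩ := Subgroup.mem_zpowers_iff.mp (hzgen.symm ▸ hw)
    exact ((show Commute u z from (hzc u).symm).zpow_right n).eq
  have hmulpow : ∀ u v : P, (u * v) ^ p = u ^ p * v ^ p := fun u v =>
    FGS3.mul_pow_of_center_odd hclass u v (hp.out.odd_of_ne_two hp2) (by
      obtain ⟨n, hn⟩ := Subgroup.mem_zpowers_iff.mp (hcomm v u)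
      rw [← hn, ← zpow_natCast, ← zpow_mul, mul_comm, zpow_mul, zpow_natCast, hzo, one_zpow])
  have homega : ∀ u : P, u ^ p = 1 → Commute u y := by
    intro u hu
    obtain ⟨i, j, k, a, ha, rfl⟩ := hgen u
    have hrest : Commute (y ^ j * z ^ k * a) y :=
      (((Commute.refl y).pow_left j).mul_left (hzy k)).mul_left (hAc a ha y)
    rw [mul_assoc, mul_assoc, hmulpow, ← mul_assoc (y ^ j), hMe _ hrest, mul_one, pow_right_comm] at hu
    have hi : p ∣ i := by
      by_contra hi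
      obtain ⟨n, hn⟩ := IsPGroup.iff_orderOf.mp hPp (b ^ p)
      obtain ⟨m, hm⟩ := exists_pow_eq_self_of_coprime (show i.Coprime (orderOf (b ^ p)) from
        hn ▸ (((hp.out.coprime_iff_not_dvd).mpr hi).symm).pow_right n)
      rw [hu, one_pow] at hm
      exact hbp hm.symm
    obtain ⟨i', rfl⟩ := hi
    obtain ⟨n, hn⟩ := Subgroup.mem_zpowers_iff.mp (hpow b)
    rw [mul_assoc, mul_assoc, ← mul_assoc (y ^ j), pow_mul, ← hn]
    exact (((show Commute z y from hzc y).zpow_left n).pow_left i').mul_left hrest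
  set M : Subgroup Ω := M₀.map P.subtype
  have hMP : M ≤ P := Subgroup.map_subtype_le _
  have hMmem : ∀ u : P, (u : Ω) ∈ M ↔ Commute u y := fun u =>
    ⟨fun ⟨v, hv, e⟩ => (hM₀mem u).mp (Subtype.ext e ▸ hv), fun h => ⟨u, (hM₀mem u).mpr h, rfl⟩⟩
  have hMsc : F.StronglyClosed M := stronglyClosed_of_mor (hMP.trans hP.1) fun R h hh x hxR hx => by
    refine (hMmem ⟨h x, stronglyClosed_mem hP hh hxR (hMP hx)⟩).mpr (homega _ (Subtype.ext ?_))
    show h x ^ p = 1
    have he := congrArg Subtype.val (hMe ⟨x, hMP hx⟩ ((hMmem ⟨x, hMP hx⟩).mp hx))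
    rw [← hh.map_pow hxR, show x ^ p = 1 from he, hh.map_one]
  haveI := finite_of_le hMsc.1
  have hMN : F.IsNormal M := isNormal_of_chain hS hF hMsc 1 (fun i => if i = 0 then ⊥ else M) rfl rfl
    (fun i hi => by obtain rfl : i = 0 := (by omega); exact bot_le)
    (fun i hi => by obtain rfl : i = 0 := (by omega); exact weaklyClosed_of_stronglyClosed (stronglyClosed_bot F))
    (fun i hi x hx q hq => by
      obtain rfl : i = 0 := (by omega)
      exact Subgroup.mem_bot.mpr (commutatorElement_eq_one_iff_mul_comm.mpr (congrArg Subtype.val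
        (hMc ⟨x, hMP hx⟩ ⟨q, hMP hq⟩ ((hMmem _).mp hx) ((hMmem _).mp hq)))))
  have hzM : (z : Ω) ∈ M := (hMmem z).mpr (hzc y)
  have hyM : (y : Ω) ∈ M := (hMmem y).mpr (Commute.refl y)
  have hAM : ∀ a ∈ A, ((a : P) : Ω) ∈ M := fun a ha => (hMmem a).mpr (hAc a ha y)
  have hZM : Z ≤ M := fun w hw => by
    obtain ⟨n, hn⟩ := Subgroup.mem_zpowers_iff.mp ((hZmem ⟨w, hZP hw⟩).mp hw)
    rw [show w = (z : Ω) ^ n from (congrArg Subtype.val hn).symm]
    exact M.zpow_mem hzM n
  obtain ⟨g, hg, eg⟩ := (isNormal_iff_ext hS hF hMsc.1).mp hMN Z hZM f hf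
  haveI : Finite (MulAut M) := finite_mulAut
  have hMn : S ≤ Subgroup.normalizer (M : Set Ω) := stronglyClosed_normalizer hMsc
  let B := F.autGroup M
  let t : MulAut M := actHom S M ⟨b, hP.1 b.2, hMn (hP.1 b.2)⟩
  have ht : ∀ m : M, ((t m : M) : Ω) = b * m * (b : Ω)⁻¹ := fun m => actHom_apply S M _ m
  have htB : t ∈ B := autInducedBy_le_autGroup hMsc.1 ((range_actHom S M).le ⟨_, rfl⟩)
  let γ : MulAut M := hg.equiv
  have hγB : γ ∈ B := hg.equiv_mem_autGroup
  let t' : MulAut M := γ * t * γ⁻¹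
  have ht'B : t' ∈ B := B.mul_mem (B.mul_mem hγB htB) (B.inv_mem hγB)
  let zM : M := ⟨z, hzM⟩
  let yM : M := ⟨y, hyM⟩
  have hMcomm : ∀ u v : M, u * v = v * u := fun u v => Subtype.ext (congrArg Subtype.val
    (hMc ⟨u, hMP u.2⟩ ⟨v, hMP v.2⟩ ((hMmem _).mp u.2) ((hMmem _).mp v.2)) :)
  have hMel : ∀ u : M, u ^ p = 1 := fun u => Subtype.ext (congrArg Subtype.val
    (hMe ⟨u, hMP u.2⟩ ((hMmem _).mp u.2)) :)
  have hγz : γ zM = yM := Subtype.ext (eg z hzZ)
  have htz : t zM = zM := Subtype.ext (by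
    rw [ht]; exact mul_inv_eq_iff_eq_mul.mpr (congrArg Subtype.val (hzc b)).symm)
  have hty : t yM = yM * zM := Subtype.ext (by rw [ht]; exact congrArg Subtype.val hb)
  have hstep : ∀ m : M, ∃ n : ℕ, t m = m * zM ^ n := fun m => by
    obtain ⟨n, hn⟩ := (mem_powers_iff_mem_zpowers).mpr (hcomm b ⟨m, hMP m.2⟩)
    refine ⟨n, Subtype.ext ?_⟩
    have e : ((b : Ω) * m * (b : Ω)⁻¹) * (m : Ω)⁻¹ = (z : Ω) ^ n := (congrArg Subtype.val hn).symm
    rw [mul_inv_eq_iff_eq_mul] at e
    rw [ht, Subgroup.coe_mul, SubmonoidClass.coe_pow, e]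
    exact congrArg Subtype.val ((show Commute z (⟨m, hMP m.2⟩ : P) from hzc _).pow_left n).eq
  have hγy : ∀ m : M, γ (γ⁻¹ m) = m := fun m => γ.apply_symm_apply m
  have hstep' : ∀ m : M, ∃ n : ℕ, t' m = m * yM ^ n := fun m => by
    obtain ⟨n, hn⟩ := hstep (γ⁻¹ m)
    refine ⟨n, ?_⟩
    show γ (t (γ⁻¹ m)) = _
    rw [hn, map_mul, map_pow, hγz, hγy]
  have ht'y : t' yM = yM := by
    show γ (t (γ⁻¹ yM)) = _
    rw [show γ⁻¹ yM = zM from γ.injective (by rw [hγy, hγz]), htz, hγz]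
  have hyM1 : yM ≠ 1 := fun e => hyZ (by
    rw [show (y : Ω) = 1 from congrArg Subtype.val e]; exact Z.one_mem)
  obtain ⟨c, hc⟩ := hstep' zM
  by_cases hcp : p ∣ c
  · -- `⟨t, t'⟩` would be a `p`-group, so `t'` a power of `t`
    exfalso
    have ht'z : t' zM = zM := by
      obtain ⟨c', rfl⟩ := hcp
      rw [hc, pow_mul, hMel, one_pow, mul_one]
    set R := Subgroup.closure ({t, t'} : Set (MulAut M))
    let D : ℕ → Subgroup M := fun i => if i = 0 then ⊥ else if i = 1 then Subgroup.zpowers zM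
      else if i = 2 then Subgroup.closure {zM, yM} else ⊤
    have hzyD : zM ∈ D 2 ∧ yM ∈ D 2 := ⟨Subgroup.subset_closure (by simp), Subgroup.subset_closure (by simp)⟩
    have hD : ∀ i < 3, D i ≤ D (i + 1) := by
      intro i hi
      interval_cases i
      · exact bot_le
      · exact Subgroup.zpowers_le.mpr hzyD.1
      · exact le_top
    have hfix : ∀ r : MulAut M, r zM = zM → r yM ∈ D 2 → yM⁻¹ * r yM ∈ D 1 → (∀ m, m⁻¹ * r m ∈ D 2) →
        ∀ i < 3, ∀ m ∈ D (i + 1), m⁻¹ * r m ∈ D i := by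
      intro r h1 _ h2 h3 i hi m hm
      interval_cases i
      · obtain ⟨n, rfl⟩ := Subgroup.mem_zpowers_iff.mp (show m ∈ Subgroup.zpowers zM from hm)
        rw [map_zpow, h1, inv_mul_cancel]; exact Subgroup.one_mem _
      · induction hm using Subgroup.closure_induction with
        | mem v hv =>
          rcases hv with rfl | rfl
          · rw [h1, inv_mul_cancel]; exact Subgroup.one_mem _
          · exact h2
        | one => rw [map_one, inv_mul_cancel]; exact Subgroup.one_mem _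
        | mul u v _ _ hu hv =>
          rw [map_mul, mul_inv_rev, show v⁻¹ * u⁻¹ * (r u * r v) = (u⁻¹ * r u) * (v⁻¹ * r v) by
            rw [hMcomm v⁻¹ u⁻¹, mul_assoc, ← mul_assoc v⁻¹, hMcomm v⁻¹ (r u)]; group]
          exact Subgroup.mul_mem _ hu hv
        | inv u _ hu =>
          rw [map_inv, show u⁻¹⁻¹ * (r u)⁻¹ = (u⁻¹ * r u)⁻¹ by rw [mul_inv_rev, hMcomm]]
          exact Subgroup.inv_mem _ hu
      · exact h3 m
    have htD : ∀ i < 3, ∀ m ∈ D (i + 1), m⁻¹ * t m ∈ D i := hfix t htz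
      (by rw [hty]; exact Subgroup.mul_mem _ hzyD.2 hzyD.1)
      (by rw [hty, inv_mul_cancel_left]; exact Subgroup.mem_zpowers zM)
      (fun m => by obtain ⟨n, hn⟩ := hstep m; rw [hn, inv_mul_cancel_left]; exact Subgroup.pow_mem _ hzyD.1 n)
    have ht'D : ∀ i < 3, ∀ m ∈ D (i + 1), m⁻¹ * t' m ∈ D i := hfix t' ht'z
      (by rw [ht'y]; exact hzyD.2) (by rw [ht'y, inv_mul_cancel]; exact Subgroup.one_mem _)
      (fun m => by obtain ⟨n, hn⟩ := hstep' m; rw [hn, inv_mul_cancel_left]; exact Subgroup.pow_mem _ hzyD.2 n)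
    have hRD : ∀ r ∈ R, ∀ i < 3, ∀ m ∈ D (i + 1), m⁻¹ * r m ∈ D i := by
      intro r hr
      induction hr using Subgroup.closure_induction with
      | mem v hv => rcases hv with rfl | rfl; exacts [htD, ht'D]
      | one => intro i _ m _; rw [MulAut.one_apply, inv_mul_cancel]; exact Subgroup.one_mem _
      | mul u v _ _ hu hv =>
        intro i hi m hm
        have h1 := hv i hi m hm
        have hvm : v m ∈ D (i + 1) := by
          have := Subgroup.mul_mem _ hm (hD i hi h1)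
          rwa [mul_inv_cancel_left] at this
        have h2 := hu i hi (v m) hvm
        have := Subgroup.mul_mem _ h1 h2
        rwa [mul_assoc, mul_inv_cancel_left, ← MulAut.mul_apply] at this
      | inv u _ hu =>
        intro i hi m hm
        -- `u⁻¹` stabilizes as well
        have hfinD : ∀ j ≤ 3, ∀ x ∈ D j, u⁻¹ x ∈ D j := by
          intro j hj x hx
          have hmaps : ∀ w ∈ D j, u w ∈ D j := by
            rcases j with _ | j
            · intro w hw; rw [Subgroup.mem_bot.mp (show w ∈ (⊥ : Subgroup M) from hw), map_one]; exact Subgroup.one_mem _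
            · intro w hw
              have := Subgroup.mul_mem _ hw (hD j (by omega) (hu j (by omega) w hw))
              rwa [mul_inv_cancel_left] at this
          have hinj : Function.Injective fun w : D j => (⟨u w, hmaps w w.2⟩ : D j) := fun a b h =>
            Subtype.ext (u.injective (congrArg Subtype.val h))
          obtain ⟨w, hw⟩ := (Finite.injective_iff_surjective.mp hinj) ⟨x, hx⟩
          rw [show x = u w from (congrArg Subtype.val hw).symm]
          rw [show u⁻¹ (u (w : M)) = w from u.symm_apply_apply _]; exact w.2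
        have h1 := hu i hi (u⁻¹ m) (hfinD (i + 1) (by omega) m hm)
        rw [show u (u⁻¹ m) = m from u.apply_symm_apply m] at h1
        have h2 := Subgroup.inv_mem _ h1
        rwa [mul_inv_rev, inv_inv] at h2
    have hRp : IsPGroup p R := by
      rintro ⟨r, hr⟩
      obtain ⟨m', s', hs, hord⟩ := Nat.exists_eq_pow_mul_and_not_dvd (n := orderOf r)
        (orderOf_pos r).ne' p hp.out.ne_one
      refine ⟨m', Subtype.ext ?_⟩
      show r ^ p ^ m' = 1
      obtain ⟨k', hk'⟩ := stabilizes_pow_eq_one (fun u => ⟨1, by rw [pow_one]; exact hMel u⟩ : IsPGroup p M)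
        (r ^ p ^ m') D 3 rfl rfl hD (hRD _ (R.pow_mem hr _))
      refine orderOf_eq_one_iff.mp (Nat.eq_one_of_dvd_coprimes ?_ dvd_rfl (orderOf_dvd_of_pow_eq_one hk'))
      rw [orderOf_pow, hord, Nat.gcd_eq_right (dvd_mul_right _ _), Nat.mul_div_cancel_left _ (pow_pos hp.out.pos m')]
      exact (((hp.out.coprime_iff_not_dvd).mpr hs).symm).pow_right k'
    have hMfn : F.IsFullyNormalized M := by
      refine ⟨hMsc.1, fun Q hQ => ?_⟩
      obtain ⟨ψ, hψ, hr⟩ := hQ
      rw [← hr, (weaklyClosed_of_stronglyClosed hMsc).2 ψ hψ]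
    obtain ⟨β, hβ, hβR⟩ := exists_conj_into (IsSaturated_fullyNormalized hS hF hMfn).2.1 hRp
      ((Subgroup.closure_le _).mpr (by rintro _ (rfl | rfl); exacts [htB, ht'B]))
    have push : ∀ δ ∈ B, δ * t * δ⁻¹ ∈ autInducedBy S M → δ * t * δ⁻¹ ∈ Subgroup.zpowers t := by
      intro δ hδ hin
      obtain ⟨u, hu, -, eu⟩ := mem_autInducedBy.mp hin
      obtain ⟨h, hh, eh⟩ := (mem_autGroup_iff hMsc.1).mp hδ
      have hδb : ∀ m : M, δ (t m) = (δ * t * δ⁻¹) (δ m) := fun m => by
        simp only [MulAut.mul_apply, MulAut.inv_apply_self]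
      have hbN : (b : Ω) ∈ nphi S M h := ⟨hP.1 b.2, hMn (hP.1 b.2), u, hu, fun x hx => by
        have e1 : cj (b : Ω) x = ((t ⟨x, hx⟩ : M) : Ω) := (ht ⟨x, hx⟩).symm
        rw [e1, show h ((t ⟨x, hx⟩ : M) : Ω) = _ from eh (t ⟨x, hx⟩), show h x = _ from eh ⟨x, hx⟩, hδb]
        exact eu _⟩
      obtain ⟨h', hh', eh'⟩ := (receptive_iff.mp (IsSaturated_fullyNormalized hS hF hMfn).2.2).2 M h hh
      have hv : h' b ∈ P := stronglyClosed_mem hP hh' hbN b.2
      obtain ⟨i, j, k, a, ha, hbv⟩ := hgen ⟨h' b, hv⟩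
      refine Subgroup.mem_zpowers_iff.mpr ⟨i, ?_⟩
      rw [zpow_natCast]
      refine MulEquiv.ext fun m => ?_
      obtain ⟨m₀, rfl⟩ := δ.surjective m
      refine Subtype.ext ?_
      rw [← hδb, ← show h ((t m₀ : M) : Ω) = _ from eh (t m₀)]
      have hin' : ∀ w : M, (w : Ω) ∈ nphi S M h := fun w => hh.mor.le_nphi w.2
      have htpow : ∀ (n : ℕ) (w : M), (((t ^ n) w : M) : Ω) = (b : Ω) ^ n * w * ((b : Ω) ^ n)⁻¹ := by
        intro n
        induction n with
        | zero => intro w; simp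
        | succ n ih => intro w; rw [pow_succ, MulAut.mul_apply, ih, ht]; group
      rw [htpow, ← eh' _ (t m₀).2, ht, ← show h (m₀ : Ω) = _ from eh m₀, ← eh' _ m₀.2]
      refine Eq.trans ?_ (hh'.map_conj hbN (hin' m₀)).symm
      rw [show h' b = ((b ^ i * y ^ j * z ^ k * a : P) : Ω) from congrArg Subtype.val hbv]
      have hrest : Commute (y ^ j * z ^ k * a) y :=
        (((Commute.refl y).pow_left j).mul_left (hzy k)).mul_left (hAc a ha y)
      have hm0 : h' (m₀ : Ω) = ((δ m₀ : M) : Ω) := (eh' _ m₀.2).trans (eh m₀)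
      have hc0 := congrArg Subtype.val
        (hMc (y ^ j * z ^ k * a) ⟨_, hMP (δ m₀).2⟩ hrest ((hMmem ⟨_, hMP (δ m₀).2⟩).mp (δ m₀).2))
      rw [hm0, mul_assoc (b ^ i), mul_assoc (b ^ i), Subgroup.coe_mul, SubmonoidClass.coe_pow, mul_inv_rev]
      calc (b : Ω) ^ i * ((δ m₀ : M) : Ω) * ((b : Ω) ^ i)⁻¹
          = (b : Ω) ^ i * (((δ m₀ : M) : Ω) * ((y ^ j * z ^ k * a : P) : Ω)) * ((y ^ j * z ^ k * a : P) : Ω)⁻¹ * ((b : Ω) ^ i)⁻¹ := by group
        _ = _ := by
          rw [← show ((y ^ j * z ^ k * a : P) : Ω) * ((δ m₀ : M) : Ω) = ((δ m₀ : M) : Ω) * ((y ^ j * z ^ k * a : P) : Ω) from hc0]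
          group
    have h1 := push β hβ (hβR t (Subgroup.subset_closure (by simp)))
    have h2 := push (β * γ) (B.mul_mem hβ hγB) (by
      rw [show β * γ * t * (β * γ)⁻¹ = β * t' * β⁻¹ by simp only [t']; group]
      exact hβR t' (Subgroup.subset_closure (by simp)))
    obtain ⟨i, hi⟩ := Subgroup.mem_zpowers_iff.mp h1
    obtain ⟨j, hj⟩ := Subgroup.mem_zpowers_iff.mp h2
    have ht1 : t ≠ 1 := fun e => by
      rw [e, MulAut.one_apply, left_eq_mul] at hty
      exact hz1 (Subtype.ext (congrArg (fun u : M => (u : Ω)) hty))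
    have htp : t ^ p = 1 := MulEquiv.ext fun m => by
      have : ∀ n : ℕ, ∀ q : ℕ, t m = m * zM ^ q → (t ^ n) m = m * zM ^ (q * n) := by
        intro n q hq
        induction n with
        | zero => simp
        | succ n ih =>
          rw [pow_succ', MulAut.mul_apply, ih, map_mul, map_pow, htz, hq, mul_assoc, ← pow_add]
          congr 2; ring
      obtain ⟨q, hq⟩ := hstep m
      rw [this p q hq, mul_comm q p, pow_mul, hMel, one_pow, mul_one, MulAut.one_apply]
    have hip : ¬ (p : ℤ) ∣ i := by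
      rintro ⟨q, rfl⟩
      rw [zpow_mul, zpow_natCast, htp, one_zpow] at hi
      exact ht1 (conj_eq_one_iff.mp hi.symm)
    obtain ⟨r, q, hrq⟩ := (Nat.prime_iff_prime_int.mp hp.out).coprime_iff_not_dvd.mpr hip
    have ht'pow : t' ∈ Subgroup.zpowers t := by
      refine Subgroup.mem_zpowers_iff.mpr ⟨q * j, ?_⟩
      have e1 : t' = β⁻¹ * t ^ j * β := by rw [hj]; simp only [t']; group
      have e2 : (t ^ i) ^ q = t := by
        rw [← zpow_mul]; conv_rhs => rw [← zpow_one t, ← hrq, zpow_add, mul_comm r, zpow_mul, zpow_natCast, htp, one_zpow, one_mul, mul_comm q]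
      rw [e1, ← congrArg (fun u => β⁻¹ * u ^ j * β) e2, hi, ← zpow_mul, conj_zpow]
      group
    obtain ⟨e, he⟩ := Subgroup.mem_zpowers_iff.mp ht'pow
    -- compare the images of `γ y`
    have hpowfix : ∀ m : M, ∃ n : ℤ, (t ^ e) m = m * zM ^ n := fun m => by
      have hmem : ∀ u ∈ Subgroup.zpowers t, m⁻¹ * u m ∈ Subgroup.zpowers zM := by
        intro u hu
        have hS' : Subgroup.zpowers t ≤
            { carrier := {u : MulAut M | u zM = zM ∧ ∀ m, m⁻¹ * u m ∈ Subgroup.zpowers zM}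
              one_mem' := ⟨rfl, fun m => by rw [MulAut.one_apply, inv_mul_cancel]; exact Subgroup.one_mem _⟩
              mul_mem' := fun {a b} ha hb => ⟨by rw [MulAut.mul_apply, hb.1, ha.1], fun m => by
                have := Subgroup.mul_mem _ (hb.2 m) (ha.2 (b m))
                rwa [mul_assoc, mul_inv_cancel_left, ← MulAut.mul_apply] at this⟩
              inv_mem' := fun {a} ha => ⟨a.injective (by rw [show a (a⁻¹ zM) = zM from a.apply_symm_apply _, ha.1]), fun m => by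
                have := Subgroup.inv_mem _ (ha.2 (a⁻¹ m))
                rwa [mul_inv_rev, inv_inv, show a (a⁻¹ m) = m from a.apply_symm_apply m] at this⟩ : Subgroup (MulAut M) } :=
          Subgroup.zpowers_le.mpr ⟨htz, fun m => by
            obtain ⟨n, hn⟩ := hstep m; rw [hn, inv_mul_cancel_left]; exact Subgroup.pow_mem _ (Subgroup.mem_zpowers zM) n⟩
        exact (hS' hu).2 m
      obtain ⟨n, hn⟩ := Subgroup.mem_zpowers_iff.mp (hmem _ (zpow_mem (Subgroup.mem_zpowers t) e))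
      exact ⟨n, by rw [hn, mul_inv_cancel_left]⟩
    obtain ⟨n, hn⟩ := hpowfix (γ yM)
    rw [he] at hn
    have : t' (γ yM) = γ yM * yM := by
      show γ (t (γ⁻¹ (γ yM))) = _
      rw [show γ⁻¹ (γ yM) = yM from γ.symm_apply_apply yM, hty, map_mul, hγz]
    rw [this, mul_left_cancel_iff] at hn
    exact hyZ ((congrArg (fun u : M => (u : Ω)) hn).symm ▸ (show ((zM ^ n : M) : Ω) ∈ Z by
      rw [Subgroup.coe_zpow]; exact Z.zpow_mem hzZ n))
  -- an automorphism inverting `z` and commuting with `t`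
  exfalso
  obtain ⟨k, hk⟩ : ∃ k : ℕ, (t' ^ k) zM = zM * yM⁻¹ := by
    obtain ⟨m', hm'⟩ := exists_pow_eq_self_of_coprime (show c.Coprime (orderOf yM⁻¹) from by
      rw [orderOf_inv, orderOf_eq_prime (hMel yM) hyM1]
      exact ((hp.out.coprime_iff_not_dvd).mpr hcp).symm)
    -- `(y⁻¹ ^ c) ^ m' = y⁻¹`
    have hpk : ∀ n : ℕ, (t' ^ n) zM = zM * yM ^ (c * n) := by
      intro n
      induction n with
      | zero => simp
      | succ n ih =>
        rw [pow_succ', MulAut.mul_apply, ih, map_mul, map_pow, ht'y, hc, mul_assoc, ← pow_add]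
        congr 2; ring
    refine ⟨m' * (p - 1), ?_⟩
    rw [hpk, ← mul_assoc, pow_mul, pow_mul]
    have e : (yM ^ c) ^ m' = yM := by
      have := congrArg (·⁻¹) hm'
      simpa [inv_pow] using this
    rw [e]
    congr 1
    refine eq_inv_of_mul_eq_one_left ?_
    rw [← pow_succ, Nat.sub_add_cancel hp.out.one_le, hMel]
  set T' := t' ^ k
  have hT'y : T' yM = yM := by
    have : ∀ n : ℕ, (t' ^ n) yM = yM := fun n => by
      induction n with
      | zero => rfl
      | succ n ih => rw [pow_succ', MulAut.mul_apply, ih, ht'y]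
    exact this k
  set w := t * T' * t
  have hwz : w zM = yM⁻¹ := by
    show t (T' (t zM)) = _
    rw [htz, hk, map_mul, map_inv, htz, hty, mul_inv_rev, mul_inv_cancel_left]
  have hwy : w yM = zM := by
    show t (T' (t yM)) = _
    rw [hty, map_mul, hT'y, hk, hMcomm zM, mul_inv_cancel_left, htz]
  set β := w * w
  have hβz : β zM = zM⁻¹ := by rw [MulAut.mul_apply, hwz, map_inv, hwy]
  have hβy : β yM = yM⁻¹ := by rw [MulAut.mul_apply, hwy, hwz]
  have hcommβ : ∀ m : M, β (t m) = t (β m) := by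
    intro m
    -- decompose `m`
    obtain ⟨n, hn⟩ := hstep m
    set m' := m * (yM ^ n)⁻¹
    have htm' : t m' = m' := by
      rw [map_mul, map_inv, map_pow, hn, hty, (show Commute yM zM from hMcomm yM zM).mul_pow, mul_inv_rev]
      simp only [m']
      rw [mul_assoc, ← mul_assoc (zM ^ n), mul_inv_cancel, one_mul]
    obtain ⟨n', hn'⟩ := hstep' m'
    obtain ⟨q, hq⟩ : ∃ q : ℕ, (yM ^ c) ^ q = yM ^ n' := by
      obtain ⟨m'', hm''⟩ := exists_pow_eq_self_of_coprime (show c.Coprime (orderOf yM) from by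
        rw [orderOf_eq_prime (hMel yM) hyM1]; exact ((hp.out.coprime_iff_not_dvd).mpr hcp).symm)
      exact ⟨m'' * n', by rw [pow_mul, hm'']⟩
    set m'' := m' * (zM ^ q)⁻¹
    have htm'' : t m'' = m'' := by rw [map_mul, map_inv, map_pow, htm', htz]
    have ht'm'' : t' m'' = m'' := by
      rw [map_mul, map_inv, map_pow, hn', hc, (show Commute zM (yM ^ c) from hMcomm _ _).mul_pow, hq, mul_inv_rev]
      simp only [m'']
      rw [mul_assoc, ← mul_assoc (yM ^ n'), mul_inv_cancel, one_mul]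
    have hT'm'' : T' m'' = m'' := by
      have : ∀ i : ℕ, (t' ^ i) m'' = m'' := fun i => by
        induction i with
        | zero => rfl
        | succ i ih => rw [pow_succ', MulAut.mul_apply, ih, ht'm'']
      exact this k
    have hwm : w m'' = m'' := by show t (T' (t m'')) = m''; rw [htm'', hT'm'', htm'']
    have hβm : β m'' = m'' := by rw [MulAut.mul_apply, hwm, hwm]
    have hm : m = m'' * zM ^ q * yM ^ n := by simp [m'', m']
    rw [hm]
    simp only [map_mul, map_pow, map_inv, htm'', htz, hty, hβm, hβz, hβy]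
    rw [hMcomm yM⁻¹ zM⁻¹, ← mul_inv_rev]
  have hwB : w ∈ B := B.mul_mem (B.mul_mem htB (B.pow_mem ht'B k)) htB
  have hMfn : F.IsFullyNormalized M := by
    refine ⟨hMsc.1, fun Q hQ => ?_⟩
    obtain ⟨ψ, hψ, hr⟩ := hQ
    rw [← hr, (weaklyClosed_of_stronglyClosed hMsc).2 ψ hψ]
  obtain ⟨h, hh, eh⟩ := (mem_autGroup_iff hMsc.1).mp (B.mul_mem hwB hwB : β ∈ B)
  obtain ⟨h', hh', eh'⟩ := (receptive_iff.mp (IsSaturated_fullyNormalized hS hF hMfn).2.2).2 M h hh
  have hbN : (b : Ω) ∈ nphi S M h := ⟨hP.1 b.2, hMn (hP.1 b.2), b, hP.1 b.2, fun x hx => by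
    rw [show cj (b : Ω) x = ((t ⟨x, hx⟩ : M) : Ω) from (ht ⟨x, hx⟩).symm, show h ((t ⟨x, hx⟩ : M) : Ω) = _ from eh (t ⟨x, hx⟩),
      hcommβ, ht, show h x = _ from eh ⟨x, hx⟩]
    rfl⟩
  set b' : P := ⟨h' b, stronglyClosed_mem hP hh' hbN b.2⟩
  have hyN : (y : Ω) ∈ nphi S M h := hh.mor.le_nphi hyM
  have hd : Commute (b⁻¹ * b') y := by
    have e1 := hh'.map_conj hbN hyN
    have e2 : h' (y : Ω) = ((yM⁻¹ : M) : Ω) := by
      rw [eh' _ hyM, show h (y : Ω) = _ from eh yM]; exact congrArg Subtype.val hβy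
    have e3 : h' ((b : Ω) * y * (b : Ω)⁻¹) = ((yM⁻¹ * zM⁻¹ : M) : Ω) := by
      rw [show (b : Ω) * y * (b : Ω)⁻¹ = ((yM * zM : M) : Ω) from congrArg Subtype.val hb, eh' _ (yM * zM).2,
        show h ((yM * zM : M) : Ω) = _ from eh (yM * zM)]
      exact congrArg Subtype.val (show β (yM * zM) = yM⁻¹ * zM⁻¹ by rw [map_mul, hβy, hβz])
    rw [e3, e2] at e1
    have e4 : b' * y * b'⁻¹ = y * z := by
      have := congrArg (·⁻¹) e1
      simp only [Subgroup.coe_mul, Subgroup.coe_inv, mul_inv_rev, inv_inv] at this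
      refine Subtype.ext ?_
      show h' b * (y : Ω) * (h' b)⁻¹ = (y : Ω) * z
      rw [mul_assoc, ← this]
      exact congrArg Subtype.val (hzc y)
    have e5 : b' * y * b'⁻¹ = b * y * b⁻¹ := e4.trans hb.symm
    show b⁻¹ * b' * y = y * (b⁻¹ * b')
    calc b⁻¹ * b' * y = b⁻¹ * (b' * y * b'⁻¹) * b' := by group
      _ = y * (b⁻¹ * b') := by rw [e5]; group
  have hbp' : b' ^ p = b ^ p := by
    have := hmulpow b (b⁻¹ * b')
    rwa [mul_inv_cancel_left, hMe _ hd, mul_one] at this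
  obtain ⟨n, hn⟩ := Subgroup.mem_zpowers_iff.mp (hpow b)
  have hzN : (z : Ω) ∈ nphi S M h := hh.mor.le_nphi hzM
  have e6 : h' ((b ^ p : P) : Ω) = ((b' ^ p : P) : Ω) := by
    rw [SubmonoidClass.coe_pow, SubmonoidClass.coe_pow]; exact hh'.map_pow hbN p
  rw [hbp', ← hn, Subgroup.coe_zpow] at e6
  have e7 : h' (z : Ω) = (z : Ω)⁻¹ := by
    rw [eh' _ hzM, show h (z : Ω) = _ from eh zM]; exact congrArg Subtype.val hβz
  have e8 : (z : Ω)⁻¹ ^ n = (z : Ω) ^ n := by
    rw [← e7]; exact (map_zpow hh'.hom ⟨z, hzN⟩ n).symm.trans e6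
  have e9 : (b ^ p) ^ 2 = 1 := by
    rw [← hn, sq]
    refine Subtype.ext ?_
    rw [Subgroup.coe_mul, Subgroup.coe_zpow, OneMemClass.coe_one]
    nth_rewrite 1 [← e8]
    rw [inv_zpow, inv_mul_cancel]
  refine hbp (orderOf_eq_one_iff.mp (Nat.eq_one_of_dvd_coprimes
    ((Nat.coprime_primes Nat.prime_two hp.out).mpr (Ne.symm hp2)) (orderOf_dvd_of_pow_eq_one e9)
    (orderOf_dvd_of_pow_eq_one ?_)))
  rw [← hn, ← zpow_natCast, ← zpow_mul, mul_comm, zpow_mul, zpow_natCast, hzo, one_zpow]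

end Cfsg.Agent.Fusion.GenExtra
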