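/-
An abelian essential subgroup has no large group of automorphisms stabilising a line.
-/
import Cfsg.Agent.Fusion.EssentialShape
set_option autoImplicit false

namespace Cfsg.Agent.Fusion.LineStab

open Cfsg Cfsg.FusionSystem

variable {Ω : Type*} [Group Ω] {S : Subgroup Ω} {F : FusionSystem S} {p : ℕ} [hp : Fact p.Prime]

/-- The automorphisms fixing `y` and trivial modulo `⟨y⟩`. -/
def stab {A : Type*} [Group A] (L : Subgroup (MulAut A)) (y : A) : Subgroup L where
  carrier := {γ | (γ : MulAut A) y = y ∧ ∀ x, x⁻¹ * (γ : MulAut A) x ∈ Subgroup.zpowers y}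
  one_mem' := ⟨by simp, fun x => by simp⟩
  mul_mem' := by
    rintro a b ⟨ha, ha'⟩ ⟨hb, hb'⟩
    refine ⟨by rw [Subgroup.coe_mul, MulAut.mul_apply, hb, ha], fun x => ?_⟩
    have h := mul_mem (hb' x) (ha' ((b : MulAut A) x))
    rw [Subgroup.coe_mul, MulAut.mul_apply]
    simpa [mul_assoc] using h
  inv_mem' := by
    rintro a ⟨ha, ha'⟩
    refine ⟨by
      conv_lhs => rw [← ha]
      rw [Subgroup.coe_inv, MulAut.inv_apply_self], fun x => ?_⟩
    have h := inv_mem (ha' ((a : MulAut A)⁻¹ x))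
    rwa [MulAut.apply_inv_self, mul_inv_rev, inv_inv] at h

theorem isPGroup_stab {A : Type*} [Group A] [Finite A] (hA : IsPGroup p A) (L : Subgroup (MulAut A))
    (y : A) : IsPGroup p (stab L y) := by
  intro γ
  let D : ℕ → Subgroup A := fun j => if j = 0 then ⊥ else if j = 1 then Subgroup.zpowers y else ⊤
  obtain ⟨k, hk⟩ := stabilizes_pow_eq_one hA ((γ : L) : MulAut A) D 2 rfl rfl
    (fun j hj => by interval_cases j <;> simp [D])
    (fun j hj x hx => by
      interval_cases j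
      · obtain ⟨i, rfl⟩ := Subgroup.mem_zpowers_iff.mp (show x ∈ Subgroup.zpowers y from hx)
        show _ ∈ (⊥ : Subgroup A)
        rw [map_zpow, γ.2.1, inv_mul_cancel]; exact one_mem _
      · exact γ.2.2 x)
  exact ⟨k, Subtype.ext (Subtype.ext hk)⟩

/-- `p`-subgroups meeting a strongly embedded subgroup lie in it. -/
theorem pGroup_le {X : Type*} [Group X] [Finite X] {M R : Subgroup X} (h : IsStronglyPEmbedded p M)
    (hR : IsPGroup p R) {r : X} (hr : r ∈ R) (hrM : r ∈ M) (hr1 : r ≠ 1) : R ≤ M := by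
  by_contra hn
  have hne : R ⊓ M ≠ ⊥ := fun e => hr1 ((Subgroup.eq_bot_iff_forall _).mp e r ⟨hr, hrM⟩)
  have hlt := lt_inf_normalizer hR
    (lt_of_le_of_ne inf_le_left fun e => hn (inf_eq_left.mp e) : R ⊓ M < R)
  refine hlt.not_ge fun b hb => ⟨hb.1, ?_⟩
  exact stronglyPEmbedded_normalizer_le h (hR.to_le inf_le_left) hne inf_le_right hb.2

theorem inn_eq_bot {A : Type*} [Group A] (h : ∀ x y : A, x * y = y * x) : Inn A = ⊥ := by
  refine (Subgroup.eq_bot_iff_forall _).mpr ?_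
  rintro _ ⟨g, rfl⟩
  exact MulEquiv.ext fun x => mul_inv_eq_iff_eq_mul.mpr (h g x)

/-- A subgroup of `N_S(E)` fixing a line of an abelian essential `E` and trivial modulo it is small. -/
theorem card_le [Finite S] (hS : IsPGroup p S) {E : Subgroup Ω}
    (hE : F.IsEssential p E) (hab : ∀ x ∈ E, ∀ y ∈ E, x * y = y * x) {z : Ω} (hz : z ∈ E)
    (hzp : z ^ p = 1) {K : Subgroup Ω} (hK : K ≤ normalizerIn S E)
    (hfix : ∀ a ∈ K, Commute a z) (hcomm : ∀ a ∈ K, ∀ x ∈ E, x⁻¹ * (a * x * a⁻¹) ∈ Subgroup.zpowers z) :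
    Nat.card K ≤ p * Nat.card E := by
  classical
  have hES := hE.1.1
  haveI := finite_of_le hES
  haveI := finite_of_le (hK.trans normalizerIn_le)
  haveI := finite_mulAut (G := E)
  obtain ⟨hc, -, hN, M, hM⟩ := hE
  haveI := hN
  let π := QuotientGroup.mk' ((Inn E).subgroupOf (F.autGroup E))
  have hπ : Function.Injective π := by
    refine (MonoidHom.ker_eq_bot_iff π).mp ?_
    rw [QuotientGroup.ker_mk', inn_eq_bot fun x y => Subtype.ext (hab _ x.2 _ y.2), Subgroup.bot_subgroupOf]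
  -- the action of `K`
  let ρ : K →* F.autGroup E := ((actHom S E).comp (Subgroup.inclusion hK)).codRestrict _ fun a =>
    autInducedBy_le_autGroup hES ((range_actHom S E).le ⟨_, rfl⟩)
  have hρ : ∀ (a : K) (x : E), (((ρ a : MulAut E) x : E) : Ω) = (a : Ω) * x * (a : Ω)⁻¹ := fun a x => rfl
  let zE : E := ⟨z, hz⟩
  have hUT : ρ.range ≤ stab (F.autGroup E) zE := by
    rintro _ ⟨a, rfl⟩
    refine ⟨Subtype.ext ((hρ a zE).trans (mul_inv_eq_iff_eq_mul.mpr (hfix a a.2))), fun x => ?_⟩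
    obtain ⟨i, hi⟩ := Subgroup.mem_zpowers_iff.mp (hcomm a a.2 x x.2)
    exact Subgroup.mem_zpowers_iff.mpr ⟨i, Subtype.ext (by simpa [hρ, zE] using hi)⟩
  have hker : Nat.card ρ.ker ≤ Nat.card E := by
    refine Nat.card_le_card_of_injective
      (fun a : ρ.ker => (⟨((a : K) : Ω), hc.2 E (isConj_refl hES) ⟨(hK a.1.2).1, fun x hx => ?_⟩⟩ : E))
      fun a b e => Subtype.ext (Subtype.ext (congrArg (fun t : E => (t : Ω)) e :))
    have h := hρ a ⟨x, hx⟩
    rw [(MonoidHom.mem_ker).mp a.2] at h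
    exact (mul_inv_eq_iff_eq_mul.mp h.symm).symm
  by_contra hbig
  have hU : p < Nat.card ρ.range := by
    by_contra h
    push_neg at h
    refine hbig ?_
    rw [← ρ.ker.index_mul_card, Subgroup.index_ker]
    exact Nat.mul_le_mul h hker
  have hT : ∀ y : E, IsPGroup p (stab (F.autGroup E) y) := isPGroup_stab (hS.to_le hES) _
  -- a conjugate of the stabiliser inside `M`
  set T1 := (stab (F.autGroup E) zE).map π with hT1
  obtain ⟨R, hRM, -⟩ := stronglyPEmbedded_exists hM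
  obtain ⟨R', hR'⟩ := ((hT zE).map π).exists_le_sylow
  obtain ⟨x, rfl⟩ := MulAction.exists_smul_eq (F.autGroup E ⧸ (Inn E).subgroupOf (F.autGroup E)) R' R
  have hx : ∀ t ∈ T1, cj x t ∈ M := fun t ht => hRM ⟨t, hR' ht, rfl⟩
  refine hM.2.1 ((Subgroup.eq_top_iff' M).mpr fun y0 => ?_)
  obtain ⟨y, rfl⟩ : ∃ y, cj x y = y0 := ⟨cj x⁻¹ y0, cj_cancel_inv x y0⟩
  obtain ⟨g, rfl⟩ := QuotientGroup.mk'_surjective _ y
  -- an element of `K` fixing the moved point
  set w : E := (g : MulAut E) zE with hw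
  let χ : ρ.range →* E :=
    { toFun := fun u => w⁻¹ * ((u : F.autGroup E) : MulAut E) w
      map_one' := by simp
      map_mul' := fun u v => by
        obtain ⟨i, hi⟩ := Subgroup.mem_zpowers_iff.mp ((hUT v.2).2 w)
        have e : ((v : F.autGroup E) : MulAut E) w = w * zE ^ i := by rw [hi, mul_inv_cancel_left]
        show w⁻¹ * ((u : F.autGroup E) : MulAut E) (((v : F.autGroup E) : MulAut E) w) = _
        rw [e, map_mul, map_zpow, (hUT u.2).1, mul_assoc, inv_mul_cancel_left] }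
  have hχ : χ.range ≤ Subgroup.zpowers zE := by
    rintro _ ⟨u, rfl⟩; exact (hUT u.2).2 w
  obtain ⟨u, hu1, hu⟩ : ∃ u : ρ.range, u ≠ 1 ∧ χ u = 1 := by
    by_contra h
    push_neg at h
    have hinj : Function.Injective χ := (injective_iff_map_eq_one χ).mpr fun u hu =>
      by_contra fun hne => h u hne hu
    have h1 := Nat.card_range_of_injective hinj
    have h2 := Subgroup.card_le_of_le hχ
    rw [Nat.card_zpowers] at h2
    have h3 : orderOf zE ≤ p := orderOf_le_of_pow_eq_one hp.out.pos (Subtype.ext hzp)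
    have h4 : Nat.card ρ.range = Nat.card χ.range := (Nat.card_congr (Equiv.ofInjective χ hinj))
    omega
  have hufix : ((u : F.autGroup E) : MulAut E) w = w := (inv_mul_eq_one.mp hu).symm
  have hgT : ∀ t ∈ stab (F.autGroup E) zE, g * t * g⁻¹ ∈ stab (F.autGroup E) w := by
    rintro t ⟨ht, ht'⟩
    refine ⟨?_, fun v => ?_⟩
    · show (g : MulAut E) ((t : MulAut E) ((g : MulAut E)⁻¹ w)) = w
      rw [hw, MulAut.inv_apply_self, ht]
    · obtain ⟨i, hi⟩ := Subgroup.mem_zpowers_iff.mp (ht' ((g : MulAut E)⁻¹ v))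
      refine Subgroup.mem_zpowers_iff.mpr ⟨i, ?_⟩
      show w ^ i = v⁻¹ * (g : MulAut E) ((t : MulAut E) ((g : MulAut E)⁻¹ v))
      have h := congrArg (g : MulAut E) hi
      rw [map_zpow, map_mul, map_inv, MulAut.apply_inv_self] at h
      exact h
  have huN : (u : F.autGroup E) ∈ Subgroup.normalizer (stab (F.autGroup E) w : Set (F.autGroup E)) := by
    refine Subgroup.mem_normalizer_fintype fun t ht => ?_
    have hinv : ((u : F.autGroup E) : MulAut E)⁻¹ w = w := by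
      conv_lhs => rw [← hufix]
      exact MulAut.inv_apply_self _ _ _
    refine ⟨?_, fun v => ?_⟩
    · show ((u : F.autGroup E) : MulAut E) ((t : MulAut E) (((u : F.autGroup E) : MulAut E)⁻¹ w)) = w
      rw [hinv, ht.1, hufix]
    · obtain ⟨i, hi⟩ := Subgroup.mem_zpowers_iff.mp (ht.2 (((u : F.autGroup E) : MulAut E)⁻¹ v))
      refine Subgroup.mem_zpowers_iff.mpr ⟨i, ?_⟩
      show w ^ i = v⁻¹ * ((u : F.autGroup E) : MulAut E) ((t : MulAut E) (((u : F.autGroup E) : MulAut E)⁻¹ v))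
      have h := congrArg ((u : F.autGroup E) : MulAut E) hi
      rw [map_zpow, hufix, map_mul, map_inv, MulAut.apply_inv_self] at h
      exact h
  set P2 := Subgroup.zpowers (u : F.autGroup E) ⊔ stab (F.autGroup E) w with hP2
  have hP2p : IsPGroup p P2 :=
    IsPGroup.to_sup_of_normal_right' ((hT zE).to_le (Subgroup.zpowers_le.mpr (hUT u.2))) (hT w)
      (Subgroup.zpowers_le.mpr huN)
  set P3 := (P2.map π).map (MulAut.conj x).toMonoidHom with hP3
  have hP3M : P3 ≤ M := by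
    refine pGroup_le hM ((hP2p.map π).map _) (r := cj x (π u))
      ⟨π u, ⟨_, Subgroup.mem_sup_left (Subgroup.mem_zpowers _), rfl⟩, rfl⟩ (hx _ ⟨_, hUT u.2, rfl⟩) ?_
    intro e
    refine hu1 (Subtype.ext (hπ ?_))
    have h := congrArg (cj x⁻¹) e
    rw [cj_inv_cancel] at h
    simpa [cj] using h
  refine stronglyPEmbedded_mem hM (R := T1.map (MulAut.conj x).toMonoidHom) (((hT zE).map π).map _) ?_
    (by rintro _ ⟨t, ht, rfl⟩; exact hx t ht) ?_
  · rw [Ne, Subgroup.map_eq_bot_iff_of_injective _ (MulAut.conj x).injective, hT1,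
      Subgroup.map_eq_bot_iff_of_injective _ hπ]
    exact fun e => hu1 (Subtype.ext ((Subgroup.eq_bot_iff_forall _).mp e _ (hUT u.2)))
  · rintro _ ⟨_, ⟨t, ht, rfl⟩, rfl⟩
    refine hP3M ⟨π (g * t * g⁻¹), ⟨_, Subgroup.mem_sup_right (hgT t ht), rfl⟩, ?_⟩
    show cj x (π (g * t * g⁻¹)) = cj (cj x (π g)) (cj x (π t))
    rw [map_mul, map_mul, map_inv]
    simp [cj, mul_assoc]

/-- If all automorphisms keep `⟨z⟩`, elements acting trivially on `⟨z⟩` and modulo it lie in `E`. -/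
theorem mem_of_invariant [Finite S] (hS : IsPGroup p S) {E : Subgroup Ω}
    (hE : F.IsEssential p E) {z : Ω} (hz : z ∈ E)
    (hinv : ∀ α ∈ F.autGroup E, α ⟨z, hz⟩ ∈ Subgroup.zpowers (⟨z, hz⟩ : E))
    {a : Ω} (ha : a ∈ normalizerIn S E) (hfix : Commute a z)
    (hcomm : ∀ x ∈ E, x⁻¹ * (a * x * a⁻¹) ∈ Subgroup.zpowers z) : a ∈ E := by
  haveI := finite_of_le hE.1.1
  let zE : E := ⟨z, hz⟩
  let D : ℕ → Subgroup E := fun j => if j = 0 then ⊥ else if j = 1 then Subgroup.zpowers zE else ⊤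
  refine mem_of_stabilizes hS hE.1 (essential_radical hS hE) ha D 2 rfl rfl
    (fun j hj => by interval_cases j <;> simp [D]) (fun α hα j hj x hx => ?_) fun j hj x hx => ?_
  · interval_cases j
    · simp only [D, if_true, Subgroup.mem_bot] at hx ⊢
      rw [hx, map_one]
    · obtain ⟨i, rfl⟩ := Subgroup.mem_zpowers_iff.mp (show x ∈ Subgroup.zpowers zE from hx)
      show _ ∈ Subgroup.zpowers zE
      rw [map_zpow]; exact zpow_mem (hinv α hα) i
    · exact Subgroup.mem_top _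
  · interval_cases j
    · obtain ⟨i, rfl⟩ := Subgroup.mem_zpowers_iff.mp (show x ∈ Subgroup.zpowers zE from hx)
      show _ ∈ (⊥ : Subgroup E)
      have e : actHom S E ⟨a, ha⟩ zE = zE := Subtype.ext (mul_inv_eq_iff_eq_mul.mpr hfix)
      rw [map_zpow, e, inv_mul_cancel]; exact one_mem _
    · obtain ⟨i, hi⟩ := Subgroup.mem_zpowers_iff.mp (hcomm x x.2)
      exact Subgroup.mem_zpowers_iff.mpr ⟨i, Subtype.ext (by simpa [actHom_apply, cj, zE] using hi)⟩

/-- If the commutators of `E` lie in `⟨z⟩`, `z ^ p = 1`, and `E` is nonabelian, `⟨z⟩` is invariant. -/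
theorem invariant_of_nonabelian {A : Type*} [Group A] {z : A} (hzp : z ^ p = 1)
    (hcomm : ∀ x y : A, x * y * x⁻¹ * y⁻¹ ∈ Subgroup.zpowers z) {x y : A} (hxy : x * y ≠ y * x)
    (α : MulAut A) : α z ∈ Subgroup.zpowers z := by
  set c : A := x * y * x⁻¹ * y⁻¹ with hcdef
  have hc1 : c ≠ 1 := fun e => hxy (mul_inv_eq_iff_eq_mul.mp (mul_inv_eq_one.mp e))
  have hz1 : z ≠ 1 := fun e => by
    have := hcomm x y
    rw [e, Subgroup.zpowers_one_eq_bot, Subgroup.mem_bot] at this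
    exact hc1 this
  have ho : orderOf z = p := orderOf_eq_prime hzp hz1
  haveI : Finite (Subgroup.zpowers z) := Nat.finite_of_card_ne_zero (by rw [Nat.card_zpowers, ho]; exact hp.out.ne_zero)
  have hgen : Subgroup.zpowers c = Subgroup.zpowers z := by
    refine eq_of_le_of_card (Subgroup.zpowers_le.mpr (hcomm x y)) ?_
    rw [Nat.card_zpowers, Nat.card_zpowers, ho]
    have hd : orderOf c ∣ p := by
      obtain ⟨i, hi⟩ := Subgroup.mem_zpowers_iff.mp (hcomm x y)
      apply orderOf_dvd_of_pow_eq_one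
      rw [hcdef, ← hi, ← zpow_natCast, ← zpow_mul, mul_comm, zpow_mul, zpow_natCast, hzp, one_zpow]
    rcases (Nat.dvd_prime hp.out).mp hd with h | h
    · exact absurd (orderOf_eq_one_iff.mp h) hc1
    · exact h.ge
  obtain ⟨i, hi⟩ := Subgroup.mem_zpowers_iff.mp (hgen.ge (Subgroup.mem_zpowers z))
  rw [← hi, map_zpow]
  rw [hi]
  exact zpow_mem (by rw [hcdef, map_mul, map_mul, map_mul, map_inv, map_inv]; exact hcomm _ _) i

/-- An abelian subgroup `E` with `a` outside and `[E,a] ≤ ⟨z⟩` is at most `p` times its fixed part. -/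
theorem card_le_fixed {E C : Subgroup Ω} [Finite E] {z a : Ω} (hzp : z ^ p = 1)
    (hcomm : ∀ x ∈ E, x⁻¹ * (a * x * a⁻¹) ∈ Subgroup.zpowers z)
    (hzc : Commute a z) (hzE : ∀ x ∈ E, Commute x z)
    (hfix : ∀ x ∈ E, a * x * a⁻¹ = x → x ∈ C) [Finite C] : Nat.card E ≤ p * Nat.card C := by
  let χ : E →* Ω :=
    { toFun := fun x => (x : Ω)⁻¹ * (a * x * a⁻¹)
      map_one' := by simp
      map_mul' := fun x y => by
        obtain ⟨i, hi⟩ := Subgroup.mem_zpowers_iff.mp (hcomm x x.2)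
        show ((x : Ω) * y)⁻¹ * (a * ((x : Ω) * y) * a⁻¹) = (x : Ω)⁻¹ * (a * x * a⁻¹) * ((y : Ω)⁻¹ * (a * y * a⁻¹))
        rw [← hi]
        calc ((x : Ω) * y)⁻¹ * (a * ((x : Ω) * y) * a⁻¹)
            = (y : Ω)⁻¹ * ((x : Ω)⁻¹ * (a * x * a⁻¹)) * (a * y * a⁻¹) := by group
          _ = (y : Ω)⁻¹ * z ^ i * (a * y * a⁻¹) := by rw [hi]
          _ = z ^ i * ((y : Ω)⁻¹ * (a * y * a⁻¹)) := by
            rw [((hzE y y.2).inv_left.zpow_right i).eq, mul_assoc] }
  have h1 : χ.range ≤ Subgroup.zpowers z := by rintro _ ⟨x, rfl⟩; exact hcomm x x.2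
  have h2 : Nat.card χ.ker ≤ Nat.card C :=
    Nat.card_le_card_of_injective (fun x : χ.ker => (⟨((x : E) : Ω), hfix _ x.1.2
      (inv_mul_eq_one.mp (MonoidHom.mem_ker.mp x.2)).symm⟩ : C))
      fun x y e => Subtype.ext (Subtype.ext (congrArg (fun t : C => (t : Ω)) e :))
  haveI : Finite (Subgroup.zpowers z) :=
    Set.Finite.to_subtype ((isOfFinOrder_iff_pow_eq_one.mpr ⟨p, hp.out.pos, hzp⟩).finite_zpowers)
  have h3 : Nat.card χ.range ≤ p := (Subgroup.card_le_of_le h1).trans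
    (by rw [Nat.card_zpowers]; exact orderOf_le_of_pow_eq_one hp.out.pos hzp)
  rw [← χ.ker.index_mul_card, Subgroup.index_ker]
  exact Nat.mul_le_mul h3 h2

end Cfsg.Agent.Fusion.LineStab
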