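/-
Centre of index `p²`: the complements `Z ∩ α(Z)` attached to good pairs.
-/
import Cfsg.Agent.Fusion.SmallCenterIndex
import Cfsg.Agent.Fusion.Alperin
import Cfsg.Agent.OddLocal.RankTwo.Omega
set_option autoImplicit false

namespace Cfsg.Agent.Fusion.CenterSq

open Cfsg Cfsg.FusionSystem

variable {Ω : Type*} [Group Ω] {S : Subgroup Ω} {F : FusionSystem S} {p : ℕ} [hp : Fact p.Prime]
  {z : Ω} {R : Subgroup Ω} {α : MulAut R}

/-- `Z ∩ α(Z)`. -/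
def cC (S R : Subgroup Ω) (α : MulAut R) : Subgroup Ω :=
  zS S ⊓ (((zS S).subgroupOf R).map α.toMonoidHom).map R.subtype

omit hp in
theorem mem_cC {x : Ω} : x ∈ cC S R α ↔ x ∈ zS S ∧ ∃ c : R, (c : Ω) ∈ zS S ∧ ((α c : R) : Ω) = x := by
  constructor
  · rintro ⟨h1, _, ⟨c, hc, rfl⟩, h2⟩
    exact ⟨h1, c, hc, h2⟩
  · rintro ⟨h1, c, hc, h2⟩
    exact ⟨h1, _, ⟨c, hc, rfl⟩, h2⟩

section
variable (hq : Sq p S z)
include hq

theorem map_z_mem [Finite S] {g : Ω → Ω} (hg : Iso F g S S) (hnab : ∃ u ∈ S, ∃ v ∈ S, ¬ Commute u v) :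
    g z ∈ Subgroup.zpowers z := by
  obtain ⟨u, hu, v, hv, huv⟩ := hnab
  obtain ⟨k, hk⟩ := hq.root (hq.comm u hu v hv) fun e => huv (mul_inv_eq_iff_eq_mul.mp (mul_inv_eq_one.mp e))
  have hw : u * v * u⁻¹ * v⁻¹ ∈ S := S.mul_mem (S.mul_mem (S.mul_mem hu hv) (S.inv_mem hu)) (S.inv_mem hv)
  have e : g z = (g u * g v * (g u)⁻¹ * (g v)⁻¹) ^ k := by
    rw [← hk, hg.mor.map_pow hw, hg.mor.map_mul (S.mul_mem (S.mul_mem hu hv) (S.inv_mem hu)) (S.inv_mem hv),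
      hg.mor.map_conj hu hv, hg.mor.map_inv hv]
  rw [e]
  exact pow_mem (hq.comm _ (hg.mapsTo hu) _ (hg.mapsTo hv)) k

omit hp in
theorem nonab {R : Subgroup Ω} (hne : R ≠ S) (hR : R ≤ S) (hZR : zS S ≤ R) :
    ∃ u ∈ S, ∃ v ∈ S, ¬ Commute u v := by
  by_contra h
  push_neg at h
  exact hne (le_antisymm hR fun x hx => hZR ⟨hx, fun g hg => h g hg x hx⟩)

theorem map_zS {g : Ω → Ω} (hg : Iso F g S S) {x : Ω} (hx : x ∈ zS S) : g x ∈ zS S :=
  ⟨hg.mapsTo hx.1, fun u hu => by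
    obtain ⟨u', hu', rfl⟩ := hg.surj hu
    show g u' * g x = g x * g u'
    rw [← hg.mor.map_mul hu' hx.1, ← hg.mor.map_mul hx.1 hu', hx.2 u' hu']⟩

variable (hG : Good F z R α)
include hG

/-- The inverse pair. -/
theorem Good.symm [Finite S] (hS : IsPGroup p S) (hF : F.IsSaturated p) : Good F z R α⁻¹ := by
  refine ⟨hG.le, hG.ne, hG.zle, inv_mem hG.mem, fun hz hm => hG.moves hz ?_⟩
  obtain ⟨g, hg, eg⟩ := hG.extend hq hS hF (inv_mem hG.mem) hm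
  have h1 := map_z_mem hq hg (nonab hq hG.ne hG.le hG.zle)
  rw [show g z = _ from eg ⟨z, hz⟩] at h1
  obtain ⟨k, hk⟩ := Subgroup.mem_zpowers_iff.mp h1
  have hk0 : z ^ k ≠ 1 := fun e => hq.z1 (by
    have e1 : (α⁻¹ ⟨z, hz⟩ : R) = 1 := Subtype.ext (hk.symm.trans e)
    rw [← map_one α⁻¹] at e1
    exact congrArg Subtype.val (α⁻¹.injective e1))
  obtain ⟨j, hj⟩ := hq.root (zpow_mem (Subgroup.mem_zpowers z) k) hk0
  have e2 : (⟨z, hz⟩ : R) = (α ⟨z, hz⟩) ^ k := by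
    rw [← map_zpow, show (⟨z, hz⟩ : R) ^ k = α⁻¹ ⟨z, hz⟩ from Subtype.ext ((Subgroup.coe_zpow R _ k).trans hk)]
    exact (α.apply_symm_apply _).symm
  have e4 : α ⟨z, hz⟩ = (⟨z, hz⟩ : R) ^ j := by
    have hj' : ((⟨z, hz⟩ : R) ^ k) ^ j = ⟨z, hz⟩ := Subtype.ext (by simpa using hj)
    conv_lhs => rw [← hj', map_pow, map_zpow, ← e2]
  rw [e4, SubmonoidClass.coe_pow]
  exact pow_mem hq.zZ j

/-- `Z = ⟨z⟩ × C`. -/
theorem Good.split [Finite S] (hS : IsPGroup p S) (hF : F.IsSaturated p) {x : Ω} (hx : x ∈ zS S) :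
    ∃ i : ℤ, ∃ c ∈ cC S R α, x = z ^ i * c := by
  have hG' := hG.symm hq hS hF
  obtain ⟨-, -, s, -, -, -, hspan, -⟩ := hG'.data hq hS
  obtain ⟨i, c, hc, e⟩ := hspan ((α⁻¹ ⟨x, hG.zle hx⟩ : R) : Ω) (α⁻¹ _).2
  set zR : R := ⟨z, hG.zR hq⟩
  have e1 : (⟨x, hG.zle hx⟩ : R) = zR ^ i * α ⟨c, hG.zle hc⟩ := by
    have e2 : α⁻¹ ⟨x, hG.zle hx⟩ = (α⁻¹ zR) ^ i * ⟨c, hG.zle hc⟩ := Subtype.ext (by simpa using e)
    have e3 := congrArg α e2
    rwa [map_mul, map_zpow, show α (α⁻¹ zR) = zR from α.apply_symm_apply _,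
      show α (α⁻¹ ⟨x, hG.zle hx⟩) = ⟨x, hG.zle hx⟩ from α.apply_symm_apply _] at e3
  have e2 : x = z ^ i * ((α ⟨c, hG.zle hc⟩ : R) : Ω) := by
    have := congrArg Subtype.val e1
    simpa using this
  refine ⟨i, _, mem_cC.mpr ⟨?_, ⟨c, hG.zle hc⟩, hc, rfl⟩, e2⟩
  rw [show ((α ⟨c, hG.zle hc⟩ : R) : Ω) = (z ^ i)⁻¹ * x by rw [e2, inv_mul_cancel_left]]
  exact mul_mem (inv_mem (zpow_mem hq.zZ i)) hx

theorem Good.z_notMem [Finite S] (hS : IsPGroup p S) (hF : F.IsSaturated p) : z ∉ cC S R α := by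
  intro h
  obtain ⟨-, c, hc, e⟩ := mem_cC.mp h
  refine (hG.symm hq hS hF).moves (hG.zR hq) ?_
  rw [show (⟨z, hG.zR hq⟩ : R) = α c from Subtype.ext e.symm, show α⁻¹ (α c) = c from α.symm_apply_apply c]
  exact hc

/-- The two transvections and what they do. -/
theorem Good.transvections [Finite S] (hS : IsPGroup p S) (hF : F.IsSaturated p) :
    ∃ t ∈ F.autGroup R, ∃ t' ∈ F.autGroup R, ∃ c : ℕ, ¬ p ∣ c ∧
      t ⟨z, hG.zR hq⟩ = ⟨z, hG.zR hq⟩ ∧ t (α ⟨z, hG.zR hq⟩) = α ⟨z, hG.zR hq⟩ * ⟨z, hG.zR hq⟩ ∧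
      t' (α ⟨z, hG.zR hq⟩) = α ⟨z, hG.zR hq⟩ ∧ t' ⟨z, hG.zR hq⟩ = ⟨z, hG.zR hq⟩ * α ⟨z, hG.zR hq⟩ ^ c ∧
      (∀ x : R, (x : Ω) ∈ zS S → t x = x) ∧ (∀ x : R, (x : Ω) ∈ cC S R α → t' x = x) ∧
      (∀ x : R, x⁻¹ * t x ∈ Subgroup.zpowers (⟨z, hG.zR hq⟩ : R)) ∧
      (∀ x : R, x⁻¹ * t' x ∈ Subgroup.zpowers (α ⟨z, hG.zR hq⟩)) ∧
      t ∈ autInducedBy S R := by
  haveI := finite_of_le hG.le
  obtain ⟨-, -, s, hs, -, hsy, hspan, -⟩ := hG.data hq hS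
  have hn := hG.normal hq
  let zR : R := ⟨z, hG.zR hq⟩
  let y : R := α zR
  let t : MulAut R := actHom S R ⟨s, hs, hn hs⟩
  have htv : ∀ x : R, ((t x : R) : Ω) = s * x * s⁻¹ := fun x => actHom_apply S R _ x
  have htI : t ∈ autInducedBy S R := (range_actHom S R).le ⟨_, rfl⟩
  have htB : t ∈ F.autGroup R := autInducedBy_le_autGroup hG.le htI
  have htfix : ∀ x : R, (x : Ω) ∈ zS S → t x = x := fun x hx => Subtype.ext (by
    rw [htv, hx.2 s hs, mul_inv_cancel_right])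
  have hstep : ∀ x : R, x⁻¹ * t x ∈ Subgroup.zpowers zR := fun x => by
    obtain ⟨m, hm⟩ := Subgroup.mem_zpowers_iff.mp (hq.comm s hs x (hG.le x.2))
    refine Subgroup.mem_zpowers_iff.mpr ⟨m, Subtype.ext ?_⟩
    have h1 : s * (x : Ω) * s⁻¹ = (x : Ω) * z ^ m := by
      rw [((show Commute (x : Ω) z from hq.zZ.2 x (hG.le x.2)).zpow_right m).eq, hm]; group
    rw [Subgroup.coe_zpow, Subgroup.coe_mul, Subgroup.coe_inv, htv, h1]
    exact (inv_mul_cancel_left _ _).symm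
  have hty : t y = y * zR := Subtype.ext (by rw [htv]; exact hsy)
  have hαα : ∀ x : R, α⁻¹ (α x) = x := fun x => α.symm_apply_apply x
  have hαα' : ∀ x : R, α (α⁻¹ x) = x := fun x => α.apply_symm_apply x
  have hyp : y ^ p = 1 := by
    rw [show y = α zR from rfl, ← map_pow, show zR ^ p = 1 from Subtype.ext hq.zp, map_one]
  have hstep' : ∀ x : R, x⁻¹ * (α * t * α⁻¹) x ∈ Subgroup.zpowers y := fun x => by
    obtain ⟨m, hm⟩ := Subgroup.mem_zpowers_iff.mp (hstep (α⁻¹ x))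
    refine Subgroup.mem_zpowers_iff.mpr ⟨m, ?_⟩
    show y ^ m = x⁻¹ * α (t (α⁻¹ x))
    have := congrArg α hm
    rwa [map_zpow, map_mul, map_inv, hαα'] at this
  obtain ⟨c, hc⟩ := (mem_powers_iff_mem_zpowers).mpr (hstep' zR)
  have hcz : (α * t * α⁻¹) zR = zR * y ^ c := by
    rw [show y ^ c = zR⁻¹ * (α * t * α⁻¹) zR from hc, mul_inv_cancel_left]
  refine ⟨t, htB, α * t * α⁻¹, mul_mem (mul_mem hG.mem htB) (inv_mem hG.mem), c, ?_, htfix zR hq.zZ, hty, ?_, hcz,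
    htfix, ?_, hstep, hstep', htI⟩
  · -- otherwise `α⁻¹ z` would be central
    rintro ⟨d, rfl⟩
    rw [pow_mul, hyp, one_pow, mul_one] at hcz
    change α (t (α⁻¹ zR)) = zR at hcz
    have h1 : t (α⁻¹ zR) = α⁻¹ zR := by rw [← hαα (t (α⁻¹ zR)), hcz]
    obtain ⟨i, e, he, hie⟩ := hspan ((α⁻¹ zR : R) : Ω) (α⁻¹ zR).2
    have h2 : (α⁻¹ zR : R) = y ^ i * ⟨e, hG.zle he⟩ := Subtype.ext (by simpa using hie)
    rw [h2, map_mul, map_zpow, hty, htfix ⟨e, hG.zle he⟩ he] at h1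
    have h3 := mul_right_cancel h1
    have hyz : Commute y zR := Subtype.ext (hq.zZ.2 y (hG.le y.2))
    rw [hyz.mul_zpow, mul_eq_left] at h3
    have hi : (p : ℤ) ∣ i := by
      rw [← orderOf_eq_prime (show zR ^ p = 1 from Subtype.ext hq.zp) fun e => hq.z1 (congrArg Subtype.val e)]
      exact orderOf_dvd_iff_zpow_eq_one.mpr h3
    obtain ⟨m, rfl⟩ := hi
    rw [zpow_mul, zpow_natCast, hyp, one_zpow, one_mul] at h2
    exact (hG.symm hq hS hF).moves (hG.zR hq) (h2 ▸ he)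
  · show α (t (α⁻¹ y)) = y
    rw [hαα, htfix zR hq.zZ]
  · intro x hx
    obtain ⟨-, e, he, hex⟩ := mem_cC.mp hx
    show α (t (α⁻¹ x)) = x
    rw [show x = α e from Subtype.ext hex.symm, hαα, htfix e he]

end

/-- Every essential subgroup carries a good pair. -/
theorem exists_good [Finite S] (hq : Sq p S z) (hS : IsPGroup p S) (hF : F.IsSaturated p)
    (hR : F.IsEssential p R) : ∃ α, Good F z R α := by
  have hlt := essential_lt hS hF hR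
  have hle := hR.1.1
  have hZR : zS S ≤ R := fun x hx => hR.1.2 R (isConj_refl hle) ⟨hx.1, fun u hu => hx.2 u (hle hu)⟩
  let zR : R := ⟨z, hZR hq.zZ⟩
  by_contra hno
  push_neg at hno
  have hall : ∀ β ∈ F.autGroup R, ((β zR : R) : Ω) ∈ zS S := fun β hβ => by
    by_contra hm
    exact hno β ⟨hle, hlt.ne, hZR, hβ, fun _ => hm⟩
  let W : Subgroup R := Subgroup.closure {w | ∃ β ∈ F.autGroup R, β zR = w}
  have hWZ : W ≤ (zS S).subgroupOf R := (Subgroup.closure_le _).mpr (by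
    rintro _ ⟨β, hβ, rfl⟩; exact hall β hβ)
  have hzW : zR ∈ W := Subgroup.subset_closure ⟨1, one_mem _, rfl⟩
  have hWinv : ∀ β ∈ F.autGroup R, ∀ w ∈ W, β w ∈ W := by
    intro β hβ w hw
    have hsub : W ≤ W.comap β.toMonoidHom := (Subgroup.closure_le _).mpr (by
      rintro _ ⟨γ, hγ, rfl⟩
      exact Subgroup.subset_closure ⟨β * γ, mul_mem hβ hγ, rfl⟩)
    exact hsub hw
  obtain ⟨a, ha, haP⟩ := SetLike.exists_of_lt (lt_normalizerIn hS hlt)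
  let D : ℕ → Subgroup R := fun j => if j = 0 then ⊥ else if j = 1 then W else ⊤
  refine haP (mem_of_stabilizes hS hR.1 (essential_radical hS hR) ha D 2 (by simp [D]) (by simp [D])
    (by intro j hj; interval_cases j <;> simp [D]) ?_ ?_)
  · intro β hβ j hj x hx
    interval_cases j
    · simp only [D, if_true, Subgroup.mem_bot] at hx ⊢
      rw [hx, map_one]
    · exact hWinv β hβ x hx
    · simp [D]
  · intro j hj x hx
    interval_cases j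
    · show _ ∈ D 0
      have hxZ : (x : Ω) ∈ zS S := hWZ hx
      have : actHom S R ⟨a, ha⟩ x = x := Subtype.ext (by
        rw [actHom_apply]; exact mul_inv_eq_iff_eq_mul.mpr (hxZ.2 a ha.1))
      simp [D, this]
    · show _ ∈ W
      obtain ⟨m, hm⟩ := Subgroup.mem_zpowers_iff.mp (hq.comm a ha.1 x (hle x.2))
      have : x⁻¹ * actHom S R ⟨a, ha⟩ x = zR ^ m := Subtype.ext (by
        rw [Subgroup.coe_mul, Subgroup.coe_inv, actHom_apply, Subgroup.coe_zpow]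
        show (x : Ω)⁻¹ * (a * x * a⁻¹) = z ^ m
        have h1 : a * (x : Ω) * a⁻¹ = (x : Ω) * z ^ m := by
          rw [((show Commute (x : Ω) z from hq.zZ.2 x (hle x.2)).zpow_right m).eq, hm]; group
        rw [h1, inv_mul_cancel_left])
      rw [this]
      exact zpow_mem hzW m

end Cfsg.Agent.Fusion.CenterSq
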