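/-
Centre of index `p²`, `p` odd: the complement to `⟨z⟩` in the centre is normal in the system.
-/
import Cfsg.Agent.Fusion.SmallCenterPairs
set_option autoImplicit false

namespace Cfsg.Agent.Fusion.CenterSq

open Cfsg Cfsg.FusionSystem

variable {Ω : Type*} [Group Ω] {S : Subgroup Ω} {F : FusionSystem S} {p : ℕ} [hp : Fact p.Prime]
  {z : Ω} {R : Subgroup Ω} {α : MulAut R}

omit hp in
theorem cC_le : cC S R α ≤ zS S := inf_le_left

/-- An element of `p`-power order of `Aut_F(S)` is inner. -/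
theorem inner_of_pow [Finite S] (hS : IsPGroup p S) (hF : F.IsSaturated p) {e : MulAut S}
    (he : e ∈ F.autGroup S) {k : ℕ} (hk : e ^ (p ^ k) = 1) : ∃ u : S, ∀ x : S, e x = u * x * u⁻¹ := by
  haveI := finite_mulAut (G := S)
  obtain ⟨-, hfa, -⟩ := IsSaturated_fullyNormalized hS hF (fullyNormalized_self (F := F))
  have hK : IsPGroup p (Subgroup.zpowers e) := by
    obtain ⟨j, -, hj⟩ := (Nat.dvd_prime_pow hp.out).mp (orderOf_dvd_of_pow_eq_one hk)
    exact IsPGroup.of_card (n := j) (by rw [Nat.card_zpowers, hj])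
  obtain ⟨a, -, ha⟩ := exists_conj_into hfa hK (Subgroup.zpowers_le.mpr he)
  obtain ⟨g, hg, -, eg⟩ := mem_autInducedBy.mp (ha e (Subgroup.mem_zpowers e))
  refine ⟨a⁻¹ ⟨g, hg⟩, fun x => ?_⟩
  have h1 : (a * e * a⁻¹) (a x) = (⟨g, hg⟩ : S) * a x * (⟨g, hg⟩ : S)⁻¹ := Subtype.ext (eg (a x))
  rw [MulAut.mul_apply, MulAut.mul_apply, MulAut.inv_apply_self] at h1
  have h2 := congrArg (⇑a⁻¹) h1
  simpa [map_mul, map_inv] using h2

/-- An automorphism of `p`-power order fixes the centre pointwise. -/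
theorem zS_fix_of_pow [Finite S] (hS : IsPGroup p S) (hF : F.IsSaturated p) {e : MulAut S}
    (he : e ∈ F.autGroup S) {k : ℕ} (hk : e ^ (p ^ k) = 1) (x : S) (hx : (x : Ω) ∈ zS S) : e x = x := by
  obtain ⟨u, hu⟩ := inner_of_pow hS hF he hk
  rw [hu]
  exact mul_inv_eq_iff_eq_mul.mpr (Subtype.ext (hx.2 u u.2))

variable (hq : Sq p S z)
include hq

theorem step_fix [Finite S] (hS : IsPGroup p S) (hF : F.IsSaturated p) {f : Ω → Ω} (hf : Iso F f S S)
    (hz : f z = z) (hst : ∀ x ∈ zS S, x⁻¹ * f x ∈ Subgroup.zpowers z) {x : Ω} (hx : x ∈ zS S) : f x = x := by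
  haveI := finite_mulAut (G := S)
  let e : MulAut S := hf.equiv
  have he : e ∈ F.autGroup S := hf.equiv_mem_autGroup
  have ev : ∀ w : S, ((e w : S) : Ω) = f w := fun _ => rfl
  obtain ⟨i, hi⟩ := Subgroup.mem_zpowers_iff.mp (hst x hx)
  let zs : S := ⟨z, hq.zZ.1⟩
  let xs : S := ⟨x, hx.1⟩
  have h1 : e xs = xs * zs ^ i := Subtype.ext (by
    rw [ev, Subgroup.coe_mul, Subgroup.coe_zpow]
    show f x = x * z ^ i
    rw [hi, mul_inv_cancel_left])
  have h2 : e zs = zs := Subtype.ext hz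
  have hn : ∀ n : ℕ, (e ^ n) xs = xs * zs ^ (i * n) := by
    intro n
    induction n with
    | zero => simp
    | succ n ih =>
      rw [pow_succ', MulAut.mul_apply, ih, map_mul, map_zpow, h1, h2, mul_assoc, ← zpow_add]
      congr 2
      push_cast
      ring
  obtain ⟨a, s, hs, hord⟩ := Nat.exists_eq_pow_mul_and_not_dvd (n := orderOf e)
    (orderOf_pos e).ne' p hp.out.ne_one
  have h3 := zS_fix_of_pow hS hF (Subgroup.pow_mem _ he s) (k := a)
    (by rw [← pow_mul, mul_comm, ← hord, pow_orderOf_eq_one]) xs hx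
  rw [hn, mul_eq_left] at h3
  have hd : (p : ℤ) ∣ i * s := by
    rw [← orderOf_eq_prime (show zs ^ p = 1 from Subtype.ext hq.zp) fun h => hq.z1 (congrArg Subtype.val h)]
    exact orderOf_dvd_iff_zpow_eq_one.mpr h3
  have hpi : (p : ℤ) ∣ i := ((Nat.prime_iff_prime_int.mp hp.out).dvd_or_dvd hd).resolve_right fun h =>
    hs (by exact_mod_cast h)
  have hzi : z ^ i = 1 := by rw [hq.pow_congr (f := 0) (by simpa using hpi.neg_right), zpow_zero]
  rw [hzi] at hi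
  exact (inv_mul_eq_one.mp hi.symm).symm

/-- An automorphism of `S` inverting `z` and trivial on `Z/⟨z⟩`. -/
structure Refl (F : FusionSystem S) (z : Ω) (g : Ω → Ω) : Prop where
  iso : Iso F g S S
  inv : g z = z⁻¹
  step : ∀ x ∈ zS S, x⁻¹ * g x ∈ Subgroup.zpowers z

theorem Refl.comp_fix [Finite S] (hS : IsPGroup p S) (hF : F.IsSaturated p) {σ τ : Ω → Ω}
    (hσ : Refl F z σ) (hτ : Refl F z τ) {x : Ω} (hx : x ∈ zS S) : τ (σ x) = x := by
  refine step_fix hq hS hF (hσ.iso.comp hτ.iso) ?_ ?_ hx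
  · show τ (σ z) = z
    rw [hσ.inv, hτ.iso.mor.map_inv hq.zZ.1, hτ.inv, inv_inv]
  · intro w hw
    obtain ⟨i, hi⟩ := Subgroup.mem_zpowers_iff.mp (hσ.step w hw)
    have hzi : z ^ i ∈ S := S.zpow_mem hq.zZ.1 i
    have e : σ w = w * z ^ i := by rw [hi, mul_inv_cancel_left]
    show w⁻¹ * τ (σ w) ∈ _
    rw [e, hτ.iso.mor.map_mul hw.1 hzi]
    have h1 : τ (z ^ i) ∈ Subgroup.zpowers z := by
      have h2 := hτ.step (z ^ i) (zpow_mem hq.zZ i)
      have := mul_mem (zpow_mem (Subgroup.mem_zpowers z) i) h2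
      rwa [mul_inv_cancel_left] at this
    rw [← mul_assoc]
    exact mul_mem (hτ.step w hw) h1

theorem Refl.agree [Finite S] (hS : IsPGroup p S) (hF : F.IsSaturated p) {σ τ : Ω → Ω}
    (hσ : Refl F z σ) (hτ : Refl F z τ) {w : Ω} (hw : w ∈ zS S) : τ w = σ w := by
  conv_lhs => rw [← hσ.comp_fix hq hS hF hσ hw]
  exact hσ.comp_fix hq hS hF hτ (map_zS hq hσ.iso hw)

variable (hG : Good F z R α)
include hG

/-- A good pair gives a reflection whose fixed points in the centre are the complement. -/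
theorem Good.refl [Finite S] (hS : IsPGroup p S) (hF : F.IsSaturated p) (hp2 : p ≠ 2) :
    ∃ σ, Refl F z σ ∧ ∀ x ∈ zS S, (σ x = x ↔ x ∈ cC S R α) := by
  obtain ⟨t, htB, t', ht'B, c, hc, htz, hty, ht'y, ht'z, htfix, ht'fix, -⟩ := hG.transvections hq hS hF
  obtain ⟨-, hab, -⟩ := hG.data hq hS
  set zR : R := ⟨z, hG.zR hq⟩ with hzR
  set y : R := α zR with hy
  have hyp : y ^ p = 1 := by
    rw [hy, ← map_pow, show zR ^ p = 1 from Subtype.ext hq.zp, map_one]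
  have hcop : c.Coprime (orderOf y) := by
    rw [orderOf_eq_prime hyp fun e => hq.z1 (by
      have e1 : zR = 1 := α.injective (e.trans (map_one α).symm)
      exact congrArg Subtype.val e1)]
    exact ((hp.out.coprime_iff_not_dvd).mpr hc).symm
  obtain ⟨m, hm⟩ := exists_pow_eq_self_of_coprime hcop
  have ht'n : ∀ n : ℕ, (t' ^ n) zR = zR * (y ^ c) ^ n ∧ (t' ^ n) y = y := by
    intro n
    induction n with
    | zero => simp
    | succ n ih =>
      refine ⟨?_, by rw [pow_succ', MulAut.mul_apply, ih.2, ht'y]⟩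
      rw [pow_succ', MulAut.mul_apply, ih.1, map_mul, map_pow, map_pow, ht'y, ht'z, mul_assoc, ← pow_succ']
  set k := m * (p - 1) with hk
  have hT : (t' ^ k) zR = zR * y⁻¹ := by
    rw [(ht'n k).1, hk, pow_mul, hm, eq_inv_of_mul_eq_one_left (a := y ^ (p - 1)) (b := y)
      (by rw [← pow_succ, Nat.sub_add_cancel hp.out.pos, hyp])]
  let w : MulAut R := t * t' ^ k * t
  have hcomm : Commute y zR := Subtype.ext (hab _ y.2 _ zR.2).eq
  have hwz : w zR = y⁻¹ := by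
    show t ((t' ^ k) (t zR)) = y⁻¹
    rw [htz, hT, map_mul, map_inv, hty, htz, mul_inv_rev, mul_inv_cancel_left]
  have hwy : w y = zR := by
    show t ((t' ^ k) (t y)) = zR
    rw [hty, map_mul, (ht'n k).2, hT, ← mul_assoc, hcomm.eq, mul_inv_cancel_right, htz]
  have hwC : ∀ x : R, (x : Ω) ∈ cC S R α → w x = x := by
    intro x hx
    have h1 : ∀ n : ℕ, (t' ^ n) x = x := by
      intro n
      induction n with
      | zero => simp
      | succ n ih => rw [pow_succ', MulAut.mul_apply, ih, ht'fix x hx]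
    show t ((t' ^ k) (t x)) = x
    rw [htfix x (cC_le hx), h1, htfix x (cC_le hx)]
  have hβ : w * w ∈ F.autGroup R := by
    have : w ∈ F.autGroup R := mul_mem (mul_mem htB (pow_mem ht'B k)) htB
    exact mul_mem this this
  have hβz : (w * w) zR = zR⁻¹ := by rw [MulAut.mul_apply, hwz, map_inv, hwy]
  obtain ⟨σ, hσ, eσ⟩ := hG.extend hq hS hF hβ (by
    rw [show (⟨z, hG.zR hq⟩ : R) = zR from rfl, hβz]; exact inv_mem hq.zZ)
  have hσz : σ z = z⁻¹ := by rw [show σ z = _ from eσ zR, hβz]; rfl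
  have hσC : ∀ x ∈ cC S R α, σ x = x := fun x hx => by
    rw [show σ x = _ from eσ ⟨x, hG.zle (cC_le hx)⟩, MulAut.mul_apply, hwC ⟨x, hG.zle (cC_le hx)⟩ hx, hwC ⟨x, hG.zle (cC_le hx)⟩ hx]
  have hσzi : ∀ i : ℤ, σ (z ^ i) = (z ^ i)⁻¹ := fun i => by
    obtain ⟨n, hn⟩ := Subgroup.mem_zpowers_iff.mp (zpow_mem (Subgroup.mem_zpowers z) i)
    obtain ⟨j, hj⟩ := (mem_powers_iff_mem_zpowers (x := (⟨z, hq.zZ.1⟩ : S))).mpr
      (Subgroup.mem_zpowers_iff.mpr ⟨i, rfl⟩)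
    have hj' : z ^ j = z ^ i := by simpa using congrArg Subtype.val hj
    rw [← hj', hσ.mor.map_pow hq.zZ.1, hσz, inv_pow]
  refine ⟨σ, ⟨hσ, hσz, fun x hx => ?_⟩, fun x hx => ⟨fun hfix => ?_, hσC x⟩⟩
  · obtain ⟨i, d, hd, rfl⟩ := hG.split hq hS hF hx
    have hzi : z ^ i ∈ S := S.zpow_mem hq.zZ.1 i
    rw [hσ.mor.map_mul hzi (cC_le hd).1, hσzi, hσC d hd]
    have hcd : Commute (z ^ i)⁻¹ d := (cC_le hd).2 _ (inv_mem hzi)
    rw [mul_inv_rev, show d⁻¹ * (z ^ i)⁻¹ * ((z ^ i)⁻¹ * d) = d⁻¹ * ((z ^ i)⁻¹ * (z ^ i)⁻¹ * d) by group,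
      (hcd.mul_left hcd).eq, inv_mul_cancel_left]
    exact mul_mem (inv_mem (zpow_mem (Subgroup.mem_zpowers z) i)) (inv_mem (zpow_mem (Subgroup.mem_zpowers z) i))
  · obtain ⟨i, d, hd, rfl⟩ := hG.split hq hS hF hx
    have hzi : z ^ i ∈ S := S.zpow_mem hq.zZ.1 i
    rw [hσ.mor.map_mul hzi (cC_le hd).1, hσzi, hσC d hd, mul_left_inj, inv_eq_iff_mul_eq_one, ← zpow_add] at hfix
    have hpz : (p : ℤ) ∣ i + i := by
      rw [← orderOf_eq_prime hq.zp hq.z1]
      exact orderOf_dvd_iff_zpow_eq_one.mpr hfix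
    have hpi : (p : ℤ) ∣ i := by
      rw [← two_mul] at hpz
      exact ((Nat.prime_iff_prime_int.mp hp.out).dvd_or_dvd hpz).resolve_left fun h =>
        hp2 ((Nat.prime_dvd_prime_iff_eq hp.out Nat.prime_two).mp (by exact_mod_cast h))
    rwa [hq.pow_congr (f := 0) (by simpa using hpi.neg_right), zpow_zero, one_mul]

omit hG in
/-- The complement is normal in the system. -/
theorem cC_isNormal [Finite S] (hS : IsPGroup p S) (hF : F.IsSaturated p) (hp2 : p ≠ 2)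
    {R₀ : Subgroup Ω} {α₀ : MulAut R₀} (h₀ : Good F z R₀ α₀) : F.IsNormal (cC S R₀ α₀) := by
  obtain ⟨σ, hσ, hfix⟩ := h₀.refl hq hS hF hp2
  have hsame : ∀ (R : Subgroup Ω) (α : MulAut R), Good F z R α → ∀ x, x ∈ cC S R α ↔ x ∈ cC S R₀ α₀ := by
    intro R α hG x
    obtain ⟨τ, hτ, hfix'⟩ := hG.refl hq hS hF hp2
    constructor <;> intro hx
    · exact (hfix x (cC_le hx)).mp ((hσ.agree hq hS hF hτ (cC_le hx)).symm.trans ((hfix' x (cC_le hx)).mpr hx))
    · exact (hfix' x (cC_le hx)).mp ((hσ.agree hq hS hF hτ (cC_le hx)).trans ((hfix x (cC_le hx)).mpr hx))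
  have hnab := nonab hq h₀.ne h₀.le h₀.zle
  -- invariance under `Aut_F(S)`
  have hinvS : ∀ g, Iso F g S S → ∀ x ∈ cC S R₀ α₀, g x ∈ cC S R₀ α₀ := by
    intro g hg x hx
    obtain ⟨h, hh, hhg, hgh⟩ := hg.exists_symm
    have hxZ := cC_le hx
    have hgx := map_zS hq hg hxZ
    refine (hfix _ hgx).mp ?_
    have hσ' : Refl F z (h ∘ σ ∘ g) := by
      refine ⟨(hg.comp hσ.iso).comp hh, ?_, fun w hw => ?_⟩
      · show h (σ (g z)) = z⁻¹
        obtain ⟨i, hi⟩ := Subgroup.mem_zpowers_iff.mp (map_z_mem hq hg hnab)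
        have hstep : σ (g z) = (g z)⁻¹ := by
          obtain ⟨j, hj⟩ := (mem_powers_iff_mem_zpowers (x := (⟨z, hq.zZ.1⟩ : S))).mpr
            (Subgroup.mem_zpowers_iff.mpr ⟨i, rfl⟩)
          have hj' : z ^ j = g z := by simpa [hi] using congrArg Subtype.val hj
          rw [← hj', hσ.iso.mor.map_pow hq.zZ.1, hσ.inv, inv_pow]
        rw [hstep, hh.mor.map_inv (hg.mapsTo hq.zZ.1), hhg z hq.zZ.1]
      · have hgw := map_zS hq hg hw
        obtain ⟨i, hi⟩ := Subgroup.mem_zpowers_iff.mp (hσ.step _ hgw)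
        have e1 : σ (g w) = g w * z ^ i := by rw [hi, mul_inv_cancel_left]
        show w⁻¹ * h (σ (g w)) ∈ _
        rw [e1, hh.mor.map_mul hgw.1 (S.zpow_mem hq.zZ.1 i), hhg w hw.1, inv_mul_cancel_left]
        obtain ⟨j, hj⟩ := (mem_powers_iff_mem_zpowers (x := (⟨z, hq.zZ.1⟩ : S))).mpr
          (Subgroup.mem_zpowers_iff.mpr ⟨i, rfl⟩)
        have hj' : z ^ j = z ^ i := by simpa using congrArg Subtype.val hj
        rw [← hj', hh.mor.map_pow hq.zZ.1]
        exact pow_mem (map_z_mem hq hh hnab) j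
    have h1 : h (σ (g x)) = x := (hσ.agree hq hS hF hσ' hxZ).trans ((hfix x hxZ).mpr hx)
    have h2 := congrArg g h1
    rwa [hgh _ (hσ.iso.mapsTo hgx.1)] at h2
  have hQ : cC S R₀ α₀ ≤ S := cC_le.trans zS_le
  refine isNormal_of_stronglyClosed hS hF (stronglyClosed_of_gen hS hF hQ ?_) fun P hP x hx =>
    hP.1.2 P (isConj_refl hP.1.1) ⟨(cC_le hx).1, fun u hu => (cC_le hx).2 u (hP.1.1 hu)⟩
  rintro P (rfl | hP) f hf x hxP hx
  · exact hinvS f hf x hx
  obtain ⟨α, hG⟩ := exists_good hq hS hF hP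
  have hβ : (hf.equiv : MulAut P) ∈ F.autGroup P := hf.equiv_mem_autGroup
  by_cases hm : ((hf.equiv ⟨z, hG.zR hq⟩ : P) : Ω) ∈ zS S
  · obtain ⟨g, hg, eg⟩ := hG.extend hq hS hF hβ hm
    have h1 := hinvS g hg x hx
    rwa [show g x = f x from eg ⟨x, hxP⟩] at h1
  · have hG' : Good F z P hf.equiv := ⟨hG.le, hG.ne, hG.zle, hβ, fun _ => hm⟩
    have hx' := (hsame P _ (hG'.symm hq hS hF) x).mpr hx
    obtain ⟨hxZ, d, hd, hdx⟩ := mem_cC.mp hx'
    refine (hsame P _ hG' (f x)).mp (mem_cC.mpr ⟨?_, ⟨x, hxP⟩, hxZ, rfl⟩)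
    have e : (hf.equiv : MulAut P) ⟨x, hxP⟩ = d := by
      rw [show (⟨x, hxP⟩ : P) = (hf.equiv : MulAut P)⁻¹ d from Subtype.ext hdx.symm]
      exact MulAut.apply_inv_self _ _ _
    rw [show f x = (((hf.equiv : MulAut P) ⟨x, hxP⟩ : P) : Ω) from rfl, e]
    exact hd

end Cfsg.Agent.Fusion.CenterSq
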