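/-
Centre of index `4`, `p = 2`.
-/
import Cfsg.Agent.Fusion.SmallCenterOdd
set_option autoImplicit false

namespace Cfsg.Agent.Fusion.CenterSq

open Cfsg Cfsg.FusionSystem

variable {Ω : Type*} [Group Ω] {S : Subgroup Ω} {F : FusionSystem S} {z : Ω} {R : Subgroup Ω} {α : MulAut R}

theorem zpow_two_cases {G : Type*} [Group G] {u : G} (hu : u ^ 2 = 1) (i : ℤ) : u ^ i = 1 ∨ u ^ i = u := by
  have hu' : u ^ (2 : ℤ) = 1 := by exact_mod_cast hu
  rcases Int.even_or_odd i with ⟨k, rfl⟩ | ⟨k, rfl⟩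
  · left; rw [← two_mul, zpow_mul, hu', one_zpow]
  · right; rw [zpow_add, zpow_mul, hu', one_zpow, one_mul, zpow_one]

variable (hq : Sq 2 S z)
include hq

theorem Sq.zpowers_two {x : Ω} (hx : x ∈ Subgroup.zpowers z) : x = 1 ∨ x = z := by
  obtain ⟨i, rfl⟩ := Subgroup.mem_zpowers_iff.mp hx
  exact zpow_two_cases hq.zp i

theorem Sq.mul_self : z * z = 1 := by rw [← sq, hq.zp]

theorem map_z_two [Finite S] {g : Ω → Ω} (hg : Iso F g S S) (hnab : ∃ u ∈ S, ∃ v ∈ S, ¬ Commute u v) :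
    g z = z := by
  rcases hq.zpowers_two (map_z_mem hq hg hnab) with h | h
  · exact absurd (hg.mor.injOn hq.zZ.1 S.one_mem (h.trans hg.mor.map_one.symm)) hq.z1
  · exact h

variable (hG : Good F z R α)
include hG

theorem Good.ySq : (α ⟨z, hG.zR hq⟩ : R) ^ 2 = 1 := by
  rw [← map_pow, show (⟨z, hG.zR hq⟩ : R) ^ 2 = 1 from Subtype.ext hq.zp, map_one]

theorem Good.cases [Finite S] (hS : IsPGroup 2 S) {x : Ω} (hx : x ∈ R) :
    x ∈ zS S ∨ x * ((α ⟨z, hG.zR hq⟩ : R) : Ω) ∈ zS S := by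
  obtain ⟨-, -, s, -, -, -, hspan, -⟩ := hG.data hq hS
  obtain ⟨i, c, hc, rfl⟩ := hspan x hx
  have hy : ((α ⟨z, hG.zR hq⟩ : R) : Ω) ^ 2 = 1 := by
    have := congrArg Subtype.val (hG.ySq hq)
    simpa using this
  rcases zpow_two_cases hy i with h | h <;> rw [h]
  · exact Or.inl (by rwa [one_mul])
  · right
    rw [mul_assoc, ← show ((α ⟨z, hG.zR hq⟩ : R) : Ω) * c = c * _ from hc.2 _ (hG.le (α _).2), ← mul_assoc,
      ← sq, hy, one_mul]
    exact hc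

theorem Good.mem_iff_mul [Finite S] (hS : IsPGroup 2 S) {a b : Ω} (ha : a ∈ S) (hb : b ∈ S) :
    a * b ∈ R ↔ (a ∈ R ↔ b ∈ R) := by
  haveI := finite_of_le hG.le
  obtain ⟨hc, -⟩ := hG.data hq hS
  have hidx : (R.subgroupOf S).index = 2 := by
    have h1 := (R.subgroupOf S).card_mul_index
    rw [Nat.card_congr (Subgroup.subgroupOfEquivOfLe hG.le).toEquiv, hc, mul_comm 2] at h1
    exact Nat.eq_of_mul_eq_mul_left Nat.card_pos h1
  exact Subgroup.mul_mem_iff_of_index_two hidx (a := (⟨a, ha⟩ : S)) (b := ⟨b, hb⟩)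

theorem Good.eq_of_mem [Finite S] (hS : IsPGroup 2 S) {R' : Subgroup Ω} {α' : MulAut R'}
    (hG' : Good F z R' α') (h : ((α' ⟨z, hG'.zR hq⟩ : R') : Ω) ∈ R) : R' = R := by
  haveI := finite_of_le hG.le
  obtain ⟨hc, -⟩ := hG.data hq hS
  obtain ⟨hc', -, s, -, -, -, hspan, -⟩ := hG'.data hq hS
  refine eq_of_le_of_card (fun x hx => ?_) ?_
  · obtain ⟨i, c, hcz, rfl⟩ := hspan x hx
    exact R.mul_mem (R.zpow_mem h i) (hG.zle hcz)
  · have := hc.symm.trans hc'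
    omega

/-- The complement has index `2` in the centre. -/
theorem Good.split_two [Finite S] (hS : IsPGroup 2 S) (hF : F.IsSaturated 2) {x : Ω} (hx : x ∈ zS S) :
    x ∈ cC S R α ∨ x * z ∈ cC S R α := by
  obtain ⟨i, c, hc, rfl⟩ := hG.split hq hS hF hx
  rcases zpow_two_cases hq.zp i with h | h <;> rw [h]
  · exact Or.inl (by rwa [one_mul])
  · right
    rwa [mul_assoc, ← show z * c = c * z from (cC_le hc).2 z hq.zZ.1, ← mul_assoc, hq.mul_self, one_mul]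

theorem Good.cC_le_of [Finite S] (hS : IsPGroup 2 S) (hF : F.IsSaturated 2) {γ : MulAut R} (hγ : Good F z R γ) :
    (∀ x ∈ cC S R α, x ∈ cC S R γ) ∧
      (γ ⟨z, hG.zR hq⟩ = α ⟨z, hG.zR hq⟩ ∨ γ ⟨z, hG.zR hq⟩ = α ⟨z, hG.zR hq⟩ * ⟨z, hG.zR hq⟩) := by
  obtain ⟨t, htB, -, -, -, -, htz, hty, -, -, htfix, -⟩ := hG.transvections hq hS hF
  have hnab := nonab hq hG.ne hG.le hG.zle
  set zR : R := ⟨z, hG.zR hq⟩
  set y : R := α zR with hy
  have key : ∀ δ : MulAut R, δ ∈ F.autGroup R → ((γ⁻¹ (δ zR) : R) : Ω) ∈ zS S →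
      (∀ c : R, (c : Ω) ∈ zS S → ((α c : R) : Ω) ∈ zS S → δ c = α c) →
      (∀ x ∈ cC S R α, x ∈ cC S R γ) ∧ γ zR = δ zR := by
    intro δ hδ hδz hagree
    obtain ⟨g, hg, eg⟩ := hG.extend hq hS hF (mul_mem (inv_mem hγ.mem) hδ) hδz
    refine ⟨fun x hx => ?_, ?_⟩
    · obtain ⟨hxZ, c, hc, hcx⟩ := mem_cC.mp hx
      refine mem_cC.mpr ⟨hxZ, (γ⁻¹ * δ) c, ?_, ?_⟩
      · rw [← eg]; exact map_zS hq hg hc
      · rw [MulAut.mul_apply, MulAut.apply_inv_self, hagree c hc (hcx.symm ▸ hxZ)]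
        exact hcx
    · have h1 : (γ⁻¹ * δ) zR = zR := Subtype.ext ((eg zR).symm.trans (map_z_two hq hg hnab))
      calc γ zR = γ ((γ⁻¹ * δ) zR) := by rw [h1]
        _ = δ zR := by rw [MulAut.mul_apply, MulAut.apply_inv_self]
  rcases (hγ.symm hq hS hF).cases hq hS (γ⁻¹ y).2 with h | h
  · obtain ⟨h1, h2⟩ := key α hG.mem h fun _ _ _ => rfl
    exact ⟨h1, Or.inl h2⟩
  · obtain ⟨h1, h2⟩ := key (t * α) (mul_mem htB hG.mem) (by
      rw [MulAut.mul_apply, show t (α zR) = y * zR from hty, map_mul]; exact h)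
      fun c _ hαc => htfix _ hαc
    exact ⟨h1, Or.inr (h2.trans hty)⟩

theorem Good.cC_eq [Finite S] (hS : IsPGroup 2 S) (hF : F.IsSaturated 2) {γ : MulAut R} (hγ : Good F z R γ) :
    cC S R α = cC S R γ :=
  le_antisymm (hG.cC_le_of hq hS hF hγ).1 (hγ.cC_le_of hq hS hF hG).1

/-- How `Aut_F(R)` acts on `z` and on the complement. -/
theorem Good.action [Finite S] (hS : IsPGroup 2 S) (hF : F.IsSaturated 2) {β : MulAut R}
    (hβ : β ∈ F.autGroup R) :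
    (β ⟨z, hG.zR hq⟩ = ⟨z, hG.zR hq⟩ ∨ β ⟨z, hG.zR hq⟩ = α ⟨z, hG.zR hq⟩ ∨
      β ⟨z, hG.zR hq⟩ = α ⟨z, hG.zR hq⟩ * ⟨z, hG.zR hq⟩) ∧
    ∃ g, Iso F g S S ∧ ∀ x : R, (x : Ω) ∈ cC S R α →
      ((β x : R) : Ω) ∈ cC S R α ∧ g x = ((β x : R) : Ω) := by
  have hnab := nonab hq hG.ne hG.le hG.zle
  set zR : R := ⟨z, hG.zR hq⟩ with hzR
  by_cases hm : ((β zR : R) : Ω) ∈ zS S
  · obtain ⟨g, hg, eg⟩ := hG.extend hq hS hF hβ hm
    have h1 : β zR = zR := Subtype.ext ((eg zR).symm.trans (map_z_two hq hg hnab))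
    refine ⟨Or.inl h1, g, hg, fun x hx => ?_⟩
    have h1' : β⁻¹ zR = zR := by conv_lhs => rw [← h1, MulAut.inv_apply_self]
    have hγ : Good F z R (β * α * β⁻¹) :=
      ⟨hG.le, hG.ne, hG.zle, mul_mem (mul_mem hβ hG.mem) (inv_mem hβ), fun _ hh => by
        have e1 : (β * α * β⁻¹) zR = β (α zR) := by rw [MulAut.mul_apply, MulAut.mul_apply, h1']
        rw [e1, ← eg] at hh
        obtain ⟨h, hh', hhg, -⟩ := hg.exists_symm
        exact hG.moves _ (hhg _ (hG.le (α zR).2) ▸ map_zS hq hh' hh)⟩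
    obtain ⟨hxZ, c, hc, hcx⟩ := mem_cC.mp hx
    refine ⟨(hG.cC_eq hq hS hF hγ) ▸ mem_cC.mpr ⟨?_, β c, ?_, ?_⟩, eg x⟩
    · rw [← eg]; exact map_zS hq hg hxZ
    · rw [← eg]; exact map_zS hq hg hc
    · rw [MulAut.mul_apply, MulAut.mul_apply, MulAut.inv_apply_self, show α c = x from Subtype.ext hcx]
  · have hγ : Good F z R β := ⟨hG.le, hG.ne, hG.zle, hβ, fun _ => hm⟩
    obtain ⟨-, hcases⟩ := hG.cC_le_of hq hS hF hγ
    refine ⟨Or.inr hcases, ?_⟩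
    have hmem : ∀ x : R, (x : Ω) ∈ cC S R α → ((β x : R) : Ω) ∈ cC S R α := by
      intro x hx
      rw [hG.cC_eq hq hS hF (hγ.symm hq hS hF)] at hx
      obtain ⟨hxZ, c, hc, hcx⟩ := mem_cC.mp hx
      have e : β x = c := by rw [show x = β⁻¹ c from Subtype.ext hcx.symm, MulAut.apply_inv_self]
      rw [e, hG.cC_eq hq hS hF hγ]
      exact mem_cC.mpr ⟨hc, x, hxZ, congrArg Subtype.val e⟩
    obtain ⟨t, htB, t', ht'B, c, hc, htz, hty, ht'y, ht'z, htfix, ht'fix, -⟩ := hG.transvections hq hS hF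
    obtain ⟨-, hab, -⟩ := hG.data hq hS
    have hyc : (α zR) ^ c = α zR := by
      obtain ⟨m, rfl⟩ : Odd c := by rw [Nat.odd_iff]; omega
      rw [pow_succ, pow_mul, hG.ySq hq, one_pow, one_mul]
    have h2 : (t * t') zR = α zR := by
      rw [MulAut.mul_apply, ht'z, hyc, map_mul, htz, hty, ← mul_assoc,
        show zR * α zR = α zR * zR from Subtype.ext (hab _ zR.2 _ (α zR).2).eq, mul_assoc,
        show zR * zR = 1 from Subtype.ext hq.mul_self, mul_one]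
    have main : ∀ δ ∈ F.autGroup R, δ zR = β zR → (∀ x : R, (x : Ω) ∈ cC S R α → δ x = x) →
        ∃ g, Iso F g S S ∧ ∀ x : R, (x : Ω) ∈ cC S R α →
          ((β x : R) : Ω) ∈ cC S R α ∧ g x = ((β x : R) : Ω) := by
      intro δ hδ hδz hfix
      have hz' : (δ⁻¹ * β) zR = zR := by rw [MulAut.mul_apply, ← hδz, MulAut.inv_apply_self]
      obtain ⟨g, hg, eg⟩ := hG.extend hq hS hF (mul_mem (inv_mem hδ) hβ) (by
        rw [show (δ⁻¹ * β) zR = zR from hz']; exact hq.zZ)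
      refine ⟨g, hg, fun x hx => ⟨hmem x hx, ?_⟩⟩
      rw [eg, MulAut.mul_apply]
      conv_lhs => rw [← hfix _ (hmem x hx), MulAut.inv_apply_self]
    rcases hcases with h | h
    · exact main (t * t') (mul_mem htB ht'B) (by rw [h2, h]) fun x hx => by
        rw [MulAut.mul_apply, ht'fix x hx, htfix x (cC_le hx)]
    · exact main (t * (t * t')) (mul_mem htB (mul_mem htB ht'B)) (by
        rw [MulAut.mul_apply, h2, hty, h]) fun x hx => by
        rw [MulAut.mul_apply, MulAut.mul_apply, ht'fix x hx, htfix x (cC_le hx), htfix x (cC_le hx)]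

/-- Good pairs are carried to good pairs. -/
theorem Good.transport [Finite S] {g : Ω → Ω} (hg : Iso F g S S) :
    ∃ R', ∃ hi : Iso F g R R', ∃ hG' : Good F z R' (hi.transport α),
      (∀ x ∈ zS S, g x ∈ cC S R' (hi.transport α) ↔ x ∈ cC S R α) ∧
      ((hi.transport α ⟨z, hG'.zR hq⟩ : R') : Ω) = g ((α ⟨z, hG.zR hq⟩ : R) : Ω) := by
  have hnab := nonab hq hG.ne hG.le hG.zle
  have hgz := map_z_two hq hg hnab
  obtain ⟨h, hh, hhg, hgh⟩ := hg.exists_symm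
  have hi : Iso F g R (hg.mor.restrict hG.le).img := hg.restrict hG.le
  set R' := (hg.mor.restrict hG.le).img
  have hzR' : z ∈ R' := hgz ▸ hi.mapsTo (hG.zR hq)
  have hzle : zS S ≤ R' := fun x hx => by
    rw [← hgh x hx.1]; exact hi.mapsTo (hG.zle (map_zS hq hh hx))
  have hval : ∀ hz : z ∈ R', ((hi.transport α ⟨z, hz⟩ : R') : Ω) = g ((α ⟨z, hG.zR hq⟩ : R) : Ω) := fun hz => by
    rw [← hi.transport_val α (hG.zR hq)]
    simp only [hgz]
  have hG' : Good F z R' (hi.transport α) := by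
    refine ⟨hi.cod_le, fun e => ?_, hzle, hi.transport_mem hG.mem, fun hz hm => ?_⟩
    · haveI := finite_of_le hG.le
      refine hG.ne (eq_of_le_of_card hG.le ?_)
      rw [hi.card_eq, e]
    · rw [hval] at hm
      exact hG.moves _ (hhg _ (hG.le (α _).2) ▸ map_zS hq hh hm)
  refine ⟨R', hi, hG', fun x hx => ⟨fun hm => ?_, fun hm => ?_⟩, hval _⟩
  · obtain ⟨-, c, hc, hcx⟩ := mem_cC.mp hm
    obtain ⟨c₀, hc₀, hgc⟩ := hi.surj c.2
    have hc0Z : c₀ ∈ zS S := by rw [← hhg c₀ (hG.le hc₀), hgc]; exact map_zS hq hh hc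
    refine mem_cC.mpr ⟨hx, ⟨c₀, hc₀⟩, hc0Z, hg.mor.injOn (hG.le (α _).2) hx.1 ?_⟩
    rw [← hcx, ← hi.transport_val α hc₀]
    congr 3
  · obtain ⟨-, c, hc, hcx⟩ := mem_cC.mp hm
    refine mem_cC.mpr ⟨map_zS hq hg hx, ⟨g c, hi.mapsTo c.2⟩, map_zS hq hg hc, ?_⟩
    rw [hi.transport_val α c.2, hcx]

end Cfsg.Agent.Fusion.CenterSq
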