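/-
Centre of index `4`: the centre has order `2`.
-/
import Cfsg.Agent.Fusion.SmallCenterTwo
import Cfsg.Agent.Fusion.HypFocal
set_option autoImplicit false

namespace Cfsg.Agent.Fusion.CenterSq

open Cfsg Cfsg.FusionSystem

variable {Ω : Type*} [Group Ω] {S : Subgroup Ω} {F : FusionSystem S} {z : Ω}

/-- The intersection of all complements. -/
def kK (F : FusionSystem S) (z : Ω) : Subgroup Ω where
  carrier := {x | x ∈ zS S ∧ ∀ (R : Subgroup Ω) (α : MulAut R), Good F z R α → x ∈ cC S R α}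
  one_mem' := ⟨one_mem _, fun _ _ _ => one_mem _⟩
  mul_mem' := fun ha hb => ⟨mul_mem ha.1 hb.1, fun R α hG => mul_mem (ha.2 R α hG) (hb.2 R α hG)⟩
  inv_mem' := fun ha => ⟨inv_mem ha.1, fun R α hG => inv_mem (ha.2 R α hG)⟩

theorem mem_kK {x : Ω} :
    x ∈ kK F z ↔ x ∈ zS S ∧ ∀ (R : Subgroup Ω) (α : MulAut R), Good F z R α → x ∈ cC S R α := Iff.rfl

/-- The fourth power of an automorphism of this shape fixes `y`. -/
theorem fourth_fix {G : Type*} [Group G] (e : MulAut G) {c u y : G} (hu : ∀ w, Commute u w)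
    (hc : ∀ w, Commute c w) (hu2 : u * u = 1) (hc2 : c * c = 1) (heu : e u = u)
    (hec : e c = c ∨ e c = c * u) {k i : ℕ} (hy : e y = c ^ k * u ^ i * y) : ((e * e) * (e * e)) y = y := by
  have h2 : ∃ j : ℕ, (e * e) y = u ^ j * y := by
    have e1 : (e * e) y = e c ^ k * u ^ i * (c ^ k * u ^ i * y) := by
      rw [MulAut.mul_apply, hy, map_mul, map_mul, map_pow, map_pow, heu, hy]
    have hsw : ∀ w : G, ∀ n : ℕ, u ^ n * w = w * u ^ n := fun w n => ((hu w).pow_left n).eq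
    rcases hec with h | h <;> rw [h] at e1
    · refine ⟨0, ?_⟩
      calc (e * e) y = c ^ k * (u ^ i * c ^ k) * u ^ i * y := by rw [e1]; group
        _ = (c * c) ^ k * (u * u) ^ i * y := by
          rw [hsw, (Commute.refl c).mul_pow, (Commute.refl u).mul_pow]; group
        _ = _ := by rw [hc2, hu2, one_pow, one_pow, one_mul, pow_zero]
    · refine ⟨k, ?_⟩
      rw [(hc u).mul_pow] at e1
      calc (e * e) y = c ^ k * (u ^ (k + i) * c ^ k) * u ^ i * y := by rw [e1, pow_add]; group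
        _ = (c * c) ^ k * u ^ k * (u * u) ^ i * y := by
          rw [hsw, pow_add, (Commute.refl c).mul_pow, (Commute.refl u).mul_pow]; group
        _ = _ := by rw [hc2, hu2, one_pow, one_pow, one_mul, mul_one]
  obtain ⟨j, hj⟩ := h2
  rw [MulAut.mul_apply, hj, map_mul, map_pow, show (e * e) u = u by rw [MulAut.mul_apply, heu, heu],
    hj, ← mul_assoc, ← (Commute.refl u).mul_pow, hu2, one_pow, one_mul]

variable (hq : Sq 2 S z)
include hq

theorem kK_isNormal [Finite S] (hS : IsPGroup 2 S) (hF : F.IsSaturated 2) : F.IsNormal (kK F z) := by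
  have hQ : kK F z ≤ S := fun x hx => hx.1.1
  have hinvS : ∀ g, Iso F g S S → ∀ x ∈ kK F z, g x ∈ kK F z := by
    intro g hg x hx
    obtain ⟨hxZ, hxK⟩ := mem_kK.mp hx
    have hgx := map_zS hq hg hxZ
    refine mem_kK.mpr ⟨hgx, fun R α hG => ?_⟩
    obtain ⟨h, hh, hhg, -⟩ := hg.exists_symm
    obtain ⟨R', hi, hG', hiff, -⟩ := hG.transport hq hh
    refine (hiff _ hgx).mp ?_
    rw [hhg x hxZ.1]
    exact hxK R' _ hG'
  refine isNormal_of_stronglyClosed hS hF (stronglyClosed_of_gen hS hF hQ ?_) fun P hP x hx =>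
    hP.1.2 P (isConj_refl hP.1.1) ⟨hx.1.1, fun u hu => hx.1.2 u (hP.1.1 hu)⟩
  rintro P (rfl | hP) f hf x hxP hx
  · exact hinvS f hf x hx
  obtain ⟨α, hG⟩ := exists_good hq hS hF hP
  obtain ⟨-, g, hg, hact⟩ := hG.action hq hS hF hf.equiv_mem_autGroup
  have h1 := (hact ⟨x, hxP⟩ ((mem_kK.mp hx).2 P α hG)).2
  rw [show f x = g x from h1.symm]
  exact hinvS g hg x hx

variable {R₁ R₂ : Subgroup Ω} {α₁ : MulAut R₁} {α₂ : MulAut R₂}

/-- There are at most two abelian subgroups carrying good pairs. -/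
theorem at_most_two [Finite S] (hS : IsPGroup 2 S) (hF : F.IsSaturated 2) (h₁ : Good F z R₁ α₁)
    (h₂ : Good F z R₂ α₂) (hne : R₂ ≠ R₁) {R : Subgroup Ω} {α : MulAut R} (hG : Good F z R α) :
    R = R₁ ∨ R = R₂ := by
  by_contra hno
  push_neg at hno
  set y₁ : Ω := ((α₁ ⟨z, h₁.zR hq⟩ : R₁) : Ω) with hy₁
  set y₂ : Ω := ((α₂ ⟨z, h₂.zR hq⟩ : R₂) : Ω) with hy₂
  set y₃ : Ω := ((α ⟨z, hG.zR hq⟩ : R) : Ω) with hy₃
  have hy₂S : y₂ ∈ S := h₂.le (α₂ _).2
  have hy₃S : y₃ ∈ S := hG.le (α _).2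
  have hy₁S : y₁ ∈ S := h₁.le (α₁ _).2
  have hn₂ : y₂ ∉ R₁ := fun h => hne (h₁.eq_of_mem hq hS h₂ h)
  have hn₃ : y₃ ∉ R₁ := fun h => hno.1 (h₁.eq_of_mem hq hS hG h)
  have hn₃' : y₃ ∉ R₂ := fun h => hno.2 (h₂.eq_of_mem hq hS hG h)
  have hsq₂ : y₂ * y₂ = 1 := by rw [← sq]; simpa using congrArg Subtype.val (h₂.ySq hq)
  have hsq₃ : y₃ * y₃ = 1 := by rw [← sq]; simpa using congrArg Subtype.val (hG.ySq hq)
  have hsq₁ : y₁ * y₁ = 1 := by rw [← sq]; simpa using congrArg Subtype.val (h₁.ySq hq)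
  have h23 : y₂ * y₃ ∈ R₁ := (h₁.mem_iff_mul hq hS hy₂S hy₃S).mpr ⟨fun h => absurd h hn₂, fun h => absurd h hn₃⟩
  rcases h₁.cases hq hS h23 with h | h
  · refine hn₃' ?_
    have := R₂.mul_mem (R₂.inv_mem (α₂ ⟨z, h₂.zR hq⟩).2) (h₂.zle h)
    rwa [← hy₂, inv_mul_cancel_left] at this
  · set c := y₂ * y₃ * y₁ with hc
    have e : y₂ * y₃ = c * y₁ := by rw [hc, mul_assoc, hsq₁, mul_one]
    have hcc : c * y₁ = y₁ * c := (h.2 y₁ hy₁S).symm
    -- `z` is a square in the centre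
    have hw : y₂ * y₃ * y₂⁻¹ * y₃⁻¹ = c * c := by
      rw [inv_eq_of_mul_eq_one_right hsq₂, inv_eq_of_mul_eq_one_right hsq₃, mul_assoc, e]
      calc c * y₁ * (c * y₁) = c * (y₁ * c) * y₁ := by group
        _ = c * (c * y₁) * y₁ := by rw [hcc]
        _ = c * c * (y₁ * y₁) := by group
        _ = c * c := by rw [hsq₁, mul_one]
    have hne1 : y₂ * y₃ * y₂⁻¹ * y₃⁻¹ ≠ 1 := fun e1 => by
      have hcomm : Commute y₂ y₃ := mul_inv_eq_iff_eq_mul.mp (mul_inv_eq_one.mp e1)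
      refine h₂.moves (h₂.zR hq) ⟨hy₂S, fun g hg => ?_⟩
      obtain ⟨-, hab, -⟩ := h₂.data hq hS
      show g * y₂ = y₂ * g
      by_cases hgR : g ∈ R₂
      · exact (hab g hgR y₂ (α₂ _).2).eq
      · have hgy : g * y₃ ∈ R₂ :=
          (h₂.mem_iff_mul hq hS hg hy₃S).mpr ⟨fun h => absurd h hgR, fun h => absurd h hn₃'⟩
        have h3 : Commute (g * y₃) y₂ := hab _ hgy y₂ (α₂ _).2
        have := h3.mul_left hcomm.symm
        rwa [mul_assoc, hsq₃, mul_one] at this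
    have hz : z = c * c := by
      rcases hq.zpowers_two (hq.comm y₂ hy₂S y₃ hy₃S) with h0 | h0
      · exact absurd h0 hne1
      · rw [← h0, hw]
    refine h₁.z_notMem hq hS hF ?_
    rcases h₁.split_two hq hS hF h with h0 | h0
    · rw [hz]; exact mul_mem h0 h0
    · rw [hz]
      have e2 : c * z * (c * z) = c * c := by
        calc c * z * (c * z) = c * (z * c) * z := by group
          _ = c * (c * z) * z := by rw [show z * c = c * z from h.2 z hq.zZ.1]
          _ = c * c * (z * z) := by group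
          _ = c * c := by rw [hq.mul_self, mul_one]
      exact e2 ▸ mul_mem h0 h0

theorem exists_two [Finite S] (hS : IsPGroup 2 S) (hF : F.IsSaturated 2) (h₁ : Good F z R₁ α₁) :
    ∃ (R₂ : Subgroup Ω) (α₂ : MulAut R₂), Good F z R₂ α₂ ∧
      ∀ (R : Subgroup Ω) (α : MulAut R), Good F z R α → R = R₁ ∨ R = R₂ := by
  by_cases h : ∃ (R₂ : Subgroup Ω) (α₂ : MulAut R₂), Good F z R₂ α₂ ∧ R₂ ≠ R₁
  · obtain ⟨R₂, α₂, h₂, hne⟩ := h
    exact ⟨R₂, α₂, h₂, fun R α hG => at_most_two hq hS hF h₁ h₂ hne hG⟩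
  · push_neg at h
    exact ⟨R₁, α₁, h₁, fun R α hG => Or.inl (h R α hG)⟩

variable (h₁ : Good F z R₁ α₁) (h₂ : Good F z R₂ α₂)
  (hall : ∀ (R : Subgroup Ω) (α : MulAut R), Good F z R α → R = R₁ ∨ R = R₂)
include h₁ h₂ hall

theorem kK_eq [Finite S] (hS : IsPGroup 2 S) (hF : F.IsSaturated 2) {x : Ω}
    (hx₁ : x ∈ cC S R₁ α₁) (hx₂ : x ∈ cC S R₂ α₂) : x ∈ kK F z := by
  refine mem_kK.mpr ⟨cC_le hx₁, fun R α hG => ?_⟩
  rcases hall R α hG with rfl | rfl
  · exact (h₁.cC_eq hq hS hF hG) ▸ hx₁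
  · exact (h₂.cC_eq hq hS hF hG) ▸ hx₂

/-- An automorphism of `S` keeps the two subgroups, or swaps them. -/
theorem aut_sq_fix [Finite S] (hS : IsPGroup 2 S) {f : Ω → Ω} (hf : Iso F f S S) :
    f (f ((α₁ ⟨z, h₁.zR hq⟩ : R₁) : Ω)) ∈ R₁ ∧ f (f ((α₂ ⟨z, h₂.zR hq⟩ : R₂) : Ω)) ∈ R₂ := by
  obtain ⟨R', hi, hG', -, hval⟩ := h₁.transport hq hf
  obtain ⟨R'', hi', hG'', -, hval'⟩ := h₂.transport hq hf
  have hy₁ : f ((α₁ ⟨z, h₁.zR hq⟩ : R₁) : Ω) ∈ R' := hi.mapsTo (α₁ _).2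
  have hy₂ : f ((α₂ ⟨z, h₂.zR hq⟩ : R₂) : Ω) ∈ R'' := hi'.mapsTo (α₂ _).2
  -- equal images have equal sources
  have hinj : R' = R'' → R₁ = R₂ := fun e => SetLike.ext fun x => ⟨fun hx => by
      obtain ⟨w, hw, hwx⟩ := hi'.surj (e ▸ hi.mapsTo hx)
      exact hf.mor.injOn (h₂.le hw) (h₁.le hx) hwx ▸ hw, fun hx => by
      obtain ⟨w, hw, hwx⟩ := hi.surj (show f x ∈ R' from e ▸ hi'.mapsTo hx)
      exact hf.mor.injOn (h₁.le hw) (h₂.le hx) hwx ▸ hw⟩
  have m₁ : ∀ w ∈ R₁, f w ∈ R' := fun w hw => hi.mapsTo hw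
  have m₂ : ∀ w ∈ R₂, f w ∈ R'' := fun w hw => hi'.mapsTo hw
  rcases hall R' _ hG' with e' | e' <;> rcases hall R'' _ hG'' with e'' | e''
  · have e := hinj (e'.trans e''.symm)
    exact ⟨e'.le (m₁ _ (e'.le hy₁)), (e''.trans e).le (m₂ _ ((e''.trans e).le hy₂))⟩
  · exact ⟨e'.le (m₁ _ (e'.le hy₁)), e''.le (m₂ _ (e''.le hy₂))⟩
  · exact ⟨e''.le (m₂ _ (e'.le hy₁)), e'.le (m₁ _ (e''.le hy₂))⟩
  · have e := hinj (e'.trans e''.symm)
    exact ⟨(e'.trans e.symm).le (m₁ _ ((e'.trans e.symm).le hy₁)), e''.le (m₂ _ (e''.le hy₂))⟩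

theorem focal_contra [Finite S] (hS : IsPGroup 2 S) (hF : F.IsSaturated 2) (hhyp : F.hyperfocalSubgroup 2 = S)
    (hK : kK F z = ⊥) : ∀ x ∈ zS S, x ∈ Subgroup.zpowers z := by
  by_contra hno
  push_neg at hno
  obtain ⟨x₀, hx₀, hx₀z⟩ := hno
  set y₁ : Ω := ((α₁ ⟨z, h₁.zR hq⟩ : R₁) : Ω) with hy₁
  set y₂ : Ω := ((α₂ ⟨z, h₂.zR hq⟩ : R₂) : Ω) with hy₂
  have hy₁S : y₁ ∈ S := h₁.le (α₁ _).2
  have hy₂S : y₂ ∈ S := h₂.le (α₂ _).2
  have hsq₁ : y₁ * y₁ = 1 := by rw [← sq]; simpa using congrArg Subtype.val (h₁.ySq hq)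
  have hsq₂ : y₂ * y₂ = 1 := by rw [← sq]; simpa using congrArg Subtype.val (h₂.ySq hq)
  -- the centre is `{1, z, c, c z}`
  obtain ⟨c, hcC, hc1⟩ : ∃ c ∈ cC S R₁ α₁, c ≠ 1 := by
    rcases h₁.split_two hq hS hF hx₀ with h | h
    · exact ⟨x₀, h, fun e => hx₀z (e ▸ one_mem _)⟩
    · exact ⟨x₀ * z, h, fun e => hx₀z ((mul_eq_one_iff_eq_inv.mp e) ▸ inv_mem (Subgroup.mem_zpowers z))⟩
  have hmem2 : ∀ d ∈ cC S R₁ α₁, d ≠ 1 → d * z ∈ cC S R₂ α₂ := fun d hd hd1 =>
    (h₂.split_two hq hS hF (cC_le hd)).resolve_left fun h => hd1 (by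
      simpa [hK] using kK_eq hq h₁ h₂ hall hS hF hd h)
  have hprod : ∀ d ∈ cC S R₁ α₁, d ≠ 1 → d * c = 1 := fun d hd hd1 => by
    have h := mul_mem (hmem2 d hd hd1) (hmem2 c hcC hc1)
    have e : d * z * (c * z) = d * c := by
      calc d * z * (c * z) = d * (z * c) * z := by group
        _ = d * (c * z) * z := by rw [show z * c = c * z from (cC_le hcC).2 z hq.zZ.1]
        _ = d * c * (z * z) := by group
        _ = d * c := by rw [hq.mul_self, mul_one]
    rw [e] at h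
    simpa [hK] using kK_eq hq h₁ h₂ hall hS hF (mul_mem hd hcC) h
  have hcc : c * c = 1 := hprod c hcC hc1
  have hC₁ : ∀ d ∈ cC S R₁ α₁, d = 1 ∨ d = c := fun d hd => or_iff_not_imp_left.mpr fun hd1 =>
    mul_right_cancel ((hprod d hd hd1).trans hcc.symm)
  have hcz : c * z = z * c := (hq.zZ).2 c (cC_le hcC).1
  have hZ : ∀ x ∈ zS S, ∃ k i : ℕ, x = c ^ k * z ^ i := fun x hx => by
    rcases h₁.split_two hq hS hF hx with h | h <;> rcases hC₁ _ h with h0 | h0
    · exact ⟨0, 0, by simp [h0]⟩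
    · exact ⟨1, 0, by simp [h0]⟩
    · refine ⟨0, 1, ?_⟩
      rw [pow_zero, one_mul, pow_one, mul_eq_one_iff_eq_inv.mp h0, inv_eq_of_mul_eq_one_right hq.mul_self]
    · refine ⟨1, 1, ?_⟩
      rw [pow_one, pow_one, ← h0, mul_assoc, hq.mul_self, mul_one]
  have hzc₁ := h₁.z_notMem hq hS hF
  have hne : R₂ ≠ R₁ := fun e => hc1 (by
    subst e
    rw [h₂.cC_eq hq hS hF h₁] at hmem2
    have := mul_mem (inv_mem hcC) (hmem2 c hcC hc1)
    rw [inv_mul_cancel_left] at this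
    exact absurd this hzc₁)
  have hy₂R₁ : y₂ ∉ R₁ := fun h => hne (h₁.eq_of_mem hq hS h₂ h)
  -- the subgroup `D`
  let D : Subgroup Ω := Subgroup.closure {z, y₁, y₂}
  have hzD : z ∈ D := Subgroup.subset_closure (by simp)
  have hy₁D : y₁ ∈ D := Subgroup.subset_closure (by simp)
  have hy₂D : y₂ ∈ D := Subgroup.subset_closure (by simp)
  have hcomD : ∀ u ∈ S, ∀ v ∈ S, u * v * u⁻¹ * v⁻¹ ∈ D := fun u hu v hv =>
    (Subgroup.zpowers_le.mpr hzD) (hq.comm u hu v hv)
  have hform : ∀ x ∈ D, ∃ a b : ℕ, ∃ w ∈ Subgroup.zpowers z, x = y₁ ^ a * y₂ ^ b * w := by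
    have hwc : ∀ w ∈ Subgroup.zpowers z, ∀ g ∈ S, g * w = w * g := fun w hw g hg => by
      obtain ⟨i, rfl⟩ := Subgroup.mem_zpowers_iff.mp hw
      exact (zpow_mem hq.zZ i).2 g hg
    have swap : ∀ a b : ℕ, ∃ w ∈ Subgroup.zpowers z, y₂ ^ b * y₁ ^ a = y₁ ^ a * y₂ ^ b * w := fun a b => by
      refine ⟨_, hq.comm _ (S.inv_mem (S.pow_mem hy₂S b)) _ (S.inv_mem (S.pow_mem hy₁S a)), ?_⟩
      group
    have hmul : ∀ x x' : Ω, (∃ a b : ℕ, ∃ w ∈ Subgroup.zpowers z, x = y₁ ^ a * y₂ ^ b * w) →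
        (∃ a b : ℕ, ∃ w ∈ Subgroup.zpowers z, x' = y₁ ^ a * y₂ ^ b * w) →
        ∃ a b : ℕ, ∃ w ∈ Subgroup.zpowers z, x * x' = y₁ ^ a * y₂ ^ b * w := by
      rintro _ _ ⟨a, b, w, hw, rfl⟩ ⟨a', b', w', hw', rfl⟩
      obtain ⟨v, hv, e⟩ := swap a' b
      refine ⟨a + a', b + b', v * w * w', mul_mem (mul_mem hv hw) hw', ?_⟩
      calc y₁ ^ a * y₂ ^ b * w * (y₁ ^ a' * y₂ ^ b' * w')
          = y₁ ^ a * y₂ ^ b * (w * (y₁ ^ a' * y₂ ^ b')) * w' := by group
        _ = y₁ ^ a * y₂ ^ b * (y₁ ^ a' * y₂ ^ b' * w) * w' := by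
          rw [hwc w hw _ (S.mul_mem (S.pow_mem hy₁S a') (S.pow_mem hy₂S b'))]
        _ = y₁ ^ a * (y₂ ^ b * y₁ ^ a') * y₂ ^ b' * w * w' := by group
        _ = y₁ ^ a * (y₁ ^ a' * y₂ ^ b) * (v * y₂ ^ b') * w * w' := by rw [e]; group
        _ = y₁ ^ a * (y₁ ^ a' * y₂ ^ b) * (y₂ ^ b' * v) * w * w' := by
          rw [hwc v hv _ (S.pow_mem hy₂S b')]
        _ = _ := by rw [pow_add, pow_add]; group
    intro x hx
    induction hx using Subgroup.closure_induction with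
    | mem v hv =>
      rcases hv with rfl | rfl | rfl
      · exact ⟨0, 0, v, Subgroup.mem_zpowers v, by simp⟩
      · exact ⟨1, 0, 1, one_mem _, by simp⟩
      · exact ⟨0, 1, 1, one_mem _, by simp⟩
    | one => exact ⟨0, 0, 1, one_mem _, by simp⟩
    | mul u v _ _ hu hv => exact hmul u v hu hv
    | inv u _ hu =>
      obtain ⟨a, b, w, hw, rfl⟩ := hu
      rw [mul_inv_rev, mul_inv_rev]
      refine hmul _ _ ⟨0, 0, w⁻¹, inv_mem hw, by simp⟩ (hmul _ _ ⟨0, b, 1, one_mem _, ?_⟩ ⟨a, 0, 1, one_mem _, ?_⟩)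
      · rw [pow_zero, one_mul, mul_one, ← inv_pow, inv_eq_of_mul_eq_one_right hsq₂]
      · rw [pow_zero, mul_one, mul_one, ← inv_pow, inv_eq_of_mul_eq_one_right hsq₁]
  have hcD : c ∉ D := by
    intro hc
    obtain ⟨a, b, w, hw, e⟩ := hform c hc
    have hpar : ∀ u : Ω, u * u = 1 → ∀ n : ℕ, u ^ n = 1 ∨ u ^ n = u := fun u hu n => by
      have := zpow_two_cases (u := u) (by rw [sq, hu]) (n : ℤ)
      simpa using this
    have hwZ : w ∈ zS S := (Subgroup.zpowers_le.mpr hq.zZ) hw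
    have e' : y₁ ^ a * y₂ ^ b = c * w⁻¹ := by rw [e, mul_inv_cancel_right]
    have hZ' : y₁ ^ a * y₂ ^ b ∈ zS S := e' ▸ mul_mem (cC_le hcC) (inv_mem hwZ)
    rcases hpar y₁ hsq₁ a with ha | ha <;> rcases hpar y₂ hsq₂ b with hb | hb <;> rw [ha, hb] at hZ' e
    · rw [one_mul, one_mul] at e
      rcases hq.zpowers_two hw with h | h
      · exact hc1 (e.trans h)
      · exact hzc₁ (h ▸ e ▸ hcC)
    · exact h₂.moves (h₂.zR hq) (by rwa [one_mul] at hZ')
    · exact h₁.moves (h₁.zR hq) (by rwa [mul_one] at hZ')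
    · refine hy₂R₁ ?_
      have := R₁.mul_mem (R₁.inv_mem (α₁ ⟨z, h₁.zR hq⟩).2) (h₁.zle hZ')
      rwa [← hy₁, inv_mul_cancel_left] at this
  -- maps of the system move elements inside `D`
  have hkey : ∀ P f, Mor F P f → ∀ x ∈ P, x⁻¹ * f x ∈ D := by
    refine alperin hS hF ⟨?_, ?_, ?_, ?_⟩ ?_
    · intro P s hP hs x hx
      have := hcomD x⁻¹ (S.inv_mem (hP hx)) s hs
      rwa [inv_inv, mul_assoc x⁻¹ s, mul_assoc x⁻¹] at this
    · intro P f g _ e h x hx
      rw [← e x hx]; exact h x hx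
    · intro P Q f g _ _ m hf hg x hx
      have := D.mul_mem (hf x hx) (hg _ (m x hx))
      rwa [mul_assoc, mul_inv_cancel_left] at this
    · intro P Q f g hf _ e h y hy
      obtain ⟨x, hx, rfl⟩ := hf.surj hy
      rw [e x hx]
      simpa using D.inv_mem (h x hx)
    · have hnab := nonab hq h₁.ne h₁.le h₁.zle
      have ess : ∀ (R : Subgroup Ω) (α : MulAut R) (hG : Good F z R α), cC S R α = cC S R₁ α₁ ∨
          cC S R α = cC S R₂ α₂ := fun R α hG => by
        rcases hall R α hG with rfl | rfl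
        exacts [Or.inl (hG.cC_eq hq hS hF h₁), Or.inr (hG.cC_eq hq hS hF h₂)]
      rintro R (rfl | hR) - - f hf x hx
      · -- `S`
        haveI := finite_mulAut (G := R)
        let e : MulAut R := hf.equiv
        have hfz : f z = z := map_z_two hq hf hnab
        let g : Ω → Ω := f ∘ f
        have hg : Iso F g R R := hf.comp hf
        have hgz : g z = z := by show f (f z) = z; rw [hfz, hfz]
        obtain ⟨hg1, hg2⟩ := aut_sq_fix hq h₁ h₂ hall hS hf
        have hgc : g c = c ∨ g c = c * z := by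
          obtain ⟨k, i, he⟩ := hZ _ (map_zS hq hg (cC_le hcC))
          have hck : c ^ k = 1 ∨ c ^ k = c := by
            simpa using zpow_two_cases (u := c) (by rw [sq, hcc]) (k : ℤ)
          have hzi : z ^ i = 1 ∨ z ^ i = z := by simpa using zpow_two_cases hq.zp (i : ℤ)
          rcases hck with h | h <;> rcases hzi with h' | h' <;> rw [h, h'] at he
          · exact absurd (hg.mor.injOn (cC_le hcC).1 R.one_mem (by rw [he, mul_one, hg.mor.map_one])) hc1
          · rw [one_mul] at he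
            exact absurd (hg.mor.injOn (cC_le hcC).1 hq.zZ.1 (he.trans hgz.symm) ▸ hcC) hzc₁
          · exact Or.inl (by rw [he, mul_one])
          · exact Or.inr he
        let zs : R := ⟨z, hq.zZ.1⟩
        let cs : R := ⟨c, (cC_le hcC).1⟩
        have hz2 : zs * zs = 1 := Subtype.ext hq.mul_self
        have hE : ∀ w, ∀ hw : w ∈ R, ((e * e) ⟨w, hw⟩ : R) = ⟨g w, hg.mapsTo hw⟩ := fun _ _ => rfl
        have he2z : (e * e) zs = zs := by rw [hE]; exact Subtype.ext hgz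
        have he4c : ((e * e) * (e * e)) cs = cs := by
          rw [MulAut.mul_apply]
          rcases hgc with h | h
          · rw [show (e * e) cs = cs from Subtype.ext h, show (e * e) cs = cs from Subtype.ext h]
          · rw [show (e * e) cs = cs * zs from Subtype.ext h, map_mul, he2z,
              show (e * e) cs = cs * zs from Subtype.ext h, mul_assoc, hz2, mul_one]
        have he4z : ((e * e) * (e * e)) zs = zs := by rw [MulAut.mul_apply, he2z, he2z]
        have hy4 : ∀ (R' : Subgroup Ω) (α' : MulAut R') (hG : Good F z R' α'),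
            g ((α' ⟨z, hG.zR hq⟩ : R') : Ω) ∈ R' →
            (((e * e) * (e * e)) * ((e * e) * (e * e))) ⟨((α' ⟨z, hG.zR hq⟩ : R') : Ω), hG.le (α' _).2⟩ =
              ⟨((α' ⟨z, hG.zR hq⟩ : R') : Ω), hG.le (α' _).2⟩ := by
          intro R' α' hG hgy
          set y : Ω := ((α' ⟨z, hG.zR hq⟩ : R') : Ω) with hy
          have hyS : y ∈ R := hG.le (α' _).2
          have hyy : y * y = 1 := by rw [← sq]; simpa using congrArg Subtype.val (hG.ySq hq)
          rcases hG.cases hq hS hgy with h | h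
          · obtain ⟨h', hh', hhg, -⟩ := hg.exists_symm
            exact absurd (hhg y hyS ▸ map_zS hq hh' h) (hG.moves _)
          obtain ⟨k, i, hki⟩ := hZ _ h
          let ys : R := ⟨y, hyS⟩
          have h1 : (e * e) ys = cs ^ k * zs ^ i * ys := Subtype.ext (by
            rw [hE]
            show g y = c ^ k * z ^ i * y
            rw [← hki, mul_assoc, hyy, mul_one])
          have hgcs : (e * e) cs = cs ∨ (e * e) cs = cs * zs :=
            hgc.imp (fun h => Subtype.ext h) fun h => Subtype.ext h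
          have hcs2 : cs * cs = 1 := Subtype.ext hcc
          have hzw : ∀ w : R, Commute zs w := fun w => Subtype.ext (hq.zZ.2 w w.2).symm
          have hcw : ∀ w : R, Commute cs w := fun w => Subtype.ext ((cC_le hcC).2 w w.2).symm
          exact fourth_fix (e * e) hzw hcw hz2 hcs2 he2z hgcs h1
        obtain ⟨E, hEdef⟩ : ∃ E, E = ((e * e) * (e * e)) * ((e * e) * (e * e)) := ⟨_, rfl⟩
        have hEz : E zs = zs := by rw [hEdef, MulAut.mul_apply, he4z, he4z]
        have hEc : E cs = cs := by rw [hEdef, MulAut.mul_apply, he4c, he4c]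
        have hy4' : ∀ y : R, (((e * e) * (e * e)) * ((e * e) * (e * e))) y = y → E y = y := fun y h => by
          rw [hEdef]; exact h
        have hEy₁ : E ⟨y₁, hy₁S⟩ = ⟨y₁, hy₁S⟩ := hy4' _ (hy4 R₁ α₁ h₁ hg1)
        have hEy₂ : E ⟨y₂, hy₂S⟩ = ⟨y₂, hy₂S⟩ := hy4' _ (hy4 R₂ α₂ h₂ hg2)
        let U : Subgroup R :=
          { carrier := {w | E w = w}
            one_mem' := map_one E
            mul_mem' := fun {u v} (hu : E u = u) (hv : E v = v) => show E (u * v) = u * v by rw [map_mul, hu, hv]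
            inv_mem' := fun {u} (hu : E u = u) => show E u⁻¹ = u⁻¹ by rw [map_inv, hu] }
        have hU : ∀ w, ∀ hw : w ∈ R, (⟨w, hw⟩ : R) ∈ U := by
          have hUZ : ∀ w, ∀ hw : w ∈ zS R, (⟨w, hw.1⟩ : R) ∈ U := by
            intro w hw
            obtain ⟨k, i, rfl⟩ := hZ w hw
            exact U.mul_mem (U.pow_mem (show cs ∈ U from hEc) k) (U.pow_mem (show zs ∈ U from hEz) i)
          have hy₁U : (⟨y₁, hy₁S⟩ : R) ∈ U := hEy₁
          have hR₁ : ∀ w, ∀ hw : w ∈ R₁, (⟨w, h₁.le hw⟩ : R) ∈ U := by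
            intro w hw
            rcases h₁.cases hq hS hw with h | h
            · exact hUZ w h
            · have h3 := U.mul_mem (hUZ _ h) (U.inv_mem hy₁U)
              convert h3 using 1
              exact Subtype.ext (mul_inv_cancel_right _ _).symm
          intro w hw
          by_cases hw₁ : w ∈ R₁
          · exact hR₁ w hw₁
          · have h3 : w * y₂ ∈ R₁ :=
              (h₁.mem_iff_mul hq hS hw hy₂S).mpr ⟨fun h => absurd h hw₁, fun h => absurd h hy₂R₁⟩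
            have h4 := U.mul_mem (hR₁ _ h3) (U.inv_mem (show (⟨y₂, hy₂S⟩ : R) ∈ U from hEy₂))
            convert h4 using 1
            exact Subtype.ext (mul_inv_cancel_right _ _).symm
        have hE1 : e ^ (2 ^ 3) = 1 := by
          have : e ^ (2 ^ 3) = E := by
            rw [hEdef, show (2 : ℕ) ^ 3 = 2 * 2 * 2 from rfl, pow_mul, pow_mul, sq, sq, sq]
          rw [this]
          exact MulEquiv.ext fun w => hU w w.2
        obtain ⟨u, hu⟩ := inner_of_pow hS hF hf.equiv_mem_autGroup hE1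
        rw [show f x = (u : Ω) * x * (u : Ω)⁻¹ from congrArg Subtype.val (hu ⟨x, hx⟩)]
        have h := hcomD x⁻¹ (R.inv_mem hx) u u.2
        rwa [inv_inv, mul_assoc x⁻¹ (u : Ω), mul_assoc x⁻¹] at h
      · -- an essential subgroup
        obtain ⟨α, hG⟩ := exists_good hq hS hF hR
        have hβ : (hf.equiv : MulAut R) ∈ F.autGroup R := hf.equiv_mem_autGroup
        have hyD : ((α ⟨z, hG.zR hq⟩ : R) : Ω) ∈ D := by
          rcases hall R α hG with rfl | rfl
          · rcases (h₁.cC_le_of hq hS hF hG).2 with h | h <;> rw [h]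
            exacts [hy₁D, D.mul_mem hy₁D hzD]
          · rcases (h₂.cC_le_of hq hS hF hG).2 with h | h <;> rw [h]
            exacts [hy₂D, D.mul_mem hy₂D hzD]
        set β : MulAut R := hf.equiv with hβdef
        set zR : R := ⟨z, hG.zR hq⟩
        have hz' : ∀ γ ∈ F.autGroup R, ((γ zR : R) : Ω) ∈ D := fun γ hγ => by
          rcases (hG.action hq hS hF hγ).1 with h | h | h <;> rw [h]
          exacts [hzD, hyD, D.mul_mem hyD hzD]
        have hzβ : ((β zR : R) : Ω) ∈ D := hz' β hβ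
        have hyβ : ((β (α zR) : R) : Ω) ∈ D := hz' (β * α) (mul_mem hβ hG.mem)
        -- `β` fixes the complement
        obtain ⟨d, hd, hd1, hZd⟩ : ∃ d ∈ cC S R α, d ≠ 1 ∧ ∀ w ∈ zS S, ∃ k i : ℕ, w = d ^ k * z ^ i := by
          rcases ess R α hG with h | h
          · exact ⟨c, h ▸ hcC, hc1, hZ⟩
          · refine ⟨c * z, h ▸ hmem2 c hcC hc1, fun e => hzc₁ ?_, fun w hw => ?_⟩
            · rw [show z = c⁻¹ from eq_inv_of_mul_eq_one_right e]; exact inv_mem hcC
            · obtain ⟨k, i, rfl⟩ := hZ w hw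
              refine ⟨k, k + i, ?_⟩
              rw [(show Commute c z from hcz).mul_pow, pow_add, mul_assoc (c ^ k), ← mul_assoc (z ^ k),
                ← (Commute.refl z).mul_pow, hq.mul_self, one_pow, one_mul]
        have hzd := hG.z_notMem hq hS hF
        have hdβ : β ⟨d, hG.zle (cC_le hd)⟩ = ⟨d, hG.zle (cC_le hd)⟩ := by
          obtain ⟨-, g, -, hact⟩ := hG.action hq hS hF hβ
          have h := (hact ⟨d, hG.zle (cC_le hd)⟩ hd).1
          obtain ⟨k, i, he⟩ := hZd _ (cC_le h)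
          have hdd : d * d = 1 := by
            obtain ⟨k, i, rfl⟩ := hZ d (cC_le hd)
            rw [← sq, (show Commute c z from hcz).pow_pow k i |>.mul_pow, ← pow_mul, ← pow_mul, mul_comm k,
              mul_comm i, pow_mul, pow_mul, sq c, hcc, hq.zp, one_pow, one_pow, one_mul]
          have hdk : d ^ k ∈ cC S R α := pow_mem hd k
          have hzi : z ^ i = 1 := by
            rcases (show z ^ i = 1 ∨ z ^ i = z by simpa using zpow_two_cases hq.zp (i : ℤ)) with h' | h'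
            · exact h'
            · exfalso
              rw [he, h'] at h
              have := mul_mem (inv_mem hdk) h
              rw [inv_mul_cancel_left] at this
              exact hzd this
          rw [hzi, mul_one] at he
          rcases (show d ^ k = 1 ∨ d ^ k = d by
            simpa using zpow_two_cases (u := d) (by rw [sq, hdd]) (k : ℤ)) with h' | h'
          · exfalso
            rw [h'] at he
            have h3 : β ⟨d, hG.zle (cC_le hd)⟩ = 1 := Subtype.ext he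
            exact hd1 (congrArg Subtype.val (β.injective (h3.trans (map_one β).symm)))
          · exact Subtype.ext (he.trans h')
        have hdec : ∀ w ∈ R, ∃ k i j : ℕ, w = d ^ k * (z ^ i * ((α zR : R) : Ω) ^ j) := by
          intro w hw
          rcases hG.cases hq hS hw with h | h
          · obtain ⟨k, i, e⟩ := hZd w h
            exact ⟨k, i, 0, by rw [pow_zero, mul_one, e]⟩
          · obtain ⟨k, i, e⟩ := hZd _ h
            refine ⟨k, i, 1, ?_⟩
            rw [pow_one, ← mul_assoc, ← e, mul_assoc, ← sq,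
              show ((α zR : R) : Ω) ^ 2 = 1 by simpa using congrArg Subtype.val (hG.ySq hq), mul_one]
        obtain ⟨k, i, j, rfl⟩ := hdec x hx
        have e : f (d ^ k * (z ^ i * ((α zR : R) : Ω) ^ j)) =
            d ^ k * (((β zR : R) : Ω) ^ i * ((β (α zR) : R) : Ω) ^ j) := by
          have : β (⟨d, hG.zle (cC_le hd)⟩ ^ k * (zR ^ i * (α zR) ^ j)) =
              ⟨d, hG.zle (cC_le hd)⟩ ^ k * ((β zR) ^ i * (β (α zR)) ^ j) := by
            rw [map_mul, map_mul, map_pow, map_pow, map_pow, hdβ]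
          have h := congrArg Subtype.val this
          simp only [Subgroup.coe_mul, SubmonoidClass.coe_pow] at h
          exact h
        rw [e, mul_inv_rev, mul_assoc, inv_mul_cancel_left]
        exact D.mul_mem (D.inv_mem (D.mul_mem (D.pow_mem hzD i) (D.pow_mem hyD j)))
          (D.mul_mem (D.pow_mem hzβ i) (D.pow_mem hyβ j))
  have hle : F.focalSubgroup ≤ D := by
    refine (Subgroup.closure_le _).mpr ?_
    rintro _ ⟨P, φ, x, hφ, rfl⟩
    rw [← extFun_coe φ x]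
    exact hkey P _ (mor_of_mem hφ) x x.2
  exact hcD (hle (hyperfocal_le_focal (hhyp.symm ▸ (cC_le hcC).1)))

end Cfsg.Agent.Fusion.CenterSq
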