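/-
Saturated systems with trivial core and full hyperfocal subgroup over a group with centre of index at most `p²`.
-/
import Cfsg.Agent.Fusion.SmallCenterTwoMain
import Cfsg.Agent.Fusion.GenExtraspecial
import Cfsg.Agent.Fusion.Abelian
import Cfsg.Agent.S0097
set_option autoImplicit false

namespace Cfsg.Agent.Fusion.CenterSq

open Cfsg Cfsg.FusionSystem
open scoped commutatorElement

variable {Ω : Type*} [Group Ω] {S : Subgroup Ω} {F : FusionSystem S} {p : ℕ} [hp : Fact p.Prime] {z : Ω}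

omit hp in
theorem mem_center_sub {x : S} : x ∈ Subgroup.center S ↔ (x : Ω) ∈ zS S :=
  ⟨fun h => ⟨x.2, fun g hg => congrArg Subtype.val (Subgroup.mem_center_iff.mp h ⟨g, hg⟩)⟩,
    fun h => Subgroup.mem_center_iff.mpr fun g => Subtype.ext (h.2 g g.2)⟩

omit hp in
theorem center_eq : Subgroup.center S = (zS S).subgroupOf S := SetLike.ext fun _ => mem_center_sub

omit hp in
theorem eq_bot_of_normal (hcore : F.core = ⊥) {Q : Subgroup Ω} (h : F.IsNormal Q) : Q = ⊥ :=
  le_bot_iff.mp (hcore ▸ le_sSup h)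

/-- The centre is a proper subgroup of index exactly `p²` and commutators are powers of one element. -/
theorem exists_sq [Finite S] (hS : IsPGroup p S) (hnab : ∃ u ∈ S, ∃ v ∈ S, ¬ Commute u v)
    (hZ : (Subgroup.center S).index ≤ p ^ 2) : ∃ z, Sq p S z := by
  obtain ⟨u, hu, v, hv, huv⟩ := hnab
  set Zc := Subgroup.center S with hZc
  let π := QuotientGroup.mk' Zc
  have hQp : IsPGroup p (S ⧸ Zc) := hS.to_quotient Zc
  obtain ⟨n, hn⟩ := IsPGroup.iff_card.mp hQp
  have hidx : Zc.index = p ^ n := hn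
  have hn2 : n ≤ 2 := (Nat.pow_le_pow_iff_right hp.out.one_lt).mp (hidx ▸ hZ)
  have hnc : ¬ IsCyclic (S ⧸ Zc) := fun hc => huv (by
    exact congrArg Subtype.val (commutative_of_cyclic_center_quotient π (by rw [QuotientGroup.ker_mk']) ⟨u, hu⟩ ⟨v, hv⟩))
  have hn2' : n = 2 := by
    rcases Nat.lt_or_ge n 2 with h | h
    · refine absurd ?_ hnc
      interval_cases n
      · rw [pow_zero] at hn
        haveI := (Nat.card_eq_one_iff_unique.mp hn).1
        exact isCyclic_of_subsingleton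
      · rw [pow_one] at hn
        exact isCyclic_of_prime_card hn
    · omega
  subst hn2'
  have habQ : ∀ a b : S ⧸ Zc, a * b = b * a := IsPGroup.commutative_of_card_eq_prime_sq hn
  have hpowQ : ∀ a : S ⧸ Zc, a ^ p = 1 := by
    intro a
    by_contra ha
    refine hnc (isCyclic_of_orderOf_eq_card a ?_)
    obtain ⟨j, hj, hja⟩ := (Nat.dvd_prime_pow hp.out).mp (hn ▸ orderOf_dvd_natCard a)
    rw [hja, hn]
    interval_cases j
    · exact absurd (by rw [orderOf_eq_one_iff.mp (hja.trans (pow_zero p)), one_pow]) ha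
    · exact absurd (by rw [← pow_orderOf_eq_one a, hja, pow_one]) ha
    · rfl
  have hcomm : ∀ a b : S, a * b * a⁻¹ * b⁻¹ ∈ Zc := fun a b => by
    rw [← QuotientGroup.eq_one_iff]
    show π (a * b * a⁻¹ * b⁻¹) = 1
    rw [map_mul, map_mul, map_mul, map_inv, map_inv, habQ (π a) (π b), mul_inv_cancel_right, mul_inv_cancel]
  -- generators
  set a : S := ⟨u, hu⟩
  set b : S := ⟨v, hv⟩
  have hab : a * b ≠ b * a := fun e => huv (congrArg Subtype.val e)
  set w : S := a * b * a⁻¹ * b⁻¹ with hw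
  have hwc : ∀ g : S, Commute g w := fun g => Subgroup.mem_center_iff.mp (hcomm a b) g
  have hgen : ∀ g : S, ∃ i j : ℕ, ∃ c ∈ Zc, g = a ^ i * b ^ j * c := by
    have hia : ∀ i : ℕ, π a ^ i = π a ^ (i % p) := fun i => by
      conv_lhs => rw [← Nat.mod_add_div i p, pow_add, pow_mul, hpowQ, one_pow, mul_one]
    let φ : Fin p × Fin p → S ⧸ Zc := fun k => π a ^ (k.1 : ℕ) * π b ^ (k.2 : ℕ)
    have hφ : Function.Injective φ := by
      intro k k' e
      simp only [φ] at e
      by_cases h2 : (k.2 : ℕ) = k'.2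
      · rw [h2, mul_left_inj] at e
        have h1 : (k.1 : ℕ) = k'.1 := by
          have hoa : orderOf (π a) = p := orderOf_eq_prime (hpowQ _) fun e1 => hab
            (Subgroup.mem_center_iff.mp ((QuotientGroup.eq_one_iff a).mp e1) b).symm
          exact pow_injOn_Iio_orderOf (by rw [Set.mem_Iio, hoa]; exact k.1.2)
            (by rw [Set.mem_Iio, hoa]; exact k'.1.2) e
        exact Prod.ext (Fin.ext h1) (Fin.ext h2)
      · exfalso
        -- a nontrivial power of `b` would commute with `a`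
        have e2 : π b ^ (k.2 : ℤ) * (π b ^ (k'.2 : ℤ))⁻¹ = (π a ^ (k.1 : ℕ))⁻¹ * π a ^ (k'.1 : ℕ) := by
          rw [zpow_natCast, zpow_natCast, eq_inv_mul_iff_mul_eq, ← mul_assoc, e, mul_inv_cancel_right]
        rw [← zpow_neg, ← zpow_add] at e2
        have hd : ¬ (p : ℤ) ∣ (k.2 : ℤ) + -(k'.2 : ℤ) := fun hd => h2 (by
          have h3 : (k.2 : ℤ) + -(k'.2 : ℤ) = 0 := Int.eq_zero_of_abs_lt_dvd hd (abs_lt.mpr ⟨by
            have := k.2.2; have := k'.2.2; omega, by have := k.2.2; have := k'.2.2; omega⟩)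
          omega)
        obtain ⟨r, q, hrq⟩ := (Nat.prime_iff_prime_int.mp hp.out).coprime_iff_not_dvd.mpr hd
        have e3 : π b = ((π a ^ (k.1 : ℕ))⁻¹ * π a ^ (k'.1 : ℕ)) ^ q := by
          rw [← e2, ← zpow_mul]
          conv_lhs => rw [← zpow_one (π b), ← hrq, zpow_add, mul_comm r, zpow_mul, zpow_natCast, hpowQ, one_zpow, one_mul]
          rw [mul_comm q]
        obtain ⟨g, hg⟩ : ∃ g, g ∈ Subgroup.zpowers a ∧ π g = π b :=
          ⟨((a ^ (k.1 : ℕ))⁻¹ * a ^ (k'.1 : ℕ)) ^ q, zpow_mem (mul_mem (inv_mem (pow_mem (Subgroup.mem_zpowers a) _))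
            (pow_mem (Subgroup.mem_zpowers a) _)) q, by rw [e3]; simp [map_zpow]⟩
        obtain ⟨hg1, hg2⟩ := hg
        obtain ⟨m, rfl⟩ := Subgroup.mem_zpowers_iff.mp hg1
        obtain ⟨c, hc, hce⟩ := (QuotientGroup.mk'_eq_mk' Zc).mp hg2
        refine hab ?_
        rw [← hce]
        exact (((Commute.refl a).zpow_right m).mul_right (Subgroup.mem_center_iff.mp hc a)).eq
    haveI : Fintype (S ⧸ Zc) := Fintype.ofFinite _
    have hsurj := ((Fintype.bijective_iff_injective_and_card φ).mpr ⟨hφ, by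
      rw [← Nat.card_eq_fintype_card, ← Nat.card_eq_fintype_card, hn, Nat.card_prod, Nat.card_fin, sq]⟩).2
    intro g
    obtain ⟨k, hk⟩ := hsurj (π g)
    refine ⟨k.1, k.2, (a ^ (k.1 : ℕ) * b ^ (k.2 : ℕ))⁻¹ * g, ?_, by group⟩
    rw [← QuotientGroup.eq_one_iff]
    show π ((a ^ (k.1 : ℕ) * b ^ (k.2 : ℕ))⁻¹ * g) = 1
    rw [map_mul, map_inv, map_mul, map_pow, map_pow, show π a ^ (k.1 : ℕ) * π b ^ (k.2 : ℕ) = π g from hk,
      inv_mul_cancel]
  -- commutators are powers of `w`
  haveI hWn : (Subgroup.zpowers w).Normal := ⟨fun x hx g => by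
    obtain ⟨i, rfl⟩ := Subgroup.mem_zpowers_iff.mp hx
    rw [((hwc g).zpow_right i).eq, mul_inv_cancel_right]
    exact zpow_mem (Subgroup.mem_zpowers w) i⟩
  let ρ := QuotientGroup.mk' (Subgroup.zpowers w)
  have hρ : Commute (ρ a) (ρ b) := by
    have h : ρ w = 1 := (QuotientGroup.eq_one_iff w).mpr (Subgroup.mem_zpowers w)
    replace h : ρ (a * b * a⁻¹ * b⁻¹) = 1 := h
    rw [map_mul, map_mul, map_mul, map_inv, map_inv] at h
    exact mul_inv_eq_iff_eq_mul.mp (mul_inv_eq_one.mp h)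
  have hcomW : ∀ g g' : S, g * g' * g⁻¹ * g'⁻¹ ∈ Subgroup.zpowers w := by
    intro g g'
    rw [← QuotientGroup.eq_one_iff]
    show ρ (g * g' * g⁻¹ * g'⁻¹) = 1
    obtain ⟨i, j, c, hc, rfl⟩ := hgen g
    obtain ⟨i', j', c', hc', rfl⟩ := hgen g'
    have hcc : ∀ t : S, Commute (ρ c) (ρ t) := fun t => (show Commute c t from (Subgroup.mem_center_iff.mp hc t).symm).map ρ
    have hcc' : ∀ t : S, Commute (ρ c') (ρ t) := fun t => (show Commute c' t from (Subgroup.mem_center_iff.mp hc' t).symm).map ρ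
    have key : Commute (ρ (a ^ i * b ^ j * c)) (ρ (a ^ i' * b ^ j' * c')) := by
      rw [map_mul ρ (a ^ i * b ^ j) c]
      refine Commute.mul_left ?_ (hcc _)
      rw [map_mul ρ (a ^ i' * b ^ j') c']
      refine Commute.mul_right ?_ (hcc' _).symm
      simp only [map_mul, map_pow]
      exact (((Commute.refl (ρ a)).pow_pow i i').mul_right (hρ.pow_pow i j')).mul_left
        ((hρ.symm.pow_pow j i').mul_right ((Commute.refl (ρ b)).pow_pow j j'))
    rw [map_mul, map_mul, map_mul, map_inv, map_inv, key.eq, mul_inv_cancel_right, mul_inv_cancel]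
  have hwp : w ^ p = 1 := by
    have hap : a ^ p ∈ Zc := (QuotientGroup.eq_one_iff _).mp (show π (a ^ p) = 1 by rw [map_pow, hpowQ])
    have h : ∀ k : ℕ, a ^ k * b * (a ^ k)⁻¹ = w ^ k * b := by
      intro k
      induction k with
      | zero => simp
      | succ k ih =>
        calc a ^ (k + 1) * b * (a ^ (k + 1))⁻¹ = a * (a ^ k * b * (a ^ k)⁻¹) * a⁻¹ := by group
          _ = (a * w ^ k) * b * a⁻¹ := by rw [ih]; group
          _ = w ^ k * (a * b * a⁻¹) := by rw [((hwc a).pow_right k).eq]; group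
          _ = w ^ k * (w * b) := by
            rw [show w * b = a * b * a⁻¹ from inv_mul_cancel_right _ _]
          _ = _ := by rw [pow_succ]; exact (mul_assoc _ _ _).symm
    have := h p
    rw [show a ^ p * b = b * a ^ p from (Subgroup.mem_center_iff.mp hap b).symm, mul_inv_cancel_right] at this
    exact mul_right_cancel ((this.symm.trans (one_mul b).symm))
  refine ⟨(w : Ω), mem_center_sub.mp (hcomm a b), fun e => hab ?_, by simpa using congrArg Subtype.val hwp, ?_, ?_⟩
  · have : w = 1 := Subtype.ext e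
    exact mul_inv_eq_iff_eq_mul.mp (mul_inv_eq_one.mp this)
  · intro u' hu' v' hv'
    obtain ⟨i, hi⟩ := Subgroup.mem_zpowers_iff.mp (hcomW ⟨u', hu'⟩ ⟨v', hv'⟩)
    exact Subgroup.mem_zpowers_iff.mpr ⟨i, by simpa using congrArg Subtype.val hi⟩
  · rw [← Zc.index_mul_card, hidx, hZc, center_eq,
      Nat.card_congr (Subgroup.subgroupOfEquivOfLe (zS_le (S := S))).toEquiv]

/-- Order `p³` nonabelian groups of this shape are extraspecial. -/
theorem isExtraspecial_of [Finite S] (hq : Sq p S z) (hS : IsPGroup p S)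
    (hnab : ∃ u ∈ S, ∃ v ∈ S, ¬ Commute u v) (hZ : ∀ x ∈ zS S, x ∈ Subgroup.zpowers z) :
    IsExtraspecial p S ∧ Nat.card S = p ^ 3 := by
  let zs : S := ⟨z, hq.zZ.1⟩
  have hzs : zs ∈ Subgroup.center S := mem_center_sub.mpr hq.zZ
  have hc : Subgroup.center S = Subgroup.zpowers zs := le_antisymm (fun x hx => by
      obtain ⟨i, hi⟩ := Subgroup.mem_zpowers_iff.mp (hZ x (mem_center_sub.mp hx))
      exact Subgroup.mem_zpowers_iff.mpr ⟨i, Subtype.ext (by simpa using hi)⟩)
    (Subgroup.zpowers_le.mpr hzs)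
  have hoz : orderOf zs = p := orderOf_eq_prime (Subtype.ext hq.zp) fun e => hq.z1 (congrArg Subtype.val e)
  have hcard : Nat.card (Subgroup.center S) = p := by rw [hc, Nat.card_zpowers, hoz]
  have hclass : commutator S ≤ Subgroup.center S := by
    rw [commutator_def, Subgroup.commutator_le]
    intro g _ g' _
    rw [hc]
    obtain ⟨i, hi⟩ := Subgroup.mem_zpowers_iff.mp (hq.comm g g.2 g' g'.2)
    exact Subgroup.mem_zpowers_iff.mpr ⟨i, Subtype.ext (by simpa [commutatorElement_def] using hi)⟩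
  have hcz : commutator S = Subgroup.center S := by
    refine le_antisymm hclass ?_
    obtain ⟨u, hu, v, hv, huv⟩ := hnab
    have hmem : ⁅(⟨u, hu⟩ : S), (⟨v, hv⟩ : S)⁆ ∈ commutator S :=
      Subgroup.commutator_mem_commutator (Subgroup.mem_top _) (Subgroup.mem_top _)
    have hne : ((⁅(⟨u, hu⟩ : S), (⟨v, hv⟩ : S)⁆ : S) : Ω) ≠ 1 := fun e => huv
      (mul_inv_eq_iff_eq_mul.mp (mul_inv_eq_one.mp (by simpa [commutatorElement_def] using e)))
    obtain ⟨k, hk⟩ := hq.root (by simpa [commutatorElement_def] using hq.comm u hu v hv) hne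
    rw [hc]
    refine Subgroup.zpowers_le.mpr ?_
    have := (commutator S).pow_mem hmem k
    convert this using 1
    exact Subtype.ext (by simpa using hk.symm)
  have hcS : Nat.card S = p ^ 3 := by
    have h := Nat.card_congr (Subgroup.subgroupOfEquivOfLe (zS_le (S := S))).toEquiv
    rw [← center_eq, hcard] at h
    rw [hq.cent, ← h]; ring
  have hpow : ∀ x : S, x ^ p ∈ Subgroup.center S := fun x => by
    by_contra h
    -- a cyclic quotient by the centre
    have h3 : (Subgroup.center S).index = p ^ 2 := by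
      have := (Subgroup.center S).index_mul_card
      rw [hcard, hcS, pow_succ] at this
      exact Nat.eq_of_mul_eq_mul_right hp.out.pos this
    let π := QuotientGroup.mk' (Subgroup.center S)
    have hne : π x ^ p ≠ 1 := fun e => h ((QuotientGroup.eq_one_iff _).mp (by rw [← map_pow] at e; exact e))
    have hq2 : Nat.card (S ⧸ Subgroup.center S) = p ^ 2 := h3
    obtain ⟨j, hj, hjo⟩ := (Nat.dvd_prime_pow hp.out).mp (hq2 ▸ orderOf_dvd_natCard (π x))
    have hj2 : j = 2 := by
      interval_cases j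
      · exact absurd (by rw [orderOf_eq_one_iff.mp (hjo.trans (pow_zero p)), one_pow]) hne
      · exact absurd (by rw [← pow_orderOf_eq_one (π x), hjo, pow_one]) hne
      · rfl
    haveI : IsCyclic (S ⧸ Subgroup.center S) := isCyclic_of_orderOf_eq_card (π x) (by rw [hjo, hj2, hq2])
    obtain ⟨u, hu, v, hv, huv⟩ := hnab
    exact huv (congrArg Subtype.val
      (commutative_of_cyclic_center_quotient π (by rw [QuotientGroup.ker_mk']) ⟨u, hu⟩ ⟨v, hv⟩))
  have hfr : frattini S = Subgroup.center S :=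
    le_antisymm (FGS3.frattini_le_of_elementary (p := p) hclass hpow) (hcz ▸ FGS3.commutator_le_frattini hS)
  exact ⟨⟨⟨hS, hfr, hcz⟩, hcard⟩, hcS⟩

/-- The main statement. -/
theorem small_center [Finite S] (hS : IsPGroup p S) (hF : F.IsSaturated p) (hS1 : S ≠ ⊥)
    (hcore : F.core = ⊥) (hhyp : F.hyperfocalSubgroup p = S) (hZ : (Subgroup.center S).index ≤ p ^ 2) :
    IsExtraspecial p S ∧ Nat.card S = p ^ 3 ∧ (p ≠ 2 → Monoid.exponent S = p) ∧
      (p = 2 → Nonempty (S ≃* DihedralGroup 4)) := by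
  have hnab : ∃ u ∈ S, ∃ v ∈ S, ¬ Commute u v := by
    by_contra h
    push_neg at h
    exact hS1 (eq_bot_of_normal hcore (abelian_isNormal_self hS hF fun x hx y hy => h x hx y hy))
  obtain ⟨z, hq⟩ := exists_sq hS hnab hZ
  obtain ⟨P₀, hP₀⟩ : ∃ P, F.IsEssential p P := by
    by_contra h
    push_neg at h
    exact hS1 (eq_bot_of_normal hcore (isNormal_self_of_no_essential hS hF h))
  obtain ⟨α₀, h₀⟩ := exists_good hq hS hF hP₀
  by_cases hp2 : p = 2
  · subst hp2
    have hK := eq_bot_of_normal hcore (kK_isNormal hq hS hF)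
    obtain ⟨R₂, α₂, h₂, hall⟩ := exists_two hq hS hF h₀
    have hzc := focal_contra hq h₀ h₂ hall hS hF hhyp hK
    obtain ⟨hE, hcS⟩ := isExtraspecial_of hq hS hnab hzc
    refine ⟨hE, hcS, fun h => absurd rfl h, fun _ => ?_⟩
    obtain ⟨hcR, hab, s, hs, hsR, hsy, hspan, hdec⟩ := h₀.data hq hS
    let zs : S := ⟨z, hq.zZ.1⟩
    let ys : S := ⟨((α₀ ⟨z, h₀.zR hq⟩ : P₀) : Ω), h₀.le (α₀ _).2⟩
    let bs : S := ⟨s, hs⟩
    have hyo : ys ^ 2 = 1 := Subtype.ext (by simpa using congrArg Subtype.val (h₀.ySq hq))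
    have hzo : zs ^ 2 = 1 := Subtype.ext hq.zp
    have hz1 : zs ≠ 1 := fun e => hq.z1 (congrArg Subtype.val e)
    have hpar : ∀ (u : S), u ^ 2 = 1 → ∀ i : ℤ, ∃ j : ℕ, u ^ i = u ^ j := fun u hu i =>
      (zpow_two_cases hu i).elim (fun h => ⟨0, by rw [h, pow_zero]⟩) fun h => ⟨1, by rw [h, pow_one]⟩
    have hsplit : GenExtra.Split 2 zs ys bs ⊥ := by
      refine ⟨fun x => Subtype.ext (hq.zZ.2 x x.2).symm, hzo, hyo, hz1, ?_, Subtype.ext hsy,
        fun a ha x => ?_, fun a ha => ?_, fun g => ?_, ?_⟩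
      · have hmem : s ^ 2 ∈ P₀ := by
          rw [sq]; exact (h₀.mem_iff_mul hq hS hs hs).mpr Iff.rfl
        rcases h₀.cases hq hS hmem with h | h
        · obtain ⟨i, hi⟩ := Subgroup.mem_zpowers_iff.mp (hzc _ h)
          exact Subgroup.mem_zpowers_iff.mpr ⟨i, Subtype.ext (by simpa using hi)⟩
        · exfalso
          set y : Ω := ((α₀ ⟨z, h₀.zR hq⟩ : P₀) : Ω) with hy
          have hcomm : Commute s (s ^ 2 * y) := h.2 s hs
          have h3 : Commute s y := by
            have := ((Commute.refl s).pow_right 2).inv_right.mul_right hcomm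
            rwa [inv_mul_cancel_left] at this
          have h4 : s * y * s⁻¹ = y := by rw [h3.eq, mul_inv_cancel_right]
          rw [hsy] at h4
          exact hq.z1 (mul_eq_left.mp h4)
      · rw [Subgroup.mem_bot.mp ha, one_mul, mul_one]
      · rw [Subgroup.mem_bot.mp ha, one_pow]
      · obtain ⟨i, r, hr, e⟩ := hdec g g.2
        obtain ⟨j, c, hc, rfl⟩ := hspan r hr
        obtain ⟨k, hk⟩ := Subgroup.mem_zpowers_iff.mp (hzc c hc)
        obtain ⟨j', hj'⟩ := hpar ys hyo j
        obtain ⟨k', hk'⟩ := hpar zs hzo k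
        refine ⟨i, j', k', 1, one_mem _, Subtype.ext ?_⟩
        have e1 := congrArg Subtype.val hj'
        have e2 := congrArg Subtype.val hk'
        simp only [Subgroup.coe_zpow, SubmonoidClass.coe_pow] at e1 e2
        rw [mul_one, Subgroup.coe_mul, Subgroup.coe_mul, SubmonoidClass.coe_pow, SubmonoidClass.coe_pow,
          SubmonoidClass.coe_pow, ← e1, ← e2, e, ← hk, mul_assoc]
      · intro i j k a ha e
        rw [Subgroup.mem_bot.mp ha, mul_one] at e
        have e' : s ^ i * ((α₀ ⟨z, h₀.zR hq⟩ : P₀) : Ω) ^ j * z ^ k = 1 := by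
          simpa using congrArg Subtype.val e
        have hs2 : ∀ n : ℕ, s ^ (2 * n) ∈ P₀ := fun n => by
          rw [pow_mul]
          exact P₀.pow_mem (by rw [sq]; exact (h₀.mem_iff_mul hq hS hs hs).mpr Iff.rfl) n
        have hi : 2 ∣ i := by
          by_contra hni
          obtain ⟨m, rfl⟩ : Odd i := Nat.not_even_iff_odd.mp fun he => hni he.two_dvd
          have h1 : s ^ (2 * m + 1) ∈ P₀ := by
            have h2 : s ^ (2 * m + 1) = (((α₀ ⟨z, h₀.zR hq⟩ : P₀) : Ω) ^ j * z ^ k)⁻¹ :=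
              eq_inv_of_mul_eq_one_left (by rw [← mul_assoc]; exact e')
            rw [h2]
            exact P₀.inv_mem (P₀.mul_mem (P₀.pow_mem (α₀ _).2 j) (P₀.pow_mem (h₀.zR hq) k))
          rw [pow_succ'] at h1
          exact hsR ((P₀.mul_mem_cancel_right (hs2 m)).mp h1)
        refine ⟨hi, ?_, Subgroup.mem_bot.mp ha⟩
        by_contra hnj
        obtain ⟨m, rfl⟩ : Odd j := Nat.not_even_iff_odd.mp fun he => hnj he.two_dvd
        obtain ⟨n, rfl⟩ := hi
        have hy : ((α₀ ⟨z, h₀.zR hq⟩ : P₀) : Ω) ^ (2 * m + 1) = ((α₀ ⟨z, h₀.zR hq⟩ : P₀) : Ω) := by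
          rw [pow_succ, pow_mul, show ((α₀ ⟨z, h₀.zR hq⟩ : P₀) : Ω) ^ 2 = 1 by
            simpa using congrArg Subtype.val (h₀.ySq hq), one_pow, one_mul]
        rw [hy] at e'
        refine h₀.moves (h₀.zR hq) ?_
        set y : Ω := ((α₀ ⟨z, h₀.zR hq⟩ : P₀) : Ω) with hydef
        have h5 : y = (s ^ (2 * n))⁻¹ * (z ^ k)⁻¹ :=
          eq_inv_mul_iff_mul_eq.mpr (eq_inv_of_mul_eq_one_left e')
        -- an element commuting with `s` and with `P₀`
        refine ⟨h₀.le (α₀ _).2, fun g hg => ?_⟩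
        have hsy' : Commute s y := by
          rw [h5]
          exact ((Commute.refl s).pow_right _).inv_right.mul_right ((show Commute s z from hq.zZ.2 s hs).pow_right k).inv_right
        obtain ⟨i', r, hr, rfl⟩ := hdec g hg
        exact ((hsy'.pow_left i').mul_left (hab r hr y (α₀ _).2)).eq
    obtain ⟨e⟩ := hsplit.to_dihedral hS rfl
    exact ⟨e.trans MulEquiv.prodUnique⟩
  · have hC := eq_bot_of_normal hcore (cC_isNormal hq hS hF hp2 h₀)
    have hzc : ∀ x ∈ zS S, x ∈ Subgroup.zpowers z := fun x hx => by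
      obtain ⟨i, c, hc, rfl⟩ := h₀.split hq hS hF hx
      rw [hC, Subgroup.mem_bot] at hc
      rw [hc, mul_one]
      exact zpow_mem (Subgroup.mem_zpowers z) i
    obtain ⟨hE, hcS⟩ := isExtraspecial_of hq hS hnab hzc
    refine ⟨hE, hcS, fun _ => ?_, fun h => absurd h hp2⟩
    obtain ⟨hidx, hΩ⟩ := Cfsg.Agent.S0097.result hp2 hE
    set U := Subgroup.closure {x : S | x ^ p = 1} with hU
    by_cases hUtop : U = ⊤
    · refine ((Nat.dvd_prime hp.out).mp (Monoid.exponent_dvd_of_forall_pow_eq_one fun g =>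
        hΩ g (hUtop ▸ Subgroup.mem_top g))).resolve_left fun e => ?_
      have := Monoid.pow_exponent_eq_one (⟨z, hq.zZ.1⟩ : S)
      rw [e, pow_one] at this
      exact hq.z1 (congrArg Subtype.val this)
    exfalso
    let Q : Subgroup Ω := U.map S.subtype
    have hQS : Q ≤ S := Subgroup.map_subtype_le U
    have hQ : ∀ x, x ∈ Q ↔ x ∈ S ∧ x ^ p = 1 := by
      intro x
      constructor
      · rintro ⟨w, hw, rfl⟩
        refine ⟨w.2, ?_⟩
        have := congrArg Subtype.val (hΩ w hw)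
        simpa using this
      · rintro ⟨hx, hxp⟩
        exact ⟨⟨x, hx⟩, Subgroup.subset_closure (Subtype.ext (by simpa using hxp)), rfl⟩
    have hcardQ : Nat.card Q ≤ p ^ 2 := by
      haveI := finite_of_le hQS
      have h1 : Nat.card Q = Nat.card U := Nat.card_congr
        (U.equivMapOfInjective S.subtype S.subtype_injective).toEquiv.symm
      have h2 := U.card_mul_index
      have h3 : U.index ≠ 1 := fun e => hUtop (Subgroup.index_eq_one.mp e)
      obtain ⟨j, -, hj⟩ := (Nat.dvd_prime_pow hp.out).mp (hcS ▸ U.index_dvd_card)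
      rw [hcS, hj] at h2
      have hj1 : j = 1 := by
        rw [hj] at hidx h3
        have : j ≤ 1 := (Nat.pow_le_pow_iff_right hp.out.one_lt).mp (by rwa [pow_one])
        rcases Nat.eq_zero_or_pos j with h | h
        · exact absurd (by rw [h, pow_zero]) h3
        · omega
      rw [hj1, pow_one, show p ^ 3 = p ^ 2 * p by ring] at h2
      rw [h1, Nat.eq_of_mul_eq_mul_right hp.out.pos h2]
    have hEq : ∀ (R : Subgroup Ω) (α : MulAut R), Good F z R α → R = Q := by
      intro R α hG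
      haveI := finite_of_le hQS
      obtain ⟨hc, hab, s, -, -, -, hspan, -⟩ := hG.data hq hS
      refine eq_of_le_of_card (fun x hx => (hQ x).mpr ⟨hG.le hx, ?_⟩) ?_
      · obtain ⟨i, c, hc', rfl⟩ := hspan x hx
        obtain ⟨k, rfl⟩ := Subgroup.mem_zpowers_iff.mp (hzc c hc')
        have hyp : ((α ⟨z, hG.zR hq⟩ : R) : Ω) ^ p = 1 := by
          have h1 : (α ⟨z, hG.zR hq⟩ : R) ^ p = 1 := by
            rw [← map_pow, show (⟨z, hG.zR hq⟩ : R) ^ p = 1 from Subtype.ext hq.zp, map_one]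
          simpa using congrArg Subtype.val h1
        rw [(show Commute (((α ⟨z, hG.zR hq⟩ : R) : Ω) ^ i) (z ^ k) from
          (hab _ (α _).2 z (hG.zR hq)).zpow_zpow i k).mul_pow, ← zpow_natCast, ← zpow_natCast, ← zpow_mul,
          ← zpow_mul, mul_comm i, mul_comm k, zpow_mul, zpow_mul, zpow_natCast, zpow_natCast, hyp, hq.zp,
          one_zpow, one_zpow, one_mul]
      · rw [hcS, pow_succ' p 2] at hc
        exact hcardQ.trans (Nat.eq_of_mul_eq_mul_left hp.out.pos hc).le
    have hnorm : F.IsNormal Q := by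
      refine isNormal_of_stronglyClosed hS hF (stronglyClosed_of_gen hS hF hQS ?_) fun P hP => ?_
      · rintro P (rfl | hP) f hf x hxP hx
        · refine (hQ _).mpr ⟨hf.mapsTo hxP, ?_⟩
          rw [← hf.mor.map_pow hxP, ((hQ x).mp hx).2, hf.mor.map_one]
        · obtain ⟨α, hG⟩ := exists_good hq hS hF hP
          exact hEq P α hG ▸ hf.mapsTo hxP
      · obtain ⟨α, hG⟩ := exists_good hq hS hF hP
        exact (hEq P α hG).symm.le
    have hzQ : z ∈ Q := (hQ z).mpr ⟨hq.zZ.1, hq.zp⟩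
    rw [eq_bot_of_normal hcore hnorm, Subgroup.mem_bot] at hzQ
    exact hq.z1 hzQ

end Cfsg.Agent.Fusion.CenterSq
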