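/-
Essential subgroups of order `p⁴`.
-/
import Cfsg.Agent.Fusion.EssentialSmall
import Cfsg.Agent.Fusion.LineStab
import Cfsg.Agent.Fusion.SmallCenterMain
import Cfsg.Agent.Fusion.GenExtraspecial
import Mathlib.GroupTheory.SpecificGroups.Quaternion
import Mathlib.GroupTheory.SpecificGroups.Cyclic
set_option autoImplicit false

namespace Cfsg.Agent.Fusion.EssFour

open Cfsg Cfsg.FusionSystem
open scoped commutatorElement

variable {p : ℕ} [hp : Fact p.Prime]

/-- `Z_{p²} × Z_p × Z_p`. -/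
theorem abelian_iso_211 {A : Type*} [CommGroup A] [Finite A] (hcard : Nat.card A = p ^ 4)
    (hidx : (powMonoidHom p : A →* A).range.index = p ^ 3) :
    Nonempty (A ≃* Multiplicative (ZMod (p ^ 2) × ZMod p × ZMod p)) := by
  have hp2 := hp.out.two_le
  set Φ := (powMonoidHom p : A →* A).range
  set K := (powMonoidHom p : A →* A).ker with hK
  have hΦc : Nat.card Φ = p := by
    have h := Φ.index_mul_card
    rw [hidx, hcard, pow_succ p 3] at h
    exact Nat.eq_of_mul_eq_mul_left (pow_pos hp.out.pos 3) h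
  have hKc : Nat.card K = p ^ 3 := by
    have h := K.index_mul_card
    rw [Subgroup.index_ker, hΦc, hcard, pow_succ' p 3] at h
    exact Nat.eq_of_mul_eq_mul_left hp.out.pos h
  obtain ⟨x, hx⟩ : ∃ x : A, x ^ p ≠ 1 := by
    by_contra h
    push_neg at h
    have : Φ = ⊥ := eq_bot_iff.mpr (by rintro _ ⟨a, rfl⟩; exact Subgroup.mem_bot.mpr (h a))
    rw [this, Subgroup.card_bot] at hΦc
    omega
  have hxp2 : x ^ p ^ 2 = 1 := by
    have h := pow_card_eq_one' (x := (⟨x ^ p, x, rfl⟩ : Φ))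
    rw [hΦc] at h
    rw [sq, pow_mul]
    exact congrArg Subtype.val h
  have hsup : ∀ (L : Subgroup A) (c : A), c ^ p = 1 → Nat.card (L ⊔ Subgroup.zpowers c : Subgroup A) ≤ p * Nat.card L := by
    intro L c hc
    let g : L × Subgroup.zpowers c →* A := L.subtype.coprod (Subgroup.zpowers c).subtype
    have hle : L ⊔ Subgroup.zpowers c ≤ g.range :=
      sup_le (fun l hl => ⟨(⟨l, hl⟩, 1), by simp [g]⟩) (fun l hl => ⟨(1, ⟨l, hl⟩), by simp [g]⟩)
    refine (Subgroup.card_le_of_le hle).trans ((Nat.card_le_card_of_surjective _ g.rangeRestrict_surjective).trans ?_)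
    rw [Nat.card_prod, Nat.card_zpowers, mul_comm]
    exact Nat.mul_le_mul_right _ (orderOf_le_of_pow_eq_one hp.out.pos hc)
  have hxK : x ^ p ∈ K := by
    show (x ^ p) ^ p = 1
    rw [← pow_mul, ← sq, hxp2]
  set L1 := Subgroup.zpowers (x ^ p)
  have hL1 : Nat.card L1 ≤ p := by
    rw [Nat.card_zpowers]; exact orderOf_le_of_pow_eq_one hp.out.pos hxK
  have h1 : p * 1 < p * p ^ 2 := by
    apply Nat.mul_lt_mul_of_pos_left _ hp.out.pos
    exact Nat.one_lt_pow (by omega) hp.out.one_lt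
  obtain ⟨c₁, hc₁, hc₁n⟩ : ∃ c ∈ K, c ∉ L1 := by
    by_contra h
    push_neg at h
    have h2 := (Subgroup.card_le_of_le (show K ≤ L1 from h)).trans hL1
    rw [hKc, pow_succ' p 2] at h2
    omega
  set L2 := L1 ⊔ Subgroup.zpowers c₁
  have hL2 : Nat.card L2 ≤ p * p := (hsup L1 c₁ hc₁).trans (Nat.mul_le_mul_left p hL1)
  have h1L : L1 < L2 := lt_of_le_not_ge le_sup_left fun h =>
    hc₁n (h (Subgroup.mem_sup_right (Subgroup.mem_zpowers c₁)))
  obtain ⟨c₂, hc₂, hc₂n⟩ : ∃ c ∈ K, c ∉ L2 := by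
    by_contra h
    push_neg at h
    have h2 := (Subgroup.card_le_of_le (show K ≤ L2 from h)).trans hL2
    rw [hKc, ← sq] at h2
    have := (Nat.pow_le_pow_iff_right hp.out.one_lt).mp h2
    omega
  set L3 := L2 ⊔ Subgroup.zpowers c₂
  have h2L : L2 < L3 := lt_of_le_not_ge le_sup_left fun h =>
    hc₂n (h (Subgroup.mem_sup_right (Subgroup.mem_zpowers c₂)))
  have hL3K : L3 ≤ K := sup_le (sup_le (Subgroup.zpowers_le.mpr hxK) (Subgroup.zpowers_le.mpr hc₁))
    (Subgroup.zpowers_le.mpr hc₂)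
  have hA : IsPGroup p A := IsPGroup.of_card hcard
  have hstep : ∀ {X Y : Subgroup A}, X < Y → p * Nat.card X ≤ Nat.card Y := by
    intro X Y h
    obtain ⟨a, ha⟩ := IsPGroup.iff_card.mp (hA.to_subgroup X)
    obtain ⟨b, hb⟩ := IsPGroup.iff_card.mp (hA.to_subgroup Y)
    have hc := card_lt_of_lt h
    rw [ha, hb, Nat.pow_lt_pow_iff_right hp.out.one_lt] at hc
    rw [ha, hb, ← pow_succ']
    exact Nat.pow_le_pow_right hp.out.pos hc
  have hL1' : p * 1 ≤ Nat.card L1 := by
    have h := hstep (bot_lt_iff_ne_bot.mpr (show L1 ≠ ⊥ from Subgroup.zpowers_ne_bot.mpr hx))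
    rwa [Subgroup.card_bot] at h
  have hL3eq : L3 = K := Subgroup.eq_of_le_of_card_ge hL3K (by
    rw [hKc, show p ^ 3 = p * (p * (p * 1)) by ring]
    exact (Nat.mul_le_mul_left p ((Nat.mul_le_mul_left p hL1').trans (hstep h1L))).trans (hstep h2L))
  let f1 : ZMod (p ^ 2) →+ Additive A :=
    ZMod.lift _ ⟨zmultiplesHom _ (Additive.ofMul x), by
      rw [zmultiplesHom_apply, natCast_zsmul, ← ofMul_pow, hxp2, ofMul_one]⟩
  let f2 : ZMod p →+ Additive A :=
    ZMod.lift _ ⟨zmultiplesHom _ (Additive.ofMul c₁), by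
      rw [zmultiplesHom_apply, natCast_zsmul, ← ofMul_pow, show c₁ ^ p = 1 from hc₁, ofMul_one]⟩
  let f3 : ZMod p →+ Additive A :=
    ZMod.lift _ ⟨zmultiplesHom _ (Additive.ofMul c₂), by
      rw [zmultiplesHom_apply, natCast_zsmul, ← ofMul_pow, show c₂ ^ p = 1 from hc₂, ofMul_one]⟩
  let f : Multiplicative (ZMod (p ^ 2) × ZMod p × ZMod p) →* A :=
    AddMonoidHom.toMultiplicativeLeft (f1.coprod (f2.coprod f3))
  have e1 : f1 (((1 : ℤ) : ZMod (p ^ 2))) = Additive.ofMul x := by
    show f1 _ = _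
    simp only [f1, ZMod.lift_coe, zmultiplesHom_apply, one_zsmul]
  have e2 : f2 (((1 : ℤ) : ZMod p)) = Additive.ofMul c₁ := by
    show f2 _ = _
    simp only [f2, ZMod.lift_coe, zmultiplesHom_apply, one_zsmul]
  have e3 : f3 (((1 : ℤ) : ZMod p)) = Additive.ofMul c₂ := by
    show f3 _ = _
    simp only [f3, ZMod.lift_coe, zmultiplesHom_apply, one_zsmul]
  rw [Int.cast_one] at e1 e2 e3
  have hx' : x ∈ f.range := ⟨Multiplicative.ofAdd (1, 0, 0), by simp [f, e1]⟩
  have hR : L3 ≤ f.range := sup_le (sup_le (Subgroup.zpowers_le.mpr (pow_mem hx' p))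
    (Subgroup.zpowers_le.mpr ⟨Multiplicative.ofAdd (0, 1, 0), by simp [f, e2]⟩))
    (Subgroup.zpowers_le.mpr ⟨Multiplicative.ofAdd (0, 0, 1), by simp [f, e3]⟩)
  have hlt : K < f.range := lt_of_le_not_ge (hL3eq ▸ hR) fun h => hx (h hx')
  have htop : f.range = ⊤ := Subgroup.eq_top_of_le_card _ (by
    rw [hcard, pow_succ' p 3, ← hKc]; exact hstep hlt)
  haveI : NeZero (p ^ 2) := ⟨pow_ne_zero _ hp.out.ne_zero⟩
  haveI : NeZero p := ⟨hp.out.ne_zero⟩
  refine ⟨(MulEquiv.ofBijective f (((Nat.bijective_iff_surjective_and_card _).mpr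
    ⟨MonoidHom.range_eq_top.mp htop, ?_⟩))).symm⟩
  rw [hcard, Nat.card_congr Multiplicative.toAdd, Nat.card_prod, Nat.card_prod, Nat.card_zmod, Nat.card_zmod]
  ring

/-- Nonabelian groups of order `p³` and exponent `p` are extraspecial. -/
theorem isExtraspecial_cube {P : Type*} [Group P] [Finite P] (hcard : Nat.card P = p ^ 3)
    (hexp : ∀ x : P, x ^ p = 1) {x y : P} (hxy : x * y ≠ y * x) : IsExtraspecial p P := by
  have hA : IsPGroup p P := IsPGroup.of_card hcard
  set Z := Subgroup.center P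
  haveI : Nontrivial P := ⟨⟨x * y, y * x, hxy⟩⟩
  haveI := hA.center_nontrivial
  obtain ⟨i, hi⟩ := IsPGroup.iff_card.mp (hA.to_subgroup Z)
  have h := Z.index_mul_card
  obtain ⟨j, hj⟩ := hA.index Z
  rw [hi, hj, hcard, ← pow_add] at h
  have hij := Nat.pow_right_injective hp.out.two_le h
  have hi0 : i ≠ 0 := fun h0 => by
    have := Finite.one_lt_card (α := Z)
    rw [hi, h0, pow_zero] at this
    omega
  have hnc : ¬ IsCyclic (P ⧸ Z) := fun hc =>
    hxy (commutative_of_cyclic_center_quotient (QuotientGroup.mk' Z) (le_of_eq (QuotientGroup.ker_mk' Z)) x y)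
  have hi1 : i = 1 := by
    by_contra hne
    refine hnc ?_
    rcases Nat.lt_or_ge j 1 with h0 | h0
    · have : Nat.card (P ⧸ Z) = 1 := by rw [← Subgroup.index_eq_card, hj, show j = 0 by omega, pow_zero]
      haveI := (Nat.card_eq_one_iff_unique.mp this).1
      infer_instance
    · exact isCyclic_of_prime_card (p := p) (by rw [← Subgroup.index_eq_card, hj, show j = 1 by omega, pow_one])
  rw [hi1, pow_one] at hi
  have hq : Nat.card (P ⧸ Z) = p ^ 2 := by rw [← Subgroup.index_eq_card, hj, show j = 2 by omega]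
  have hcomm : commutator P ≤ Z := by
    rw [commutator_def, Subgroup.commutator_le]
    intro a _ b _
    rw [← QuotientGroup.eq_one_iff, show ((⁅a, b⁆ : P) : P ⧸ Z) = ⁅(a : P ⧸ Z), (b : P ⧸ Z)⁆ from
      map_commutatorElement (QuotientGroup.mk' Z) a b, commutatorElement_eq_one_iff_mul_comm]
    exact IsPGroup.commutative_of_card_eq_prime_sq hq _ _
  have hcz : commutator P = Z := by
    refine Subgroup.eq_of_le_of_card_ge hcomm ?_
    obtain ⟨k, hk⟩ := IsPGroup.iff_card.mp (hA.to_subgroup (commutator P))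
    rcases k with _ | k
    · refine absurd (commutatorElement_eq_one_iff_mul_comm.mp ?_) hxy
      exact Subgroup.mem_bot.mp (Subgroup.card_eq_one.mp (hk.trans (pow_zero p)) ▸
        Subgroup.commutator_mem_commutator (Subgroup.mem_top _) (Subgroup.mem_top _))
    · rw [hi, hk]; exact Nat.le_self_pow (Nat.succ_ne_zero k) p
  exact ⟨⟨hA, le_antisymm (FGS3.frattini_le_of_elementary (p := p) hcomm fun a => by rw [hexp]; exact one_mem _)
    (hcz.ge.trans (FGS3.commutator_le_frattini hA)), hcz⟩, hi⟩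

/-- A group of order eight with all noncentral squares equal is a quaternion group. -/
theorem quaternion_of {P : Type*} [Group P] [Finite P] (hcard : Nat.card P = 8) {x y z : P}
    (hz : z * z = 1) (hxx : x * x = z) (hyy : y * y = z) (hxy : y⁻¹ * x * y = x * z) (hz1 : z ≠ 1) :
    Nonempty (P ≃* QuaternionGroup 2) := by
  have hx4 : x ^ 4 = 1 := by rw [show x ^ 4 = (x * x) * (x * x) by simp [pow_succ, mul_assoc], hxx, hz]
  have hxinv : x⁻¹ = x * z := inv_eq_of_mul_eq_one_right (by rw [← mul_assoc, hxx, hz])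
  let g : ZMod (2 * 2) →+ Additive P :=
    ZMod.lift _ ⟨zmultiplesHom _ (Additive.ofMul x), by
      rw [zmultiplesHom_apply, natCast_zsmul, ← ofMul_pow, show x ^ (2 * 2) = 1 from hx4, ofMul_one]⟩
  let G : ZMod (2 * 2) → P := fun i => Additive.toMul (g i)
  have gadd : ∀ i j, G (i + j) = G i * G j := fun i j => by simp [G]
  have gneg : ∀ i, G (-i) = (G i)⁻¹ := fun i => by simp [G]
  have gint : ∀ n : ℤ, G (n : ZMod (2 * 2)) = x ^ n := fun n => by simp [G, g]
  have gpow : ∀ i, ∃ n : ℤ, G i = x ^ n := fun i => ⟨_, by rw [← gint, ZMod.intCast_zmod_cast]⟩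
  have g2 : G 2 = z := by
    rw [show (2 : ZMod (2 * 2)) = ((2 : ℤ) : ZMod (2 * 2)) from rfl, gint, zpow_two, hxx]
  have hconj : ∀ i, G i * y = y * G (-i) := fun i => by
    obtain ⟨n, hn⟩ := gpow i
    rw [gneg, hn, ← inv_zpow, hxinv, ← hxy]
    have hsc : SemiconjBy y (y⁻¹ * x * y) x := by simp [SemiconjBy, mul_assoc]
    exact (hsc.zpow_right n).eq.symm
  let f : QuaternionGroup 2 → P := fun q => match q with
    | .a i => G i
    | .xa i => y * G i
  have fmul : ∀ q r, f (q * r) = f q * f r := by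
    rintro (i | i) (j | j)
    · exact gadd i j
    · show y * G (j - i) = G i * (y * G j)
      rw [← mul_assoc, hconj, mul_assoc, ← gadd, neg_add_eq_sub]
    · show y * G (i + j) = y * G i * G j
      rw [gadd, mul_assoc]
    · show G ((2 : ZMod (2 * 2)) + j - i) = y * G i * (y * G j)
      rw [show y * G i * (y * G j) = y * (G i * y) * G j by group, hconj, ← mul_assoc, hyy,
        mul_assoc, ← gadd, ← g2, ← gadd]
      congr 1; abel
  let φ : QuaternionGroup 2 →* P := MonoidHom.mk' f fmul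
  have hG0 : ∀ i, G i = 1 → i = 0 := by
    intro i hi
    obtain ⟨n, rfl⟩ : ∃ n : ℕ, (n : ZMod (2 * 2)) = i := ⟨i.val, ZMod.natCast_zmod_val i⟩
    rw [show ((n : ℕ) : ZMod (2 * 2)) = ((n : ℤ) : ZMod (2 * 2)) by simp, gint, zpow_natCast] at hi
    have ho : orderOf x = 2 ^ (1 + 1) := orderOf_eq_prime_pow (p := 2) (n := 1)
      (by rw [pow_one, sq, hxx]; exact hz1) hx4
    have hd := orderOf_dvd_of_pow_eq_one hi
    rw [ho] at hd
    exact (ZMod.natCast_eq_zero_iff _ _).mpr hd
  have hinj : Function.Injective φ := by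
    refine (injective_iff_map_eq_one φ).mpr ?_
    rintro (i | i) hq
    · rw [hG0 i hq]; rfl
    · exfalso
      replace hq : y * G i = 1 := hq
      obtain ⟨n, hn⟩ := gpow i
      have hy : y = x ^ (-n) := by rw [eq_inv_of_mul_eq_one_left hq, hn, zpow_neg]
      rw [hy, mul_assoc, ← zpow_one_add, ← zpow_neg, neg_neg] at hxy
      rw [← zpow_add, show n + (1 + -n) = (1 : ℤ) by omega, zpow_one] at hxy
      exact hz1 (mul_left_cancel (a := x) (by rw [mul_one]; exact hxy.symm))
  refine ⟨(MulEquiv.ofBijective φ ((Nat.bijective_iff_injective_and_card _).mpr ⟨hinj, ?_⟩)).symm⟩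
  rw [hcard, Nat.card_eq_fintype_card, QuaternionGroup.card]

section Ess

variable {Ω : Type*} [Group Ω] {S : Subgroup Ω} {F : FusionSystem S} {H : Subgroup Ω}

theorem center_card [Finite H] (hA : IsPGroup p H) {u v : H} (huv : u * v ≠ v * u)
    (hcard : Nat.card H = p ^ 4) :
    Nat.card (Subgroup.center H) = p ∨ Nat.card (Subgroup.center H) = p ^ 2 := by
  set Z := Subgroup.center H
  haveI : Nontrivial H := ⟨⟨u * v, v * u, huv⟩⟩
  haveI := hA.center_nontrivial
  obtain ⟨i, hi⟩ := IsPGroup.iff_card.mp (hA.to_subgroup Z)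
  have h := Z.index_mul_card
  obtain ⟨j, hj⟩ := hA.index Z
  rw [hi, hj, hcard, ← pow_add] at h
  have hij := Nat.pow_right_injective hp.out.two_le h
  have hi0 : i ≠ 0 := fun h0 => by
    have := Finite.one_lt_card (α := Z)
    rw [hi, h0, pow_zero] at this
    omega
  rcases Nat.lt_or_ge i 3 with h3 | h3
  · rcases Nat.lt_or_ge i 2 with h2 | h2
    · exact Or.inl (by rw [hi, show i = 1 by omega, pow_one])
    · exact Or.inr (by rw [hi, show i = 2 by omega])
  · exfalso
    have hnc : ¬ IsCyclic (H ⧸ Z) := fun hc =>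
      huv (commutative_of_cyclic_center_quotient (QuotientGroup.mk' Z) (le_of_eq (QuotientGroup.ker_mk' Z)) u v)
    refine hnc ?_
    rcases Nat.lt_or_ge j 1 with h0 | h0
    · have : Nat.card (H ⧸ Z) = 1 := by rw [← Subgroup.index_eq_card, hj, show j = 0 by omega, pow_zero]
      haveI := (Nat.card_eq_one_iff_unique.mp this).1
      infer_instance
    · exact isCyclic_of_prime_card (p := p) (by rw [← Subgroup.index_eq_card, hj, show j = 1 by omega, pow_one])

/-- No invariant series `1 ≤ A ≤ B ≤ C ≤ H` with steps of index at most `p`. -/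
theorem no_three [Finite S] (hS : IsPGroup p S) (hF : F.IsSaturated p) (hH : F.IsEssential p H)
    (A B C : Subgroup H) (hAB : A ≤ B) (hBC : B ≤ C)
    (hA : ∀ α ∈ F.autGroup H, ∀ x ∈ A, α x ∈ A) (hB : ∀ α ∈ F.autGroup H, ∀ x ∈ B, α x ∈ B)
    (hC : ∀ α ∈ F.autGroup H, ∀ x ∈ C, α x ∈ C) (h1 : Nat.card A ≤ p) (h2 : Nat.card B ≤ p * Nat.card A)
    (h3 : Nat.card C ≤ p * Nat.card B) (h4 : Nat.card H ≤ p * Nat.card C) : False := by
  refine EssShape.essential_no_series hS hF hH
    (fun j => if j = 0 then ⊥ else if j = 1 then A else if j = 2 then B else if j = 3 then C else ⊤) 4 rfl rfl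
    ?_ ?_ ?_
  · intro j hj
    rcases j with _ | _ | _ | _ | j
    · exact bot_le
    · exact hAB
    · exact hBC
    · exact le_top
    · omega
  · intro α hα j _ x hx
    rcases j with _ | _ | _ | _ | j
    · rw [show x = 1 from Subgroup.mem_bot.mp hx, map_one]; exact Subgroup.one_mem _
    · exact hA α hα x hx
    · exact hB α hα x hx
    · exact hC α hα x hx
    · trivial
  · intro j hj
    rcases j with _ | _ | _ | _ | j
    · show Nat.card A ≤ p * Nat.card (⊥ : Subgroup H)
      rwa [Subgroup.card_bot, mul_one]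
    · exact h2
    · exact h3
    · show Nat.card (⊤ : Subgroup H) ≤ p * Nat.card C
      rwa [Subgroup.card_top]
    · omega

omit hp in
theorem center_inv (α : MulAut H) : ∀ x ∈ Subgroup.center H, α x ∈ Subgroup.center H := fun x hx =>
  Subgroup.mem_center_iff.mpr fun g => by
    obtain ⟨g', rfl⟩ := α.surjective g
    rw [← map_mul, ← map_mul, Subgroup.mem_center_iff.mp hx g']

/-- The centre of order `p` does not occur. -/
theorem center_prime_false [Finite S] (hS : IsPGroup p S) (hF : F.IsSaturated p) (hH : F.IsEssential p H)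
    (hcard : Nat.card H = p ^ 4) {u v : H} (huv : u * v ≠ v * u) (hZ : Nat.card (Subgroup.center H) = p) :
    False := by
  haveI := finite_of_le hH.1.1
  have hA : IsPGroup p H := hS.to_le hH.1.1
  set Z := Subgroup.center H
  have hq : Nat.card (H ⧸ Z) = p ^ 3 := by
    have := Z.index_mul_card
    rw [Subgroup.index_eq_card, hZ, hcard, pow_succ p 3] at this
    exact Nat.eq_of_mul_eq_mul_right hp.out.pos this
  -- class two is impossible
  have hclass : ¬ ∀ a b : H, a * b * a⁻¹ * b⁻¹ ∈ Z := by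
    intro hcl
    have hcard_ker : ∀ a : H, ∀ D : Subgroup H,
        Nat.card D ≤ p * Nat.card (D ⊓ Subgroup.centralizer {a} : Subgroup H) := by
      intro a D
      let χ : D →* Z :=
        { toFun := fun d => ⟨a * d * a⁻¹ * (d : H)⁻¹, hcl a d⟩
          map_one' := Subtype.ext (by simp)
          map_mul' := fun d e => Subtype.ext (by
            show a * ((d : H) * e) * a⁻¹ * ((d : H) * e)⁻¹ = a * d * a⁻¹ * (d : H)⁻¹ * (a * e * a⁻¹ * (e : H)⁻¹)
            calc a * ((d : H) * e) * a⁻¹ * ((d : H) * e)⁻¹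
                = (a * d * a⁻¹ * (d : H)⁻¹) * ((d : H) * (a * e * a⁻¹ * (e : H)⁻¹)) * (d : H)⁻¹ := by group
              _ = _ := by rw [Subgroup.mem_center_iff.mp (hcl a e) d, ← mul_assoc, mul_inv_cancel_right]) }
      have h2 : Nat.card χ.ker ≤ Nat.card (D ⊓ Subgroup.centralizer {a} : Subgroup H) :=
        Nat.card_le_card_of_injective (fun d : χ.ker => (⟨((d : D) : H), d.1.2,
          Subgroup.mem_centralizer_singleton_iff.mpr
            (mul_inv_eq_iff_eq_mul.mp (mul_inv_eq_one.mp (congrArg Subtype.val (MonoidHom.mem_ker.mp d.2)))).symm⟩ :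
              (D ⊓ Subgroup.centralizer {a} : Subgroup H)))
          fun d e he => Subtype.ext (Subtype.ext (congrArg (fun t : (D ⊓ Subgroup.centralizer {a} : Subgroup H) => (t : H)) he :))
      rw [← χ.ker.index_mul_card, Subgroup.index_ker]
      exact Nat.mul_le_mul ((Subgroup.card_le_card_group χ.range).trans hZ.le) h2
    set D := Subgroup.centralizer ({u} : Set H)
    have hD : p ^ 3 ≤ Nat.card D := by
      have := hcard_ker u ⊤
      rw [Subgroup.card_top, hcard, top_inf_eq, pow_succ' p 3] at this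
      exact Nat.le_of_mul_le_mul_left this hp.out.pos
    have hvD : v ∉ D := fun h => huv (Subgroup.mem_centralizer_singleton_iff.mp h).symm
    have hW : p ^ 2 ≤ Nat.card (D ⊓ Subgroup.centralizer {v} : Subgroup H) := by
      have := hD.trans (hcard_ker v D)
      rw [pow_succ' p 2] at this
      exact Nat.le_of_mul_le_mul_left this hp.out.pos
    obtain ⟨w, hw, hwZ⟩ : ∃ w ∈ (D ⊓ Subgroup.centralizer {v} : Subgroup H), w ∉ Z := by
      by_contra h
      push_neg at h
      have := hW.trans (Subgroup.card_le_of_le h)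
      rw [hZ] at this
      nlinarith [hp.out.two_le]
    have huw : Commute u w := (Subgroup.mem_centralizer_singleton_iff.mp hw.1).symm
    have hvw : Commute v w := (Subgroup.mem_centralizer_singleton_iff.mp hw.2).symm
    obtain ⟨m, hm⟩ := IsPGroup.iff_card.mp (hA.to_subgroup (D ⊓ Subgroup.centralizer {w}))
    refine hwZ ?_
    -- the centralizer of `w` contains `u`, `v` and the centre
    set Cw := Subgroup.centralizer ({w} : Set H)
    have hDw : (D ⊓ Subgroup.centralizer {v} : Subgroup H) < D ⊓ Cw := by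
      refine lt_of_le_not_ge ?_ fun h => huv ?_
      · intro t ht
        refine ⟨ht.1, Subgroup.mem_centralizer_singleton_iff.mpr ?_⟩
        by_contra htw
        -- `D ⊓ C(v)` is abelian, being small over the centre
        set W := (D ⊓ Subgroup.centralizer {v} : Subgroup H)
        have hWD : W < D := lt_of_le_of_ne inf_le_left fun e => huv
          (Subgroup.mem_centralizer_singleton_iff.mp (e.ge (Subgroup.mem_centralizer_singleton_iff.mpr rfl)).2)
        have hDlt : D < ⊤ := lt_top_iff_ne_top.mpr fun e => hvD (e ▸ Subgroup.mem_top v)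
        have hc1 := card_lt_of_lt hWD
        have hc2 := card_lt_of_lt hDlt
        rw [Subgroup.card_top, hcard] at hc2
        obtain ⟨a, ha⟩ := IsPGroup.iff_card.mp (hA.to_subgroup W)
        obtain ⟨b, hb⟩ := IsPGroup.iff_card.mp (hA.to_subgroup D)
        rw [ha, hb, Nat.pow_lt_pow_iff_right hp.out.one_lt] at hc1
        rw [hb, Nat.pow_lt_pow_iff_right hp.out.one_lt] at hc2
        rw [ha, Nat.pow_le_pow_iff_right hp.out.one_lt] at hW
        have hWc : Nat.card W = p ^ 2 := by rw [ha, show a = 2 by omega]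
        exact htw (congrArg Subtype.val (IsPGroup.commutative_of_card_eq_prime_sq hWc ⟨t, ht⟩ ⟨w, hw⟩))
      · exact (Subgroup.mem_centralizer_singleton_iff.mp (h ⟨Subgroup.mem_centralizer_singleton_iff.mpr rfl,
          Subgroup.mem_centralizer_singleton_iff.mpr huw.eq⟩).2)
    have hCw : D ⊓ Cw < Cw := lt_of_le_not_ge inf_le_right fun h => hvD
      (h (Subgroup.mem_centralizer_singleton_iff.mpr hvw.eq)).1
    have h1 := card_lt_of_lt hDw
    have h2 := card_lt_of_lt hCw
    obtain ⟨b, hb⟩ := IsPGroup.iff_card.mp (hA.to_subgroup Cw)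
    obtain ⟨a, ha⟩ := IsPGroup.iff_card.mp (hA.to_subgroup (D ⊓ Subgroup.centralizer {v}))
    rw [ha, hm, Nat.pow_lt_pow_iff_right hp.out.one_lt] at h1
    rw [hm, hb, Nat.pow_lt_pow_iff_right hp.out.one_lt] at h2
    rw [ha, Nat.pow_le_pow_iff_right hp.out.one_lt] at hW
    have htop : Cw = ⊤ := Subgroup.eq_top_of_le_card _ (by
      rw [hcard, hb]; exact Nat.pow_le_pow_right hp.out.pos (by omega))
    exact Subgroup.mem_center_iff.mpr fun g =>
      Subgroup.mem_centralizer_singleton_iff.mp (htop.ge (Subgroup.mem_top g))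
  push_neg at hclass
  obtain ⟨a, b, hab⟩ := hclass
  -- the second centre
  let π := QuotientGroup.mk' Z
  set Z₂ := (Subgroup.center (H ⧸ Z)).comap π
  have hZ2m : ∀ x, x ∈ Z₂ ↔ ∀ g : H, x * g * x⁻¹ * g⁻¹ ∈ Z := by
    intro x
    have key : ∀ g : H, (x * g * x⁻¹ * g⁻¹ ∈ Z) ↔ π x * π g = π g * π x := fun g => by
      rw [← QuotientGroup.eq_one_iff]
      show π (x * g * x⁻¹ * g⁻¹) = 1 ↔ _
      rw [map_mul, map_mul, map_mul, map_inv, map_inv, mul_inv_eq_one, mul_inv_eq_iff_eq_mul]
    rw [Subgroup.mem_comap, Subgroup.mem_center_iff]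
    refine ⟨fun h g => (key g).mpr (h (π g)).symm, fun h y => ?_⟩
    obtain ⟨g, rfl⟩ := QuotientGroup.mk'_surjective Z y
    exact ((key g).mp (h g)).symm
  have hqc : Nat.card (Subgroup.center (H ⧸ Z)) = p := by
    have hQ : IsPGroup p (H ⧸ Z) := IsPGroup.of_card hq
    set Y := Subgroup.center (H ⧸ Z)
    have hne : π a * π b ≠ π b * π a := fun e => hab (by
      rw [← QuotientGroup.eq_one_iff]
      show π (a * b * a⁻¹ * b⁻¹) = 1
      rw [map_mul, map_mul, map_mul, map_inv, map_inv, e, mul_inv_cancel_right, mul_inv_cancel])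
    haveI : Nontrivial (H ⧸ Z) := ⟨⟨_, _, hne⟩⟩
    haveI := hQ.center_nontrivial
    obtain ⟨i, hi⟩ := IsPGroup.iff_card.mp (hQ.to_subgroup Y)
    have h := Y.index_mul_card
    obtain ⟨j, hj⟩ := hQ.index Y
    rw [hi, hj, hq, ← pow_add] at h
    have hij := Nat.pow_right_injective hp.out.two_le h
    have hi0 : i ≠ 0 := fun h0 => by
      have := Finite.one_lt_card (α := Y)
      rw [hi, h0, pow_zero] at this
      omega
    by_contra hne'
    have hnc : ¬ IsCyclic ((H ⧸ Z) ⧸ Y) := fun hc =>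
      hne (commutative_of_cyclic_center_quotient (QuotientGroup.mk' Y) (le_of_eq (QuotientGroup.ker_mk' Y)) _ _)
    refine hnc ?_
    have hi2 : 2 ≤ i := by
      by_contra h2
      exact hne' (by rw [hi, show i = 1 by omega, pow_one])
    rcases Nat.lt_or_ge j 1 with h0 | h0
    · have : Nat.card ((H ⧸ Z) ⧸ Y) = 1 := by rw [← Subgroup.index_eq_card, hj, show j = 0 by omega, pow_zero]
      haveI := (Nat.card_eq_one_iff_unique.mp this).1
      infer_instance
    · exact isCyclic_of_prime_card (p := p) (by rw [← Subgroup.index_eq_card, hj, show j = 1 by omega, pow_one])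
  have hZ2c : Nat.card Z₂ = p ^ 2 := by
    have h := Z₂.index_mul_card
    have h' := (Subgroup.center (H ⧸ Z)).index_mul_card
    rw [Subgroup.index_comap_of_surjective _ (QuotientGroup.mk'_surjective Z), hcard] at h
    rw [hqc, hq] at h'
    have hi : (Subgroup.center (H ⧸ Z)).index = p ^ 2 := Nat.eq_of_mul_eq_mul_right hp.out.pos (by rw [h', ← pow_succ])
    rw [hi, show p ^ 4 = p ^ 2 * p ^ 2 by ring] at h
    exact Nat.eq_of_mul_eq_mul_left (pow_pos hp.out.pos 2) h
  have hZZ2 : Z ≤ Z₂ := fun x hx => (hZ2m x).mpr fun g => by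
    rw [← Subgroup.mem_center_iff.mp hx g, mul_inv_cancel_right, mul_inv_cancel]
    exact one_mem _
  obtain ⟨w, hw, hwZ⟩ : ∃ w ∈ Z₂, w ∉ Z := by
    by_contra h
    push_neg at h
    have := Subgroup.card_le_of_le h
    rw [hZ2c, hZ] at this
    nlinarith [hp.out.two_le]
  set C := Subgroup.centralizer (Z₂ : Set H) with hC
  have hsup : Z ⊔ Subgroup.zpowers w = Z₂ := by
    refine Subgroup.eq_of_le_of_card_ge (sup_le hZZ2 (Subgroup.zpowers_le.mpr hw)) ?_
    have hlt : Z < Z ⊔ Subgroup.zpowers w := lt_of_le_not_ge le_sup_left fun h =>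
      hwZ (h (Subgroup.mem_sup_right (Subgroup.mem_zpowers w)))
    obtain ⟨i, hi⟩ := IsPGroup.iff_card.mp (hA.to_subgroup (Z ⊔ Subgroup.zpowers w))
    have hc := card_lt_of_lt hlt
    rw [hZ, hi] at hc
    nth_rw 1 [← pow_one p] at hc
    rw [Nat.pow_lt_pow_iff_right hp.out.one_lt] at hc
    rw [hZ2c, hi]
    exact Nat.pow_le_pow_right hp.out.pos hc
  have hCw : ∀ g : H, g * w = w * g → g ∈ C := by
    intro g hg
    rw [hC, ← hsup, Subgroup.mem_centralizer_iff]
    intro t ht
    have hle : Z ⊔ Subgroup.zpowers w ≤ Subgroup.centralizer {g} := sup_le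
      (fun c hc => Subgroup.mem_centralizer_singleton_iff.mpr (Subgroup.mem_center_iff.mp hc g).symm)
      (Subgroup.zpowers_le.mpr (Subgroup.mem_centralizer_singleton_iff.mpr hg.symm))
    exact Subgroup.mem_centralizer_singleton_iff.mp (hle ht)
  have hZ2C : Z₂ ≤ C := fun t ht => Subgroup.mem_centralizer_iff.mpr fun s hs => by
    haveI := IsPGroup.isMulCommutative_of_card_eq_prime_sq hZ2c
    exact congrArg Subtype.val (IsPGroup.commutative_of_card_eq_prime_sq hZ2c ⟨s, hs⟩ ⟨t, ht⟩)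
  let χ : H →* Z :=
    { toFun := fun g => ⟨w * g * w⁻¹ * g⁻¹, (hZ2m w).mp hw g⟩
      map_one' := Subtype.ext (by simp)
      map_mul' := fun d e => Subtype.ext (by
        show w * (d * e) * w⁻¹ * (d * e)⁻¹ = w * d * w⁻¹ * d⁻¹ * (w * e * w⁻¹ * e⁻¹)
        calc w * (d * e) * w⁻¹ * (d * e)⁻¹
            = (w * d * w⁻¹ * d⁻¹) * (d * (w * e * w⁻¹ * e⁻¹)) * d⁻¹ := by group
          _ = _ := by rw [Subgroup.mem_center_iff.mp ((hZ2m w).mp hw e) d, ← mul_assoc, mul_inv_cancel_right]) }
  have hkC : χ.ker ≤ C := fun g hg => hCw g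
    (mul_inv_eq_iff_eq_mul.mp (mul_inv_eq_one.mp (congrArg Subtype.val (MonoidHom.mem_ker.mp hg)))).symm
  refine no_three hS hF hH Z Z₂ C hZZ2 hZ2C (fun α _ => center_inv α) (fun α _ x hx => ?_) (fun α _ x hx => ?_)
    hZ.le (by rw [hZ2c, hZ, sq]) ?_ ?_
  · refine (hZ2m _).mpr fun g => ?_
    obtain ⟨g', rfl⟩ := α.surjective g
    rw [← map_inv, ← map_inv, ← map_mul, ← map_mul, ← map_mul]
    exact center_inv α _ ((hZ2m x).mp hx g')
  · refine Subgroup.mem_centralizer_iff.mpr fun t ht => ?_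
    obtain ⟨t', rfl⟩ := α.surjective t
    have ht' : t' ∈ Z₂ := (hZ2m t').mpr fun g => by
      have h := center_inv α.symm _ ((hZ2m _).mp ht (α g))
      simpa using h
    rw [← map_mul, ← map_mul, Subgroup.mem_centralizer_iff.mp hx t' ht']
  · have hlt : C ≠ ⊤ := fun e => hwZ (Subgroup.mem_center_iff.mpr fun g =>
      (Subgroup.mem_centralizer_iff.mp (e.ge (Subgroup.mem_top g)) w hw).symm)
    have hc := card_lt_of_lt (lt_top_iff_ne_top.mpr hlt)
    obtain ⟨i, hi⟩ := IsPGroup.iff_card.mp (hA.to_subgroup C)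
    rw [hi, Subgroup.card_top, hcard, Nat.pow_lt_pow_iff_right hp.out.one_lt] at hc
    rw [hi, hZ2c, ← pow_succ']
    exact Nat.pow_le_pow_right hp.out.pos (by omega)
  · rw [← χ.ker.index_mul_card, Subgroup.index_ker]
    exact Nat.mul_le_mul ((Subgroup.card_le_card_group χ.range).trans hZ.le) (Subgroup.card_le_of_le hkC)

end Ess

end Cfsg.Agent.Fusion.EssFour
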