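import Cfsg.Agent.Fusion.Transport
import Cfsg.Agent.Fusion.NormalMore
import Mathlib.GroupTheory.SemidirectProduct

/-!
The fusion system of a semidirect product of a `p`-group by automorphisms of order prime to `p`.
-/

set_option autoImplicit false

namespace Cfsg.Agent.Fusion

open Cfsg Cfsg.FusionSystem

variable {Ω : Type*} [Group Ω] {S R : Subgroup Ω} {p : ℕ}

/-- The system over `R` of the restrictions of the elements of `Inn(R) H`. -/
def autSystem (R : Subgroup Ω) (H : Subgroup (MulAut R)) : FusionSystem R where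
  Hom P := {φ | ∃ hP : P ≤ R, ∃ g ∈ Inn R ⊔ H, ∀ x : P, φ x = ((g ⟨x, hP x.2⟩ : R) : Ω)}
  le_of_mem := fun ⟨hP, _, _, e⟩ => ⟨hP, fun x => e x ▸ SetLike.coe_mem _⟩
  injective_of_mem := fun ⟨hP, g, _, e⟩ x y h => by
    rw [e, e] at h
    have h2 := congrArg Subtype.val (g.injective (Subtype.ext h))
    exact Subtype.ext h2
  conj_mem := fun hP hg => ⟨hP, MulAut.conj ⟨_, hg⟩, Subgroup.mem_sup_left ⟨_, rfl⟩, fun _ => rfl⟩
  comp_mem := fun {P Q φ ψ} ⟨hP, g, hg, e⟩ ⟨hQ, g', hg', e'⟩ h =>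
    ⟨hP, g' * g, mul_mem hg' hg, fun x => by
      show ψ ⟨φ x, h x⟩ = _
      rw [e' ⟨φ x, h x⟩, MulAut.mul_apply]
      exact congrArg (fun y : R => ((g' y : R) : Ω)) (Subtype.ext (e x))⟩
  inv_mem := fun {P φ} ⟨hP, g, hg, e⟩ => by
    have hr : φ.range ≤ R := by rintro _ ⟨x, rfl⟩; rw [e]; exact SetLike.coe_mem _
    refine ⟨R.subtype.comp (g⁻¹.toMonoidHom.comp (Subgroup.inclusion hr)),
      ⟨hr, g⁻¹, inv_mem hg, fun x => rfl⟩, fun x => ?_⟩
    show ((g⁻¹ ⟨φ x, _⟩ : R) : Ω) = _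
    rw [show (⟨φ x, hr ⟨x, rfl⟩⟩ : R) = g ⟨x, hP x.2⟩ from Subtype.ext (e x), MulAut.inv_apply_self]

theorem mem_autSystem {H : Subgroup (MulAut R)} {P : Subgroup Ω} {φ : P →* Ω} :
    φ ∈ (autSystem R H).Hom P ↔
      ∃ hP : P ≤ R, ∃ g ∈ Inn R ⊔ H, ∀ x : P, φ x = ((g ⟨x, hP x.2⟩ : R) : Ω) := Iff.rfl

theorem autSystem_aut {H : Subgroup (MulAut R)} {h : MulAut R} (hh : h ∈ Inn R ⊔ H) :
    R.subtype.comp h.toMonoidHom ∈ (autSystem R H).Hom R :=
  ⟨le_rfl, h, hh, fun _ => rfl⟩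

theorem autSystem_le {H : Subgroup (MulAut R)} {F : FusionSystem S} (hRS : R ≤ S)
    (hH : H ≤ F.autGroup R) : (autSystem R H).IsSubsystemOf F := by
  rintro P φ ⟨hP, g, hg, e⟩
  obtain ⟨f, hf, ef⟩ :=
    (mem_autGroup_iff hRS).mp (sup_le (inn_le_autGroup hRS) hH hg)
  exact mem_of_mor (hf.mor.restrict hP) fun x => (e x).trans (ef ⟨x, hP x.2⟩).symm

theorem autSystem_saturated [Fact p.Prime] [Finite R] (hR : IsPGroup p R) {H : Subgroup (MulAut R)}
    (hH : (Nat.card H).Coprime p) : (autSystem R H).IsSaturated p := by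
  haveI : Finite (MulAut R) := Finite.of_injective (fun a : MulAut R => (a : R → R)) fun _ _ h =>
    MulEquiv.ext (congrFun h)
  let G := R ⋊[H.subtype] H
  haveI : Finite G := Finite.of_equiv _ SemidirectProduct.equivProd.symm
  let ι : R →* G := SemidirectProduct.inl
  have hconj : ∀ (r : R) (h : H) (x : R), (⟨r, h⟩ : G) * ι x * (⟨r, h⟩ : G)⁻¹ =
      ι (r * (h : MulAut R) x * r⁻¹) := by
    intro r h x
    rw [show (⟨r, h⟩ : G) = SemidirectProduct.inl r * SemidirectProduct.inr h from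
      (SemidirectProduct.inl_left_mul_inr_right (⟨r, h⟩ : G)).symm, show ((h : MulAut R) x) = H.subtype h x from rfl]
    simp only [ι, map_mul, map_inv, mul_inv_rev]
    rw [SemidirectProduct.inl_aut, map_inv]
    group
  have hidx : ι.range.index = Nat.card H := by
    rw [SemidirectProduct.range_inl_eq_ker_rightHom, Subgroup.index_ker,
      MonoidHom.range_eq_top.mpr SemidirectProduct.rightHom_surjective, Subgroup.card_top]
  refine realized_saturated (G := G) (ι := ι) hR ⟨SemidirectProduct.inl_injective, fun P hP φ hφ => ?_⟩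
    ⟨(hR.of_surjective _ ι.rangeRestrict_surjective).toSylow (by
      rw [hidx]
      exact fun h => (Fact.out : p.Prime).ne_one (Nat.eq_one_of_dvd_coprimes hH h dvd_rfl)),
      IsPGroup.toSylow_coe _ _⟩
  constructor
  · rintro ⟨hP', g, hg, e⟩
    haveI := innNormal R
    obtain ⟨i, ⟨r, rfl⟩, h, hh, rfl⟩ := Subgroup.mem_sup_of_normal_left.mp hg
    refine ⟨⟨r, ⟨h, hh⟩⟩, fun x => ?_⟩
    rw [hconj]
    exact congrArg ι (Subtype.ext (e x))
  · rintro ⟨⟨r, h⟩, hg⟩
    refine ⟨hP, MulAut.conj r * h, mul_mem (Subgroup.mem_sup_left ⟨r, rfl⟩)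
      (Subgroup.mem_sup_right h.2), fun x => ?_⟩
    have h1 := hg x
    rw [hconj] at h1
    exact congrArg Subtype.val (SemidirectProduct.inl_injective h1)

theorem autSystem_mem_inn {H : Subgroup (MulAut R)}
    (hin : ∀ P, (autSystem R H).Hom P = (innerFusionSystem R).Hom P) : H ≤ Inn R := by
  intro h hh
  have h1 := hin R ▸ autSystem_aut (Subgroup.mem_sup_right hh : h ∈ Inn R ⊔ H)
  obtain ⟨-, g, hg, eg⟩ := h1
  exact ⟨⟨g, hg⟩, MulEquiv.ext fun x => Subtype.ext (eg x).symm⟩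

/-- In an automorphism group of a `p`-group an element of order prime to `p` is inner only if trivial. -/
theorem eq_one_of_mem_inn [Fact p.Prime] (hR : IsPGroup p R) {a : MulAut R}
    (ha : a ∈ Inn R) (hc : (orderOf a).Coprime p) : a = 1 := by
  obtain ⟨k, hk⟩ := (hR.of_surjective _ (MulAut.conj : R →* MulAut R).rangeRestrict_surjective) ⟨a, ha⟩
  have h1 : a ^ p ^ k = 1 := congrArg Subtype.val hk
  exact orderOf_eq_one_iff.mp (Nat.eq_one_of_dvd_coprimes (hc.pow_right k) dvd_rfl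
    (orderOf_dvd_of_pow_eq_one h1))

end Cfsg.Agent.Fusion
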