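/-
Residual limits of subsystems of p-power index.
-/
import Cfsg.Agent.Fusion.HypFocal
import Cfsg.Prelude.Def_FusionReduction
set_option autoImplicit false

namespace Cfsg.Agent.Fusion

open Cfsg Cfsg.FusionSystem

universe u

variable {Ω : Type u} [Group Ω] {S T : Subgroup Ω} {F : FusionSystem S} {E : FusionSystem T} {p : ℕ}

/-- Systems over equal subgroups with equal maps. -/
def SameSys {T S : Subgroup Ω} (E : FusionSystem T) (F : FusionSystem S) : Prop :=
  T = S ∧ ∀ P, E.Hom P = F.Hom P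

theorem subsystem_dom_le (h : E.IsSubsystemOf F) : T ≤ S :=
  (F.le_of_mem (h T (E.conj_mem le_rfl T.one_mem))).1

theorem SameSys.of_subsystem (h : E.IsSubsystemOf F) (h' : F.IsSubsystemOf E) : SameSys E F :=
  ⟨le_antisymm (subsystem_dom_le h) (subsystem_dom_le h'), fun P => Set.Subset.antisymm (h P) (h' P)⟩

theorem hyperfocal_le_of_index [Fact p.Prime] [Finite S] (hS : IsPGroup p S)
    (hT : F.StronglyClosed T) (hidx : E.HasPPowerIndexIn F p) :
    F.hyperfocalSubgroup p = E.hyperfocalSubgroup p := by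
  haveI := finite_of_le hT.1
  refine le_antisymm (hyperfocal_le_of fun P f k hf hk hfk x hx => ?_)
    (hyperfocal_le_of fun P f k hf hk hfk x hx =>
      mem_hyperfocal_gen ⟨subsystem_mor hidx.1 hf.mor, hf.bij⟩ hk hfk hx)
  set Q := P ⊓ T
  have hQT : Q ≤ T := inf_le_right
  haveI := finite_of_le hQT
  have hfQ : Iso F f Q Q := (hf.mor.restrict inf_le_left).iso_of_card
    (fun y hy => ⟨hf.mapsTo hy.1, stronglyClosed_mem hT hf.mor hy.1 hy.2⟩) le_rfl
  set H := E.hyperfocalSubgroup p
  have hdiff : ∀ y ∈ Q, y⁻¹ * f y ∈ H := by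
    intro y hy
    haveI := finite_mulAut (G := Q)
    have hres : (⟨hfQ.equiv, hfQ.equiv_mem_autGroup⟩ : F.autGroup Q) ∈ pResidual p (F.autGroup Q) :=
      Subgroup.subset_closure (Nat.Coprime.coprime_dvd_left (orderOf_dvd_of_pow_eq_one
        (Subtype.ext (MulEquiv.ext fun z => Subtype.ext ((equiv_pow_apply hfQ k z).trans
          (hfk z z.2.1))))) hk)
    obtain ⟨e, he, ee⟩ := (mem_autGroup_iff hQT).mp
      (hidx.2.2 Q hQT ⟨_, hres, rfl⟩ : (hfQ.equiv : MulAut Q) ∈ E.autGroup Q)
    have hek : ∀ n, ∀ z ∈ Q, e^[n] z = f^[n] z := by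
      intro n
      induction n with
      | zero => intro z _; rfl
      | succ n ih =>
        intro z hz
        rw [Function.iterate_succ_apply', Function.iterate_succ_apply', ih z hz]
        exact ee ⟨_, iterate_mapsTo (fun w hw => hfQ.mapsTo hw) n z hz⟩
    have hey : e y = f y := ee ⟨y, hy⟩
    rw [← hey]
    exact mem_hyperfocal_gen he hk (fun z hz => (hek k z hz).trans (hfk z hz.1)) hy
  set δ := x⁻¹ * f x with hδ
  have hδT : δ ∈ T := hidx.2.1 (mem_hyperfocal_gen hf hk hfk hx)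
  have hδQ : δ ∈ Q := ⟨P.mul_mem (P.inv_mem hx) (hf.mapsTo hx), hδT⟩
  have hn : ∀ n, ∃ h ∈ H, δ ^ n * h ∈ Q ∧ f^[n] x = x * (δ ^ n * h) := by
    intro n
    induction n with
    | zero => exact ⟨1, H.one_mem, by simp, by simp⟩
    | succ n ih =>
      obtain ⟨h, hh, hq, he⟩ := ih
      refine ⟨h * ((δ ^ n * h)⁻¹ * f (δ ^ n * h)), H.mul_mem hh (hdiff _ hq), ?_, ?_⟩
      · rw [show δ ^ (n + 1) * (h * ((δ ^ n * h)⁻¹ * f (δ ^ n * h))) = δ * f (δ ^ n * h) by
          rw [pow_succ']; simp [mul_assoc]]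
        exact mul_mem hδQ (hfQ.mapsTo hq)
      · rw [Function.iterate_succ_apply', he, hf.mor.map_mul hx hq.1]
        rw [show δ ^ (n + 1) * (h * ((δ ^ n * h)⁻¹ * f (δ ^ n * h))) = δ * f (δ ^ n * h) by
          rw [pow_succ']; simp [mul_assoc]]
        rw [hδ, ← mul_assoc, mul_inv_cancel_left]
  obtain ⟨h, hh, -, he⟩ := hn k
  rw [hfk x hx, left_eq_mul] at he
  have hpow : δ ^ k ∈ H := eq_inv_of_mul_eq_one_left he ▸ H.inv_mem hh
  obtain ⟨j, hj⟩ := IsPGroup.iff_orderOf.mp hS ⟨δ, hT.1 hδT⟩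
  rw [Subgroup.orderOf_mk] at hj
  have hco : k.Coprime (orderOf δ) := hj ▸ hk.pow_right j
  obtain ⟨m, hm⟩ := exists_pow_eq_self_of_coprime hco
  exact hm ▸ H.pow_mem hpow m

theorem pResidual_same [Fact p.Prime] [Finite S] (hS : IsPGroup p S)
    (hT : F.StronglyClosed T) (hidx : E.HasPPowerIndexIn F p)
    {D : FusionSystem (F.hyperfocalSubgroup p)} {D₁ : FusionSystem (E.hyperfocalSubgroup p)}
    (hD : F.IsPResidual p D) (hD₁ : E.IsPResidual p D₁) : SameSys D₁ D := by
  have heq := hyperfocal_le_of_index hS hT hidx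
  haveI := finite_of_le hT.1
  have hFp : IsPGroup p (F.hyperfocalSubgroup p) := hS.to_le hyperfocal_le
  have hEp : IsPGroup p (E.hyperfocalSubgroup p) := heq ▸ hFp
  haveI := finite_of_le (hyperfocal_le (F := F) (p := p))
  haveI := finite_of_le (hyperfocal_le (F := E) (p := p))
  have hsub : D₁.IsSubsystemOf F := fun P φ hφ => hidx.1 P (hD₁.2.1 P hφ)
  have h1 : D.IsSubsystemOf E :=
    subsystem_of_pPowerIndex hFp hD.1 hD.2.1 hidx.2.1 hidx.2.2
  exact SameSys.of_subsystem (subsystem_of_pPowerIndex hEp hD₁.1 hsub heq.ge hD.2.2.2)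
    (subsystem_of_pPowerIndex hFp hD.1 h1 heq.le hD₁.2.2.2)

theorem pPrimeResidual_same {D : FusionSystem S} {D₁ : FusionSystem T} (h : SameSys D₁ D)
    {R : FusionSystem S} {R₁ : FusionSystem T} (hR : D.IsPPrimeResidual p R)
    (hR₁ : D₁.IsPPrimeResidual p R₁) : SameSys R₁ R := by
  obtain ⟨rfl, hh⟩ := h
  obtain rfl := system_ext hh
  exact SameSys.of_subsystem (hR₁.2.2 _ hR.1 hR.2.1) (hR.2.2 _ hR₁.1 hR₁.2.1)

theorem hasPPowerIndex_refl [Finite S] : F.HasPPowerIndexIn F p :=
  ⟨fun _ _ h => h, hyperfocal_le, fun _ _ => Subgroup.map_subtype_le _⟩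

theorem stronglyClosed_top : F.StronglyClosed S :=
  stronglyClosed_of_mor le_rfl fun _ _ hf _ hx _ => hf.map_mem hx

/-- A limit of a system equal to a stable one is that system. -/
theorem limit_of_stable {U : Subgroup Ω} {B : FusionSystem U} {S' : Subgroup Ω} {G : FusionSystem S'}
    (hB : B.IsResidualLimitOf G p) : ∀ [Fact p.Prime] [Finite S], IsPGroup p S → F.IsSaturated p →
      F.hyperfocalSubgroup p = S → F.IsPPrimeResidual p F → SameSys G F → SameSys B F := by
  induction hB with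
  | stable G p _ _ => exact fun _ _ _ _ h => h
  | step G p D D' hD hD' hlim IH =>
    intro _ _ hS hF hh hres hsame
    refine IH hS hF hh hres ?_
    obtain ⟨rfl, e⟩ := hsame
    obtain rfl := system_ext e
    haveI := finite_of_le (hyperfocal_le (F := G) (p := p))
    have h1 : G.IsSubsystemOf D :=
      subsystem_of_pPowerIndex hS hF (fun _ _ h => h) hh.ge hD.2.2.2
    exact pPrimeResidual_same (SameSys.of_subsystem hD.2.1 h1) hres hD'

/-- All residual limits of a subsystem of p-power index are those of the system. -/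
theorem residualLimit_eq {U : Subgroup Ω} {A : FusionSystem U} (hA : A.IsResidualLimitOf F p) :
    ∀ [Fact p.Prime] [Finite S], IsPGroup p S → F.IsSaturated p → ∀ {T : Subgroup Ω}
      (E : FusionSystem T), F.StronglyClosed T → E.IsSaturated p → E.HasPPowerIndexIn F p →
      ∀ {V : Subgroup Ω} (B : FusionSystem V), B.IsResidualLimitOf E p → SameSys B A := by
  induction hA with
  | stable F p hh hres =>
    intro _ _ hS hF T E hT hE hidx V B hB
    refine limit_of_stable hB hS hF hh hres (SameSys.of_subsystem hidx.1 ?_)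
    exact subsystem_of_pPowerIndex hS hF (fun _ _ h => h) (hh.ge.trans hidx.2.1) hidx.2.2
  | step F p D D' hD hD' hlim IH =>
    intro _ _ hS hF T E hT hE hidx V B hB
    haveI := finite_of_le (hyperfocal_le (F := F) (p := p))
    have hFp : IsPGroup p (F.hyperfocalSubgroup p) := hS.to_le hyperfocal_le
    cases hB with
    | stable _ _ hh hres =>
      have heq := hyperfocal_le_of_index hS hT hidx
      haveI := finite_of_le hT.1
      have hTeq : T = F.hyperfocalSubgroup p := hh.symm.trans heq.symm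
      have hsame : SameSys E D := SameSys.of_subsystem
        (subsystem_of_pPowerIndex (hS.to_le hT.1) hE hidx.1 hTeq.le hD.2.2.2)
        (subsystem_of_pPowerIndex hFp hD.1 hD.2.1 hTeq.ge hidx.2.2)
      obtain ⟨rfl, e⟩ := pPrimeResidual_same hsame hD' hres
      obtain rfl := system_ext e
      exact IH hFp hD'.1 E stronglyClosed_top hE hasPPowerIndex_refl E (.stable E p hh hres)
    | step _ _ D₁ D₁' h₁ h₁' hlim₁ =>
      obtain ⟨hT', hHom⟩ := pPrimeResidual_same (pResidual_same hS hT hidx hD h₁) hD' h₁'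
      refine IH hFp hD'.1 D₁' (Eq.mpr (congrArg (fun X => D'.StronglyClosed X) hT') stronglyClosed_top) h₁'.1 ⟨fun P => (hHom P).le, ?_, ?_⟩ B hlim₁
      · exact hT'.ge.trans' hyperfocal_le
      · intro P _ α hα
        obtain ⟨a, -, rfl⟩ := hα
        show (a : MulAut P) ∈ Subgroup.closure {β : MulAut P | P.subtype.comp β.toMonoidHom ∈ D₁'.Hom P}
        rw [hHom P]
        exact a.2

end Cfsg.Agent.Fusion
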