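/-
Values of a character along the twists of a stable biset.
-/
import Cfsg.Agent.Fusion.TransferAb
import Cfsg.Agent.Fusion.TateMore
set_option autoImplicit false
set_option linter.style.haveILetI false

namespace Cfsg.Agent.Fusion

open Cfsg Cfsg.FusionSystem

variable {Ω : Type*} [Group Ω] {S : Subgroup Ω} {F : FusionSystem S} {A : Type*} [CommGroup A]

theorem perm_apply_inv {ι : Type*} (ρ : Equiv.Perm ι) (i : ι) : ρ (ρ⁻¹ i) = i := ρ.apply_symm_apply i

theorem perm_inv_apply {ι : Type*} (ρ : Equiv.Perm ι) (i : ι) : ρ⁻¹ (ρ i) = i := ρ.symm_apply_apply i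

namespace StableBiset

variable (X : StableBiset F) (χ : S →* A)

/-- The identification of the biset twisted by `f` with the biset. -/
def IsTwist (P : Subgroup Ω) (f : Ω → Ω) (ρ : Equiv.Perm (Fin X.deg)) (d : Fin X.deg → S) : Prop :=
  ∀ x y : S, (x : Ω) ∈ P → (y : Ω) = f x →
    ∀ i, X.σ y (ρ i) = ρ (X.σ x i) ∧ X.c y (ρ i) = d (X.σ x i) * X.c x i * (d i)⁻¹

/-- The values of `χ` on the identifications. -/
def Val (P : Subgroup Ω) (f : Ω → Ω) (a : A) : Prop :=
  ∃ ρ d, X.IsTwist P f ρ d ∧ ∏ i, χ (d i) = a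

variable {X χ} {P Q : Subgroup Ω} {f g : Ω → Ω} {a b : A}

theorem exists_val (hf : Mor F P f) : ∃ a, X.Val χ P f a := by
  obtain ⟨ρ, d, h⟩ := X.twist P f hf
  exact ⟨_, ρ, d, h, rfl⟩

theorem Val.congr (h : X.Val χ P f a) (e : ∀ x ∈ P, f x = g x) : X.Val χ P g a := by
  obtain ⟨ρ, d, h, rfl⟩ := h
  exact ⟨ρ, d, fun x y hx hy => h x y hx (hy.trans (e x hx).symm), rfl⟩

theorem Val.restrict (h : X.Val χ P f a) (hle : Q ≤ P) : X.Val χ Q f a := by
  obtain ⟨ρ, d, h, rfl⟩ := h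
  exact ⟨ρ, d, fun x y hx hy => h x y (hle hx) hy, rfl⟩

theorem val_id : X.Val χ P id 1 :=
  ⟨1, fun _ => 1, fun x y _ hy i => by
    obtain rfl : y = x := Subtype.ext hy
    exact ⟨rfl, by rw [one_mul, inv_one, mul_one]; rfl⟩,
    Finset.prod_eq_one fun i _ => map_one χ⟩

theorem Val.comp (h : X.Val χ P f a) (hf : ∀ x ∈ P, f x ∈ Q) (hfS : ∀ x ∈ P, f x ∈ S)
    (h' : X.Val χ Q g b) : X.Val χ P (g ∘ f) (a * b) := by
  obtain ⟨ρ, d, h, rfl⟩ := h
  obtain ⟨ρ', d', h', rfl⟩ := h'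
  refine ⟨ρ' * ρ, fun i => d' (ρ i) * d i, fun x y hx hy i => ?_, ?_⟩
  · obtain ⟨h1, h2⟩ := h x ⟨f x, hfS x hx⟩ hx rfl i
    obtain ⟨h3, h4⟩ := h' ⟨f x, hfS x hx⟩ y (hf x hx) hy (ρ i)
    refine ⟨?_, ?_⟩
    · show X.σ y (ρ' (ρ i)) = ρ' (ρ (X.σ x i))
      rw [h3, h1]
    · show X.c y (ρ' (ρ i)) = d' (ρ (X.σ x i)) * d (X.σ x i) * X.c x i * (d' (ρ i) * d i)⁻¹
      rw [h4, h2, h1]
      simp only [mul_assoc, mul_inv_rev]
  · simp only [map_mul, Finset.prod_mul_distrib]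
    rw [Equiv.prod_comp ρ fun i => χ (d' i), mul_comm]

theorem Val.inv (h : X.Val χ P f a) (hf : Iso F f P Q) (hl : ∀ x ∈ P, g (f x) = x) :
    X.Val χ Q g a⁻¹ := by
  obtain ⟨ρ, d, h, rfl⟩ := h
  refine ⟨ρ⁻¹, fun i => (d (ρ⁻¹ i))⁻¹, fun y x hy hx i => ?_, ?_⟩
  · obtain ⟨w, hw, e⟩ := hf.surj hy
    have hxw : (x : Ω) = w := by rw [hx, ← e, hl w hw]
    obtain ⟨h1, h2⟩ := h x y (hxw ▸ hw) (by rw [hxw, e]) (ρ⁻¹ i)
    rw [perm_apply_inv] at h1 h2
    refine ⟨by rw [h1, perm_inv_apply], ?_⟩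
    show X.c x (ρ⁻¹ i) = (d (ρ⁻¹ (X.σ y i)))⁻¹ * X.c y i * ((d (ρ⁻¹ i))⁻¹)⁻¹
    rw [h1, perm_inv_apply, h2]
    simp only [mul_assoc, inv_inv, inv_mul_cancel_left, inv_mul_cancel, mul_one]
  · simp only [map_inv, Finset.prod_inv_distrib]
    rw [Equiv.prod_comp ρ⁻¹ fun i => χ (d i)]

theorem val_conj (hinv : ∀ {R : Subgroup Ω} {h : Ω → Ω}, Mor F R h → ∀ {x y : S}, (x : Ω) ∈ R →
    (y : Ω) = h x → χ y = χ x) (t : S) : X.Val χ S (cj (t : Ω)) (χ t ^ X.deg) := by
  refine ⟨X.σ t, fun i => X.c t i, fun x y _ hy i => ?_, ?_⟩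
  · obtain rfl : y = t * x * t⁻¹ := Subtype.ext hy
    refine ⟨?_, ?_⟩
    · show X.σ (t * x * t⁻¹) (X.σ t i) = X.σ t (X.σ x i)
      rw [← Equiv.Perm.mul_apply, ← Equiv.Perm.mul_apply, ← map_mul, ← map_mul, inv_mul_cancel_right]
    · have h1 := X.cocycle (t * x * t⁻¹) t i
      rw [inv_mul_cancel_right, X.cocycle] at h1
      exact eq_mul_inv_iff_mul_eq.mpr h1.symm
  · rw [← X.transfer_apply χ t]
    refine X.transfer_of_fixed χ fun m i hi => ?_
    obtain ⟨R, h, hh, e⟩ := X.orbit i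
    obtain ⟨hR, he⟩ := e _ hi
    rw [← map_pow]
    exact hinv hh hR he.symm

/-- A nontrivial automorphism value produces a centralizing element outside the kernel. -/
theorem exists_centralizer_of_val [Finite S] {p : ℕ} [Fact p.Prime] (hS : IsPGroup p S)
    (hA : ∀ a : A, a ^ p = 1) (hinv : ∀ {R : Subgroup Ω} {h : Ω → Ω}, Mor F R h → ∀ {x y : S}, (x : Ω) ∈ R →
    (y : Ω) = h x → χ y = χ x) (hQS : Q ≤ S) (hQ : ∀ x : S, (x : Ω) ∈ Q → χ x = 1)
    (hv : X.Val χ Q id a) (ha : a ≠ 1) :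
    ∃ (R : Subgroup Ω) (h : Ω → Ω), Iso F h Q R ∧ ∃ z : S, (z : Ω) ∈ centralizerIn S R ∧ χ z ≠ 1 := by
  classical
  by_contra hno
  push Not at hno
  obtain ⟨ρ, d, h, rfl⟩ := hv
  have hd : ∀ (x : S), (x : Ω) ∈ Q → ∀ i, X.σ x (ρ i) = ρ (X.σ x i) ∧
      X.c x (ρ i) = d (X.σ x i) * X.c x i * (d i)⁻¹ := fun x hx => h x x hx rfl
  let H : Subgroup S := Q.subgroupOf S
  have hfix : ∀ x : H, ∀ i, X.σ (x : S) i = i → χ (X.c x i) = 1 := by
    intro x i hi
    obtain ⟨R, f, hf, e⟩ := X.orbit i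
    obtain ⟨hR, he⟩ := e _ hi
    rw [hinv hf hR he.symm]
    exact hQ _ x.2
  -- a potential
  let rt : Fin X.deg → Fin X.deg := fun i =>
    @Classical.epsilon _ ⟨i⟩ fun k => ∃ x : H, X.σ (x : S) i = k
  have hrt : ∀ i, ∃ x : H, X.σ (x : S) (rt i) = i := fun i => by
    obtain ⟨x, hx⟩ := @Classical.epsilon_spec _ (fun k => ∃ x : H, X.σ (x : S) i = k)
      ⟨i, 1, by rw [OneMemClass.coe_one, X.σ_one]⟩
    refine ⟨x⁻¹, ?_⟩
    show X.σ ((x : S)⁻¹) (rt i) = i
    rw [map_inv, show rt i = X.σ (x : S) i from hx.symm, perm_inv_apply]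
  have hrt' : ∀ (x : H) i, rt (X.σ (x : S) i) = rt i := by
    intro x i
    refine congrArg (@Classical.epsilon _ ⟨i⟩) (funext fun k => propext ⟨?_, ?_⟩)
    · rintro ⟨t, ht⟩
      exact ⟨t * x, by rw [Subgroup.coe_mul, map_mul, Equiv.Perm.mul_apply, ht]⟩
    · rintro ⟨t, ht⟩
      exact ⟨t * x⁻¹, by rw [Subgroup.coe_mul, Subgroup.coe_inv, map_mul, map_inv, Equiv.Perm.mul_apply,
        perm_inv_apply, ht]⟩
  choose tr htr using hrt
  let e : Fin X.deg → A := fun i => χ (X.c (tr i : S) (rt i))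
  have he : ∀ (x : H) i, e (X.σ (x : S) i) = χ (X.c x i) * e i := by
    intro x i
    set y : H := (tr (X.σ (x : S) i))⁻¹ * (x * tr i) with hy
    have hyfix : X.σ (y : S) (rt i) = rt i := by
      have h1 := htr (X.σ (x : S) i)
      rw [hrt'] at h1
      show X.σ ((tr (X.σ (x : S) i) : S)⁻¹ * ((x : S) * (tr i : S))) (rt i) = rt i
      rw [map_mul, map_inv, map_mul, Equiv.Perm.mul_apply, Equiv.Perm.mul_apply, htr i,
        Equiv.Perm.inv_eq_iff_eq]
      exact h1.symm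
    have hxy : (x : S) * (tr i : S) = (tr (X.σ (x : S) i) : S) * (y : S) :=
      (mul_inv_cancel_left _ _).symm
    have h1 := X.cocycle (x : S) (tr i : S) (rt i)
    rw [hxy, X.cocycle, hyfix, htr i] at h1
    show χ (X.c (tr (X.σ (x : S) i) : S) (rt (X.σ (x : S) i))) = _
    rw [hrt', ← map_mul, ← h1, map_mul, hfix y _ hyfix, mul_one]
  let g : Fin X.deg → A := fun i => χ (d i) * e i * (e (ρ i))⁻¹
  have hg : ∏ i, g i = ∏ i, χ (d i) := by
    simp only [g, Finset.prod_mul_distrib, Finset.prod_inv_distrib]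
    rw [Equiv.prod_comp ρ e, mul_inv_cancel_right]
  have hginv : ∀ (x : H) i, g (X.σ (x : S) i) = g i := by
    intro x i
    obtain ⟨h1, h2⟩ := hd x x.2 i
    show χ (d (X.σ (x : S) i)) * e _ * (e (ρ (X.σ (x : S) i)))⁻¹ = χ (d i) * e i * (e (ρ i))⁻¹
    rw [he, ← h1, he, h2]
    simp only [map_mul, map_inv]
    generalize χ (d (X.σ (x : S) i)) = a₁, χ (X.c (x : S) i) = b₁, χ (d i) = a₂, e i = u, e (ρ i) = v
    simp only [mul_inv_rev, inv_inv]
    calc a₁ * (b₁ * u) * (v⁻¹ * (a₂ * (b₁⁻¹ * a₁⁻¹)))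
        = a₂ * u * v⁻¹ * (a₁ * a₁⁻¹) * (b₁ * b₁⁻¹) := by
          simp only [mul_comm, mul_left_comm, mul_assoc]
      _ = _ := by rw [mul_inv_cancel, mul_inv_cancel, mul_one, mul_one]
  -- only the fixed points count
  let fixd : Fin X.deg → Prop := fun i => ∀ x : H, X.σ (x : S) i = i
  have hg' : ∏ i, g i = ∏ i, if fixd i then χ (d i) else 1 := by
    rw [← Finset.prod_filter, ← Finset.prod_filter_mul_prod_filter_not Finset.univ fixd g]
    have hmove : ∏ i ∈ Finset.univ.filter (fun i => ¬ fixd i), g i = 1 := by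
      rw [← Finset.prod_fiberwise_of_maps_to (g := g)
        (t := (Finset.univ.filter fun i => ¬ fixd i).image g) (fun i hi => Finset.mem_image_of_mem g hi)]
      refine Finset.prod_eq_one fun a _ => ?_
      rw [Finset.prod_congr rfl fun i hi => (Finset.mem_filter.mp hi).2, Finset.prod_const]
      set M := (Finset.univ.filter fun i => ¬ fixd i).filter fun i => g i = a with hM
      have hMinv : ∀ (x : H) i, i ∈ M → X.σ (x : S) i ∈ M := by
        intro x i hi
        simp only [hM, Finset.mem_filter, Finset.mem_univ, true_and] at hi ⊢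
        refine ⟨fun hf => hi.1 ?_, (hginv x i).trans hi.2⟩
        have h1 := hf x⁻¹
        rw [Subgroup.coe_inv, map_inv, perm_inv_apply] at h1
        rw [h1]; exact hf
      letI act : MulAction H {i // i ∈ M} :=
        { smul := fun x i => ⟨X.σ (x : S) i, hMinv x i i.2⟩
          one_smul := fun i => Subtype.ext (X.σ_one i.1)
          mul_smul := fun x y i => Subtype.ext (by
            show X.σ ((x : S) * (y : S)) i.1 = X.σ (x : S) (X.σ (y : S) i.1)
            rw [map_mul]; rfl) }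
      have h1 := (hS.to_subgroup H).card_modEq_card_fixedPoints {i // i ∈ M}
      have h2 : Nat.card (MulAction.fixedPoints H {i // i ∈ M}) = 0 := by
        rw [Nat.card_eq_zero]
        refine Or.inl ⟨fun ⟨i, hi⟩ => ?_⟩
        exact (Finset.mem_filter.mp (Finset.mem_filter.mp i.2).1).2 fun x => congrArg Subtype.val (hi x)
      rw [h2, Nat.card_eq_fintype_card, Fintype.card_coe] at h1
      obtain ⟨k, hk⟩ := (Nat.modEq_zero_iff_dvd).mp h1
      rw [hk, pow_mul, hA, one_pow]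
    rw [hmove, mul_one]
    refine Finset.prod_congr rfl fun i hi => ?_
    have hi := (Finset.mem_filter.mp hi).2
    have hρ : fixd (ρ i) := fun x => by
      rw [(hd x x.2 i).1, hi x]
    show χ (d i) * e i * (e (ρ i))⁻¹ = χ (d i)
    have he1 : ∀ j, fixd j → e j = 1 := fun j hj =>
      hfix (tr j) (rt j) (by
        have hr : rt j = j := by
          have := congrArg (X.σ ((tr j : S)⁻¹)) (htr j)
          rw [map_inv, perm_inv_apply] at this
          rw [this, ← map_inv]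
          exact hj (tr j)⁻¹
        rw [hr]; exact hj (tr j))
    rw [he1 i hi, he1 _ hρ, mul_one, inv_one, mul_one]
  refine ha ?_
  rw [← hg, hg']
  refine (prod_eq_of_cycles ρ _ (fun _ => (1 : A)) fun i => ?_).trans (Finset.prod_const_one)
  rw [Finset.prod_const_one]
  by_cases hi : fixd i
  swap
  · refine Finset.prod_eq_one fun k _ => if_neg fun hk => hi fun x => ?_
    have hstep : ∀ m, X.σ (x : S) (ρ^[m] i) = ρ^[m] (X.σ (x : S) i) := by
      intro m
      induction m with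
      | zero => rfl
      | succ m ih => rw [Function.iterate_succ_apply', (hd x x.2 _).1, ih, Function.iterate_succ_apply']
    exact (ρ.injective.iterate k) ((hstep k).symm.trans (hk x))
  have hik : ∀ k, fixd (ρ^[k] i) := by
    intro k
    induction k with
    | zero => exact hi
    | succ k ih =>
      intro x
      rw [Function.iterate_succ_apply', (hd x x.2 _).1, ih x]
  let z : ℕ → S := fun n => Nat.rec 1 (fun k acc => d (ρ^[k] i) * acc) n
  have hzc : ∀ n (x : H), X.c x (ρ^[n] i) = z n * X.c x i * (z n)⁻¹ := by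
    intro n x
    induction n with
    | zero =>
      show X.c x i = 1 * X.c x i * 1⁻¹
      simp
    | succ n ih =>
      rw [Function.iterate_succ_apply', (hd x x.2 _).2, hik n x, ih]
      show _ = d _ * z n * _ * (d _ * z n)⁻¹
      simp only [mul_assoc, mul_inv_rev]
  have hzp : ∀ n, χ (z n) = ∏ k ∈ Finset.range n, χ (d (ρ^[k] i)) := by
    intro n
    induction n with
    | zero => exact map_one χ
    | succ n ih =>
      show χ (d _ * z n) = _
      rw [map_mul, ih, Finset.prod_range_succ, mul_comm]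
  rw [Finset.prod_congr rfl (fun k _ => if_pos (hik k)), ← hzp]
  set N := Function.minimalPeriod ρ i with hN
  have hperiod : ρ^[N] i = i := Function.iterate_minimalPeriod
  obtain ⟨R, f, hf, ef⟩ := X.orbit i
  have hQR : Q ≤ R := fun x hx => (ef ⟨x, hQS hx⟩ (hi ⟨⟨x, hQS hx⟩, hx⟩)).1
  refine hno (hf.restrict hQR).img f (hf.restrict hQR).toIso (z N) ⟨(z N).2, fun y hy => ?_⟩
  obtain ⟨x, hx, rfl⟩ := (hf.restrict hQR).mem_img.mp hy
  have h1 := hzc N ⟨⟨x, hQS hx⟩, hx⟩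
  rw [hperiod] at h1
  have h2 := congrArg Subtype.val (eq_mul_inv_iff_mul_eq.mp h1)
  simp only [Subgroup.coe_mul] at h2
  rw [← (ef ⟨x, hQS hx⟩ (hi ⟨⟨x, hQS hx⟩, hx⟩)).2] at h2
  exact h2

end StableBiset

end Cfsg.Agent.Fusion
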