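/-
Subsystems of `p`-power index.
-/
import Cfsg.Agent.Fusion.TwistValue
import Cfsg.Agent.Fusion.ResidualLimit
import Mathlib.GroupTheory.SpecificGroups.Cyclic
set_option autoImplicit false
set_option linter.style.haveILetI false

namespace Cfsg.Agent.Fusion

open Cfsg Cfsg.FusionSystem

universe u

variable {Ω : Type u} [Group Ω] {S : Subgroup Ω} {F : FusionSystem S} {p : ℕ}

theorem normal_of_focal_le {U : Subgroup Ω} (hU : F.focalSubgroup ≤ U) : (U.subgroupOf S).Normal := by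
  refine ⟨fun x hx g => ?_⟩
  have h1 := mem_focal_gen (Mor.conj (F := F) le_rfl g.2) x.2
  have h2 : (x : Ω) * ((x : Ω)⁻¹ * cj (g : Ω) x) ∈ U := U.mul_mem hx (hU h1)
  rw [mul_inv_cancel_left] at h2
  exact h2

/-- A subgroup of index `p` over the focal subgroup carries a subsystem of `p`-power index. -/
theorem exists_index_system [Fact p.Prime] [Finite S] (hS : IsPGroup p S) (hF : F.IsSaturated p)
    {U : Subgroup Ω} (hUS : U ≤ S) (hU : F.focalSubgroup ≤ U) (hidx : (U.subgroupOf S).index = p) :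
    ∃ E : FusionSystem U, E.IsSaturated p ∧ E.HasPPowerIndexIn F p := by
  classical
  haveI := normal_of_focal_le hU
  haveI := finite_of_le hUS
  have hp : p.Prime := Fact.out
  set A := S ⧸ U.subgroupOf S
  have hcard : Nat.card A = p := hidx
  haveI : IsCyclic A := isCyclic_of_prime_card hcard
  letI : CommGroup A := IsCyclic.commGroup
  let χ : S →* A := QuotientGroup.mk' (U.subgroupOf S)
  have hker : ∀ x : S, χ x = 1 ↔ (x : Ω) ∈ U := fun x => QuotientGroup.eq_one_iff x
  have hA : ∀ a : A, a ^ p = 1 := fun a => hcard ▸ pow_card_eq_one'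
  have hinv : ∀ {R : Subgroup Ω} {h : Ω → Ω}, Mor F R h → ∀ {x y : S}, (x : Ω) ∈ R →
      (y : Ω) = h x → χ y = χ x := by
    intro R h hh x y hx hy
    symm
    refine QuotientGroup.eq.mpr (hU ?_)
    show (x : Ω)⁻¹ * y ∈ F.focalSubgroup
    rw [hy]
    exact mem_focal_gen hh hx
  have hmapU : ∀ {R : Subgroup Ω} {h : Ω → Ω}, Mor F R h → ∀ x ∈ R, x ∈ U → h x ∈ U := by
    intro R h hh x hx hxU
    have h1 := hU (mem_focal_gen hh hx)
    have h2 := U.mul_mem hxU h1
    rwa [mul_inv_cancel_left] at h2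
  obtain ⟨X, hdeg⟩ := exists_stableBiset hS hF
  have hco : p.Coprime X.deg := hp.coprime_iff_not_dvd.mpr hdeg
  have hdeg1 : ∀ a : A, a ^ X.deg = 1 → a = 1 := fun a ha => by
    rw [← orderOf_eq_one_iff]
    exact Nat.eq_one_of_dvd_coprimes hco (orderOf_dvd_of_pow_eq_one (hA a)) (orderOf_dvd_of_pow_eq_one ha)
  have hsurj : ∀ a : A, ∃ s : S, χ s ^ X.deg = a := by
    intro a
    obtain ⟨b, hb⟩ := (powCoprime (G := A) (n := X.deg) (by rw [hcard]; exact hco)).surjective a
    obtain ⟨s, rfl⟩ := QuotientGroup.mk'_surjective (U.subgroupOf S) b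
    exact ⟨s, hb⟩
  have hconj := fun (P : Subgroup Ω) (hP : P ≤ S) (s : S) =>
    (StableBiset.val_conj (X := X) (χ := χ) hinv s).restrict hP
  -- the system
  let C : (P : Subgroup Ω) → (P →* Ω) → Prop := fun P φ => X.Val χ P (extFun φ) 1
  let E : FusionSystem U := subsystem F U C
    (fun {P g} hP hg => by
      refine ⟨F.conj_mem (hP.trans hUS) (hUS hg), ?_⟩
      have h1 := hconj P (hP.trans hUS) ⟨g, hUS hg⟩
      rw [(hker _).mpr hg, one_pow] at h1
      exact h1.congr fun x hx => by rw [extFun_apply _ hx]; rfl)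
    (fun {P Q φ ψ} hP _ hφ _ a b h => by
      have h1 := a.comp (fun x hx => by rw [extFun_apply φ hx]; exact h ⟨x, hx⟩)
        (fun x hx => by rw [extFun_apply φ hx]; exact (F.le_of_mem hφ).2 _) b
      rw [one_mul] at h1
      refine h1.congr fun x hx => ?_
      show extFun ψ (extFun φ x) = extFun _ x
      rw [extFun_apply φ hx, extFun_apply ψ (h ⟨x, hx⟩), extFun_apply _ hx]
      rfl)
    (fun {P φ} _ _ hφ a ψ _ e => by
      have hm := mor_of_mem hφ
      have hrange : φ.range = hm.img := SetLike.ext fun y => by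
        rw [hm.mem_img]
        exact ⟨fun ⟨x, hx⟩ => ⟨x, x.2, by rw [extFun_coe]; exact hx⟩,
          fun ⟨x, hx, hy⟩ => ⟨⟨x, hx⟩, by rw [← hy, extFun_apply φ hx]⟩⟩
      have hi : Iso F (extFun φ) P φ.range := hrange ▸ hm.toIso
      have h1 := a.inv hi (g := extFun ψ) fun x hx => by
        rw [extFun_apply φ hx, extFun_apply ψ ⟨⟨x, hx⟩, rfl⟩]
        exact e ⟨x, hx⟩
      rwa [inv_one] at h1)
  have hmor : ∀ {P f}, Mor F P f → P ≤ U → (∀ x ∈ P, f x ∈ U) → X.Val χ P f 1 → Mor E P f :=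
    fun hm hP hv ha => ⟨hm.hom, ⟨hm.hom_mem, hP, fun x => hv x x.2,
      ha.congr fun x hx => by rw [extFun_apply _ hx]; rfl⟩, fun _ => rfl⟩
  have hmor' : ∀ {P f}, Mor E P f → Mor F P f ∧ X.Val χ P f 1 := by
    rintro P f ⟨φ, hφ, e⟩
    exact ⟨⟨φ, hφ.1, e⟩, hφ.2.2.2.congr fun x hx => by rw [extFun_apply _ hx]; exact e ⟨x, hx⟩⟩
  have hvinv : ∀ {P : Subgroup Ω} {a : A}, P ≤ S → X.Val χ P id a → X.Val χ P id a⁻¹ :=
    fun hP h => h.inv (Iso.refl hP) fun _ _ => rfl
  have hsat : E.IsSaturated p := by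
    intro P hPU
    have hPS := hPU.trans hUS
    obtain ⟨Q₀, hPQ₀, hQ₀⟩ := exists_fullyNormalized (F := F) hPS
    obtain ⟨f, hf⟩ := isConj_iff.mp hPQ₀
    obtain ⟨a, ha⟩ := StableBiset.exists_val (X := X) (χ := χ) hf.mor
    obtain ⟨s, hs⟩ := hsurj a⁻¹
    have hsi := Iso.conj (F := F) hf.cod_le s.2
    set g := fun x => cj (s : Ω) (f x) with hg
    have hgm : Mor F P g := (hf.mor.comp (Mor.conj hf.cod_le s.2) fun x hx => hf.mapsTo hx).congr fun _ _ => rfl
    set Q := hgm.img with hQdef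
    have hgi : Iso F g P Q := hgm.toIso
    have hQU : Q ≤ U := fun y hy => by
      obtain ⟨x, hx, rfl⟩ := hgm.mem_img.mp hy
      exact hmapU hgm x hx (hPU hx)
    have hQn : F.IsFullyNormalized Q := by
      refine ⟨hgi.cod_le, fun R hR => (hQ₀.2 R (isConj_trans (isConj_symm hf.isConj) (isConj_trans hgi.isConj hR))).trans ?_⟩
      haveI : Finite ↥(normalizerIn S Q) := finite_of_le normalizerIn_le
      refine (Mor.conj (F := F) (normalizerIn_le (P := Q₀)) s.2).card_le fun x hx => ?_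
      have h0 : Iso F (cj (s : Ω)) Q₀ Q := by
        refine ⟨Mor.conj hf.cod_le s.2, fun y hy => ?_, (cj_injective _).injOn, fun y hy => ?_⟩
        · obtain ⟨w, hw, rfl⟩ := hf.surj hy
          exact hgi.mapsTo hw
        · obtain ⟨w, hw, rfl⟩ := hgm.mem_img.mp hy
          exact ⟨f w, hf.mapsTo hw, rfl⟩
      exact h0.map_normalizer (Mor.conj normalizerIn_le s.2) (le_normalizerIn hf.cod_le) (fun _ _ => rfl) hx hx.2
    have hgE : Mor E P g := by
      refine hmor hgm hPU (fun x hx => hQU (hgi.mapsTo hx)) ?_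
      have h1 := ha.comp (fun x hx => hf.mapsTo hx) (fun x hx => hf.mor.map_mem hx) (hconj Q₀ hf.cod_le s)
      rw [hs, mul_inv_cancel] at h1
      exact h1
    have hconjE : E.IsConj P Q := (Iso.isConj ⟨hgE, hgi.bij⟩)
    refine ⟨Q, hconjE, ?_⟩
    obtain ⟨hfc, hfa, hrec⟩ := IsSaturated_fullyNormalized hS hF hQn
    have hQS := hQn.1
    have hQ1 : ∀ x : S, (x : Ω) ∈ Q → χ x = 1 := fun x hx => (hker x).mpr (hQU hx)
    have hkey : ∀ b : A, X.Val χ Q id b → b ≠ 1 → ∀ a : A, ∃ z : S,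
        (z : Ω) ∈ centralizerIn S Q ∧ χ z ^ X.deg = a := by
      intro b hb hb1
      obtain ⟨R, h, hh, z, hz, hz1⟩ := StableBiset.exists_centralizer_of_val hS hA hinv hQS hQ1 hb hb1
      obtain ⟨h', hh', hlh, hrh⟩ := hh.exists_symm
      obtain ⟨k, hk, ek⟩ := (receptive_iff.mp hrec).2 R h' hh'
      have hzN : (z : Ω) ∈ nphi S R h' := centralizerIn_le_nphi hz
      set z' : S := ⟨k z, hk.map_mem hzN⟩
      have hz'c : (z' : Ω) ∈ centralizerIn S Q := hh'.map_centralizer hk hh'.mor.le_nphi ek hzN hz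
      have hz'1 : χ z' ≠ 1 := by
        rw [hinv hk hzN (x := z) (y := z') rfl]; exact hz1
      intro a
      obtain ⟨s', hs'⟩ := hsurj a
      obtain ⟨j, hj⟩ := Subgroup.mem_zpowers_iff.mp
        (mem_zpowers_of_prime_card (p := p) hcard hz'1 : χ s' ∈ Subgroup.zpowers (χ z'))
      refine ⟨z' ^ j, by rw [Subgroup.coe_zpow]; exact (centralizerIn S Q).zpow_mem hz'c j, ?_⟩
      rw [map_zpow, hj, hs']
    refine ⟨(fullyAutomized_iff (hS.to_le hUS)).mpr ⟨hQU, ?_⟩, receptive_iff.mpr ⟨hQU, fun P' f' hf' => ?_⟩⟩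
    · haveI := finite_of_le hQS
      haveI := finite_mulAut (G := Q)
      have hEF : E.autGroup Q ≤ F.autGroup Q := fun α hα => by
        obtain ⟨h, hh, e⟩ := (mem_autGroup_iff hQU).mp hα
        exact (mem_autGroup_iff hQS).mpr ⟨h, ⟨(hmor' hh.mor).1, hh.bij⟩, e⟩
      set N : Subgroup (F.autGroup Q) := (E.autGroup Q).subgroupOf (F.autGroup Q)
      haveI hN : N.Normal := by
        refine ⟨fun α hα β => ?_⟩
        obtain ⟨h, hh, e⟩ := (mem_autGroup_iff hQU).mp (Subgroup.mem_subgroupOf.mp hα)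
        obtain ⟨b, hb, eb⟩ := (mem_autGroup_iff hQS).mp β.2
        obtain ⟨b', hb', hbl, hbr⟩ := hb.exists_symm
        obtain ⟨v, hv⟩ := StableBiset.exists_val (X := X) (χ := χ) hb.mor
        have hv' := hv.inv hb hbl
        obtain ⟨-, hv0⟩ := hmor' hh.mor
        have h1 := (hv'.comp (fun x hx => hb'.mapsTo hx) (fun x hx => hQS (hb'.mapsTo hx)) hv0).comp
          (Q := Q) (fun x hx => hh.mapsTo (hb'.mapsTo hx)) (fun x hx => hQS (hh.mapsTo (hb'.mapsTo hx))) hv
        rw [mul_one, inv_mul_cancel] at h1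
        refine Subgroup.mem_subgroupOf.mpr ((mem_autGroup_iff hQU).mpr ⟨b ∘ h ∘ b', ?_, fun x => ?_⟩)
        · have hi := (hb'.comp (Iso.mk (hmor' hh.mor).1 hh.bij)).comp hb
          exact ⟨hmor hi.mor hQU (fun x hx => hQU (hi.mapsTo hx)) h1, hi.bij⟩
        · show b (h (b' x)) = (((β : MulAut Q) ((α : MulAut Q) ((β : MulAut Q)⁻¹ x)) : Q) : Ω)
          have hx' : b' (x : Ω) = (((β : MulAut Q)⁻¹ x : Q) : Ω) := by
            have h2 := eb ((β : MulAut Q)⁻¹ x)
            rw [MulAut.apply_inv_self] at h2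
            rw [← h2, hbl _ ((β : MulAut Q)⁻¹ x).2]
          rw [hx', e, eb]
      set B := (autInducedBy S Q).subgroupOf (F.autGroup Q)
      have hBN : ¬ p ∣ (B ⊓ N).relIndex N := by
        intro hd
        refine ((fullyAutomized_iff hS).mp hfa).2 (hd.trans ?_)
        have h := relIndex_sup_normalized (L := (⊤ : Subgroup (F.autGroup Q))) (A := B) (C := N) le_top
          le_top (by simp [Subgroup.normalizer_eq_top_iff.mpr hN])
        rw [← h]
        exact Subgroup.relIndex_dvd_index_of_le le_sup_left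
      intro hd
      refine hBN (hd.trans ?_)
      rw [Subgroup.inf_relIndex_right]
      show ((autInducedBy U Q).subgroupOf (E.autGroup Q)).index ∣ B.relIndex N
      rw [show ((autInducedBy U Q).subgroupOf (E.autGroup Q)).index =
          (autInducedBy U Q).relIndex (E.autGroup Q) from rfl,
        show B.relIndex N = (autInducedBy S Q).relIndex (E.autGroup Q) from
          Subgroup.relIndex_subgroupOf hEF]
      rw [← Subgroup.inf_relIndex_right (autInducedBy S Q)]
      refine Subgroup.relIndex_dvd_of_le_left _ ?_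
      rintro α ⟨hαS, hαE⟩
      obtain ⟨t, ht, htn, et⟩ := mem_autInducedBy.mp hαS
      obtain ⟨h, hh, eh⟩ := (mem_autGroup_iff hQU).mp hαE
      obtain ⟨-, hv0⟩ := hmor' hh.mor
      have hv1 : X.Val χ Q (cj t) 1 := hv0.congr fun x hx => by
        rw [eh ⟨x, hx⟩, et ⟨x, hx⟩]
      have h2 := (hv1.inv (Iso.conj_self hQS ht htn) (g := cj t⁻¹) fun x _ => cj_inv_cancel t x).comp
        (fun x hx => (cj_mem_iff (inv_mem htn) x).mpr hx)
        (fun x hx => hQS ((cj_mem_iff (inv_mem htn) x).mpr hx)) (hconj Q hQS ⟨t, ht⟩)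
      rw [inv_one, one_mul] at h2
      have h3 : X.Val χ Q id (χ ⟨t, ht⟩ ^ X.deg) := h2.congr fun x _ => cj_cancel_inv t x
      by_cases h1 : χ ⟨t, ht⟩ ^ X.deg = 1
      · exact mem_autInducedBy.mpr ⟨t, (hker _).mp (hdeg1 _ h1), htn, et⟩
      · obtain ⟨z, hz, hz2⟩ := hkey _ h3 h1 (χ ⟨t, ht⟩ ^ X.deg)⁻¹
        have htz : χ (⟨t, ht⟩ * z) = 1 := hdeg1 _ (by rw [map_mul, mul_pow, hz2, mul_inv_cancel])
        refine mem_autInducedBy.mpr ⟨t * z, (hker _).mp htz,
          mul_mem htn (Subgroup.centralizer_le_normalizer _ hz.2), fun x => ?_⟩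
        rw [et x, cj_mul, cj_apply (z : Ω), ← hz.2 x x.2, mul_inv_cancel_right]
    · obtain ⟨hfF, hv0⟩ := hmor' hf'.mor
      have hfi : Iso F f' P' Q := ⟨hfF, hf'.bij⟩
      obtain ⟨k, hk, ek⟩ := (receptive_iff.mp hrec).2 P' f' hfi
      have hNle : nphi U P' f' ≤ nphi S P' f' := by
        rintro x ⟨hxU, hxn, t, ht, et⟩
        exact ⟨hUS hxU, hxn, t, hUS ht, et⟩
      have hkN := hk.restrict hNle
      have hkU : ∀ x ∈ nphi U P' f', k x ∈ U := fun x hx => hmapU hkN x hx hx.1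
      have hP'N : P' ≤ nphi U P' f' := hf'.mor.le_nphi
      obtain ⟨a, ha⟩ := StableBiset.exists_val (X := X) (χ := χ) hkN
      by_cases h1 : a = 1
      · exact ⟨k, hmor hkN (fun x hx => hx.1) hkU (h1 ▸ ha), ek⟩
      · obtain ⟨f'', hf'', hl, hr⟩ := hfi.exists_symm
        have h3 := (hv0.inv hfi hl).comp (fun x hx => hf''.mapsTo hx) (fun x hx => hf''.mor.map_mem hx)
          ((ha.restrict hP'N).congr ek)
        rw [inv_one, one_mul] at h3
        have h4 : X.Val χ Q id a := h3.congr fun x hx => hr x hx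
        obtain ⟨z, hz, hz2⟩ := hkey a h4 h1 a⁻¹
        refine ⟨fun x => cj (z : Ω) (k x), hmor ((hkN.comp (Mor.conj le_rfl z.2) fun x hx => hkN.map_mem hx).congr
          fun _ _ => rfl) (fun x hx => hx.1) (fun x hx => ?_) ?_, fun x hx => ?_⟩
        · exact hmapU (Mor.conj (F := F) hUS z.2) _ (hkU x hx) (hkU x hx)
        · have h5 := ha.comp (Q := S) (fun x hx => hkN.map_mem hx) (fun x hx => hkN.map_mem hx)
            (hconj S le_rfl z)
          rw [hz2, mul_inv_cancel] at h5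
          exact h5
        · show cj (z : Ω) (k x) = f' x
          rw [ek x hx, cj_apply, ← hz.2 _ (hfi.mapsTo hx), mul_inv_cancel_right]
  refine ⟨E, hsat, fun P φ hφ => hφ.1, hyperfocal_le_focal.trans hU, fun P hP => ?_⟩
  have hPS := hP.trans hUS
  haveI := finite_of_le hPS
  haveI := finite_mulAut (G := P)
  rintro _ ⟨α, hα, rfl⟩
  let V : F.autGroup P → A → Prop := fun α a => X.Val χ P (extFun (P.subtype.comp ((α : MulAut P)).toMonoidHom)) a
  have hav : ∀ (α : F.autGroup P) (x : P),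
      extFun (P.subtype.comp ((α : MulAut P)).toMonoidHom) x = (((α : MulAut P) x : P) : Ω) := fun α x => extFun_coe _ x
  have hVmul : ∀ {α β : F.autGroup P} {a b : A}, V α a → V β b → V (β * α) (a * b) := by
    intro α β a b ha hb
    refine (ha.comp (fun x hx => by rw [hav α ⟨x, hx⟩]; exact SetLike.coe_mem _)
      (fun x hx => hPS (by rw [hav α ⟨x, hx⟩]; exact SetLike.coe_mem _)) hb).congr fun x hx => ?_
    show extFun _ (extFun _ x) = _
    rw [hav α ⟨x, hx⟩, hav β, hav (β * α) ⟨x, hx⟩]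
    rfl
  have hV1 : V 1 1 := StableBiset.val_id.congr fun x hx => (hav 1 ⟨x, hx⟩).symm
  have hVpow : ∀ {α : F.autGroup P} {a : A}, V α a → ∀ n : ℕ, V (α ^ n) (a ^ n) := by
    intro α a ha n
    induction n with
    | zero => rw [pow_zero, pow_zero]; exact hV1
    | succ n ih => rw [pow_succ', pow_succ]; exact hVmul ih ha
  have hV : ∀ α ∈ pResidual p (F.autGroup P), V α 1 := by
    intro α hα
    refine Subgroup.closure_induction (p := fun α _ => V α 1) (fun α hα => ?_) hV1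
      (fun x y _ _ hx hy => by simpa using hVmul hy hx) (fun x _ hx => ?_) hα
    · obtain ⟨a, ha⟩ := StableBiset.exists_val (X := X) (χ := χ) (autGroup_iso hPS α.2).mor
      have ha : V α a := ha
      have hm : (orderOf α).Coprime p := hα
      obtain ⟨k, -, hk⟩ := Nat.exists_mul_mod_eq_one_of_coprime hm hp.one_lt
      have hb : V 1 a := by
        have h1 := hVpow ha (orderOf α * k)
        rw [pow_mul α, pow_orderOf_eq_one, one_pow] at h1
        convert h1 using 1
        rw [← Nat.mod_add_div (orderOf α * k) p, hk, pow_add, pow_one, pow_mul, hA, one_pow, mul_one]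
      have hb' : V 1 a⁻¹ := (hvinv hPS (hb.congr fun x hx => hav 1 ⟨x, hx⟩)).congr
        fun x hx => (hav 1 ⟨x, hx⟩).symm
      have := hVmul ha hb'
      rwa [one_mul, mul_inv_cancel] at this
    · have h1 := hVpow hx (orderOf x - 1)
      rw [one_pow] at h1
      convert h1 using 2
      refine inv_eq_of_mul_eq_one_right ?_
      rw [← pow_succ', Nat.sub_add_cancel (orderOf_pos x), pow_orderOf_eq_one]
  obtain ⟨h, hh, eh⟩ := (mem_autGroup_iff hPS).mp α.2
  refine (mem_autGroup_iff hP).mpr ⟨h, ⟨hmor hh.mor hP (fun x hx => hP (hh.mapsTo hx)) ?_, hh.bij⟩, eh⟩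
  exact (hV α hα).congr fun x hx => (hav α ⟨x, hx⟩).trans (eh ⟨x, hx⟩).symm

end Cfsg.Agent.Fusion
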