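/-
Subsystems of `p`-power index: existence, uniqueness and normality.
-/
import Cfsg.Agent.Fusion.IndexSystem
import Cfsg.Agent.Fusion.HypFocal
import Cfsg.Agent.Fusion.NormalizerSat
import Mathlib.GroupTheory.Sylow
set_option autoImplicit false
set_option linter.style.haveILetI false

namespace Cfsg.Agent.Fusion

open Cfsg Cfsg.FusionSystem

universe u

variable {Ω : Type u} [Group Ω]

theorem pPowerIndex_trans {p : ℕ} {S U T : Subgroup Ω} [Finite S] {F : FusionSystem S}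
    {E : FusionSystem U} {E' : FusionSystem T} (hTU : T ≤ U) (hhyp : F.hyperfocalSubgroup p ≤ T)
    (h₁ : E.HasPPowerIndexIn F p) (h₂ : E'.HasPPowerIndexIn E p) : E'.HasPPowerIndexIn F p := by
  refine ⟨fun P φ hφ => h₁.1 P (h₂.1 P hφ), hhyp, fun P hP => ?_⟩
  rw [pResidual, MonoidHom.map_closure, Subgroup.closure_le]
  rintro _ ⟨α, hα, rfl⟩
  have hαE : (α : MulAut P) ∈ E.autGroup P :=
    h₁.2.2 P (hP.trans hTU) ⟨α, Subgroup.subset_closure hα, rfl⟩
  refine h₂.2.2 P hP ⟨⟨α, hαE⟩, Subgroup.subset_closure ?_, rfl⟩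
  show (orderOf (⟨(α : MulAut P), hαE⟩ : E.autGroup P)).Coprime p
  rw [Subgroup.orderOf_mk, Subgroup.orderOf_coe]
  exact hα

theorem focal_le_of_index_prime {p : ℕ} [Fact p.Prime] {S : Subgroup Ω} [Finite S] (hS : IsPGroup p S)
    {F : FusionSystem S} (hF : F.IsSaturated p) {U : Subgroup Ω}
    (hidx : (U.subgroupOf S).index = p) (hU : F.hyperfocalSubgroup p ≤ U) : F.focalSubgroup ≤ U := by
  have hp : p.Prime := Fact.out
  haveI : (U.subgroupOf S).Normal := by
    refine Subgroup.normal_of_index_eq_minFac_card ?_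
    obtain ⟨N, hN⟩ := IsPGroup.iff_card.mp hS
    rw [hidx, hN, Nat.pow_minFac, hp.minFac_eq]
    rintro rfl
    rw [pow_zero] at hN
    have h1 := (U.subgroupOf S).index_dvd_card
    rw [hidx, hN, Nat.dvd_one] at h1
    exact hp.one_lt.ne' h1
  haveI : IsCyclic (S ⧸ U.subgroupOf S) := isCyclic_of_prime_card (p := p) hidx
  refine (Subgroup.closure_le _).mpr ?_
  rintro _ ⟨P, φ, x, hφ, rfl⟩
  obtain ⟨g, hg, h⟩ := mor_mod_hyperfocal hS hF P _ (mor_of_mem hφ)
  have h1 := hU (h x x.2)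
  rw [extFun_coe] at h1
  have hPS := (F.le_of_mem hφ).1
  have h2 : (x : Ω)⁻¹ * cj g x ∈ U := by
    have h3 : QuotientGroup.mk' (U.subgroupOf S)
        ((⟨x, hPS x.2⟩ : S)⁻¹ * ((⟨g, hg⟩ : S) * ⟨x, hPS x.2⟩ * (⟨g, hg⟩ : S)⁻¹)) = 1 := by
      rw [map_mul, map_mul, map_mul, map_inv, map_inv]
      letI : CommGroup (S ⧸ U.subgroupOf S) := IsCyclic.commGroup
      rw [mul_comm _ (QuotientGroup.mk' _ (⟨x, hPS x.2⟩ : S)), mul_inv_cancel_right, inv_mul_cancel]
    have h5 := (QuotientGroup.eq_one_iff (N := U.subgroupOf S) _).mp h3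
    exact h5
  have h4 := U.mul_mem h2 h1
  rw [mul_assoc, mul_inv_cancel_left] at h4
  exact h4

/-- Existence of subsystems of `p`-power index. -/
theorem exists_pPower_system {p : ℕ} [Fact p.Prime] : ∀ (n : ℕ) {S : Subgroup Ω} [Finite S],
    Nat.card S = n → IsPGroup p S → ∀ (F : FusionSystem S), F.IsSaturated p → ∀ (T : Subgroup Ω),
    T ≤ S → F.hyperfocalSubgroup p ≤ T → ∃ E : FusionSystem T, E.IsSaturated p ∧ E.HasPPowerIndexIn F p := by
  intro n
  induction n using Nat.strong_induction_on with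
  | _ n IH =>
    intro S _ hn hS F hF T hTS hT
    rcases eq_or_lt_of_le hTS with rfl | hlt
    · exact ⟨F, hF, hasPPowerIndex_refl⟩
    have hp : p.Prime := Fact.out
    obtain ⟨N, hN⟩ := IsPGroup.iff_card.mp hS
    obtain ⟨a, ha⟩ := IsPGroup.iff_card.mp (hS.to_subgroup (T.subgroupOf S))
    have haN : a < N := by
      by_contra h
      push Not at h
      refine hlt.not_ge fun x hx => ?_
      have htop : T.subgroupOf S = ⊤ := Subgroup.eq_top_of_le_card _
        (by rw [hN, ha]; exact Nat.pow_le_pow_right hp.pos h)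
      exact Subgroup.mem_subgroupOf.mp (htop ▸ Subgroup.mem_top (⟨x, hx⟩ : S))
    obtain ⟨K, hK, hTK⟩ := Sylow.exists_subgroup_card_pow_prime_le p (n := a) (m := N - 1)
      (by rw [hN]; exact pow_dvd_pow p (Nat.sub_le _ _)) (T.subgroupOf S) ha (by omega)
    set U := K.map S.subtype with hUdef
    have hUS : U ≤ S := Subgroup.map_subtype_le _
    have hUK : U.subgroupOf S = K := Subgroup.comap_map_eq_self_of_injective S.subtype_injective K
    have hidx : (U.subgroupOf S).index = p := by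
      have h1 := K.card_mul_index
      rw [hK, hN] at h1
      have h2 : p ^ (N - 1) * K.index = p ^ (N - 1) * p := by
        rw [h1, ← pow_succ]; congr 1; omega
      rw [hUK]
      exact Nat.eq_of_mul_eq_mul_left (pow_pos hp.pos _) h2
    have hTU : T ≤ U := fun x hx => ⟨⟨x, hTS hx⟩, hTK hx, rfl⟩
    haveI := finite_of_le hUS
    obtain ⟨E, hE, hEi⟩ := exists_index_system hS hF hUS
      (focal_le_of_index_prime hS hF hidx (hT.trans hTU)) hidx
    have hcard : Nat.card U = p ^ (N - 1) := by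
      rw [hUdef, Subgroup.card_map_of_injective S.subtype_injective, hK]
    obtain ⟨E', hE', hE'i⟩ := IH (Nat.card U) (by rw [← hn, hN, hcard]; exact Nat.pow_lt_pow_right hp.one_lt (by omega))
      rfl (hS.to_le hUS) E hE T hTU ((hyperfocal_mono hEi.1).trans hT)
    exact ⟨E', hE', pPowerIndex_trans hTU hT hEi hE'i⟩

variable {S : Subgroup Ω} {F : FusionSystem S} {T : Subgroup Ω} {p : ℕ} {E : FusionSystem T}

/-- Uniqueness. -/
theorem pPower_system_unique [Fact p.Prime] [Finite S] (hS : IsPGroup p S) {E' : FusionSystem T}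
    (hE : E.IsSaturated p) (hEi : E.HasPPowerIndexIn F p) (hE' : E'.IsSaturated p)
    (hE'i : E'.HasPPowerIndexIn F p) : E' = E := by
  have hTS : T ≤ S := subsystem_dom_le hEi.1
  haveI := finite_of_le hTS
  exact system_le_antisymm (subsystem_of_pPowerIndex (hS.to_le hTS) hE' hE'i.1 le_rfl hEi.2.2)
    (subsystem_of_pPowerIndex (hS.to_le hTS) hE hEi.1 le_rfl hE'i.2.2)

theorem pPower_coprime_mem [Finite S] (hEi : E.HasPPowerIndexIn F p) {P : Subgroup Ω} {f : Ω → Ω}
    (hf : Iso F f P P) (hP : P ≤ T) {k : ℕ} (hk : k.Coprime p) (hfk : ∀ x ∈ P, f^[k] x = x) :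
    Mor E P f := by
  have h0 : (⟨hf.equiv, hf.equiv_mem_autGroup⟩ : F.autGroup P) ∈ pResidual p (F.autGroup P) := by
    refine Subgroup.subset_closure (Nat.Coprime.coprime_dvd_left (orderOf_dvd_of_pow_eq_one ?_) hk)
    refine Subtype.ext (MulEquiv.ext fun x => Subtype.ext ?_)
    rw [SubmonoidClass.coe_pow]
    have key : ∀ n, ((((hf.equiv : MulAut P) ^ n) x : P) : Ω) = f^[n] (x : Ω) := by
      intro n
      induction n with
      | zero => rfl
      | succ n ih =>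
        rw [pow_succ', MulAut.mul_apply, Function.iterate_succ_apply', ← ih]
        rfl
    rw [key, hfk x x.2]
    rfl
  obtain ⟨g, hg, e⟩ := (mem_autGroup_iff hP).mp (hEi.2.2 P hP ⟨_, h0, rfl⟩)
  exact hg.mor.congr fun x hx => e ⟨x, hx⟩

/-- Invariance under the automorphisms of `T` in `F`. -/
theorem pPower_push [Fact p.Prime] [Finite S] (hS : IsPGroup p S) (hE : E.IsSaturated p)
    (hEi : E.HasPPowerIndexIn F p) {a a' : Ω → Ω} (ha : Iso F a T T) (ha' : Iso F a' T T)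
    (hl : ∀ x ∈ T, a' (a x) = x) : ∀ P f, Mor E P f → ∀ P' : Subgroup Ω,
      (∀ y, y ∈ P' ↔ ∃ x ∈ P, a x = y) → Mor E P' (a ∘ f ∘ a') := by
  have hTS := ha.dom_le
  haveI := finite_of_le hTS
  refine alperin (C := fun P f => ∀ P' : Subgroup Ω, (∀ y, y ∈ P' ↔ ∃ x ∈ P, a x = y) → Mor E P' (a ∘ f ∘ a'))
    (hS.to_le hTS) hE ⟨?_, ?_, ?_, ?_⟩ ?_
  · intro P t hP ht P' hP'
    refine (Mor.conj (s := a t) ?_ (ha.mapsTo ht)).congr fun y hy => ?_
    · intro y hy
      obtain ⟨x, hx, rfl⟩ := (hP' y).mp hy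
      exact ha.mapsTo (hP hx)
    · obtain ⟨x, hx, rfl⟩ := (hP' y).mp hy
      show cj (a t) (a x) = a (cj t (a' (a x)))
      rw [hl x (hP hx), cj_apply t, ha.mor.map_conj ht (hP hx)]
      rfl
  · intro P f g hf e h P' hP'
    refine (h P' hP').congr fun y hy => ?_
    obtain ⟨x, hx, rfl⟩ := (hP' y).mp hy
    show a (f (a' (a x))) = a (g (a' (a x)))
    rw [hl x (hf.dom_le hx), e x hx]
  · intro P Q f g hf hg m h h' P' hP'
    set Q' := (ha.mor.restrict hg.dom_le).img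
    refine ((h P' hP').comp (h' Q' fun y => (ha.mor.restrict hg.dom_le).mem_img) fun y hy => ?_).congr fun y hy => ?_
    · obtain ⟨x, hx, rfl⟩ := (hP' y).mp hy
      refine (ha.mor.restrict hg.dom_le).mem_img.mpr ⟨f x, m x hx, ?_⟩
      show a (f x) = a (f (a' (a x)))
      rw [hl x (hf.dom_le hx)]
    · obtain ⟨x, hx, rfl⟩ := (hP' y).mp hy
      show a (g (a' (a (f (a' (a x)))))) = a (g (f (a' (a x))))
      rw [hl _ (hf.map_mem ((hl x (hf.dom_le hx)).symm ▸ hx))]
  · intro P Q f g hf hg e h Q' hQ'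
    set P' := (ha.mor.restrict hf.dom_le).img
    have h1 := h P' fun y => (ha.mor.restrict hf.dom_le).mem_img
    obtain ⟨g', hg', hgl, -⟩ := h1.toIso.exists_symm
    refine (hg'.mor.restrict fun y hy => h1.mem_img.mpr ?_).congr fun y hy => ?_
    · obtain ⟨z, hz, rfl⟩ := (hQ' y).mp hy
      obtain ⟨x, hx, rfl⟩ := hf.surj hz
      exact ⟨a x, (ha.mor.restrict hf.dom_le).mem_img.mpr ⟨x, hx, rfl⟩,
        by show a (f (a' (a x))) = a (f x); rw [hl x (hf.dom_le hx)]⟩
    · obtain ⟨z, hz, rfl⟩ := (hQ' y).mp hy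
      obtain ⟨x, hx, rfl⟩ := hf.surj hz
      show g' (a (f x)) = a (g (a' (a (f x))))
      rw [hl _ (hf.mor.map_mem hx), e x hx]
      have h2 := hgl (a x) ((ha.mor.restrict hf.dom_le).mem_img.mpr ⟨x, hx, rfl⟩)
      show g' (a (f x)) = a x
      rw [show (a ∘ f ∘ a') (a x) = a (f x) by show a (f (a' (a x))) = _; rw [hl x (hf.dom_le hx)]] at h2
      exact h2
  · intro R _ hR _ f hf P' hP'
    have hRT := hR.1
    have hRS := hRT.trans hTS
    suffices key : ∀ α : E.autGroup R, ∃ h, (∀ x : R, h (x : Ω) = (((α : MulAut R) x : R) : Ω)) ∧ Iso E (a ∘ h ∘ a') P' P' by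
      obtain ⟨h, eh, hh⟩ := key ⟨hf.equiv, hf.equiv_mem_autGroup⟩
      refine hh.mor.congr fun y hy => ?_
      obtain ⟨x, hx, rfl⟩ := (hP' y).mp hy
      show a (h (a' (a x))) = a (f (a' (a x)))
      rw [hl x (hRT hx), eh ⟨x, hx⟩]
      rfl
    have hP'T : P' ≤ T := fun y hy => by
      obtain ⟨x, hx, rfl⟩ := (hP' y).mp hy
      exact ha.mapsTo (hRT hx)
    have hbij : ∀ h : Ω → Ω, Set.BijOn h R R → Set.BijOn (a ∘ h ∘ a') P' P' := by
      intro h hh
      refine ⟨fun y hy => ?_, fun y hy z hz e => ?_, fun z hz => ?_⟩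
      · obtain ⟨x, hx, rfl⟩ := (hP' y).mp hy
        exact (hP' _).mpr ⟨h x, hh.mapsTo hx, by show a (h x) = a (h (a' (a x))); rw [hl x (hRT hx)]⟩
      · obtain ⟨x, hx, rfl⟩ := (hP' y).mp hy
        obtain ⟨w, hw, rfl⟩ := (hP' z).mp hz
        have e' : a (h (a' (a x))) = a (h (a' (a w))) := e
        rw [hl x (hRT hx), hl w (hRT hw)] at e'
        rw [hh.injOn hx hw (ha.bij.injOn (hRT (hh.mapsTo hx)) (hRT (hh.mapsTo hw)) e')]
      · obtain ⟨w, hw, rfl⟩ := (hP' z).mp hz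
        obtain ⟨x, hx, rfl⟩ := hh.surjOn hw
        exact ⟨a x, (hP' _).mpr ⟨x, hx, rfl⟩, by show a (h (a' (a x))) = a (h x); rw [hl x (hRT hx)]⟩
    intro α
    have hα : α ∈ pResidual p ↥(E.autGroup R) ⊔ (autInducedBy T R).subgroupOf (E.autGroup R) :=
      (autGroup_generated (hS.to_le hTS) hE hR).symm ▸ Subgroup.mem_top α
    haveI := finite_of_le hRS
    haveI := finite_mulAut (G := R)
    rw [pResidual, ← Subgroup.closure_eq ((autInducedBy T R).subgroupOf (E.autGroup R)),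
      ← Subgroup.closure_union] at hα
    have hav : ∀ γ : E.autGroup R, ∀ x : R, actFun γ (x : Ω) = (((γ : MulAut R) x : R) : Ω) :=
      fun γ x => extFun_coe _ x
    refine ⟨actFun α, hav α, ?_⟩
    refine ⟨?_, hbij _ (autGroup_iso hRT α.2).bij⟩
    induction hα using Subgroup.closure_induction with
    | mem γ hγ =>
      rcases hγ with hγ | hγ
      · have hi : Iso F (actFun γ) R R :=
          ⟨subsystem_mor hEi.1 (autGroup_iso hRT γ.2).mor, (autGroup_iso hRT γ.2).bij⟩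
        have hb := hbij _ hi.bij
        have hm : Mor F P' (a ∘ actFun γ ∘ a') :=
          ((((ha'.mor.restrict hP'T).comp hi.mor fun y hy => by
            obtain ⟨x, hx, rfl⟩ := (hP' y).mp hy
            rw [hl x (hRT hx)]; exact hx)).comp ha.mor fun y hy => by
            obtain ⟨x, hx, rfl⟩ := (hP' y).mp hy
            exact hRT (hi.mapsTo (show a' (a x) ∈ R by rw [hl x (hRT hx)]; exact hx))).congr fun _ _ => rfl
        refine pPower_coprime_mem hEi ⟨hm, hb⟩ hP'T (k := orderOf γ) hγ fun y hy => ?_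
        obtain ⟨x, hx, rfl⟩ := (hP' y).mp hy
        have key : ∀ n, (a ∘ actFun γ ∘ a')^[n] (a x) = a ((((γ : MulAut R) ^ n) ⟨x, hx⟩ : R) : Ω) := by
          intro n
          induction n with
          | zero => rfl
          | succ n ih =>
            rw [Function.iterate_succ_apply', ih, pow_succ', MulAut.mul_apply]
            show a (actFun γ (a' (a _))) = _
            rw [hl _ (hRT (SetLike.coe_mem _)), hav γ]
        rw [key, ← SubmonoidClass.coe_pow, pow_orderOf_eq_one]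
        rfl
      · obtain ⟨t, ht, -, et⟩ := mem_autInducedBy.mp (show (γ : MulAut R) ∈ autInducedBy T R from hγ)
        refine (Mor.conj (s := a t) hP'T (ha.mapsTo ht)).congr fun y hy => ?_
        obtain ⟨x, hx, rfl⟩ := (hP' y).mp hy
        show cj (a t) (a x) = a (actFun γ (a' (a x)))
        rw [hl x (hRT hx), hav γ ⟨x, hx⟩, et ⟨x, hx⟩, cj_apply t, ha.mor.map_conj ht (hRT hx)]
        rfl
    | one =>
      refine (Mor.id' hP'T).congr fun y hy => ?_
      obtain ⟨x, hx, rfl⟩ := (hP' y).mp hy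
      show a x = a (actFun 1 (a' (a x)))
      rw [hl x (hRT hx), hav 1 ⟨x, hx⟩]
      rfl
    | mul γ δ _ _ hγ hδ =>
      refine (hδ.comp hγ fun y hy => (hbij _ (autGroup_iso hRT δ.2).bij).mapsTo hy).congr fun y hy => ?_
      obtain ⟨x, hx, rfl⟩ := (hP' y).mp hy
      show a (actFun γ (a' (a (actFun δ (a' (a x)))))) = a (actFun (γ * δ) (a' (a x)))
      rw [hl x (hRT hx), hl _ (hRT (actFun_mem δ hx)), actFun_mul γ δ hx]
    | inv γ _ hγ =>
      have hiγ : Iso E (a ∘ actFun γ ∘ a') P' P' := ⟨hγ, hbij _ (autGroup_iso hRT γ.2).bij⟩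
      obtain ⟨g', hg', hgl, -⟩ := hiγ.exists_symm
      refine hg'.mor.congr fun y hy => ?_
      obtain ⟨x, hx, rfl⟩ := (hP' y).mp hy
      show g' (a x) = a (actFun γ⁻¹ (a' (a x)))
      rw [hl x (hRT hx)]
      have hz : actFun γ⁻¹ x ∈ R := actFun_mem γ⁻¹ hx
      have h2 := hgl _ ((hP' _).mpr ⟨_, hz, rfl⟩)
      have h3 : (a ∘ actFun γ ∘ a') (a (actFun γ⁻¹ x)) = a x := by
        show a (actFun γ (a' (a _))) = a x
        rw [hl _ (hRT hz), ← actFun_mul γ γ⁻¹ hx, mul_inv_cancel, hav 1 ⟨x, hx⟩]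
        rfl
      rw [h3] at h2
      exact h2

/-- Every map of `F` into `T` is, up to conjugation by an element of `S`, a map of the subsystem. -/
theorem pPower_frattini [Fact p.Prime] [Finite S] (hS : IsPGroup p S) (hF : F.IsSaturated p)
    (hTs : F.StronglyClosed T) (hTn : ∀ s ∈ S, ∀ x ∈ T, cj s x ∈ T) (hE : E.IsSaturated p)
    (hEi : E.HasPPowerIndexIn F p) :
    ∀ P f, Mor F P f → ∃ s ∈ S, Mor E (P ⊓ T) (fun x => cj s (f x)) := by
  have hTS := hTs.1
  haveI := finite_of_le hTS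
  have hiso : ∀ s ∈ S, Iso F (cj s) T T := fun s hs =>
    (Mor.conj hTS hs).iso_of_card (hTn s hs) le_rfl
  have hcl : ∀ {P : Subgroup Ω} {f : Ω → Ω}, Mor F P f → ∀ x ∈ P ⊓ T, f x ∈ T :=
    fun hf x hx => stronglyClosed_mem hTs (hf.restrict inf_le_left) (x := x) hx hx.2
  have hpush : ∀ (s : Ω) (hs : s ∈ S) {P : Subgroup Ω} {g : Ω → Ω}, Mor E P g →
      Mor E ((hiso s hs).mor.restrict (R := P ⊓ T) inf_le_right).img (fun y => cj s (g (cj s⁻¹ y))) := by
    intro s hs P g hg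
    exact (pPower_push hS hE hEi (hiso s hs) (hiso s⁻¹ (S.inv_mem hs)) (fun x _ => cj_inv_cancel s x) P g hg _
      fun y => by
        rw [((hiso s hs).mor.restrict (R := P ⊓ T) inf_le_right).mem_img]
        exact ⟨fun ⟨x, hx, e⟩ => ⟨x, hx.1, e⟩, fun ⟨x, hx, e⟩ => ⟨x, ⟨hx, hg.dom_le hx⟩, e⟩⟩).congr fun _ _ => rfl
  have hcomp : ∀ {P Q : Subgroup Ω} {f f' : Ω → Ω}, Mor F P f → (∀ x ∈ P, f x ∈ Q) →
      (∃ s ∈ S, Mor E (P ⊓ T) (fun x => cj s (f x))) → (∃ s ∈ S, Mor E (Q ⊓ T) (fun x => cj s (f' x))) →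
      ∃ s ∈ S, Mor E (P ⊓ T) (fun x => cj s (f' (f x))) := by
    rintro P Q f f' hf m ⟨s, hs, hA⟩ ⟨s', hs', hB⟩
    refine ⟨s * s', S.mul_mem hs hs', (hA.comp (hpush s hs hB) fun x hx => ?_).congr fun x hx => ?_⟩
    · exact ((hiso s hs).mor.restrict (R := Q ⊓ T ⊓ T) inf_le_right).mem_img.mpr
        ⟨f x, ⟨⟨m x hx.1, hcl hf x hx⟩, hcl hf x hx⟩, rfl⟩
    · show cj s (cj s' (f' (cj s⁻¹ (cj s (f x))))) = cj (s * s') (f' (f x))
      rw [cj_inv_cancel, cj_mul]
  have hinv : ∀ {P Q : Subgroup Ω} {f g : Ω → Ω}, Iso F f P Q → Mor F Q g → (∀ x ∈ P, g (f x) = x) →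
      (∃ s ∈ S, Mor E (P ⊓ T) (fun x => cj s (f x))) → ∃ s ∈ S, Mor E (Q ⊓ T) (fun x => cj s (g x)) := by
    rintro P Q f g hf hg e ⟨s, hs, hA⟩
    obtain ⟨a', ha', hal, -⟩ := hA.toIso.exists_symm
    refine ⟨s⁻¹, S.inv_mem hs, ((hpush s⁻¹ (S.inv_mem hs) ha'.mor).restrict fun y hy => ?_).congr fun y hy => ?_⟩
    · have hgy : g y ∈ P := by
        obtain ⟨x, hx, rfl⟩ := hf.surj hy.1
        rw [e x hx]; exact hx
      refine ((hiso s⁻¹ (S.inv_mem hs)).mor.restrict (R := hA.img ⊓ T) inf_le_right).mem_img.mpr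
        ⟨cj s y, ⟨hA.mem_img.mpr ⟨g y, ⟨hgy, hcl hg y hy⟩, ?_⟩, hTn s hs y hy.2⟩, cj_inv_cancel s y⟩
      obtain ⟨x, hx, rfl⟩ := hf.surj hy.1
      show cj s (f (g (f x))) = cj s (f x)
      rw [e x hx]
    · obtain ⟨x, hx, rfl⟩ := hf.surj hy.1
      show cj s⁻¹ (a' (cj s⁻¹⁻¹ (f x))) = cj s⁻¹ (g (f x))
      rw [inv_inv, e x hx]
      congr 1
      refine hal x ⟨hx, ?_⟩
      have := hcl hg (f x) hy
      rwa [e x hx] at this
  refine mor_induction hS hF (C := fun P f => ∃ s ∈ S, Mor E (P ⊓ T) (fun x => cj s (f x)))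
    ⟨fun {P s} _ hs => ⟨s⁻¹, S.inv_mem hs, (Mor.id' inf_le_right).congr fun x _ => (cj_inv_cancel s x).symm⟩,
      fun _ e ⟨s, hs, h⟩ => ⟨s, hs, h.congr fun x hx => by rw [e x hx.1]⟩,
      fun {P Q f g} hf _ m h h' => hcomp (f' := g) hf m h h',
      fun {P Q f g} hf hg e h => hinv hf hg.mor e h⟩ ?_
  intro R hR _ f hf
  suffices key : ∀ α : F.autGroup R, ∃ s ∈ S, Mor E (R ⊓ T) (fun x => cj s (actFun α x)) by
    obtain ⟨s, hs, h⟩ := key ⟨hf.equiv, hf.equiv_mem_autGroup⟩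
    exact ⟨s, hs, h.congr fun x hx => by rw [actFun_val _ hx.1]; rfl⟩
  intro α
  have hRS := hR.1
  haveI := finite_of_le hRS
  haveI := finite_mulAut (G := R)
  have hα : α ∈ pResidual p ↥(F.autGroup R) ⊔ (autInducedBy S R).subgroupOf (F.autGroup R) :=
    (autGroup_generated hS hF hR).symm ▸ Subgroup.mem_top α
  rw [pResidual, ← Subgroup.closure_eq ((autInducedBy S R).subgroupOf (F.autGroup R)),
    ← Subgroup.closure_union] at hα
  have hav : ∀ γ : F.autGroup R, ∀ x : R, actFun γ (x : Ω) = (((γ : MulAut R) x : R) : Ω) :=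
    fun γ x => extFun_coe _ x
  have hone : ∃ s ∈ S, Mor E (R ⊓ T) (fun x => cj s (actFun (1 : F.autGroup R) x)) :=
    ⟨1, S.one_mem, (Mor.id' inf_le_right).congr fun x hx => by rw [cj_one, hav 1 ⟨x, hx.1⟩]; rfl⟩
  induction hα using Subgroup.closure_induction with
  | mem γ hγ =>
    rcases hγ with hγ | hγ
    · refine ⟨1, S.one_mem, ?_⟩
      have hi := autGroup_iso hRS γ.2
      haveI : Finite ↥(R ⊓ T) := finite_of_le inf_le_left
      have hi' : Iso F (actFun γ) (R ⊓ T) (R ⊓ T) :=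
        (hi.mor.restrict inf_le_left).iso_of_card (fun x hx => ⟨hi.mapsTo hx.1, hcl hi.mor x hx⟩) le_rfl
      refine (pPower_coprime_mem hEi hi' inf_le_right (k := orderOf γ) hγ fun x hx => ?_).congr
        fun x _ => (cj_one _).symm
      have key : ∀ n, (actFun γ)^[n] x = ((((γ : MulAut R) ^ n) ⟨x, hx.1⟩ : R) : Ω) := by
        intro n
        induction n with
        | zero => rfl
        | succ n ih => rw [Function.iterate_succ_apply', ih, hav γ, pow_succ', MulAut.mul_apply]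
      rw [key, ← SubmonoidClass.coe_pow, pow_orderOf_eq_one]
      rfl
    · obtain ⟨t, ht, -, et⟩ := mem_autInducedBy.mp (show (γ : MulAut R) ∈ autInducedBy S R from hγ)
      exact ⟨t⁻¹, S.inv_mem ht, (Mor.id' inf_le_right).congr fun x hx => by
        rw [hav γ ⟨x, hx.1⟩, et ⟨x, hx.1⟩, cj_inv_cancel]; rfl⟩
  | one => exact hone
  | mul γ δ _ _ hγ hδ =>
    obtain ⟨s, hs, h⟩ := hcomp (autGroup_iso hRS δ.2).mor (fun x hx => actFun_mem δ hx) hδ hγ
    exact ⟨s, hs, h.congr fun x hx => by rw [actFun_mul γ δ hx.1]; rfl⟩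
  | inv γ _ hγ =>
    refine hinv (autGroup_iso hRS γ.2) (autGroup_iso hRS γ⁻¹.2).mor (fun x hx => ?_) hγ
    show actFun γ⁻¹ (actFun γ x) = x
    rw [← actFun_mul γ⁻¹ γ hx, inv_mul_cancel, hav 1 ⟨x, hx⟩]
    rfl

theorem pPower_extension [Fact p.Prime] [Finite S] (hS : IsPGroup p S) (hF : F.IsSaturated p)
    (hTs : F.StronglyClosed T) (hTn : ∀ s ∈ S, ∀ x ∈ T, cj s x ∈ T) (hE : E.IsSaturated p)
    (hEi : E.HasPPowerIndexIn F p) (α : MulAut T) (hα : α ∈ E.autGroup T) :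
    ∃ β ∈ F.autGroup (T ⊔ centralizerIn S T),
      (∀ x : T, ((β (Subgroup.inclusion le_sup_left x) : ↥(T ⊔ centralizerIn S T)) : Ω) = ((α x : T) : Ω)) ∧
      ∀ c : ↥(T ⊔ centralizerIn S T), (c : Ω) ∈ centralizerIn S T →
        (c : Ω)⁻¹ * ((β c : ↥(T ⊔ centralizerIn S T)) : Ω) ∈ T ⊓ Subgroup.centralizer (T : Set Ω) := by
  have hTS := hTs.1
  haveI := finite_of_le hTS
  haveI := finite_mulAut (G := T)
  set U := T ⊔ centralizerIn S T with hU
  have hUS : U ≤ S := sup_le hTS centralizerIn_le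
  haveI := finite_of_le hUS
  haveI := finite_mulAut (G := U)
  have hnorm : normalizerIn S T = S := inf_eq_left.mpr fun s hs => Subgroup.mem_normalizer_iff.mpr fun x =>
    ⟨fun hx => hTn s hs x hx, fun hx => by simpa [cj_apply, mul_assoc] using hTn s⁻¹ (S.inv_mem hs) _ hx⟩
  have hTn' : F.IsFullyNormalized T := ⟨hTS, fun R _ => by
    rw [hnorm]; exact card_le_of_le normalizerIn_le⟩
  have hTn'' : E.IsFullyNormalized T := ⟨le_rfl, fun R _ => by
    rw [normalizerIn_self]; exact card_le_of_le normalizerIn_le⟩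
  have hα' : (⟨α, hα⟩ : E.autGroup T) ∈ pResidual p ↥(E.autGroup T) ⊔
      (autInducedBy T T).subgroupOf (E.autGroup T) :=
    (autGroup_generated (hS.to_le hTS) hE hTn'').symm ▸ Subgroup.mem_top _
  rw [pResidual, ← Subgroup.closure_eq ((autInducedBy T T).subgroupOf (E.autGroup T)),
    ← Subgroup.closure_union] at hα'
  have hmem : ∀ (β : F.autGroup U) (c : U), (∀ x : T, (((β : MulAut U) (Subgroup.inclusion le_sup_left x) : U) : Ω) ∈ T) →
      (c : Ω) ∈ centralizerIn S T → (((β : MulAut U) c : U) : Ω) ∈ centralizerIn S T := by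
    intro β c hT hc
    refine ⟨hUS (SetLike.coe_mem _), fun y hy => ?_⟩
    have hinj : Function.Injective fun x : T => (⟨_, hT x⟩ : T) := fun a b h =>
      Subgroup.inclusion_injective le_sup_left ((β : MulAut U).injective (Subtype.ext (Subtype.mk.inj h)))
    obtain ⟨x, hx⟩ := Finite.surjective_of_injective hinj ⟨y, hy⟩
    have hx' : (((β : MulAut U) (Subgroup.inclusion le_sup_left x) : U) : Ω) = y := congrArg Subtype.val hx
    have h1 : Subgroup.inclusion le_sup_left x * c = c * Subgroup.inclusion le_sup_left x :=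
      Subtype.ext (hc.2 x x.2)
    have h2 := congrArg (fun z : U => (((β : MulAut U) z : U) : Ω)) h1
    simp only [map_mul, Subgroup.coe_mul, hx'] at h2
    exact h2
  let Good : E.autGroup T → Prop := fun γ => ∃ β : F.autGroup U,
    (∀ x : T, (((β : MulAut U) (Subgroup.inclusion le_sup_left x) : U) : Ω) = (((γ : MulAut T) x : T) : Ω)) ∧
    ∀ c : U, (c : Ω) ∈ centralizerIn S T →
      (c : Ω)⁻¹ * (((β : MulAut U) c : U) : Ω) ∈ T ⊓ Subgroup.centralizer (T : Set Ω)
  suffices key : Good ⟨α, hα⟩ by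
    obtain ⟨β, h1, h2⟩ := key
    exact ⟨β, β.2, h1, h2⟩
  generalize (⟨α, hα⟩ : E.autGroup T) = γ₀ at hα' ⊢
  induction hα' using Subgroup.closure_induction with
  | mem γ hγ =>
    rcases hγ with hγ | hγ
    · obtain ⟨g, hg, eg⟩ := (mem_autGroup_iff le_rfl).mp γ.2
      have hgF : Iso F g T T := ⟨subsystem_mor hEi.1 hg.mor, hg.bij⟩
      obtain ⟨k, hk, ek⟩ := (receptive_iff.mp (IsSaturated_fullyNormalized hS hF hTn').2.2).2 T g hgF
      have hkU := hk.restrict (sup_le hgF.mor.le_nphi centralizerIn_le_nphi : U ≤ nphi S T g)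
      have hm : ∀ x ∈ U, k x ∈ U := hkU.map_sup (fun x hx => Subgroup.mem_sup_left (by
          rw [ek x hx]; exact hgF.mapsTo hx)) fun x hx => Subgroup.mem_sup_right ⟨hkU.map_mem (Subgroup.mem_sup_right hx),
        fun y hy => by
          obtain ⟨z, hz, rfl⟩ := hgF.surj hy
          rw [← ek z hz, ← hkU.map_mul (Subgroup.mem_sup_left hz) (Subgroup.mem_sup_right hx), hx.2 z hz,
            hkU.map_mul (Subgroup.mem_sup_right hx) (Subgroup.mem_sup_left hz)]⟩
      have hki := hkU.iso_of_card hm le_rfl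
      set β₀ : F.autGroup U := ⟨hki.equiv, hki.equiv_mem_autGroup⟩
      have hres : ∀ n : ℕ, ∀ x : T, ((((β₀ ^ n : F.autGroup U) : MulAut U) (Subgroup.inclusion le_sup_left x) : U) : Ω) =
          ((((γ ^ n : E.autGroup T) : MulAut T) x : T) : Ω) := by
        intro n
        induction n with
        | zero => exact fun x => rfl
        | succ n ih =>
          intro x
          rw [pow_succ', pow_succ', Subgroup.coe_mul, Subgroup.coe_mul, MulAut.mul_apply, MulAut.mul_apply]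
          show k _ = _
          rw [ih x, ek _ (SetLike.coe_mem _)]
          exact eg _
      -- the part of order prime to `p`
      have hp : p.Prime := Fact.out
      obtain ⟨e, m, hm', hom⟩ := Nat.exists_eq_pow_mul_and_not_dvd (orderOf_pos β₀).ne' p hp.ne_one
      obtain ⟨i, hi⟩ := exists_pow_eq_self_of_coprime (n := p ^ e) (x := γ)
        ((Nat.Coprime.pow_right e (hγ : (orderOf γ).Coprime p)).symm)
      refine ⟨β₀ ^ (p ^ e * i), fun x => by rw [hres, pow_mul, hi], fun c hc => ?_⟩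
      have hpow : (β₀ ^ (p ^ e * i)) ^ m = 1 := by
        rw [← pow_mul, show p ^ e * i * m = p ^ e * m * i by ring, ← hom, pow_mul, pow_orderOf_eq_one, one_pow]
      have hH : (c : Ω)⁻¹ * ((((β₀ ^ (p ^ e * i) : F.autGroup U) : MulAut U) c : U) : Ω) ∈ F.hyperfocalSubgroup p := by
        refine Subgroup.subset_closure ⟨U, β₀ ^ (p ^ e * i), c, hUS, Subgroup.subset_closure ?_, rfl⟩
        exact Nat.Coprime.coprime_dvd_left (orderOf_dvd_of_pow_eq_one hpow) ((hp.coprime_iff_not_dvd.mpr hm').symm)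
      refine ⟨hEi.2.1 hH, (Subgroup.centralizer _).mul_mem ((Subgroup.centralizer _).inv_mem hc.2) ?_⟩
      exact (hmem _ c (fun x => by rw [hres]; exact SetLike.coe_mem _) hc).2
    · obtain ⟨t, ht, -, et⟩ := mem_autInducedBy.mp (show (γ : MulAut T) ∈ autInducedBy T T from hγ)
      have htn : t ∈ Subgroup.normalizer (U : Set Ω) := Subgroup.le_normalizer (Subgroup.mem_sup_left ht)
      have hi : Iso F (cj t) U U := Iso.conj_self hUS (hTS ht) htn
      refine ⟨⟨hi.equiv, hi.equiv_mem_autGroup⟩, fun x => (et x).symm, fun c hc => ?_⟩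
      show (c : Ω)⁻¹ * cj t c ∈ _
      rw [cj_apply, hc.2 t ht, mul_inv_cancel_right, inv_mul_cancel]
      exact Subgroup.one_mem _
  | one =>
    refine ⟨1, fun x => rfl, fun c _ => ?_⟩
    show (c : Ω)⁻¹ * (c : Ω) ∈ _
    rw [inv_mul_cancel]; exact Subgroup.one_mem _
  | mul γ δ _ _ hγ hδ =>
    obtain ⟨b, hb1, hb2⟩ := hγ
    obtain ⟨d, hd1, hd2⟩ := hδ
    refine ⟨b * d, fun x => ?_, fun c hc => ?_⟩
    · rw [Subgroup.coe_mul, Subgroup.coe_mul, MulAut.mul_apply, MulAut.mul_apply]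
      have : (d : MulAut U) (Subgroup.inclusion le_sup_left x) = Subgroup.inclusion le_sup_left ((δ : MulAut T) x) :=
        Subtype.ext (hd1 x)
      rw [this, hb1]
    · have h1 := hmem d c (fun x => by rw [hd1]; exact SetLike.coe_mem _) hc
      have h2 := Subgroup.mul_mem _ (hd2 c hc) (hb2 _ h1)
      rwa [mul_assoc, mul_inv_cancel_left] at h2
  | inv γ _ hγ =>
    obtain ⟨b, hb1, hb2⟩ := hγ
    refine ⟨b⁻¹, fun x => ?_, fun c hc => ?_⟩
    · have h1 := hb1 ((γ : MulAut T)⁻¹ x)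
      rw [MulAut.apply_inv_self] at h1
      have h2 : (b : MulAut U) (Subgroup.inclusion le_sup_left ((γ : MulAut T)⁻¹ x)) = Subgroup.inclusion le_sup_left x :=
        Subtype.ext h1
      rw [← h2]
      show (((b : MulAut U)⁻¹ ((b : MulAut U) _) : U) : Ω) = _
      rw [MulAut.inv_apply_self]
      rfl
    · have hT' : ∀ x : T, ((((b⁻¹ : F.autGroup U) : MulAut U) (Subgroup.inclusion le_sup_left x) : U) : Ω) ∈ T := by
        intro x
        have h1 := hb1 ((γ : MulAut T)⁻¹ x)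
        rw [MulAut.apply_inv_self] at h1
        have h2 : (b : MulAut U) (Subgroup.inclusion le_sup_left ((γ : MulAut T)⁻¹ x)) = Subgroup.inclusion le_sup_left x :=
          Subtype.ext h1
        rw [← h2]
        show (((b : MulAut U)⁻¹ ((b : MulAut U) _) : U) : Ω) ∈ T
        rw [MulAut.inv_apply_self]
        exact SetLike.coe_mem _
      have h1 := hb2 _ (hmem b⁻¹ c hT' hc)
      rw [show ((b : MulAut U) (((b⁻¹ : F.autGroup U) : MulAut U) c)) = c from MulAut.apply_inv_self _ _ c] at h1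
      have h2 := Subgroup.inv_mem _ h1
      rwa [mul_inv_rev, inv_inv] at h2

theorem pPower_normal [Fact p.Prime] [Finite S] (hS : IsPGroup p S) (hF : F.IsSaturated p)
    (hTn : ∀ s ∈ S, ∀ x ∈ T, cj s x ∈ T) (hE : E.IsSaturated p)
    (hEi : E.HasPPowerIndexIn F p) : E.IsNormalIn F p := by
  have hTS : T ≤ S := subsystem_dom_le hEi.1
  haveI := finite_of_le hTS
  have hTs : F.StronglyClosed T := stronglyClosed_of_mor hTS fun P f hf x hx hxT => by
    obtain ⟨g, hg, h⟩ := mor_mod_hyperfocal hS hF P f hf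
    have h1 := T.mul_mem (hTn g hg x hxT) (hEi.2.1 (h x hx))
    rwa [mul_inv_cancel_left] at h1
  have hiso : ∀ s ∈ S, Iso F (cj s) T T := fun s hs =>
    (Mor.conj hTS hs).iso_of_card (hTn s hs) le_rfl
  refine ⟨⟨hE, hF, hEi.1, hTs, ?_, ?_⟩, pPower_extension hS hF hTs hTn hE hEi⟩
  · intro P hPT φ hφ α hα
    obtain ⟨a, ha, ea⟩ := (mem_autGroup_iff hTS).mp hα
    obtain ⟨a', ha', hl, -⟩ := ha.exists_symm
    set P' := (P.subgroupOf T).map (T.subtype.comp α.toMonoidHom)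
    have hm := pPower_push hS hE hEi ha ha' hl P _ (mor_of_mem hφ) P' fun y => by
      constructor
      · rintro ⟨x, hx, rfl⟩
        exact ⟨x, hx, ea x⟩
      · rintro ⟨x, hx, rfl⟩
        exact ⟨⟨x, hPT hx⟩, hx, (ea ⟨x, hPT hx⟩).symm⟩
    refine ⟨hm.hom, hm.hom_mem, fun x hφx hαx => ?_⟩
    show a (extFun φ (a' ((α ⟨x, hPT x.2⟩ : T) : Ω))) = _
    rw [← ea ⟨x, hPT x.2⟩, hl _ (hPT x.2), extFun_coe]
    exact ea ⟨φ x, hφx⟩
  · intro P hPT φ hφ
    obtain ⟨s, hs, hm⟩ := pPower_frattini hS hF hTs hTn hE hEi P _ (mor_of_mem hφ)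
    have hm' := hm.restrict (le_inf le_rfl hPT)
    have hi := hiso s⁻¹ (S.inv_mem hs)
    refine ⟨hi.equiv, hi.equiv_mem_autGroup, hm'.hom, hm'.hom_mem, fun x hx => ?_⟩
    show φ x = cj s⁻¹ (cj s (extFun φ x))
    rw [cj_inv_cancel, extFun_coe]

end Cfsg.Agent.Fusion
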