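/-
Stabilizers of a subgroup in automorphism groups, systems from closed classes, pivots.
-/
import Cfsg.Agent.Fusion.Alperin
set_option autoImplicit false

namespace Cfsg.Agent.Fusion.SatCrit

open Cfsg Cfsg.FusionSystem

variable {Ω : Type*} [Group Ω] {S : Subgroup Ω} {F : FusionSystem S} {p : ℕ}
  {A B P Q R : Subgroup Ω} {f g : Ω → Ω}

/-- The system of the maps of `F` in a closed class. -/
def systemOf {C : Subgroup Ω → (Ω → Ω) → Prop} (hC : Closed F C) : FusionSystem S where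
  Hom P := {φ | φ ∈ F.Hom P ∧ C P (extFun φ)}
  le_of_mem h := F.le_of_mem h.1
  injective_of_mem h := F.injective_of_mem h.1
  conj_mem {P g} hP hg := ⟨F.conj_mem hP hg, hC.congr (Mor.conj hP hg)
    (fun x hx => (extFun_apply (conjHom P g) hx).symm) (hC.conj hP hg)⟩
  comp_mem {P Q φ ψ} h h' m := ⟨F.comp_mem h.1 h'.1 m, by
    have m' : ∀ x ∈ P, extFun φ x ∈ Q := fun x hx => by
      have := m ⟨x, hx⟩
      rwa [← extFun_apply φ hx] at this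
    refine hC.congr ((mor_of_mem h.1).comp (mor_of_mem h'.1) m') (fun x hx => ?_)
      (hC.comp (mor_of_mem h.1) (mor_of_mem h'.1) m' h.2 h'.2)
    show extFun ψ (extFun φ x) = _
    refine Eq.trans ?_ (extFun_apply _ hx).symm
    rw [extFun_apply ψ (m' x hx)]
    exact congrArg ψ (Subtype.ext (by exact extFun_apply φ hx))⟩
  inv_mem {P φ} h := by
    obtain ⟨ψ, hψ, e⟩ := F.inv_mem h.1
    have e' : ∀ x ∈ P, extFun ψ (extFun φ x) = x := fun x hx => by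
      rw [extFun_apply ψ (show extFun φ x ∈ φ.range from ⟨⟨x, hx⟩, (extFun_apply φ hx).symm⟩)]
      refine Eq.trans ?_ (e ⟨x, hx⟩)
      exact congrArg ψ (Subtype.ext (extFun_apply φ hx))
    have hφi : Iso F (extFun φ) P φ.range := ⟨mor_of_mem h.1,
      fun x hx => ⟨⟨x, hx⟩, (extFun_apply φ hx).symm⟩, (mor_of_mem h.1).injOn, by
        rintro _ ⟨x, rfl⟩; exact ⟨x, x.2, extFun_coe φ x⟩⟩
    have hm : ∀ y ∈ φ.range, extFun ψ y ∈ P := fun y hy => by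
      obtain ⟨x, hx, rfl⟩ := hφi.surj hy
      rw [e' x hx]; exact hx
    have hψi : Iso F (extFun ψ) φ.range P := ⟨mor_of_mem hψ, hm, (mor_of_mem hψ).injOn,
      fun x hx => ⟨_, hφi.mapsTo hx, e' x hx⟩⟩
    exact ⟨ψ, ⟨hψ, hC.inv hφi hψi e' h.2⟩, e⟩

theorem systemOf_mor {C : Subgroup Ω → (Ω → Ω) → Prop} (hC : Closed F C) (h : Mor (systemOf hC) P f) :
    Mor F P f ∧ C P f := by
  obtain ⟨φ, hφ, e⟩ := h
  exact ⟨⟨φ, hφ.1, e⟩, hC.congr (mor_of_mem hφ.1) (fun x hx => (extFun_apply φ hx).trans (e ⟨x, hx⟩)) hφ.2⟩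

/-- The automorphisms of `A` in the system that preserve `Q`. -/
def stabG (F : FusionSystem S) (A Q : Subgroup Ω) : Subgroup (MulAut A) where
  carrier := {α | α ∈ F.autGroup A ∧ ∀ x : A, (x : Ω) ∈ Q ↔ ((α x : A) : Ω) ∈ Q}
  one_mem' := ⟨one_mem _, fun _ => Iff.rfl⟩
  mul_mem' := fun {a b} ha hb => ⟨mul_mem ha.1 hb.1, fun x => (hb.2 x).trans (ha.2 (b x))⟩
  inv_mem' := fun {a} ha => ⟨inv_mem ha.1, fun x => by
    have := (ha.2 (a⁻¹ x)).symm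
    rwa [MulAut.apply_inv_self] at this⟩

theorem stabG_le : stabG F A Q ≤ F.autGroup A := fun _ h => h.1

/-- Restriction of an automorphism. -/
def rstr (hQA : Q ≤ A) : stabG F A Q →* MulAut Q where
  toFun α :=
    { toFun := fun x => ⟨((α : MulAut A) ⟨x, hQA x.2⟩ : A), (α.2.2 ⟨x, hQA x.2⟩).mp x.2⟩
      invFun := fun x => ⟨((α : MulAut A)⁻¹ ⟨x, hQA x.2⟩ : A), ((α⁻¹).2.2 ⟨x, hQA x.2⟩).mp x.2⟩
      left_inv := fun x => Subtype.ext (by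
        show ((((α : MulAut A)⁻¹ ((α : MulAut A) ⟨x, hQA x.2⟩)) : A) : Ω) = x
        rw [MulAut.inv_apply_self])
      right_inv := fun x => Subtype.ext (by
        show ((((α : MulAut A) ((α : MulAut A)⁻¹ ⟨x, hQA x.2⟩)) : A) : Ω) = x
        rw [MulAut.apply_inv_self])
      map_mul' := fun x y => Subtype.ext (by
        show ((((α : MulAut A) (⟨x, hQA x.2⟩ * ⟨y, hQA y.2⟩)) : A) : Ω) = _
        rw [map_mul]; rfl) }
  map_one' := rfl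
  map_mul' _ _ := rfl

theorem rstr_val (hQA : Q ≤ A) (α : stabG F A Q) (x : Q) :
    ((rstr hQA α x : Q) : Ω) = (((α : MulAut A) ⟨x, hQA x.2⟩ : A) : Ω) := rfl

theorem rstr_mem (hA : A ≤ S) (hQA : Q ≤ A) [Finite Q] (α : stabG F A Q) : rstr hQA α ∈ F.autGroup Q := by
  obtain ⟨f, hf, e⟩ := (mem_autGroup_iff hA).mp α.2.1
  refine (mem_autGroup_iff (hQA.trans hA)).mpr ⟨f, (hf.mor.restrict hQA).iso_of_card (fun x hx => ?_) le_rfl,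
    fun x => e ⟨x, hQA x.2⟩⟩
  rw [show f x = _ from e ⟨x, hQA hx⟩]
  exact (α.2.2 ⟨x, hQA hx⟩).mp hx

theorem mem_stabG_of_iso [Finite Q] (hf : Iso F f A A) (hQA : Q ≤ A) (hm : ∀ x ∈ Q, f x ∈ Q) :
    (hf.equiv : MulAut A) ∈ stabG F A Q := by
  refine ⟨hf.equiv_mem_autGroup, fun x => ⟨fun hx => hm x hx, fun hx => ?_⟩⟩
  have hq := (hf.mor.restrict hQA).iso_of_card (Q := Q) hm le_rfl
  obtain ⟨y, hy, hyx⟩ := hq.surj hx
  exact hf.mor.injOn (hQA hy) x.2 hyx ▸ hy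

theorem actHom_mem_stabG (hA : A ≤ S) {x : Ω} (hx : x ∈ normalizerIn S A)
    (hxQ : x ∈ Subgroup.normalizer (Q : Set Ω)) : actHom S A ⟨x, hx⟩ ∈ stabG F A Q :=
  ⟨autInducedBy_le_autGroup hA ((range_actHom S A).le ⟨_, rfl⟩), fun v => (cj_mem_iff hxQ (v : Ω)).symm⟩

theorem mem_stab_induced {α : MulAut A} (h1 : α ∈ autInducedBy S A) (h2 : α ∈ stabG F A Q) (hQA : Q ≤ A)
    [Finite Q] : ∃ x, ∃ hx : x ∈ normalizerIn S A,
      x ∈ Subgroup.normalizer (Q : Set Ω) ∧ α = actHom S A ⟨x, hx⟩ := by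
  obtain ⟨x, hxS, hxA, e⟩ := mem_autInducedBy.mp h1
  refine ⟨x, ⟨hxS, hxA⟩, Subgroup.mem_normalizer_fintype fun v hv => ?_, MulEquiv.ext fun v => Subtype.ext (e v)⟩
  have h3 := (h2.2 ⟨v, hQA hv⟩).mp hv
  rw [e] at h3
  exact h3

/-- Extension of an automorphism of a receptive subgroup. -/
theorem ext_of_conj {X : Subgroup Ω} (hR : F.IsReceptive A) {α : MulAut A} (hα : α ∈ F.autGroup A)
    (hX : ∀ x ∈ X, x ∈ A ∨ ∃ hx : x ∈ normalizerIn S A, α * actHom S A ⟨x, hx⟩ * α⁻¹ ∈ autInducedBy S A) :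
    ∃ e, Mor F X e ∧ ∀ x : A, (x : Ω) ∈ X → e x = ((α x : A) : Ω) := by
  obtain ⟨f, hf, ef⟩ := (mem_autGroup_iff hR.1).mp hα
  obtain ⟨e, he, ee⟩ := (receptive_iff.mp hR).2 A f hf
  refine ⟨e, he.restrict fun x hx => ?_, fun x _ => (ee x x.2).trans (ef x)⟩
  rcases hX x hx with hxA | ⟨hxN, h⟩
  · exact hf.mor.le_nphi hxA
  obtain ⟨s, hs, -, es⟩ := mem_autInducedBy.mp h
  refine mem_nphi.mpr ⟨hxN.1, hxN.2, s, hs, fun y hy => ?_⟩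
  have h1 := es (α ⟨y, hy⟩)
  rw [MulAut.mul_apply, MulAut.mul_apply, MulAut.inv_apply_self] at h1
  rw [show f y = _ from ef ⟨y, hy⟩, ← h1]
  exact ef ⟨_, (cj_mem_iff hxN.2 y).mpr hy⟩

/-- A `p`-subgroup of `G` is conjugate in `G` into a Sylow subgroup given as a subgroup. -/
theorem conj_into_sylow {M : Type*} [Group M] [Finite M] [Fact p.Prime] {G K : Subgroup M} (T : Sylow p G)
    (hK : IsPGroup p K) (hKG : K ≤ G) :
    ∃ σ : G, ∀ k (hk : k ∈ K), σ * ⟨k, hKG hk⟩ * σ⁻¹ ∈ (T : Subgroup G) := by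
  have hK' : IsPGroup p (K.subgroupOf G) := hK.comap_subtype
  obtain ⟨T', hT'⟩ := hK'.exists_le_sylow
  obtain ⟨σ, hσ⟩ := MulAction.exists_smul_eq G T' T
  refine ⟨σ, fun k hk => ?_⟩
  rw [← hσ, Sylow.coe_subgroup_smul]
  exact Subgroup.smul_mem_pointwise_smul _ (MulAut.conj σ) _
    (hT' (show (⟨k, hKG hk⟩ : G) ∈ K.subgroupOf G from hk))

/-- The image of `X ≤ N_S(A)` in the automorphisms of `A`. -/
def autImg (S A X : Subgroup Ω) : Subgroup (MulAut A) :=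
  (X.subgroupOf (S ⊓ Subgroup.normalizer (A : Set Ω))).map (actHom S A)

theorem autImg_pGroup (hS : IsPGroup p S) {X : Subgroup Ω} : IsPGroup p (autImg S A X) :=
  (isPGroup_autInducedBy hS A).to_le ((Subgroup.map_le_range _ _).trans (range_actHom S A).le)

theorem mem_autImg {X : Subgroup Ω} {x : Ω} (hx : x ∈ normalizerIn S A) (hxX : x ∈ X) :
    actHom S A ⟨x, hx⟩ ∈ autImg S A X := ⟨⟨x, hx⟩, hxX, rfl⟩

/-- Outcome of the pivot at a good conjugate of `A`. -/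
structure PivotData (F : FusionSystem S) (p : ℕ) (A A' B' M₁ M₂ : Subgroup Ω) (f : Ω → Ω) where
  hat : Subgroup Ω
  recep : F.IsReceptive hat
  Q₁ : Subgroup Ω
  Q₂ : Subgroup Ω
  Q₃ : Subgroup Ω
  a : Ω → Ω
  b : Ω → Ω
  e₁ : Ω → Ω
  e₂ : Ω → Ω
  X₁ : Subgroup Ω
  X₂ : Subgroup Ω
  aX : Iso F a A' X₁
  bX : Iso F b B' X₂
  aA : Iso F a A hat
  aQ : Iso F a M₁ Q₁
  bQ : Iso F b M₂ Q₂
  X₁le : X₁ ≤ normalizerIn S Q₁
  X₂le : X₂ ≤ normalizerIn S Q₂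
  e₁X : Mor F X₁ e₁
  e₂X : Mor F X₂ e₂
  hatX₁ : hat ≤ X₁
  e₁hat : Iso F e₁ hat hat
  e₁Q : Iso F e₁ Q₁ Q₃
  e₂Q : Iso F e₂ Q₂ Q₃
  Q₃le : Q₃ < hat
  hatQ₃ : hat ≤ normalizerIn S Q₃
  τ : MulAut hat
  τmem : τ ∈ stabG F hat Q₃
  τeq : ∀ v (hv : v ∈ M₁) (hm : e₁ (a v) ∈ hat), e₂ (b (f v)) = ((τ ⟨e₁ (a v), hm⟩ : hat) : Ω)
  sylow : ¬ p ∣ ((autInducedBy S hat).subgroupOf (stabG F hat Q₃)).index

theorem exists_pivot [Fact p.Prime] [Finite S] (hS : IsPGroup p S) {M₁ M₂ Ah : Subgroup Ω}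
    (hf : Iso F f A B) (hfM : Iso F f M₁ M₂) (h1 : M₁ < A) (h2 : M₂ < B) (hB : B ≤ normalizerIn S M₂)
    (hconj : F.IsConj A Ah) (hAut : F.IsFullyAutomized p Ah) (hRec : F.IsReceptive Ah) :
    Nonempty (PivotData F p A (normalizerIn (normalizerIn S M₁) A) (normalizerIn (normalizerIn S M₂) B) M₁ M₂ f) := by
  set A' := normalizerIn (normalizerIn S M₁) A with hA'def
  set B' := normalizerIn (normalizerIn S M₂) B with hB'def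
  have hAhS := hRec.1
  haveI := finite_of_le hAhS
  haveI := finite_mulAut (G := Ah)
  obtain ⟨u, hu⟩ := isConj_iff.mp hconj
  obtain ⟨-, a, -, ha, -, ham, haA⟩ := hu.exists_normalizer_map hS hAut hRec
  obtain ⟨f', hf', hl, hr⟩ := hf.exists_symm
  obtain ⟨-, b, -, hb, -, hbm, hbB⟩ := (hf'.comp hu).exists_normalizer_map hS hAut hRec
  have hA'N : A' ≤ normalizerIn S A := fun x hx => ⟨hx.1.1, hx.2⟩
  have hB'N : B' ≤ normalizerIn S B := fun x hx => ⟨hx.1.1, hx.2⟩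
  have haA' : Mor F A' a := ha.restrict hA'N
  have hbB' : Mor F B' b := hb.restrict hB'N
  have haM : Mor F M₁ a := haA.mor.restrict h1.le
  have hbM : Mor F M₂ b := hbB.mor.restrict h2.le
  set Q₁ := haM.img with hQ₁
  set Q₂ := hbM.img with hQ₂
  have haQ : Iso F a M₁ Q₁ := haM.toIso
  have hbQ : Iso F b M₂ Q₂ := hbM.toIso
  have hQ₂A : Q₂ ≤ Ah := fun y hy => by
    obtain ⟨x, hx, rfl⟩ := hbQ.surj hy; exact hbB.mapsTo (h2.le hx)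
  have hQ₁A : Q₁ ≤ Ah := fun y hy => by
    obtain ⟨x, hx, rfl⟩ := haQ.surj hy; exact haA.mapsTo (h1.le hx)
  haveI := finite_of_le (hQ₂A.trans hAhS)
  haveI := finite_of_le (hQ₁A.trans hAhS)
  obtain ⟨a', ha', hal, har⟩ := haA.exists_symm
  have hω : Iso F (b ∘ f ∘ a') Ah Ah := (ha'.comp hf).comp hbB
  set ω : MulAut Ah := hω.equiv with hωdef
  have hωval : ∀ v ∈ A, ∀ hv : a v ∈ Ah, ((ω ⟨a v, hv⟩ : Ah) : Ω) = b (f v) := fun v hv hv' => by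
    show b (f (a' (a v))) = _
    rw [hal v hv]
  have hωQ : ∀ x : Ah, (x : Ω) ∈ Q₁ ↔ ((ω x : Ah) : Ω) ∈ Q₂ := by
    intro x
    obtain ⟨v, hv, hvx⟩ := haA.surj x.2
    have hx : x = ⟨a v, haA.mapsTo hv⟩ := Subtype.ext hvx.symm
    rw [hx, hωval v hv]
    constructor
    · intro h
      obtain ⟨w, hw, hwv⟩ := haQ.surj h
      obtain rfl := haA.mor.injOn (h1.le hw) hv hwv
      exact hbQ.mapsTo (hfM.mapsTo hw)
    · intro h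
      obtain ⟨w, hw, hwv⟩ := hbQ.surj h
      obtain ⟨w', hw', rfl⟩ := hfM.surj hw
      have := hbB.mor.injOn (h2.le hw) (hf.mapsTo hv) hwv
      obtain rfl := hf.mor.injOn (h1.le hw') hv this
      exact haQ.mapsTo hw'
  have hX₁ : Iso F a A' haA'.img := haA'.toIso
  have hX₂ : Iso F b B' hbB'.img := hbB'.toIso
  set X₁ := haA'.img
  set X₂ := hbB'.img
  have hX₁N : ∀ y ∈ X₁, y ∈ normalizerIn S Ah := fun y hy => by
    obtain ⟨x, hx, rfl⟩ := hX₁.surj hy; exact ham x (hA'N hx)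
  have hX₂N : ∀ y ∈ X₂, y ∈ normalizerIn S Ah := fun y hy => by
    obtain ⟨x, hx, rfl⟩ := hX₂.surj hy; exact hbm x (hB'N hx)
  have hM₁S : M₁ ≤ normalizerIn S A := h1.le.trans (le_normalizerIn hf.dom_le)
  have hM₂S : M₂ ≤ normalizerIn S B := h2.le.trans (le_normalizerIn hf.cod_le)
  have hX₁Q : X₁ ≤ normalizerIn S Q₁ := fun y hy => by
    obtain ⟨x, hx, rfl⟩ := hX₁.surj hy
    exact haQ.map_normalizer ha hM₁S (fun _ _ => rfl) (hA'N hx) hx.1.2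
  have hX₂Q : X₂ ≤ normalizerIn S Q₂ := fun y hy => by
    obtain ⟨x, hx, rfl⟩ := hX₂.surj hy
    exact hbQ.map_normalizer hb hM₂S (fun _ _ => rfl) (hB'N hx) hx.1.2
  set Gs := stabG F Ah Q₂ with hGs
  have hKBle : autImg S Ah X₂ ≤ Gs := by
    rintro _ ⟨⟨x, hx⟩, hxX, rfl⟩
    exact actHom_mem_stabG hAhS hx (hX₂Q hxX).2
  have hKAle : (autImg S Ah X₁).map (MulAut.conj ω).toMonoidHom ≤ Gs := by
    rintro _ ⟨_, ⟨⟨x, hx⟩, hxX, rfl⟩, rfl⟩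
    refine ⟨mul_mem (mul_mem hω.equiv_mem_autGroup (actHom_mem_stabG (F := F) hAhS hx (hX₁Q hxX).2).1)
      (inv_mem hω.equiv_mem_autGroup), fun v => ?_⟩
    show _ ↔ ((ω (actHom S Ah ⟨x, hx⟩ (ω⁻¹ v)) : Ah) : Ω) ∈ Q₂
    rw [← hωQ, ← (actHom_mem_stabG (F := F) hAhS hx (hX₁Q hxX).2).2, hωQ, MulAut.apply_inv_self]
  have hKBp : IsPGroup p ((autImg S Ah X₂).subgroupOf Gs) := (autImg_pGroup hS).comap_subtype
  obtain ⟨T, hT⟩ := hKBp.exists_le_sylow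
  obtain ⟨σ, hσ⟩ := conj_into_sylow T ((autImg_pGroup hS).map _) hKAle
  obtain ⟨χ, hχ, hχT⟩ := exists_conj_into hAut (K := (T : Subgroup Gs).map Gs.subtype)
    (T.isPGroup'.map _) (fun r hr => by obtain ⟨t, -, rfl⟩ := hr; exact t.2.1)
  set α₁ : MulAut Ah := χ * (σ : MulAut Ah) * ω with hα₁
  have hα₁mem : α₁ ∈ F.autGroup Ah := mul_mem (mul_mem hχ σ.2.1) hω.equiv_mem_autGroup
  obtain ⟨e₁, he₁, ee₁⟩ := ext_of_conj (X := X₁) hRec hα₁mem fun x hx => Or.inr ⟨hX₁N x hx, by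
    have h3 := hσ _ ⟨_, mem_autImg (hX₁N x hx) hx, rfl⟩
    have h4 := hχT _ ⟨_, h3, rfl⟩
    convert h4 using 1
    simp only [hα₁, Subgroup.coe_subtype, Subgroup.coe_mul, Subgroup.coe_inv, MulEquiv.coe_toMonoidHom,
      MulAut.conj_apply, mul_inv_rev, mul_assoc]⟩
  obtain ⟨e₂, he₂, ee₂⟩ := ext_of_conj (X := X₂) hRec hχ fun x hx => Or.inr ⟨hX₂N x hx,
    hχT _ ⟨⟨_, hKBle (mem_autImg (hX₂N x hx) hx)⟩, hT (mem_autImg (hX₂N x hx) hx), rfl⟩⟩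
  let Q₃ : Subgroup Ω := ((Q₂.subgroupOf Ah).map χ.toMonoidHom).map Ah.subtype
  have hQ₃iff : ∀ x : Ah, (x : Ω) ∈ Q₂ ↔ ((χ x : Ah) : Ω) ∈ Q₃ := by
    intro x
    constructor
    · intro hx; exact ⟨χ x, ⟨x, hx, rfl⟩, rfl⟩
    · rintro ⟨_, ⟨v, hv, rfl⟩, hvx⟩
      rwa [← χ.injective (Subtype.ext hvx)]
  have hQ₃A : Q₃ ≤ Ah := Subgroup.map_subtype_le _
  haveI := finite_of_le (hQ₃A.trans hAhS)
  have hA'A : A ≤ A' := fun x hx => ⟨⟨hf.dom_le hx, ?_⟩, Subgroup.le_normalizer hx⟩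
  swap
  · have hfx := (hB (hf.mapsTo hx)).2
    haveI := finite_of_le ((h1.le).trans hf.dom_le)
    refine Subgroup.mem_normalizer_fintype fun m hm => ?_
    obtain ⟨m', hm', e⟩ := hfM.surj ((cj_mem_iff hfx (f m)).mpr (hfM.mapsTo hm))
    rw [cj_apply, ← hf.mor.map_conj hx (h1.le hm)] at e
    have := hf.mor.injOn (h1.le hm') (cj_mem hx (h1.le hm)) e
    rw [← cj_apply, ← this]
    exact hm'
  have hB'B : B ≤ B' := fun x hx => ⟨hB hx, Subgroup.le_normalizer hx⟩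
  have hAhX₁ : Ah ≤ X₁ := fun y hy => by
    obtain ⟨x, hx, rfl⟩ := haA.surj hy; exact hX₁.mapsTo (hA'A hx)
  have hAhX₂ : Ah ≤ X₂ := fun y hy => by
    obtain ⟨x, hx, rfl⟩ := hbB.surj hy; exact hX₂.mapsTo (hB'B hx)
  have hchQ : ∀ x : Ah, (x : Ω) ∈ Q₁ ↔ ((α₁ x : Ah) : Ω) ∈ Q₃ := fun x => by
    rw [hωQ, σ.2.2, hQ₃iff]; rfl
  have he₁h : Iso F e₁ Ah Ah := (he₁.restrict hAhX₁).iso_of_card
    (fun x hx => by rw [ee₁ ⟨x, hx⟩ (hAhX₁ hx)]; exact SetLike.coe_mem _) le_rfl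
  have he₁Q : Iso F e₁ Q₁ Q₃ := ⟨he₁.restrict (hQ₁A.trans hAhX₁), fun x hx => by
      rw [ee₁ ⟨x, hQ₁A hx⟩ (hAhX₁ (hQ₁A hx))]; exact (hchQ ⟨x, hQ₁A hx⟩).mp hx,
    (he₁.restrict (hQ₁A.trans hAhX₁)).injOn, fun y hy => by
      have e : ((α₁ (α₁⁻¹ ⟨y, hQ₃A hy⟩) : Ah) : Ω) = y := by rw [MulAut.apply_inv_self]
      exact ⟨_, (hchQ (α₁⁻¹ ⟨y, hQ₃A hy⟩)).mpr (e.symm ▸ hy), (ee₁ _ (hAhX₁ (SetLike.coe_mem _))).trans e⟩⟩
  have he₂Q : Iso F e₂ Q₂ Q₃ := ⟨he₂.restrict (hQ₂A.trans hAhX₂), fun x hx => by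
      rw [ee₂ ⟨x, hQ₂A hx⟩ (hAhX₂ (hQ₂A hx))]; exact (hQ₃iff ⟨x, hQ₂A hx⟩).mp hx,
    (he₂.restrict (hQ₂A.trans hAhX₂)).injOn, fun y hy => by
      have e : ((χ (χ⁻¹ ⟨y, hQ₃A hy⟩) : Ah) : Ω) = y := by rw [MulAut.apply_inv_self]
      exact ⟨_, (hQ₃iff (χ⁻¹ ⟨y, hQ₃A hy⟩)).mpr (e.symm ▸ hy), (ee₂ _ (hAhX₂ (SetLike.coe_mem _))).trans e⟩⟩
  have hQ₃lt : Q₃ < Ah := by
    refine lt_of_le_of_ne hQ₃A fun e => h1.not_ge fun x hx => ?_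
    obtain ⟨w, hw, hwx⟩ := haQ.surj ((hchQ ⟨a x, haA.mapsTo hx⟩).mpr (e.ge (SetLike.coe_mem _)))
    exact haA.mor.injOn (h1.le hw) hx hwx ▸ hw
  refine ⟨⟨Ah, hRec, Q₁, Q₂, Q₃, a, b, e₁, e₂, X₁, X₂, hX₁, hX₂, haA, haQ, hbQ, hX₁Q, hX₂Q,
    he₁, he₂, hAhX₁, he₁h, he₁Q, he₂Q, hQ₃lt, ?_, χ * ((σ : MulAut Ah))⁻¹ * χ⁻¹, ?_, ?_, ?_⟩⟩
  · intro y hy
    refine ⟨hAhS hy, Subgroup.mem_normalizer_fintype fun q hq => ?_⟩
    have hw := (hchQ (α₁⁻¹ ⟨q, hQ₃A hq⟩)).mpr (by rw [MulAut.apply_inv_self]; exact hq)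
    have hz := (hX₁Q (hAhX₁ (α₁⁻¹ ⟨y, hy⟩).2)).2
    have h5 := (hchQ (α₁⁻¹ ⟨y, hy⟩ * α₁⁻¹ ⟨q, hQ₃A hq⟩ * (α₁⁻¹ ⟨y, hy⟩)⁻¹)).mp ((cj_mem_iff hz _).mpr hw)
    simpa [map_mul, map_inv] using h5
  · refine ⟨mul_mem (mul_mem hχ (inv_mem σ.2.1)) (inv_mem hχ), fun v => ?_⟩
    show _ ↔ ((χ ((σ : MulAut Ah)⁻¹ (χ⁻¹ v)) : Ah) : Ω) ∈ Q₃
    rw [← hQ₃iff]
    refine Iff.trans ?_ ((σ⁻¹).2.2 _)
    rw [hQ₃iff, MulAut.apply_inv_self]
  · intro v hv hm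
    have hav : a v ∈ Ah := haA.mapsTo (h1.le hv)
    have e1 : (⟨e₁ (a v), hm⟩ : Ah) = α₁ ⟨a v, hav⟩ := Subtype.ext (ee₁ ⟨a v, hav⟩ (hAhX₁ hav))
    rw [e1, ← hωval v (h1.le hv) hav, ee₂ (ω ⟨a v, hav⟩) (hAhX₂ (SetLike.coe_mem _))]
    simp [hα₁, MulAut.mul_apply]
  · -- the conjugate of `T` is a Sylow subgroup of the stabilizer
    set G₃ := stabG F Ah Q₃ with hG₃
    have hcmem : ∀ r : MulAut Ah, r ∈ Gs → χ * r * χ⁻¹ ∈ G₃ := fun r hr =>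
      ⟨mul_mem (mul_mem hχ hr.1) (inv_mem hχ), fun v => by
        show _ ↔ ((χ (r (χ⁻¹ v)) : Ah) : Ω) ∈ Q₃
        rw [← hQ₃iff, ← hr.2, hQ₃iff, MulAut.apply_inv_self]⟩
    let c : Gs →* G₃ := ((MulAut.conj χ).toMonoidHom.comp Gs.subtype).codRestrict G₃ fun r => hcmem r r.2
    have hc : Function.Surjective c := fun r => by
      refine ⟨⟨χ⁻¹ * (r : MulAut Ah) * χ, mul_mem (mul_mem (inv_mem hχ) r.2.1) hχ, fun v => ?_⟩, Subtype.ext ?_⟩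
      · show _ ↔ ((χ⁻¹ ((r : MulAut Ah) (χ v)) : Ah) : Ω) ∈ Q₂
        conv_rhs => rw [hQ₃iff, MulAut.apply_inv_self, ← r.2.2, ← hQ₃iff]
      · show χ * (χ⁻¹ * (r : MulAut Ah) * χ) * χ⁻¹ = r
        group
    intro hd
    let T₃ := T.mapSurjective hc
    refine T₃.not_dvd_index (hd.trans (Subgroup.index_dvd_of_le ?_))
    rw [Sylow.coe_mapSurjective]
    rintro _ ⟨t, ht, rfl⟩
    exact hχT _ ⟨t, ht, rfl⟩

end Cfsg.Agent.Fusion.SatCrit
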