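/-
Every conjugate of a subgroup reaches each fully normalized conjugate by a map on its normalizer.
-/
import Cfsg.Agent.Fusion.SatBase
set_option autoImplicit false
set_option linter.style.haveILetI false

namespace Cfsg.Agent.Fusion.SatCrit

open Cfsg Cfsg.FusionSystem

variable {Ω : Type*} [Group Ω] {S : Subgroup Ω} {F : FusionSystem S} {p : ℕ}
  {ℋ : Set (Subgroup Ω)} {P₀ A B M M' Q Q' R : Subgroup Ω} {f g : Ω → Ω}

/-- The situation at a class outside the generating family, all larger classes being good. -/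
structure Ctx (F : FusionSystem S) (p : ℕ) (ℋ : Set (Subgroup Ω)) (P₀ : Subgroup Ω) : Prop where
  hS : IsPGroup p S
  lt : P₀ < S
  notMem : ∀ Q, F.IsConj P₀ Q → Q ∉ ℋ
  gen : ∀ E : FusionSystem S, (∀ P ∈ ℋ, F.Hom P ⊆ E.Hom P) → F ≤ E
  big : ∀ A, A ≤ S → Nat.card P₀ < Nat.card A →
    ∃ Q, F.IsConj A Q ∧ F.IsFullyAutomized p Q ∧ F.IsReceptive Q

/-- `g` is defined on `N_S(Q)` and carries `Q` onto `Q'`. -/
structure RMap (F : FusionSystem S) (Q Q' : Subgroup Ω) (g : Ω → Ω) : Prop where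
  mor : Mor F (normalizerIn S Q) g
  iso : Iso F g Q Q'

theorem RMap.maps (h : RMap F Q Q' g) {x : Ω} (hx : x ∈ normalizerIn S Q) :
    g x ∈ normalizerIn S Q' :=
  h.iso.map_normalizer h.mor (le_normalizerIn h.iso.dom_le) (fun _ _ => rfl) hx hx.2

theorem RMap.comp (h : RMap F Q Q' f) (h' : RMap F Q' R g) : RMap F Q R (g ∘ f) :=
  ⟨h.mor.comp h'.mor fun _ hx => h.maps hx, h.iso.comp h'.iso⟩

theorem RMap.refl (hQ : Q ≤ S) : RMap F Q Q id := ⟨Mor.id' normalizerIn_le, Iso.refl hQ⟩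

/-- Some map on `N_S(Q)` carries `Q` onto `Q'`. -/
def Reach (F : FusionSystem S) (Q Q' : Subgroup Ω) : Prop := ∃ g, RMap F Q Q' g

theorem Reach.trans (h : Reach F Q Q') (h' : Reach F Q' R) : Reach F Q R := by
  obtain ⟨f, hf⟩ := h
  obtain ⟨g, hg⟩ := h'
  exact ⟨_, hf.comp hg⟩

theorem Reach.refl (hQ : Q ≤ S) : Reach F Q Q := ⟨id, RMap.refl hQ⟩

/-- A common target. -/
def Join (F : FusionSystem S) (Q Q' : Subgroup Ω) : Prop := ∃ R, Reach F Q R ∧ Reach F Q' R

theorem Join.symm (h : Join F Q Q') : Join F Q' Q := by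
  obtain ⟨R, h1, h2⟩ := h
  exact ⟨R, h2, h1⟩

/-- Pieces with source `A` join their end points. -/
def Conn (F : FusionSystem S) (P₀ A : Subgroup Ω) : Prop :=
  ∀ M M' f, F.IsConj P₀ M → M < A → A ≤ normalizerIn S M → Mor F A f → Iso F f M M' → Join F M M'

namespace Ctx

variable (c : Ctx F p ℋ P₀) [Fact p.Prime] [Finite S]
include c

theorem card_conj (hM : F.IsConj P₀ M) : Nat.card M = Nat.card P₀ := by
  obtain ⟨f, hf⟩ := isConj_iff.mp hM
  exact hf.card_eq.symm

theorem conj_lt (hM : F.IsConj P₀ M) : M < S := by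
  obtain ⟨f, hf⟩ := isConj_iff.mp hM
  refine lt_of_le_of_ne hf.cod_le fun e => ?_
  have := card_lt_of_lt c.lt
  rw [hf.card_eq] at this
  exact absurd (congrArg (fun A : Subgroup Ω => Nat.card A) e) this.ne

theorem join_trans (hQ : F.IsConj P₀ Q) (h : Join F M Q) (h' : Join F Q M')
    (hc : ∀ A : Subgroup Ω, Nat.card A = Nat.card (normalizerIn S Q) → Conn F P₀ A) : Join F M M' := by
  obtain ⟨R, hMR, g₄, hg₄⟩ := h
  obtain ⟨R', ⟨g₅, hg₅⟩, hM'R⟩ := h'
  obtain ⟨k, hk, hkl, -⟩ := hg₄.mor.toIso.exists_symm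
  set A := hg₄.mor.img with hA
  have hkA : ∀ y ∈ A, k y ∈ normalizerIn S Q := fun y hy => hk.mapsTo hy
  have hRA : R ≤ A := fun y hy => by
    obtain ⟨x, hx, rfl⟩ := hg₄.iso.surj hy
    exact hg₄.mor.toIso.mapsTo (le_normalizerIn hg₄.iso.dom_le hx)
  haveI := finite_of_le hg₄.iso.dom_le
  have hkR : Iso F k R Q := (hk.mor.restrict hRA).iso_of_card (fun y hy => by
    obtain ⟨x, hx, rfl⟩ := hg₄.iso.surj hy
    rw [hkl x (le_normalizerIn hg₄.iso.dom_le hx)]; exact hx) hg₄.iso.card_eq.le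
  have hlt : R < A := by
    refine lt_of_le_of_ne hRA fun e => ?_
    haveI := finite_of_le (normalizerIn_le : normalizerIn S Q ≤ S)
    have := card_lt_of_lt (lt_normalizerIn c.hS (c.conj_lt hQ))
    rw [hg₄.iso.card_eq, hg₄.mor.toIso.card_eq] at this
    exact this.ne (congrArg (fun A : Subgroup Ω => Nat.card A) e)
  have hAN : A ≤ normalizerIn S R := fun y hy => by
    obtain ⟨x, hx, rfl⟩ := hg₄.mor.toIso.surj hy
    exact hg₄.maps hx
  obtain ⟨R'', h1, h2⟩ := hc A hg₄.mor.toIso.card_eq.symm R R' (g₅ ∘ k)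
    (isConj_trans hQ hg₄.iso.isConj) hlt hAN (hk.mor.comp hg₅.mor hkA) (hkR.comp hg₅.iso)
  exact ⟨R'', hMR.trans h1, hM'R.trans h2⟩

theorem conn (A : Subgroup Ω) : Conn F P₀ A := by
  induction hd : Nat.card S - Nat.card A using Nat.strong_induction_on generalizing A with
  | _ d IH =>
  intro M M' f hM hlt hAN hf hfM
  have hAS : A ≤ S := hAN.trans normalizerIn_le
  haveI := finite_of_le hAS
  set B := hf.img with hBdef
  have hi : Iso F f A B := hf.toIso
  have hMN := le_normalizerIn hfM.dom_le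
  have hBN : B ≤ normalizerIn S M' := fun y hy => by
    obtain ⟨x, hx, rfl⟩ := hi.surj hy
    exact hfM.map_normalizer hf hlt.le (fun _ _ => rfl) hx (hAN hx).2
  haveI := finite_of_le hi.cod_le
  have hlt' : M' < B := by
    refine lt_of_le_of_ne (fun y hy => ?_) fun e => ?_
    · obtain ⟨x, hx, rfl⟩ := hfM.surj hy
      exact hi.mapsTo (hlt.le hx)
    · have := card_lt_of_lt hlt
      rw [hi.card_eq, hfM.card_eq] at this
      exact this.ne (congrArg (fun A : Subgroup Ω => Nat.card A) e)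
  by_cases hA : A = normalizerIn S M
  · exact ⟨M', ⟨f, hA ▸ hf, hfM⟩, Reach.refl hfM.cod_le⟩
  obtain ⟨f', hf', hfl, -⟩ := hi.exists_symm
  by_cases hB : B = normalizerIn S M'
  · haveI := finite_of_le hfM.dom_le
    have hM' : Iso F f' M' M := (hf'.mor.restrict hlt'.le).iso_of_card (fun y hy => by
      obtain ⟨x, hx, rfl⟩ := hfM.surj hy
      rw [hfl x (hlt.le hx)]; exact hx) hfM.card_eq.le
    exact ⟨M, Reach.refl hfM.dom_le, f', hB ▸ hf'.mor, hM'⟩
  obtain ⟨Ah, hAh, hAut, hRec⟩ := c.big A hAS ((c.card_conj hM).symm.trans_lt (card_lt_of_lt hlt))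
  obtain ⟨π⟩ := exists_pivot c.hS hi hfM hlt hlt' hBN hAh hAut hRec
  haveI := finite_of_le (normalizerIn_le : normalizerIn S M ≤ S)
  haveI := finite_of_le (normalizerIn_le : normalizerIn S M' ≤ S)
  have hA' := lt_normalizerIn (c.hS.to_le normalizerIn_le) (lt_of_le_of_ne hAN hA)
  have hB' := lt_normalizerIn (c.hS.to_le normalizerIn_le) (lt_of_le_of_ne hBN hB)
  set A' := normalizerIn (normalizerIn S M) A
  set B' := normalizerIn (normalizerIn S M') B
  have hA'S : A' ≤ S := normalizerIn_le.trans normalizerIn_le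
  have hB'S : B' ≤ S := normalizerIn_le.trans normalizerIn_le
  haveI := finite_of_le hA'S
  haveI := finite_of_le hB'S
  have more : ∀ C : Subgroup Ω, Nat.card A < Nat.card C → Conn F P₀ C := by
    intro C hC M₁ M₂ g h1 h2 h3
    refine IH _ ?_ C rfl M₁ M₂ g h1 h2 h3
    have := card_le_of_le (h3.trans normalizerIn_le : C ≤ S)
    omega
  have h₁ : Mor F A' (π.e₁ ∘ π.a) := π.aX.mor.comp π.e₁X fun x hx => π.aX.mapsTo hx
  have h₂ : Mor F B' (π.e₂ ∘ π.b) := π.bX.mor.comp π.e₂X fun x hx => π.bX.mapsTo hx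
  have hcB : Nat.card A < Nat.card B' := hi.card_eq.trans_lt (card_lt_of_lt hB')
  have hM'c : F.IsConj P₀ M' := isConj_trans hM hfM.isConj
  have j1 := more A' (card_lt_of_lt hA') M π.Q₃ _ hM (hlt.trans hA') normalizerIn_le h₁
    (π.aQ.comp π.e₁Q)
  have j2 := more B' hcB M' π.Q₃ _ hM'c (hlt'.trans hB') normalizerIn_le h₂ (π.bQ.comp π.e₂Q)
  refine c.join_trans (isConj_trans hM (π.aQ.comp π.e₁Q).isConj) j1 j2.symm fun C hC => more C ?_
  rw [hC]
  haveI := finite_of_le (normalizerIn_le : normalizerIn S π.Q₃ ≤ S)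
  refine (card_lt_of_lt hA').trans_le (h₁.card_le fun x hx => ?_)
  exact (π.aQ.comp π.e₁Q).map_normalizer h₁ (hlt.le.trans hA'.le) (fun _ _ => rfl) hx hx.1.2

theorem join_all (h1 : F.IsConj P₀ Q) (h2 : F.IsConj P₀ Q') : Join F Q Q' := by
  let C : Subgroup Ω → (Ω → Ω) → Prop :=
    fun A f => ∀ M M', M ≤ A → F.IsConj P₀ M → Iso F f M M' → Join F M M'
  have hC : Closed F C := {
    conj := fun {A s} _ hs M M' _ _ h => ⟨M', ⟨cj s, Mor.conj normalizerIn_le hs, h⟩, Reach.refl h.cod_le⟩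
    congr := fun {A f g} _ e h M M' hMA hM hi =>
      h M M' hMA hM (hi.congr fun x hx => (e x (hMA hx)).symm)
    comp := fun {A B f g} hf hg m hcf hcg M M' hMA hM hi => by
      have hfi := (hf.restrict hMA).toIso
      have hle : (hf.restrict hMA).img ≤ B := fun y hy => by
        obtain ⟨x, hx, rfl⟩ := hfi.surj hy; exact m x (hMA hx)
      haveI := finite_of_le hi.cod_le
      have hgi : Iso F g (hf.restrict hMA).img M' := (hg.restrict hle).iso_of_card (fun y hy => by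
        obtain ⟨x, hx, rfl⟩ := hfi.surj hy; exact hi.mapsTo hx)
        (hi.card_eq.symm.trans hfi.card_eq).le
      have hc := isConj_trans hM hfi.isConj
      exact c.join_trans hc (hcf M _ hMA hM hfi) (hcg _ M' hle hc hgi) fun _ _ => c.conn _
    inv := fun {A B f g} hf hg e h M M' hMB hM hi => by
      have hle : M' ≤ A := fun y hy => by
        obtain ⟨x, hx, rfl⟩ := hi.surj hy; exact hg.mapsTo (hMB hx)
      haveI := finite_of_le hi.dom_le
      have hfi : Iso F f M' M := (hf.mor.restrict hle).iso_of_card (fun y hy => by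
        obtain ⟨x, hx, rfl⟩ := hi.surj hy
        obtain ⟨a, ha, rfl⟩ := hf.surj (hMB hx)
        rw [e a ha]; exact hx) hi.card_eq.le
      exact (h M' M hle (isConj_trans hM hi.isConj) hfi).symm }
  have hle : F ≤ systemOf hC := c.gen _ fun A hA φ hφ => ⟨hφ, fun M M' hMA hM hi => by
    have hlt : M < A := lt_of_le_of_ne hMA fun e => c.notMem M hM (e ▸ hA)
    have hAS := (mor_of_mem hφ).dom_le
    haveI := finite_of_le hAS
    exact c.conn _ M M' _ hM (lt_normalizerIn (c.hS.to_le hAS) hlt)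
      (fun x hx => ⟨hAS hx.1, hx.2⟩) ((mor_of_mem hφ).restrict normalizerIn_le) hi⟩
  obtain ⟨f, hf⟩ := isConj_iff.mp (isConj_trans (isConj_symm h1) h2)
  exact (systemOf_mor hC (hf.mor.mono hle)).2 Q Q' le_rfl h1 hf

/-- Every conjugate reaches each fully normalized conjugate. -/
theorem reach (h1 : F.IsConj P₀ Q) (h2 : F.IsConj P₀ Q') (hn : F.IsFullyNormalized Q') :
    Reach F Q Q' := by
  obtain ⟨R, hR, g, hg⟩ := c.join_all h1 h2
  refine hR.trans ?_
  haveI := finite_of_le (normalizerIn_le : normalizerIn S R ≤ S)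
  haveI := finite_of_le hg.iso.dom_le
  have hN : Iso F g (normalizerIn S Q') (normalizerIn S R) :=
    hg.mor.iso_of_card (fun x hx => hg.maps hx) (hn.2 R hg.iso.isConj)
  obtain ⟨k, hk, hkl, -⟩ := hN.exists_symm
  refine ⟨k, hk.mor, (hk.mor.restrict (le_normalizerIn hg.iso.cod_le)).iso_of_card (fun y hy => ?_)
    hg.iso.card_eq.le⟩
  obtain ⟨x, hx, rfl⟩ := hg.iso.surj hy
  rw [hkl x (le_normalizerIn hg.iso.dom_le hx)]; exact hx

end Ctx

end Cfsg.Agent.Fusion.SatCrit
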