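/-
All automorphisms of a fully normalized subgroup extend to the preimage of the `p`-core.
-/
import Cfsg.Agent.Fusion.SatReach
set_option autoImplicit false
set_option linter.style.haveILetI false

namespace Cfsg.Agent.Fusion.SatCrit

open Cfsg Cfsg.FusionSystem

variable {Ω : Type*} [Group Ω] {S : Subgroup Ω} {F : FusionSystem S} {p : ℕ}
  {ℋ : Set (Subgroup Ω)} {P₀ A B D M M' Ph Q Q' R : Subgroup Ω} {f g g₁ g₂ θ : Ω → Ω}

/-- `O_p(Aut_F(Q))` as automorphisms of `Q`. -/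
def coreO (F : FusionSystem S) (p : ℕ) (Q : Subgroup Ω) : Subgroup (MulAut Q) :=
  (pCore p (F.autGroup Q)).map (F.autGroup Q).subtype

theorem coreO_le : coreO F p Q ≤ F.autGroup Q := Subgroup.map_subtype_le _

theorem coreO_conj {r α : MulAut Q} (hr : r ∈ F.autGroup Q) (hα : α ∈ coreO F p Q) :
    r * α * r⁻¹ ∈ coreO F p Q := by
  obtain ⟨a, ha, rfl⟩ := hα
  exact ⟨⟨r, hr⟩ * a * ⟨r, hr⟩⁻¹, Subgroup.Normal.conj_mem inferInstance a ha _, rfl⟩

theorem coreO_pGroup : IsPGroup p (coreO F p Q) := (Core.isPGroup_pCore p _).map _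

theorem coreO_transport (h : Iso F f Q Q') {α : MulAut Q} (hα : α ∈ coreO F p Q) :
    h.transport α ∈ coreO F p Q' := by
  let e : F.autGroup Q ≃* F.autGroup Q' :=
    (h.transport.subgroupMap (F.autGroup Q)).trans (MulEquiv.subgroupCongr h.map_autGroup)
  have he : (coreO F p Q).map h.transport.toMonoidHom = coreO F p Q' := by
    rw [coreO, coreO, ← Core.pCore_map_equiv e, Subgroup.map_map, Subgroup.map_map]
    rfl
  rw [← he]
  exact ⟨α, hα, rfl⟩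

/-- The elements of `N_S(Q)` inducing elements of `O_p(Aut_F(Q))`. -/
def r0 (F : FusionSystem S) (p : ℕ) (Q : Subgroup Ω) : Subgroup Ω :=
  ((coreO F p Q).comap (actHom S Q)).map (S ⊓ Subgroup.normalizer (Q : Set Ω)).subtype

theorem mem_r0 {x : Ω} :
    x ∈ r0 F p Q ↔ ∃ hx : x ∈ normalizerIn S Q, actHom S Q ⟨x, hx⟩ ∈ coreO F p Q := by
  constructor
  · rintro ⟨⟨y, hy⟩, h, rfl⟩
    exact ⟨hy, h⟩
  · rintro ⟨hx, h⟩
    exact ⟨⟨x, hx⟩, h, rfl⟩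

theorem r0_le : r0 F p Q ≤ normalizerIn S Q := fun _ hx => (mem_r0.mp hx).1

theorem le_r0 (hS : IsPGroup p S) (hQ : Q ≤ S) : Q ≤ r0 F p Q := fun x hx => by
  refine mem_r0.mpr ⟨le_normalizerIn hQ hx, ⟨_, autInducedBy_le_autGroup hQ
    ((range_actHom S Q).le ⟨_, rfl⟩)⟩, ?_, rfl⟩
  refine Core.le_pCore (inn_normal_autGroup F Q)
    (?_ : IsPGroup p ((Inn Q).subgroupOf (F.autGroup Q))) ?_
  · rw [inn_eq_autInducedBy]; exact (isPGroup_autInducedBy (hS.to_le hQ) Q).comap_subtype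
  · show _ ∈ Inn Q
    rw [inn_eq_autInducedBy, mem_autInducedBy]
    exact ⟨x, hx, Subgroup.le_normalizer hx, fun _ => rfl⟩

theorem r0_conj {x y : Ω} (hx : x ∈ normalizerIn S Q) (hQ : Q ≤ S) (hy : y ∈ r0 F p Q) :
    cj x y ∈ r0 F p Q := by
  obtain ⟨hyN, h⟩ := mem_r0.mp hy
  refine mem_r0.mpr ⟨mul_mem (mul_mem hx hyN) (inv_mem hx), ?_⟩
  have : actHom S Q ⟨cj x y, mul_mem (mul_mem hx hyN) (inv_mem hx)⟩ =
      actHom S Q ⟨x, hx⟩ * actHom S Q ⟨y, hyN⟩ * (actHom S Q ⟨x, hx⟩)⁻¹ := by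
    rw [← map_inv, ← map_mul, ← map_mul]; rfl
  rw [this]
  exact coreO_conj (autInducedBy_le_autGroup hQ ((range_actHom S Q).le ⟨_, rfl⟩)) h

theorem r0_map (h : Iso F g Q Q') (hg : Mor F D g) (hQD : Q ≤ D) {x : Ω} (hxD : x ∈ D)
    (hx : x ∈ r0 F p Q) : g x ∈ r0 F p Q' := by
  obtain ⟨hxN, hO⟩ := mem_r0.mp hx
  have hy : g x ∈ normalizerIn S Q' := h.map_normalizer hg hQD (fun _ _ => rfl) hxD hxN.2
  refine mem_r0.mpr ⟨hy, ?_⟩
  have e : h.transport (actHom S Q ⟨x, hxN⟩) = actHom S Q' ⟨g x, hy⟩ := by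
    refine MulEquiv.ext fun w => Subtype.ext ?_
    obtain ⟨v, hv, hvw⟩ := h.surj w.2
    obtain rfl : w = ⟨g v, h.mapsTo hv⟩ := Subtype.ext hvw.symm
    rw [h.transport_val _ hv]
    exact hg.map_conj hxD (hQD hv)
  exact e ▸ coreO_transport h hO

/-- The extensions to `r0` of automorphisms of `Ph`. -/
structure Ext0 (F : FusionSystem S) (p : ℕ) (Ph : Subgroup Ω) (θ : Ω → Ω) : Prop where
  mor : Mor F (r0 F p Ph) θ
  iso : Iso F θ Ph Ph

theorem Ext0.isoR [Finite S] (hS : IsPGroup p S) (h : Ext0 F p Ph θ) :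
    Iso F θ (r0 F p Ph) (r0 F p Ph) := by
  haveI := finite_of_le (r0_le.trans normalizerIn_le : r0 F p Ph ≤ S)
  exact h.mor.iso_of_card (fun x hx => r0_map h.iso h.mor (le_r0 hS h.iso.dom_le) hx hx) le_rfl

theorem Ext0.comp [Finite S] (hS : IsPGroup p S) (h : Ext0 F p Ph θ) (h' : Ext0 F p Ph g) :
    Ext0 F p Ph (g ∘ θ) :=
  ⟨((h.isoR hS).comp (h'.isoR hS)).mor, h.iso.comp h'.iso⟩

theorem Ext0.exists_inv [Finite S] (hS : IsPGroup p S) (h : Ext0 F p Ph θ) :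
    ∃ θ', Ext0 F p Ph θ' ∧ ∀ x ∈ Ph, θ' (θ x) = x := by
  obtain ⟨k, hk, hkl, -⟩ := (h.isoR hS).exists_symm
  have hle := le_r0 (F := F) hS h.iso.dom_le
  haveI := finite_of_le h.iso.dom_le
  refine ⟨k, ⟨hk.mor, (hk.mor.restrict hle).iso_of_card (fun y hy => ?_) le_rfl⟩,
    fun x hx => hkl x (hle hx)⟩
  obtain ⟨x, hx, rfl⟩ := h.iso.surj hy
  rw [hkl x (hle hx)]; exact hx

theorem Ext0.conj {y : Ω} (hPh : Ph ≤ S) (hy : y ∈ normalizerIn S Ph) : Ext0 F p Ph (cj y) :=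
  ⟨Mor.conj (r0_le.trans normalizerIn_le) hy.1, Iso.conj_self hPh hy.1 hy.2⟩

/-- The Sylow subgroup meets a normal subgroup in a Sylow subgroup. -/
theorem not_dvd_relIndex {G : Type*} [Group G] [Finite G] (T N : Subgroup G) [N.Normal]
    (h : ¬ p ∣ T.index) : ¬ p ∣ T.relIndex N := by
  have h1 := Subgroup.relIndex_mul_relIndex (T ⊓ N) T (T ⊔ N) inf_le_left le_sup_left
  have h2 := Subgroup.relIndex_mul_relIndex (T ⊓ N) N (T ⊔ N) inf_le_right le_sup_right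
  rw [Subgroup.inf_relIndex_left, ← h2, Subgroup.inf_relIndex_right, Subgroup.relIndex_sup_right,
    mul_comm] at h1
  rw [← Nat.eq_of_mul_eq_mul_right (Nat.pos_of_ne_zero Subgroup.FiniteIndex.index_ne_zero) h1]
  exact fun hd => h (hd.trans (Dvd.intro _ (Subgroup.relIndex_mul_index le_sup_left)))

/-- Pieces with source `A` at `Ph` extend to `r0`. -/
def Key (F : FusionSystem S) (p : ℕ) (Ph A : Subgroup Ω) : Prop :=
  ∀ f, Ph < A → A ≤ normalizerIn S Ph → Mor F A f → Iso F f Ph Ph →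
    ∃ θ, Ext0 F p Ph θ ∧ ∀ x ∈ Ph, θ x = f x

theorem transfer [Finite S] (hM : M < A) (hA : A ≤ normalizerIn S M) (hf : Mor F A f)
    (hfM : Iso F f M M') (h1 : RMap F M Ph g₁) (h2 : RMap F M' Ph g₂)
    (hK : ∀ A₀ : Subgroup Ω, Nat.card A₀ = Nat.card A → Key F p Ph A₀) :
    ∃ θ, Ext0 F p Ph θ ∧ ∀ x ∈ M, θ (g₁ x) = g₂ (f x) := by
  have hg := h1.mor.restrict hA
  obtain ⟨k, hk, hkl, -⟩ := hg.toIso.exists_symm
  set A₀ := hg.img
  have hfA : ∀ x ∈ A, f x ∈ normalizerIn S M' := fun x hx =>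
    hfM.map_normalizer hf hM.le (fun _ _ => rfl) hx (hA hx).2
  have hM0 : Ph ≤ A₀ := fun y hy => by
    obtain ⟨x, hx, rfl⟩ := h1.iso.surj hy
    exact hg.toIso.mapsTo (hM.le hx)
  have hlt : Ph < A₀ := by
    refine lt_of_le_of_ne hM0 fun e => ?_
    haveI := finite_of_le (hA.trans normalizerIn_le : A ≤ S)
    have := card_lt_of_lt hM
    rw [h1.iso.card_eq, hg.toIso.card_eq] at this
    exact this.ne (congrArg (fun A : Subgroup Ω => Nat.card A) e)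
  have hA0 : A₀ ≤ normalizerIn S Ph := fun y hy => by
    obtain ⟨x, hx, rfl⟩ := hg.toIso.surj hy
    exact h1.maps (hA hx)
  haveI := finite_of_le h1.iso.dom_le
  have hkM : Iso F k Ph M := (hk.mor.restrict hM0).iso_of_card (fun y hy => by
    obtain ⟨x, hx, rfl⟩ := h1.iso.surj hy
    rw [hkl x (hM.le hx)]; exact hx) h1.iso.card_eq.le
  have hfk : Mor F A₀ (f ∘ k) := hk.mor.comp hf fun y hy => hk.mapsTo hy
  obtain ⟨θ, hθ, e⟩ := hK A₀ hg.toIso.card_eq.symm (g₂ ∘ (f ∘ k)) hlt hA0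
    (hfk.comp h2.mor fun y hy => hfA _ (hk.mapsTo hy)) ((hkM.comp hfM).comp h2.iso)
  refine ⟨θ, hθ, fun x hx => ?_⟩
  rw [e _ (h1.iso.mapsTo hx), Function.comp_apply, Function.comp_apply, hkl x (hM.le hx)]

namespace Ctx

variable (c : Ctx F p ℋ P₀) [Fact p.Prime] [Finite S]
include c

theorem key (hc : F.IsConj P₀ Ph) (hn : F.IsFullyNormalized Ph) (A : Subgroup Ω) :
    Key F p Ph A := by
  induction hd : Nat.card S - Nat.card A using Nat.strong_induction_on generalizing A with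
  | _ d IH =>
  intro f hlt hAN hf hfP
  have hAS : A ≤ S := hAN.trans normalizerIn_le
  haveI := finite_of_le hAS
  by_cases hR : r0 F p Ph ≤ A
  · exact ⟨f, ⟨hf.restrict hR, hfP⟩, fun _ _ => rfl⟩
  have hANlt : A < normalizerIn S Ph := lt_of_le_of_ne hAN fun e => hR (e ▸ r0_le)
  haveI := finite_of_le (normalizerIn_le : normalizerIn S Ph ≤ S)
  have hi := hf.toIso
  set B := hf.img
  haveI := finite_of_le hi.cod_le
  have hBN : B ≤ normalizerIn S Ph := fun y hy => by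
    obtain ⟨x, hx, rfl⟩ := hi.surj hy
    exact hfP.map_normalizer hf hlt.le (fun _ _ => rfl) hx (hAN hx).2
  have hBlt : B < normalizerIn S Ph := lt_of_le_of_ne hBN fun e => by
    have := card_lt_of_lt hANlt
    rw [hi.card_eq] at this
    exact this.ne (congrArg (fun A : Subgroup Ω => Nat.card A) e)
  have hlt' : Ph < B := by
    refine lt_of_le_of_ne (fun y hy => ?_) fun e => ?_
    · obtain ⟨x, hx, rfl⟩ := hfP.surj hy
      exact hi.mapsTo (hlt.le hx)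
    · have := card_lt_of_lt hlt
      rw [hi.card_eq] at this
      exact this.ne (congrArg (fun A : Subgroup Ω => Nat.card A) e)
  obtain ⟨Ah, hAh, hAut, hRec⟩ := c.big A hAS ((c.card_conj hc).symm.trans_lt (card_lt_of_lt hlt))
  obtain ⟨π⟩ := exists_pivot c.hS hi hfP hlt hlt' hBN hAh hAut hRec
  have hA' := lt_normalizerIn (c.hS.to_le normalizerIn_le) hANlt
  have hB' := lt_normalizerIn (c.hS.to_le normalizerIn_le) hBlt
  set A' := normalizerIn (normalizerIn S Ph) A with hA'def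
  set B' := normalizerIn (normalizerIn S Ph) B with hB'def
  haveI := finite_of_le (normalizerIn_le.trans normalizerIn_le : A' ≤ S)
  haveI := finite_of_le (normalizerIn_le.trans normalizerIn_le : B' ≤ S)
  have more : ∀ C : Subgroup Ω, Nat.card A < Nat.card C → ∀ A₀ : Subgroup Ω,
      Nat.card A₀ = Nat.card C → Key F p Ph A₀ := by
    intro C hC A₀ he f' h1 h2
    refine IH _ ?_ A₀ rfl f' h1 h2
    have := card_le_of_le (h2.trans normalizerIn_le : A₀ ≤ S)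
    omega
  have h₁ : Mor F A' (π.e₁ ∘ π.a) := π.aX.mor.comp π.e₁X fun x hx => π.aX.mapsTo hx
  have h₂ : Mor F B' (π.e₂ ∘ π.b) := π.bX.mor.comp π.e₂X fun x hx => π.bX.mapsTo hx
  have hcB : Nat.card A < Nat.card B' := hi.card_eq.trans_lt (card_lt_of_lt hB')
  have h1Q := π.aQ.comp π.e₁Q
  obtain ⟨g₃, hg₃⟩ := c.reach (isConj_trans hc h1Q.isConj) hc hn
  have hid : RMap F Ph Ph id := RMap.refl hfP.dom_le
  obtain ⟨θ₁, hθ₁, e₁θ⟩ := transfer (hlt.trans hA') normalizerIn_le h₁ h1Q hid hg₃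
    (more A' (card_lt_of_lt hA'))
  obtain ⟨θ₂, hθ₂, e₂θ⟩ := transfer (hlt'.trans hB') normalizerIn_le h₂ (π.bQ.comp π.e₂Q) hid hg₃
    (more B' hcB)
  obtain ⟨θ₂', hθ₂', e₂'⟩ := hθ₂.exists_inv c.hS
  suffices ∃ θ₃, Ext0 F p Ph θ₃ ∧
      ∀ v (hv : v ∈ π.hat), v ∈ π.Q₃ → θ₃ (g₃ v) = g₃ ((π.τ ⟨v, hv⟩ : π.hat) : Ω) by
    obtain ⟨θ₃, hθ₃, e₃⟩ := this
    refine ⟨θ₂' ∘ θ₃ ∘ θ₁, (hθ₁.comp c.hS hθ₃).comp c.hS hθ₂', fun v hv => ?_⟩
    have hm : π.e₁ (π.a v) ∈ π.hat := π.Q₃le.le (h1Q.mapsTo hv)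
    show θ₂' (θ₃ (θ₁ v)) = f v
    rw [show θ₁ v = g₃ (π.e₁ (π.a v)) from e₁θ v hv, e₃ _ hm (h1Q.mapsTo hv), ← π.τeq v hv hm,
      show g₃ (π.e₂ (π.b (f v))) = θ₂ (f v) from (e₂θ (f v) (hfP.mapsTo hv)).symm,
      e₂' _ (hfP.mapsTo hv)]
  -- an element of `r0` at `Q₃` normalizing `hat` but outside it
  have hrN : (A : Subgroup Ω) ≤ Subgroup.normalizer (r0 F p Ph : Set Ω) := fun x hx => by
    haveI := finite_of_le (r0_le.trans normalizerIn_le : r0 F p Ph ≤ S)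
    exact Subgroup.mem_normalizer_fintype fun v hv => r0_conj (hAN hx) hfP.dom_le hv
  have hsup : A < A ⊔ r0 F p Ph := lt_of_le_of_ne le_sup_left fun e => hR (e ▸ le_sup_right)
  have hsS : A ⊔ r0 F p Ph ≤ S := sup_le hAS (r0_le.trans normalizerIn_le)
  haveI := finite_of_le hsS
  obtain ⟨b, hb, hbA, hbn⟩ := exists_mem_normalizer_of_lt (c.hS.to_le hsS) hsup
  have hb' : b ∈ ((A ⊔ r0 F p Ph : Subgroup Ω) : Set Ω) := hb
  rw [Subgroup.coe_mul_of_left_le_normalizer_right _ _ hrN] at hb'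
  obtain ⟨a, ha, y, hy, rfl⟩ := hb'
  have hyA : y ∉ A := fun h => hbA (A.mul_mem ha h)
  have hyn : y ∈ Subgroup.normalizer (A : Set Ω) := by
    have := mul_mem (inv_mem (Subgroup.le_normalizer ha)) hbn
    rwa [inv_mul_cancel_left] at this
  have hyA' : y ∈ A' := ⟨r0_le hy, hyn⟩
  set y₃ := π.e₁ (π.a y) with hy₃
  have hy₃r : y₃ ∈ r0 F p π.Q₃ := r0_map h1Q h₁ (hlt.le.trans hA'.le) hyA' hy
  have hy₃N : y₃ ∈ normalizerIn S π.hat :=
    (π.aA.comp π.e₁hat).map_normalizer h₁ hA'.le (fun _ _ => rfl) hyA' hyn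
  have hy₃A : y₃ ∉ π.hat := fun h => by
    obtain ⟨v, hv, e⟩ := (π.aA.comp π.e₁hat).surj h
    exact hyA (h₁.injOn (hA'.le hv) hyA' e ▸ hv)
  -- the stabilizer of `Q₃` and the preimage of the `p`-core
  haveI := finite_of_le π.recep.1
  haveI := finite_mulAut (G := π.hat)
  haveI := finite_of_le (π.Q₃le.le.trans π.recep.1)
  set G := stabG F π.hat π.Q₃ with hG
  set ρ := rstr (F := F) π.Q₃le.le with hρ
  set N₀ : Subgroup G := (coreO F p π.Q₃).comap ρ with hN₀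
  haveI hN₀n : N₀.Normal := ⟨fun s hs r => by
    show ρ (r * s * r⁻¹) ∈ coreO F p π.Q₃
    rw [map_mul, map_mul, map_inv]
    exact coreO_conj (rstr_mem π.recep.1 π.Q₃le.le r) hs⟩
  set Ts := (autInducedBy S π.hat).subgroupOf G with hTs
  have hTsp : IsPGroup p Ts := (isPGroup_autInducedBy c.hS _).comap_subtype
  let T0 : Sylow p N₀ := IsPGroup.toSylow (hTsp.comap_subtype : IsPGroup p (Ts.subgroupOf N₀))
    (not_dvd_relIndex Ts N₀ π.sylow)
  obtain ⟨n, hn', s, hs, hns⟩ := Subgroup.mem_sup_of_normal_right.mp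
    ((Sylow.normalizer_sup_eq_top T0).ge (Subgroup.mem_top (⟨π.τ, π.τmem⟩ : G)))
  rw [show (T0 : Subgroup N₀).map N₀.subtype = Ts ⊓ N₀ from Subgroup.subgroupOf_map_subtype _ _]
    at hn'
  -- the image of the Sylow subgroup is everything
  let ρ₀ : N₀ →* coreO F p π.Q₃ := (ρ.comp N₀.subtype).codRestrict _ fun t => t.2
  obtain ⟨t, ht, hts⟩ : ∃ t ∈ Ts ⊓ N₀, ρ t = ρ s := by
    let U := T0.mapSurjective ρ₀.rangeRestrict_surjective
    have hU : (U : Subgroup ρ₀.range) = ⊤ :=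
      (U.is_maximal' ((coreO_pGroup.to_subgroup ρ₀.range).to_subgroup ⊤) le_top).symm
    rw [Sylow.coe_mapSurjective] at hU
    obtain ⟨t, ht, e⟩ := hU.ge (Subgroup.mem_top (ρ₀.rangeRestrict ⟨s, hs⟩))
    exact ⟨t, ⟨ht, t.2⟩, congrArg (fun z : ρ₀.range => ((z : coreO F p π.Q₃) : MulAut π.Q₃)) e⟩
  obtain ⟨x, hxN, hxQ, hxt⟩ := mem_stab_induced (α := (t : MulAut π.hat)) ht.1 t.2 π.Q₃le.le
  have hx3 : x ∈ normalizerIn S π.Q₃ := ⟨hxN.1, hxQ⟩
  have hρt : ρ t = actHom S π.Q₃ ⟨x, hx3⟩ := MulEquiv.ext fun v => Subtype.ext (by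
    rw [rstr_val, hxt]; rfl)
  have hxr : x ∈ r0 F p π.Q₃ := mem_r0.mpr ⟨hx3, hρt ▸ ht.2⟩
  -- the extension of `n`
  let Y : Subgroup Ω := normalizerIn S π.Q₃ ⊓
    (((autInducedBy S π.hat).comap (MulAut.conj (n : MulAut π.hat)).toMonoidHom).comap
      (actHom S π.hat)).map (S ⊓ Subgroup.normalizer (π.hat : Set Ω)).subtype
  have hY : ∀ z ∈ Y, ∃ hz : z ∈ normalizerIn S π.hat,
      (n : MulAut π.hat) * actHom S π.hat ⟨z, hz⟩ * (n : MulAut π.hat)⁻¹ ∈ autInducedBy S π.hat := by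
    rintro z ⟨-, ⟨w, hw⟩, h, rfl⟩
    exact ⟨hw, h⟩
  obtain ⟨e, he, ee⟩ := ext_of_conj (X := Y) π.recep n.2.1 fun z hz => Or.inr (hY z hz)
  have hhatY : π.hat ≤ Y := fun z hz => ⟨π.hatQ₃ hz, ⟨z, π.recep.1 hz, Subgroup.le_normalizer hz⟩, by
    show _ ∈ autInducedBy S π.hat
    have h1 : (⟨_, autInducedBy_le_autGroup π.recep.1 ((range_actHom S π.hat).le
        ⟨⟨z, π.recep.1 hz, Subgroup.le_normalizer hz⟩, rfl⟩)⟩ : F.autGroup π.hat) ∈
        (Inn π.hat).subgroupOf (F.autGroup π.hat) := by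
      show _ ∈ Inn π.hat
      rw [inn_eq_autInducedBy, mem_autInducedBy]
      exact ⟨z, hz, Subgroup.le_normalizer hz, fun _ => rfl⟩
    exact inn_le_autInducedBy π.recep.1
      ((inn_normal_autGroup F π.hat).conj_mem _ h1 ⟨(n : MulAut π.hat), n.2.1⟩), rfl⟩
  have hy₃Y : y₃ ∈ Y := by
    refine ⟨r0_le hy₃r, ⟨y₃, hy₃N⟩, ?_, rfl⟩
    have hg : (⟨actHom S π.hat ⟨y₃, hy₃N⟩,
        actHom_mem_stabG π.recep.1 hy₃N (r0_le hy₃r).2⟩ : G) ∈ Ts ⊓ N₀ := by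
      refine ⟨(range_actHom S π.hat).le ⟨_, rfl⟩, ?_⟩
      obtain ⟨hy3, hO⟩ := mem_r0.mp hy₃r
      exact hO
    exact ((Subgroup.mem_normalizer_iff.mp hn' _).mp hg).1
  have hQY : π.Q₃ < Y := π.Q₃le.trans_le hhatY
  have heQ : Iso F e π.Q₃ π.Q₃ := (he.restrict hQY.le).iso_of_card (fun v hv => by
    rw [ee ⟨v, π.Q₃le.le hv⟩ (hQY.le hv)]
    exact (n.2.2 ⟨v, π.Q₃le.le hv⟩).mp hv) le_rfl
  haveI := finite_of_le (inf_le_left.trans normalizerIn_le : Y ≤ S)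
  have hcY : Nat.card A < Nat.card Y := by
    rw [(π.aA).card_eq]
    exact card_lt_of_lt (lt_of_le_of_ne hhatY fun e => hy₃A (e ▸ hy₃Y))
  obtain ⟨θn, hθn, en⟩ := transfer hQY inf_le_left he heQ hg₃ hg₃ (more Y hcY)
  refine ⟨θn ∘ cj (g₃ x), (Ext0.conj hfP.dom_le (hg₃.maps hx3)).comp c.hS hθn,
    fun v hv hvQ => ?_⟩
  have hcv : cj x v ∈ π.Q₃ := (cj_mem_iff hxQ v).mpr hvQ
  have hN := le_normalizerIn (π.Q₃le.le.trans π.recep.1)
  show θn (cj (g₃ x) (g₃ v)) = _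
  rw [cj_apply, ← hg₃.mor.map_conj hx3 (hN hvQ), ← cj_apply, en _ hcv,
    ee ⟨cj x v, π.Q₃le.le hcv⟩ (hQY.le hcv)]
  have hτ : π.τ = (n : MulAut π.hat) * (s : MulAut π.hat) := (congrArg Subtype.val hns).symm
  have hsx : (s : MulAut π.hat) ⟨v, hv⟩ = ⟨cj x v, π.Q₃le.le hcv⟩ := by
    refine Subtype.ext ?_
    have h := congrArg (fun α : MulAut π.Q₃ => ((α ⟨v, hvQ⟩ : π.Q₃) : Ω)) (hts.symm.trans hρt)
    exact h
  rw [hτ, MulAut.mul_apply, hsx]

/-- Every automorphism of a fully normalized subgroup extends to `r0`. -/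
theorem ext_all (hc : F.IsConj P₀ Ph) (hn : F.IsFullyNormalized Ph) (hf : Iso F f Ph Ph) :
    ∃ θ, Ext0 F p Ph θ ∧ ∀ x ∈ Ph, θ x = f x := by
  let Rel : Subgroup Ω → (Ω → Ω) → Subgroup Ω → Prop := fun M f M' => ∀ g₁ g₂,
    RMap F M Ph g₁ → RMap F M' Ph g₂ → ∃ θ, Ext0 F p Ph θ ∧ ∀ x ∈ M, θ (g₁ x) = g₂ (f x)
  let C : Subgroup Ω → (Ω → Ω) → Prop :=
    fun A f => ∀ M M', M ≤ A → F.IsConj P₀ M → Iso F f M M' → Rel M f M'
  have hC : Closed F C := {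
    conj := fun {A s} _ hs M M' hMA hM h g₁ g₂ h1 h2 => by
      have h2' : RMap F M Ph (g₂ ∘ cj s) :=
        RMap.comp ⟨Mor.conj normalizerIn_le hs, h⟩ h2
      obtain ⟨θ, hθ, e⟩ := transfer (lt_normalizerIn c.hS (c.conj_lt hM)) le_rfl
        (Mor.id' normalizerIn_le) (Iso.refl h.dom_le) h1 h2' fun A₀ _ => c.key hc hn A₀
      exact ⟨θ, hθ, e⟩
    congr := fun {A f g} _ e h M M' hMA hM hi g₁ g₂ h1 h2 => by
      obtain ⟨θ, hθ, e'⟩ :=
        h M M' hMA hM (hi.congr fun x hx => (e x (hMA hx)).symm) g₁ g₂ h1 h2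
      exact ⟨θ, hθ, fun x hx => by rw [e' x hx, e x (hMA hx)]⟩
    comp := fun {A B f g} hf hg m hcf hcg M M' hMA hM hi g₁ g₂ h1 h2 => by
      have hfi := (hf.restrict hMA).toIso
      have hle : (hf.restrict hMA).img ≤ B := fun y hy => by
        obtain ⟨x, hx, rfl⟩ := hfi.surj hy; exact m x (hMA hx)
      haveI := finite_of_le hi.cod_le
      have hgi : Iso F g (hf.restrict hMA).img M' := (hg.restrict hle).iso_of_card (fun y hy => by
        obtain ⟨x, hx, rfl⟩ := hfi.surj hy; exact hi.mapsTo hx)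
        (hi.card_eq.symm.trans hfi.card_eq).le
      have hc2 := isConj_trans hM hfi.isConj
      obtain ⟨g', hg'⟩ := c.reach hc2 hc hn
      obtain ⟨θ, hθ, e⟩ := hcf M _ hMA hM hfi g₁ g' h1 hg'
      obtain ⟨θ', hθ', e'⟩ := hcg _ M' hle hc2 hgi g' g₂ hg' h2
      exact ⟨θ' ∘ θ, hθ.comp c.hS hθ', fun x hx =>
        (congrArg θ' (e x hx)).trans (e' _ (hfi.mapsTo hx))⟩
    inv := fun {A B f g} hf hg e h M M' hMB hM hi g₁ g₂ h1 h2 => by
      have hle : M' ≤ A := fun y hy => by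
        obtain ⟨x, hx, rfl⟩ := hi.surj hy; exact hg.mapsTo (hMB hx)
      haveI := finite_of_le hi.dom_le
      have hfg : ∀ x ∈ M, f (g x) = x := fun x hx => by
        obtain ⟨a, ha, rfl⟩ := hf.surj (hMB hx)
        rw [e a ha]
      have hfi : Iso F f M' M := (hf.mor.restrict hle).iso_of_card (fun y hy => by
        obtain ⟨x, hx, rfl⟩ := hi.surj hy
        rw [hfg x hx]; exact hx) hi.card_eq.le
      obtain ⟨θ, hθ, e1⟩ := h M' M hle (isConj_trans hM hi.isConj) hfi g₂ g₁ h2 h1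
      obtain ⟨θ', hθ', e2⟩ := hθ.exists_inv c.hS
      refine ⟨θ', hθ', fun x hx => ?_⟩
      have h3 := e1 (g x) (hi.mapsTo hx)
      rw [hfg x hx] at h3
      rw [← h3, e2 _ (h2.iso.mapsTo (hi.mapsTo hx))] }
  have hle : F ≤ systemOf hC := c.gen _ fun A hA φ hφ => ⟨hφ, fun M M' hMA hM hi g₁ g₂ h1 h2 => by
    have hlt : M < A := lt_of_le_of_ne hMA fun e => c.notMem M hM (e ▸ hA)
    have hAS := (mor_of_mem hφ).dom_le
    haveI := finite_of_le hAS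
    exact transfer (lt_normalizerIn (c.hS.to_le hAS) hlt) (fun x hx => ⟨hAS hx.1, hx.2⟩)
      ((mor_of_mem hφ).restrict normalizerIn_le) hi h1 h2 fun A₀ _ => c.key hc hn A₀⟩
  exact (systemOf_mor hC (hf.mor.mono hle)).2 Ph Ph le_rfl hc hf id id (RMap.refl hf.dom_le)
    (RMap.refl hf.dom_le)

end Ctx

end Cfsg.Agent.Fusion.SatCrit
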