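/-
The saturation criterion for systems generated and saturated on a family.
-/
import Cfsg.Agent.Fusion.SatKey
set_option autoImplicit false
set_option linter.style.haveILetI false

namespace Cfsg.Agent.Fusion.SatCrit

open Cfsg Cfsg.FusionSystem

variable {Ω : Type*} [Group Ω] {S : Subgroup Ω} {F : FusionSystem S} {p : ℕ}
  {ℋ : Set (Subgroup Ω)} {P₀ P Q : Subgroup Ω} {f g : Ω → Ω}

namespace Ctx

variable (c : Ctx F p ℋ P₀) [Fact p.Prime] [Finite S]
include c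

theorem lt_r0 (hc : F.IsConj P₀ P) (hn : F.IsFullyNormalized P)
    (hstar : F.IsCentric P₀ → ∃ Q, F.IsConj P₀ Q ∧ ¬ (autInducedBy S Q ⊓ coreO F p Q ≤ Inn Q)) :
    P < r0 F p P := by
  obtain ⟨Q, hQ, x, hx, hxQ⟩ : ∃ Q, F.IsConj P₀ Q ∧ ∃ x, x ∈ r0 F p Q ∧ x ∉ Q := by
    by_cases hcen : F.IsCentric P₀
    · obtain ⟨Q, hQ, h⟩ := hstar hcen
      obtain ⟨α, ⟨hα, hαO⟩, hαI⟩ := SetLike.not_le_iff_exists.mp h
      obtain ⟨x, hxS, hxn, e⟩ := mem_autInducedBy.mp hα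
      have : α = actHom S Q ⟨x, hxS, hxn⟩ := MulEquiv.ext fun v => Subtype.ext (e v)
      refine ⟨Q, hQ, x, mem_r0.mpr ⟨⟨hxS, hxn⟩, this ▸ hαO⟩, fun hxQ => hαI ?_⟩
      rw [inn_eq_autInducedBy, mem_autInducedBy]
      exact ⟨x, hxQ, hxn, e⟩
    · have : ∃ Q, F.IsConj P₀ Q ∧ ¬ centralizerIn S Q ≤ Q := by
        by_contra h
        exact hcen ⟨c.lt.le, fun Q hQ => not_not.mp fun hh => h ⟨Q, hQ, hh⟩⟩
      obtain ⟨Q, hQ, h⟩ := this
      obtain ⟨x, hx, hxQ⟩ := SetLike.not_le_iff_exists.mp h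
      refine ⟨Q, hQ, x, mem_r0.mpr ⟨centralizerIn_le_normalizerIn hx, ?_⟩, hxQ⟩
      have : actHom S Q ⟨x, centralizerIn_le_normalizerIn hx⟩ = 1 :=
        MulEquiv.ext fun v => Subtype.ext (by
          show x * (v : Ω) * x⁻¹ = v
          rw [← hx.2 (v : Ω) v.2, mul_inv_cancel_right])
      rw [this]; exact one_mem _
  obtain ⟨g, hg⟩ := c.reach hQ hc hn
  refine lt_of_le_of_ne (le_r0 c.hS hn.1) fun e => hxQ ?_
  have h := r0_map hg.iso hg.mor (le_normalizerIn hg.iso.dom_le) (r0_le hx) hx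
  rw [← e] at h
  obtain ⟨v, hv, hve⟩ := hg.iso.surj h
  exact hg.mor.injOn (le_normalizerIn hg.iso.dom_le hv) (r0_le hx) hve ▸ hv

/-- A fully normalized member whose `r0` is fully automized and receptive. -/
theorem exists_adapted
    (hstar : F.IsCentric P₀ → ∃ Q, F.IsConj P₀ Q ∧ ¬ (autInducedBy S Q ⊓ coreO F p Q ≤ Inn Q)) :
    ∃ P, F.IsConj P₀ P ∧ F.IsFullyNormalized P ∧ F.IsFullyAutomized p (r0 F p P) ∧
      F.IsReceptive (r0 F p P) := by
  obtain ⟨Ph, hc, hn⟩ := exists_fullyNormalized (F := F) c.lt.le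
  set R := r0 F p Ph with hRdef
  have hRS : R ≤ S := r0_le.trans normalizerIn_le
  haveI := finite_of_le hRS
  haveI := finite_of_le hn.1
  have hlt := c.lt_r0 hc hn hstar
  obtain ⟨L, hL, hA, hRec⟩ := c.big R hRS ((c.card_conj hc).symm.trans_lt (card_lt_of_lt hlt))
  obtain ⟨u, hu⟩ := isConj_iff.mp hL
  obtain ⟨-, ψ, -, hψ, -, -, hψR⟩ := hu.exists_normalizer_map c.hS hA hRec
  have hNR : normalizerIn S Ph ≤ normalizerIn S R := fun x hx =>
    ⟨hx.1, Subgroup.mem_normalizer_fintype fun v hv => r0_conj hx hn.1 hv⟩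
  have hψN : Mor F (normalizerIn S Ph) ψ := hψ.restrict hNR
  have hψP := (hψN.restrict (le_normalizerIn hn.1)).toIso
  set Q := (hψN.restrict (le_normalizerIn hn.1)).img
  have hRM : RMap F Ph Q ψ := ⟨hψN, hψP⟩
  haveI := finite_of_le (normalizerIn_le : normalizerIn S Q ≤ S)
  haveI := finite_of_le hψP.cod_le
  have hQn : F.IsFullyNormalized Q := ⟨hψP.cod_le, fun Q' hQ' =>
    (hn.2 Q' (isConj_trans hψP.isConj hQ')).trans (hψN.card_le fun x hx => hRM.maps hx)⟩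
  have hiN : Iso F ψ (normalizerIn S Ph) (normalizerIn S Q) :=
    hψN.iso_of_card (fun x hx => hRM.maps hx) (hn.2 Q hψP.isConj)
  obtain ⟨k, hk, hkl, hkr⟩ := hiN.exists_symm
  haveI := finite_of_le hn.1
  have hkQ : Iso F k Q Ph := (hk.mor.restrict (le_normalizerIn hQn.1)).iso_of_card (fun y hy => by
    obtain ⟨x, hx, rfl⟩ := hψP.surj hy
    rw [hkl x (le_normalizerIn hn.1 hx)]; exact hx) hψP.card_eq.le
  have heq : L = r0 F p Q := by
    refine le_antisymm (fun y hy => ?_) fun y hy => ?_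
    · obtain ⟨x, hx, rfl⟩ := hψR.surj hy
      exact r0_map hψP hψN (le_normalizerIn hn.1) (r0_le hx) hx
    · have h := r0_map hkQ hk.mor (le_normalizerIn hQn.1) (r0_le hy) hy
      rw [← hkr y (r0_le hy)]
      exact hψR.mapsTo h
  exact ⟨Q, isConj_trans hc hψP.isConj, hQn, heq ▸ hA, heq ▸ hRec⟩

/-- The adapted member is fully automized and receptive. -/
theorem good_of_adapted (hc : F.IsConj P₀ P) (hn : F.IsFullyNormalized P)
    (hA : F.IsFullyAutomized p (r0 F p P)) (hRec : F.IsReceptive (r0 F p P)) :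
    F.IsFullyAutomized p P ∧ F.IsReceptive P := by
  have hP := hn.1
  set L := r0 F p P with hLdef
  have hPL : P ≤ L := le_r0 c.hS hP
  have hLN : L ≤ normalizerIn S P := r0_le
  have hLS : L ≤ S := hLN.trans normalizerIn_le
  haveI := finite_of_le hLS
  haveI := finite_of_le hP
  haveI := finite_mulAut (G := L)
  haveI := finite_mulAut (G := P)
  have hNL : normalizerIn S P ≤ normalizerIn S L := fun x hx =>
    ⟨hx.1, Subgroup.mem_normalizer_fintype fun v hv => r0_conj hx hP hv⟩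
  set G := stabG F L P with hG
  set ρ := rstr (F := F) hPL with hρ
  set TP := (autInducedBy S L).subgroupOf G with hTP
  have hTPp : IsPGroup p TP := (isPGroup_autInducedBy c.hS _).comap_subtype
  have htp : ∀ x (hx : x ∈ normalizerIn S P),
      (⟨actHom S L ⟨x, hNL hx⟩, actHom_mem_stabG hLS (hNL hx) hx.2⟩ : G) ∈ TP ∧
      ρ ⟨actHom S L ⟨x, hNL hx⟩, actHom_mem_stabG hLS (hNL hx) hx.2⟩ = actHom S P ⟨x, hx⟩ :=
    fun x hx => ⟨(range_actHom S L).le ⟨_, rfl⟩, MulEquiv.ext fun v => Subtype.ext rfl⟩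
  -- the induced automorphisms form a Sylow subgroup of the stabilizer
  have hsyl : ¬ p ∣ TP.index := by
    obtain ⟨T, hT⟩ := hTPp.exists_le_sylow
    obtain ⟨σ, hσ, hσT⟩ := exists_conj_into hA (K := (T : Subgroup G).map G.subtype)
      (T.isPGroup'.map _) (fun r hr => by obtain ⟨t, -, rfl⟩ := hr; exact t.2.1)
    obtain ⟨e, he, ee⟩ := ext_of_conj (X := normalizerIn S P) hRec hσ fun x hx =>
      Or.inr ⟨hNL hx, hσT _ ⟨_, hT (htp x hx).1, rfl⟩⟩
    have heP := (he.restrict (le_normalizerIn hP)).toIso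
    set P' := (he.restrict (le_normalizerIn hP)).img
    have hmaps : ∀ x ∈ normalizerIn S P, e x ∈ normalizerIn S P' := fun x hx =>
      heP.map_normalizer he (le_normalizerIn hP) (fun _ _ => rfl) hx hx.2
    haveI := finite_of_le (normalizerIn_le : normalizerIn S P' ≤ S)
    haveI := finite_of_le heP.cod_le
    have hi : Iso F e (normalizerIn S P) (normalizerIn S P') :=
      he.iso_of_card hmaps (hn.2 P' heP.isConj)
    suffices (T : Subgroup G) = TP by rw [← this]; exact T.not_dvd_index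
    refine le_antisymm (fun t ht => ?_) hT
    obtain ⟨y, hyS, -, hy⟩ := mem_autInducedBy.mp (hσT _ ⟨t, ht, rfl⟩)
    have hyval : ∀ u : L, cj y ((σ u : L) : Ω) = ((σ ((t : MulAut L) u) : L) : Ω) := fun u => by
      rw [← hy (σ u)]
      simp [MulAut.mul_apply]
    have hyP : y ∈ normalizerIn S P' := ⟨hyS, Subgroup.mem_normalizer_fintype fun v hv => by
      obtain ⟨u, hu, rfl⟩ := heP.surj hv
      have h1 := ee ⟨u, hPL hu⟩ (le_normalizerIn hP hu)
      have h2 : (((t : MulAut L) ⟨u, hPL hu⟩ : L) : Ω) ∈ P := (t.2.2 _).mp hu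
      show y * e u * y⁻¹ ∈ P'
      rw [h1, ← cj_apply, hyval, ← ee _ (le_normalizerIn hP h2)]
      exact heP.mapsTo h2⟩
    obtain ⟨x, hx, rfl⟩ := hi.surj hyP
    have : (t : MulAut L) = actHom S L ⟨x, hNL hx⟩ := MulEquiv.ext fun u => by
      apply σ.injective
      apply Subtype.ext
      rw [← hyval, ← ee u (hLN u.2), ← ee _ (hLN (SetLike.coe_mem _))]
      exact (he.map_conj hx (hLN u.2)).symm
    show (t : MulAut L) ∈ autInducedBy S L
    rw [this]; exact (range_actHom S L).le ⟨_, rfl⟩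
  let ρ₀ : G →* F.autGroup P := ρ.codRestrict _ fun t => rstr_mem hLS hPL t
  have hsurj : Function.Surjective ρ₀ := fun α => by
    obtain ⟨f, hf, ef⟩ := (mem_autGroup_iff hP).mp α.2
    obtain ⟨θ, hθ, eθ⟩ := c.ext_all hc hn hf
    refine ⟨⟨(hθ.isoR c.hS).equiv, mem_stabG_of_iso (hθ.isoR c.hS) hPL fun x hx => hθ.iso.mapsTo hx⟩,
      Subtype.ext (MulEquiv.ext fun v => Subtype.ext ?_)⟩
    exact (eθ v v.2).trans (ef v)
  refine ⟨(fullyAutomized_iff c.hS).mpr ⟨hP, fun hd => ?_⟩, receptive_iff.mpr ⟨hP, ?_⟩⟩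
  · let T := IsPGroup.toSylow hTPp hsyl
    refine (T.mapSurjective hsurj).not_dvd_index (hd.trans (Subgroup.index_dvd_of_le ?_))
    rw [Sylow.coe_mapSurjective, IsPGroup.toSylow_coe]
    rintro _ ⟨t, ht, rfl⟩
    obtain ⟨x, hx, hxP, hxt⟩ := mem_stab_induced (α := (t : MulAut L)) ht t.2 hPL
    have : ρ t = actHom S P ⟨x, hx.1, hxP⟩ := MulEquiv.ext fun v => Subtype.ext (by
      rw [rstr_val, hxt]; rfl)
    show ρ t ∈ autInducedBy S P
    rw [this]; exact (range_actHom S P).le ⟨_, rfl⟩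
  intro P' φ hφ
  obtain ⟨g, hg⟩ := c.reach (isConj_trans hc (isConj_symm hφ.isConj)) hc hn
  obtain ⟨g', hg', hgl, -⟩ := hg.iso.exists_symm
  have ha : Iso F (φ ∘ g') P P := hg'.comp hφ
  set a := φ ∘ g' with hadef
  suffices ∃ e, Mor F (nphi S P a) e ∧ ∀ x ∈ P, e x = a x by
    obtain ⟨e, he, ee⟩ := this
    refine ⟨e ∘ g, (hg.mor.restrict nphi_le).comp he fun x hx => ?_, fun v hv => ?_⟩
    · obtain ⟨hxS, hxn, s, hs, es⟩ := id hx
      refine mem_nphi.mpr ⟨(hg.maps ⟨hxS, hxn⟩).1, (hg.maps ⟨hxS, hxn⟩).2, s, hs, fun w hw => ?_⟩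
      obtain ⟨v, hv, rfl⟩ := hg.iso.surj hw
      rw [cj_apply, ← hg.mor.map_conj ⟨hxS, hxn⟩ (le_normalizerIn hg.iso.dom_le hv)]
      show φ (g' (g (x * v * x⁻¹))) = cj s (φ (g' (g v)))
      rw [hgl v hv, ← cj_apply, hgl _ ((cj_mem_iff hxn v).mpr hv)]
      exact es v hv
    · show e (g v) = φ v
      rw [ee _ (hg.iso.mapsTo hv)]
      exact congrArg φ (hgl v hv)
  obtain ⟨θ, hθ, eθ⟩ := c.ext_all hc hn ha
  let ω : G := ⟨(hθ.isoR c.hS).equiv,
    mem_stabG_of_iso (hθ.isoR c.hS) hPL fun x hx => hθ.iso.mapsTo hx⟩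
  set H : Subgroup G := (autInducedBy S P).comap ρ with hH
  have hTH : TP ≤ H := fun t ht => by
    obtain ⟨x, hx, hxP, hxt⟩ := mem_stab_induced (α := (t : MulAut L)) ht t.2 hPL
    have : ρ t = actHom S P ⟨x, hx.1, hxP⟩ := MulEquiv.ext fun v => Subtype.ext (by
      rw [rstr_val, hxt]; rfl)
    show ρ t ∈ autInducedBy S P
    rw [this]; exact (range_actHom S P).le ⟨_, rfl⟩
  let TH : Sylow p H := IsPGroup.toSylow (hTPp.comap_subtype : IsPGroup p (TP.subgroupOf H))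
    fun hd => hsyl (hd.trans (Dvd.intro _ (Subgroup.relIndex_mul_index hTH)))
  set K : Subgroup G := (TP ⊓ H.comap (MulAut.conj ω).toMonoidHom).map (MulAut.conj ω).toMonoidHom
  have hKH : K ≤ H := by
    rintro _ ⟨t, ⟨-, ht⟩, rfl⟩
    exact ht
  obtain ⟨h, hh⟩ := conj_into_sylow TH ((hTPp.to_le inf_le_left).map _ : IsPGroup p K) hKH
  obtain ⟨z, hz, hzN, hzh⟩ := mem_autInducedBy.mp (show ρ h ∈ autInducedBy S P from h.2)
  obtain ⟨htT, hρz⟩ := htp z ⟨hz, hzN⟩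
  set t : G := ⟨actHom S L ⟨z, hNL ⟨hz, hzN⟩⟩, actHom_mem_stabG hLS (hNL ⟨hz, hzN⟩) hzN⟩
  have hρh : ρ h = ρ t := by
    rw [hρz]
    exact MulEquiv.ext fun v => Subtype.ext (hzh v)
  set k : G := t⁻¹ * h with hk
  have hk1 : ρ k = 1 := by rw [hk, map_mul, map_inv, hρh, inv_mul_cancel]
  obtain ⟨e, he, ee⟩ := ext_of_conj (X := nphi S P a) hRec (α := ((k * ω : G) : MulAut L))
    (k * ω).2.1 fun x hx => by
    refine Or.inr ⟨hNL (nphi_le hx), ?_⟩
    obtain ⟨hxS, hxn, s, hs, es⟩ := id hx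
    set cx : G := ⟨actHom S L ⟨x, hNL (nphi_le hx)⟩,
      actHom_mem_stabG hLS (hNL (nphi_le hx)) hxn⟩ with hcx
    have hxH : ω * cx * ω⁻¹ ∈ H := by
      show ρ (ω * cx * ω⁻¹) ∈ autInducedBy S P
      rw [mem_autInducedBy]
      refine ⟨s, hs, Subgroup.mem_normalizer_fintype fun v hv => ?_, fun v => ?_⟩
      · obtain ⟨u, hu, rfl⟩ := ha.surj hv
        show s * a u * s⁻¹ ∈ P
        rw [← cj_apply, ← es u hu]
        exact ha.mapsTo ((cj_mem_iff hxn u).mpr hu)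
      · rw [map_mul, map_mul, map_inv, MulAut.mul_apply, MulAut.mul_apply]
        obtain ⟨u, hu, huv⟩ := ha.surj v.2
        have hω : ∀ w : P, ((ρ ω w : P) : Ω) = a w := fun w => eθ w w.2
        have h1 : (ρ ω)⁻¹ v = ⟨u, hu⟩ := by
          apply (ρ ω).injective
          rw [MulAut.apply_inv_self]
          exact Subtype.ext ((hω ⟨u, hu⟩).trans huv).symm
        rw [h1, hω, ← huv]
        exact es u hu
    have h2 : (h : G) * (ω * cx * ω⁻¹) * (h : G)⁻¹ ∈ TP :=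
      hh _ ⟨cx, ⟨(range_actHom S L).le ⟨_, rfl⟩, hxH⟩, rfl⟩
    have h3 : (k * ω) * cx * (k * ω)⁻¹ ∈ TP := by
      have := TP.mul_mem (TP.mul_mem (TP.inv_mem htT) h2) htT
      convert this using 1
      rw [hk]; group
    exact h3
  refine ⟨e, he, fun v hv => ?_⟩
  rw [ee ⟨v, hPL hv⟩ (ha.mor.le_nphi hv)]
  have hkv : ∀ w : P, ((ρ k w : P) : Ω) = (w : Ω) := fun w => by rw [hk1]; rfl
  have := hkv (ρ ω ⟨v, hv⟩)
  exact this.trans (eθ v hv)

end Ctx

/-- The saturation criterion. -/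
theorem saturated_of_family [Fact p.Prime] [Finite S] (hS : IsPGroup p S)
    (hℋconj : ∀ P ∈ ℋ, ∀ Q, F.IsConj P Q → Q ∈ ℋ)
    (hsat : ∀ P ∈ ℋ, ∃ Q, F.IsConj P Q ∧ F.IsFullyAutomized p Q ∧ F.IsReceptive Q)
    (hgen : ∀ E : FusionSystem S, (∀ P ∈ ℋ, F.Hom P ⊆ E.Hom P) → F ≤ E)
    (hstar : ∀ P : Subgroup Ω, F.IsCentric P → P ∉ ℋ →
      ∃ Q, F.IsConj P Q ∧ ¬ (autInducedBy S Q ⊓ coreO F p Q ≤ Inn Q)) : F.IsSaturated p := by
  intro P
  induction hd : Nat.card S - Nat.card P using Nat.strong_induction_on generalizing P with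
  | _ d IH =>
  intro hP
  by_cases hH : ∃ Q, F.IsConj P Q ∧ Q ∈ ℋ
  · obtain ⟨Q, hPQ, hQ⟩ := hH
    obtain ⟨R, hQR, h⟩ := hsat Q hQ
    exact ⟨R, isConj_trans hPQ hQR, h⟩
  rcases hP.eq_or_lt with rfl | hlt
  · exfalso
    have hPc : F.IsCentric P := ⟨le_rfl, fun Q hQ => by
      obtain ⟨u, hu⟩ := isConj_iff.mp hQ
      rw [eq_of_le_of_card hu.cod_le hu.card_eq.le]
      exact centralizerIn_le⟩
    obtain ⟨Q, hQ, h⟩ := hstar P hPc fun h => hH ⟨P, isConj_refl le_rfl, h⟩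
    obtain ⟨u, hu⟩ := isConj_iff.mp hQ
    obtain rfl := eq_of_le_of_card hu.cod_le hu.card_eq.le
    exact h (inf_le_left.trans (inn_eq_autInducedBy Q).ge)
  have c : Ctx F p ℋ P := ⟨hS, hlt, fun Q hQ h => hH ⟨Q, hQ, h⟩, hgen, fun A hA hc => by
    refine IH _ ?_ A rfl hA
    have := card_le_of_le hA
    omega⟩
  obtain ⟨Q, hQ, hn, hA, hR⟩ := c.exists_adapted fun hc =>
    hstar P hc fun h => hH ⟨P, isConj_refl hP, h⟩
  exact ⟨Q, hQ, c.good_of_adapted hQ hn hA hR⟩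

end Cfsg.Agent.Fusion.SatCrit
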