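/-
Saturated subsystems of index prime to `p` from classes of maps on a family of centric subgroups.
-/
import Cfsg.Agent.Fusion.SatMain
import Cfsg.Agent.Fusion.PrimeIndex
import Cfsg.Agent.Fusion.SubAgree
import Cfsg.Prelude.Def_FusionComponents
set_option autoImplicit false
set_option linter.style.haveILetI false

namespace Cfsg.Agent.Fusion.SatCrit

open Cfsg Cfsg.FusionSystem

variable {Ω : Type*} [Group Ω] {S : Subgroup Ω} {F : FusionSystem S} {p : ℕ}
  {G : Subgroup Ω → Prop} {C D : Subgroup Ω → (Ω → Ω) → Prop}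
  {P Q R A : Subgroup Ω} {f g a a' : Ω → Ω}

/-- A family of centric subgroups carrying the fusion. -/
structure GoodFam (F : FusionSystem S) (p : ℕ) (G : Subgroup Ω → Prop) : Prop where
  centric : ∀ {P : Subgroup Ω}, G P → F.IsCentric P
  conj : ∀ {P Q : Subgroup Ω}, G P → F.IsConj P Q → G Q
  mono : ∀ {P Q : Subgroup Ω}, G P → P ≤ Q → Q ≤ S → G Q
  star : ∀ {P : Subgroup Ω}, F.IsCentric P → ¬ G P →
    ∃ Q, F.IsConj P Q ∧ ∃ x ∈ r0 F p Q, x ∉ Q

/-- A class of maps closed under extension from members of `G` and containing their `p`-elements. -/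
structure ExtBase (F : FusionSystem S) (p : ℕ) (G : Subgroup Ω → Prop)
    (C : Subgroup Ω → (Ω → Ω) → Prop) : Prop where
  closed : Closed F C
  pAut : ∀ {R : Subgroup Ω} {f : Ω → Ω} (k : ℕ),
    G R → Iso F f R R → (∀ x ∈ R, f^[p ^ k] x = x) → C R f
  ext : ∀ {P A : Subgroup Ω} {f : Ω → Ω}, G P → P ≤ A → Mor F A f → C P f → C A f

/-- Invariance under the automorphisms of `S`. -/
def Invar (F : FusionSystem S) (C : Subgroup Ω → (Ω → Ω) → Prop) : Prop :=
  ∀ {a a' : Ω → Ω} (hi : SysIso F F a a'), Iso F a S S →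
    ∀ {P : Subgroup Ω} {f : Ω → Ω}, Mor F P f → C P f → C (hi.img P) (a ∘ f ∘ a')

/-- The class generated by the maps of `C` with source in `G`. -/
def hull (F : FusionSystem S) (G : Subgroup Ω → Prop) (C : Subgroup Ω → (Ω → Ω) → Prop)
    (A : Subgroup Ω) (f : Ω → Ω) : Prop :=
  ∀ D, Closed F D → (∀ P g, G P → Mor F P g → C P g → D P g) → D A f

theorem hull_closed : Closed F (hull F G C) where
  conj := fun hP hs _ hD _ => hD.conj hP hs
  congr := fun hf e h D hD hb => hD.congr hf e (h D hD hb)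
  comp := fun hf hg m h h' D hD hb => hD.comp hf hg m (h D hD hb) (h' D hD hb)
  inv := fun hf hg e h D hD hb => hD.inv hf hg e (h D hD hb)

theorem hull_of (hG : G P) (hf : Mor F P f) (hC : C P f) : hull F G C P f :=
  fun _ _ hb => hb _ _ hG hf hC

theorem of_hull (hG : GoodFam F p G) (hC : Closed F C) (hA : G A) (h : hull F G C A f) : C A f := by
  refine h (fun P g => G P → C P g) { conj := fun hP hs _ => hC.conj hP hs
                                      congr := fun hf e h hP => hC.congr hf e (h hP)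
                                      comp := ?_
                                      inv := ?_ } (fun _ _ _ _ hc _ => hc) hA
  · intro P Q f g hf hg m h h' hP
    refine hC.comp hf hg m (h hP) (h' ?_)
    refine hG.mono (hG.conj hP hf.toIso.isConj) (fun y hy => ?_) hg.dom_le
    obtain ⟨x, hx, rfl⟩ := hf.toIso.surj hy
    exact m x hx
  · intro P Q f g hf hg e h hQ
    exact hC.inv hf hg e (h (hG.conj hQ hg.isConj))

theorem closed_pullback {hi : SysIso F F a a'} (hD : Closed F D) :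
    Closed F (fun P f => D (hi.img P) (a ∘ f ∘ a')) where
  conj := fun {P s} hP hs => by
    refine hD.congr (Mor.conj (hi.img_le P) (hi.mem s hs)) (fun y hy => ?_)
      (hD.conj (hi.img_le P) (hi.mem s hs))
    obtain ⟨x, hx, rfl⟩ := (hi.mem_img hP).mp hy
    show _ = a (cj s (a' (a x)))
    rw [hi.left x (hP hx), hi.map_cj hs (hP hx)]
  congr := fun {P f g} hf e h => by
    refine hD.congr (hi.mor hf) (fun y hy => ?_) h
    obtain ⟨x, hx, rfl⟩ := (hi.mem_img hf.dom_le).mp hy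
    simp only [Function.comp_apply, hi.left x (hf.dom_le hx), e x hx]
  comp := fun {P Q f g} hf hg m h h' => by
    have hm : ∀ y ∈ hi.img P, (a ∘ f ∘ a') y ∈ hi.img Q := fun y hy => by
      obtain ⟨x, hx, rfl⟩ := (hi.mem_img hf.dom_le).mp hy
      refine (hi.mem_img hg.dom_le).mpr ⟨f x, m x hx, ?_⟩
      show _ = a (f (a' (a x)))
      rw [hi.left x (hf.dom_le hx)]
    refine hD.congr ((hi.mor hf).comp (hi.mor hg) hm) (fun y hy => ?_)
      (hD.comp (hi.mor hf) (hi.mor hg) hm h h')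
    obtain ⟨x, hx, rfl⟩ := (hi.mem_img hf.dom_le).mp hy
    show a (g (a' (a (f (a' (a x)))))) = a (g (f (a' (a x))))
    rw [hi.left x (hf.dom_le hx), hi.left _ (hf.map_mem hx)]
  inv := fun {P Q f g} hf hg e h => by
    refine hD.inv (hi.iso hf) (hi.iso hg) (fun y hy => ?_) h
    obtain ⟨x, hx, rfl⟩ := (hi.mem_img hf.dom_le).mp hy
    show a (g (a' (a (f (a' (a x)))))) = a x
    rw [hi.left x (hf.dom_le hx), hi.left _ (hf.mor.map_mem hx), e x hx]

theorem img_conj (hi : SysIso F F a a') (ha : Iso F a S S) (hP : P ≤ S) :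
    F.IsConj P (hi.img P) :=
  Iso.isConj ⟨ha.mor.restrict hP, fun x hx => (hi.mem_img hP).mpr ⟨x, hx, rfl⟩,
    (ha.mor.restrict hP).injOn, fun _ hy => (hi.mem_img hP).mp hy⟩

theorem hull_invar (hG : GoodFam F p G) (hI : Invar F C) : Invar F (hull F G C) := by
  intro a a' hi ha P f _ h D hD hb
  refine h (fun P f => D (hi.img P) (a ∘ f ∘ a')) (closed_pullback hD) fun Q g hQ hg hc => ?_
  exact hb _ _ (hG.conj hQ (img_conj hi ha hg.dom_le)) (hi.mor hg) (hI hi ha hg hc)

/-- Every map is an automorphism of `S` following a map of the class. -/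
def Factor (F : FusionSystem S) (C : Subgroup Ω → (Ω → Ω) → Prop) (P : Subgroup Ω) (f : Ω → Ω) :
    Prop :=
  ∃ a g, Iso F a S S ∧ Mor F P g ∧ C P g ∧ ∀ x ∈ P, f x = a (g x)

theorem factor_closed (hC : Closed F C) (hI : Invar F C) : Closed F (Factor F C) where
  conj := fun {P s} hP hs =>
    ⟨id, cj s, Iso.refl le_rfl, Mor.conj hP hs, hC.conj hP hs, fun _ _ => rfl⟩
  congr := fun {P f g} _ e ⟨a, k, ha, hk, hk', h⟩ =>
    ⟨a, k, ha, hk, hk', fun x hx => (e x hx).symm.trans (h x hx)⟩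
  comp := by
    rintro P Q f g hf hg m ⟨a, u, ha, hu, cu, eu⟩ ⟨b, v, hb, hv, cv, ev⟩
    obtain ⟨a', ha', hl, hr⟩ := ha.exists_symm
    have hj : SysIso F F a' a := selfSysIso ha' ha hr hl
    have hm : ∀ x ∈ P, u x ∈ hj.img Q := fun x hx =>
      (hj.mem_img hg.dom_le).mpr ⟨f x, m x hx, by rw [eu x hx, hl _ (hu.map_mem hx)]⟩
    refine ⟨b ∘ a, _, ha.comp hb, hu.comp (hj.mor hv) hm,
      hC.comp hu (hj.mor hv) hm cu (hI hj ha' hv cv), fun x hx => ?_⟩
    show g (f x) = b (a (a' (v (a (u x)))))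
    rw [← eu x hx, hr _ (hv.map_mem (m x hx)), ev _ (m x hx)]
  inv := by
    rintro P Q f g hf hg e ⟨a, u, ha, hu, cu, eu⟩
    obtain ⟨a', ha', hl, hr⟩ := ha.exists_symm
    have hj : SysIso F F a a' := selfSysIso ha ha' hl hr
    obtain ⟨u', hu', hul, -⟩ := hu.toIso.exists_symm
    have hu'c : C hu.img u' := hC.inv hu.toIso hu' hul cu
    have hQ : hj.img hu.img = Q := by
      ext y
      rw [hj.mem_img hu.img_le]
      constructor
      · rintro ⟨x, hx, rfl⟩
        obtain ⟨w, hw, rfl⟩ := hu.mem_img.mp hx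
        rw [← eu w hw]; exact hf.mapsTo hw
      · intro hy
        obtain ⟨w, hw, rfl⟩ := hf.surj hy
        exact ⟨u w, hu.mem_img.mpr ⟨w, hw, rfl⟩, (eu w hw).symm⟩
    refine ⟨a', a ∘ u' ∘ a', ha', hQ ▸ hj.mor hu'.mor, hQ ▸ hI hj ha hu'.mor hu'c, fun y hy => ?_⟩
    obtain ⟨w, hw, rfl⟩ := hf.surj hy
    show g (f w) = a' (a (u' (a' (f w))))
    rw [e w hw, eu w hw, hl _ (hu.map_mem hw), hul w hw, hl _ (hf.dom_le hw)]

/-- The class contains the group generated by the `p`-elements. -/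
theorem class_of_mem_closure [Fact p.Prime] [Finite S] (hC : ExtBase F p G C) (hR : G R) (hRS : R ≤ S)
    {α : F.autGroup R}
    (h : α ∈ Subgroup.closure {β : F.autGroup R | ∃ k : ℕ, orderOf β = p ^ k}) :
    C R (extFun (R.subtype.comp ((α : MulAut R)).toMonoidHom)) := by
  have ev : ∀ (β : MulAut R) (x : R), extFun (R.subtype.comp β.toMonoidHom) (x : Ω) = ((β x : R) : Ω) :=
    fun β x => extFun_coe _ x
  induction h using Subgroup.closure_induction with
  | mem β hβ =>
    obtain ⟨k, hk⟩ := hβ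
    refine hC.pAut k hR (autGroup_iso hRS β.2) fun x hx => ?_
    have hit : ∀ (n : ℕ) (y : R), (extFun (R.subtype.comp ((β : MulAut R)).toMonoidHom))^[n] (y : Ω) =
        (((((β : MulAut R)) ^ n) y : R) : Ω) := by
      intro n
      induction n with
      | zero => intro y; rfl
      | succ n ih =>
        intro y
        rw [Function.iterate_succ_apply', ih, ev, pow_succ', MulAut.mul_apply]
    rw [hit (p ^ k) ⟨x, hx⟩, ← Subgroup.coe_pow, ← hk, pow_orderOf_eq_one]
    rfl
  | one =>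
    exact hC.closed.congr (Mor.conj hRS S.one_mem)
      (fun x hx => (cj_one x).trans (ev 1 ⟨x, hx⟩).symm) (hC.closed.conj hRS S.one_mem)
  | mul β γ _ _ ihb ihc =>
    refine hC.closed.congr ((autGroup_iso hRS γ.2).comp (autGroup_iso hRS β.2)).mor (fun x hx => ?_)
      (hC.closed.comp (autGroup_iso hRS γ.2).mor (autGroup_iso hRS β.2).mor
        (fun x hx => (autGroup_iso hRS γ.2).mapsTo hx) ihc ihb)
    show extFun _ (extFun _ x) = _
    rw [ev _ ⟨x, hx⟩, ev, ev _ ⟨x, hx⟩]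
    rfl
  | inv β _ ih =>
    refine hC.closed.inv (autGroup_iso hRS β.2) (autGroup_iso hRS (β⁻¹).2) (fun x hx => ?_) ih
    rw [ev _ ⟨x, hx⟩, ev]
    exact congrArg Subtype.val (MulAut.inv_apply_self R (β : MulAut R) ⟨x, hx⟩)

/-- Essential subgroups lie in the family. -/
theorem GoodFam.essential [Fact p.Prime] [Finite S] (hS : IsPGroup p S) (hF : F.IsSaturated p)
    (hG : GoodFam F p G) (hR : F.IsEssential p R) : G R := by
  by_contra h
  obtain ⟨Q, hQ, x, hx, hxQ⟩ := hG.star hR.1 h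
  obtain ⟨u, hu⟩ := isConj_iff.mp (isConj_symm hQ)
  obtain ⟨-, g, -, hg, -, hm, hgR⟩ := exists_map_to_fullyNormalized hS hF hu hR.2.1
  have h1 := r0_map hgR hg (le_normalizerIn hu.dom_le) (r0_le hx) hx
  obtain ⟨h2, α, hα, hαe⟩ := mem_r0.mp h1
  have h3 : g x ∈ R := mem_of_mem_normal_pGroup hR.1 (essential_radical hS hR) h2 _
    inferInstance (Core.isPGroup_pCore p _) ((Subtype.ext hαe :
      α = ⟨actHom S R ⟨g x, h2⟩, autInducedBy_le_autGroup hR.1.1
        ((range_actHom S R).le ⟨_, rfl⟩)⟩) ▸ hα)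
  obtain ⟨v, hv, e⟩ := hgR.surj h3
  exact hxQ (hg.injOn (le_normalizerIn hu.dom_le hv) (r0_le hx) e ▸ hv)

section

variable [Fact p.Prime] [Finite S] (hS : IsPGroup p S) (hF : F.IsSaturated p)
  (hG : GoodFam F p G) (hC : ExtBase F p G C) (hI : Invar F C)
include hS hF hG hC hI

theorem factor_hull : ∀ P f, Mor F P f → Factor F (hull F G C) P f := by
  refine alperin hS hF (factor_closed hull_closed (hull_invar hG hI)) fun R hR hRn IH f hf => ?_
  haveI := finite_of_le hRn.1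
  haveI := finite_mulAut (G := R)
  rcases hR with rfl | hess
  · exact ⟨f, cj 1, hf, Mor.conj le_rfl (one_mem _), hull_closed.conj le_rfl (one_mem _),
      fun x _ => by rw [cj_one]⟩
  have hRS : R < S := essential_lt hS hF hess
  have hGR := hG.essential hS hF hess
  obtain ⟨-, hfa, hrec⟩ := IsSaturated_fullyNormalized hS hF hRn
  set A := F.autGroup R
  set K := Subgroup.closure {β : A | ∃ k : ℕ, orderOf β = p ^ k} with hK
  haveI hKn : K.Normal := ⟨fun β hβ c => by
    have hle : K ≤ K.comap (MulAut.conj c).toMonoidHom := by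
      rw [hK, Subgroup.closure_le]
      rintro γ ⟨k, hk⟩
      exact Subgroup.subset_closure ⟨k, by rw [← hk]; exact MulEquiv.orderOf_eq (MulAut.conj c) γ⟩
    exact hle hβ⟩
  obtain ⟨-, T, hT⟩ := hfa
  have hTK : (T : Subgroup A) ≤ K := fun β hβ => by
    obtain ⟨k, hk⟩ := IsPGroup.iff_orderOf.mp T.isPGroup' ⟨β, hβ⟩
    exact Subgroup.subset_closure ⟨k, by rwa [← Subgroup.orderOf_mk (H := (T : Subgroup A)) β hβ]⟩
  obtain ⟨n, hn, k, hk, hnk⟩ := Subgroup.mem_sup_of_normal_right.mp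
    ((Sylow.normalizer_sup_eq_top' T hTK).ge (Subgroup.mem_top (⟨hf.equiv, hf.equiv_mem_autGroup⟩ : A)))
  -- the factor normalizing the Sylow subgroup extends
  have hne : ∀ x ∈ normalizerIn S R, x ∈ R ∨ ∃ hx : x ∈ normalizerIn S R,
      (n : MulAut R) * actHom S R ⟨x, hx⟩ * (n : MulAut R)⁻¹ ∈ autInducedBy S R := fun x hx => by
    refine Or.inr ⟨hx, ?_⟩
    have hx' : (⟨actHom S R ⟨x, hx⟩, autInducedBy_le_autGroup hRS.le
        ((range_actHom S R).le ⟨_, rfl⟩)⟩ : A) ∈ (T : Subgroup A) := by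
      rw [hT]; exact Subgroup.mem_subgroupOf.mpr ((range_actHom S R).le ⟨_, rfl⟩)
    have h2 := ((Subgroup.mem_normalizer_iff.mp hn) _).mp hx'
    rw [hT] at h2
    exact h2
  obtain ⟨e, he, ee⟩ := ext_of_conj hrec n.2 hne
  have hRN : R ≤ normalizerIn S R := le_normalizerIn hRS.le
  haveI := finite_of_le (normalizerIn_le : normalizerIn S R ≤ S)
  have hbig := IH _ e he (card_lt_of_lt (lt_normalizerIn hS hRS))
  have hFR : Factor F (hull F G C) R e :=
    (factor_closed hull_closed (hull_invar hG hI)).restrict he hRN hbig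
  have hki := autGroup_iso hRS.le k.2
  have hkC : Factor F (hull F G C) R (extFun (R.subtype.comp ((k : MulAut R)).toMonoidHom)) :=
    ⟨id, _, Iso.refl le_rfl, hki.mor, hull_of hGR hki.mor (class_of_mem_closure hC hGR hRS.le hk),
      fun _ _ => rfl⟩
  have hcl := factor_closed hull_closed (hull_invar hG hI) (F := F) (C := hull F G C)
  refine hcl.congr (hki.mor.comp (he.restrict hRN) fun x hx => hki.mapsTo hx) (fun x hx => ?_)
    (hcl.comp hki.mor (he.restrict hRN) (fun x hx => hki.mapsTo hx) hkC hFR)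
  show e (extFun _ x) = f x
  rw [extFun_apply _ hx]
  show e ((((k : MulAut R)) ⟨x, hx⟩ : R) : Ω) = f x
  rw [ee _ (hRN (SetLike.coe_mem _))]
  exact congrArg (fun β : A => ((((β : MulAut R)) ⟨x, hx⟩ : R) : Ω)) hnk

omit hS hF hG hC hI in
theorem sysE_le : systemOf (hull_closed (F := F) (G := G) (C := C)) ≤ F :=
  fun _ _ h => h.1

omit hS hF hG hC hI in
theorem sysE_mor {A : Subgroup Ω} (hf : Mor F A f) (h : hull F G C A f) :
    Mor (systemOf (hull_closed (F := F) (G := G) (C := C))) A f := by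
  obtain ⟨φ, hφ, e⟩ := id hf
  exact ⟨φ, ⟨hφ, hull_closed.congr hf (fun x hx => ((extFun_apply φ hx).trans (e ⟨x, hx⟩)).symm) h⟩, e⟩

omit hS hF hG hC in
theorem fullyNormalized_img {a a' : Ω → Ω} (hi : SysIso F F a a') (ha : Iso F a S S)
    (hn : F.IsFullyNormalized Q) : F.IsFullyNormalized (hi.img Q) := by
  refine ⟨hi.img_le Q, fun T hT => (hn.2 T (isConj_trans (img_conj hi ha hn.1) hT)).trans (le_of_eq ?_)⟩
  rw [← hi.img_normalizerIn hn.1]
  exact Nat.card_congr (hi.equivImg normalizerIn_le).toEquiv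

/-- Every class has a member fully normalized in `F` in the same class of the subsystem. -/
theorem exists_hull_fullyNormalized (hP : P ≤ S) :
    ∃ Q g, F.IsFullyNormalized Q ∧ Iso F g P Q ∧ hull F G C P g := by
  obtain ⟨R, hR, hRn⟩ := exists_fullyNormalized (F := F) hP
  obtain ⟨u, hu⟩ := isConj_iff.mp hR
  obtain ⟨a, g, ha, hg, hc, eg⟩ := factor_hull hS hF hG hC hI P u hu.mor
  obtain ⟨a', ha', hl, hr⟩ := ha.exists_symm
  have hj : SysIso F F a' a := selfSysIso ha' ha hr hl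
  refine ⟨hj.img R, g, fullyNormalized_img hI hj ha' hRn, ⟨hg, fun x hx => ?_, hg.injOn, fun y hy => ?_⟩, hc⟩
  · exact (hj.mem_img hRn.1).mpr ⟨u x, hu.mapsTo hx, by rw [eg x hx, hl _ (hg.map_mem hx)]⟩
  · obtain ⟨r, hr', rfl⟩ := (hj.mem_img hRn.1).mp hy
    obtain ⟨x, hx, rfl⟩ := hu.surj hr'
    exact ⟨x, hx, by rw [eg x hx, hl _ (hg.map_mem hx)]⟩

theorem sysE_centric (hP : (systemOf (hull_closed (F := F) (G := G) (C := C))).IsCentric P) :
    F.IsCentric P := by
  refine ⟨hP.1, fun Q hQ c hc => ?_⟩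
  obtain ⟨f, hf⟩ := isConj_iff.mp hQ
  obtain ⟨a, g, ha, hg, hgc, e⟩ := factor_hull hS hF hG hC hI P f hf.mor
  obtain ⟨a', ha', hl, hr⟩ := ha.exists_symm
  have hj : SysIso F F a a' := selfSysIso ha ha' hl hr
  have h1 : a' c ∈ centralizerIn S hg.img := by
    refine ⟨ha'.mapsTo hc.1, fun y hy => ?_⟩
    obtain ⟨x, hx, rfl⟩ := hg.mem_img.mp hy
    have := hc.2 (f x) (hf.mapsTo hx)
    rw [e x hx] at this
    have h2 := congrArg a' this
    rwa [hj.symm.map_mul _ (ha.mapsTo (hg.map_mem hx)) _ hc.1,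
      hj.symm.map_mul _ hc.1 _ (ha.mapsTo (hg.map_mem hx)), hl _ (hg.map_mem hx)] at h2
  have hE := sysE_mor (G := G) (C := C) hg hgc
  have hcl : Iso (systemOf (hull_closed (F := F) (G := G) (C := C))) g P hg.img :=
    ⟨hE, hg.toIso.bij⟩
  obtain ⟨x, hx, hxc⟩ := hg.mem_img.mp (hP.2 hg.img hcl.isConj h1)
  exact hr c hc.1 ▸ hxc ▸ e x hx ▸ hf.mapsTo hx

/-- The subsystem is saturated. -/
theorem sysE_saturated : (systemOf (hull_closed (F := F) (G := G) (C := C))).IsSaturated p := by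
  set E := systemOf (hull_closed (F := F) (G := G) (C := C)) with hE
  refine saturated_of_family (ℋ := {P | G P}) hS (fun P hP Q hQ => ?_) (fun P hP => ?_)
    (fun E' hgen => ?_) fun P hPc hPG => ?_
  · obtain ⟨f, hf⟩ := isConj_iff.mp hQ
    exact hG.conj hP (Iso.isConj ⟨(systemOf_mor _ hf.mor).1, hf.bij⟩)
  · obtain ⟨Q, g, hn, hg, hgc⟩ := exists_hull_fullyNormalized hS hF hG hC hI (hG.centric hP).1
    obtain ⟨-, hfa, hrec⟩ := IsSaturated_fullyNormalized hS hF hn
    refine ⟨Q, Iso.isConj ⟨sysE_mor hg.mor hgc, hg.bij⟩, ?_, ?_⟩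
    · rw [fullyAutomized_iff hS] at hfa ⊢
      refine ⟨hfa.1, fun hd => hfa.2 ?_⟩
      have hle : E.autGroup Q ≤ F.autGroup Q := fun α hα => by
        obtain ⟨u, hu, eu⟩ := (mem_autGroup_iff hn.1).mp hα
        exact (mem_autGroup_iff hn.1).mpr ⟨u, ⟨(systemOf_mor _ hu.mor).1, hu.bij⟩, eu⟩
      exact hd.trans (Dvd.intro _ (Subgroup.relIndex_mul_relIndex _ _ _
        (autInducedBy_le_autGroup (F := E) hn.1) hle))
    · refine receptive_iff.mpr ⟨hn.1, fun P' φ hφ => ?_⟩
      obtain ⟨hφF, hφh⟩ := systemOf_mor hull_closed hφ.mor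
      obtain ⟨e, he, ee⟩ := (receptive_iff.mp hrec).2 P' φ ⟨hφF, hφ.bij⟩
      have hGP : G P' := hG.conj (hG.conj hP hg.isConj)
        (isConj_symm (Iso.isConj ⟨hφF, hφ.bij⟩))
      have hPN : P' ≤ nphi S P' φ := hφF.le_nphi
      have hce : C P' e := hC.closed.congr hφF (fun x hx => (ee x hx).symm)
        (of_hull hG hC.closed hGP hφh)
      exact ⟨e, sysE_mor he (hull_of (hG.mono hGP hPN he.dom_le) he (hC.ext hGP hPN he hce)), ee⟩
  · refine le_of_mor fun A f hf => ?_
    obtain ⟨-, h⟩ := systemOf_mor hull_closed hf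
    exact h _ (Closed.of_system E') fun Q u hQ hu hc =>
      Mor.congr (mor_of_mem (hgen Q hQ (show hu.hom ∈ E.Hom Q from
        mem_of_mor (sysE_mor hu (hull_of hQ hu hc)) fun _ => rfl)))
        (fun x hx => extFun_apply hu.hom hx)
  · have hFc := sysE_centric hS hF hG hC hI hPc
    obtain ⟨Q, hQ, x, hx, hxQ⟩ := hG.star hFc hPG
    obtain ⟨f, hf⟩ := isConj_iff.mp hQ
    obtain ⟨a, g, ha, hg, hgc, eg⟩ := factor_hull hS hF hG hC hI P f hf.mor
    obtain ⟨a', ha', hl, hr⟩ := ha.exists_symm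
    set Q' := hg.img
    have hgi := hg.toIso
    haveI := finite_of_le hgi.cod_le
    have haQ : Iso F a' Q Q' := (ha'.mor.restrict hf.cod_le).iso_of_card (fun y hy => by
      obtain ⟨v, hv, rfl⟩ := hf.surj hy
      rw [eg v hv, hl _ (hg.map_mem hv)]; exact hgi.mapsTo hv)
      (hgi.card_eq.symm.trans hf.card_eq).le
    have hx' : a' x ∈ r0 F p Q' :=
      r0_map haQ ha'.mor hf.cod_le ((r0_le.trans normalizerIn_le) hx) hx
    have hxQ' : a' x ∉ Q' := fun h => by
      obtain ⟨v, hv, e⟩ := haQ.surj h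
      exact hxQ (ha'.mor.injOn (hf.cod_le hv) ((r0_le.trans normalizerIn_le) hx) e ▸ hv)
    refine ⟨Q', Iso.isConj ⟨sysE_mor hg hgc, hgi.bij⟩, fun hle => hxQ' ?_⟩
    obtain ⟨hxN, hO⟩ := mem_r0.mp hx'
    have hα : actHom S Q' ⟨a' x, hxN⟩ ∈ autInducedBy S Q' := (range_actHom S Q').le ⟨_, rfl⟩
    have hQ'c : F.IsCentric Q' := isCentric_conj hFc hgi.isConj
    have hαE : actHom S Q' ⟨a' x, hxN⟩ ∈ coreO E p Q' := by
      have hn : ((coreO F p Q').subgroupOf (E.autGroup Q')).Normal := ⟨fun b hb r => by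
        refine coreO_conj ?_ hb
        obtain ⟨u, hu, eu⟩ := (mem_autGroup_iff hgi.cod_le).mp r.2
        exact (mem_autGroup_iff hgi.cod_le).mpr ⟨u, ⟨(systemOf_mor _ hu.mor).1, hu.bij⟩, eu⟩⟩
      exact ⟨⟨_, autInducedBy_le_autGroup (F := E) hgi.cod_le hα⟩,
        Core.le_pCore hn coreO_pGroup.comap_subtype hO, rfl⟩
    have hI' := hle ⟨hα, hαE⟩
    rw [inn_eq_autInducedBy, mem_autInducedBy] at hI'
    obtain ⟨d, hd, -, ed⟩ := hI'
    have hc : d⁻¹ * a' x ∈ centralizerIn S Q' := by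
      refine ⟨S.mul_mem (S.inv_mem (hgi.cod_le hd)) hxN.1, fun v hv => ?_⟩
      have h : a' x * v * (a' x)⁻¹ = d * v * d⁻¹ := ed ⟨v, hv⟩
      have h' := congrArg (fun t => d⁻¹ * t * a' x) h
      simp only [mul_assoc, inv_mul_cancel, mul_one, inv_mul_cancel_left] at h'
      simpa [mul_assoc] using h'.symm
    simpa using Q'.mul_mem hd (hQ'c.2 Q' (isConj_refl hgi.cod_le) hc)

/-- Automorphisms of `p`-power order are maps of the subsystem. -/
theorem hull_pAut {α : MulAut P} (hP : P ≤ S) (hα : α ∈ F.autGroup P)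
    (hp : IsPGroup p (Subgroup.zpowers α)) :
    α ∈ (systemOf (hull_closed (F := F) (G := G) (C := C))).autGroup P := by
  haveI := finite_of_le hP
  obtain ⟨R, hR, hRn⟩ := exists_fullyNormalized (F := F) hP
  obtain ⟨u, hu⟩ := isConj_iff.mp hR
  haveI := finite_of_le hRn.1
  haveI := finite_mulAut (G := R)
  obtain ⟨-, hfa, -⟩ := IsSaturated_fullyNormalized hS hF hRn
  obtain ⟨b, hb, hbK⟩ := exists_conj_into hfa (K := (Subgroup.zpowers α).map hu.transport.toMonoidHom)
    (hp.map _) ((Subgroup.map_mono (Subgroup.zpowers_le.mpr hα)).trans hu.map_autGroup.le)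
  obtain ⟨s, hs, hsn, es⟩ :=
    mem_autInducedBy.mp (hbK _ ⟨α, Subgroup.mem_zpowers α, rfl⟩)
  obtain ⟨bf, hbf, eb⟩ := (mem_autGroup_iff hRn.1).mp hb
  have hu₂ : Iso F (bf ∘ u) P R := hu.comp hbf
  have key : ∀ v (hv : v ∈ P), bf (u ((α ⟨v, hv⟩ : P) : Ω)) = cj s (bf (u v)) := fun v hv => by
    have h := es (b ⟨u v, hu.mapsTo hv⟩)
    rw [MulAut.mul_apply, MulAut.mul_apply, MulAut.inv_apply_self] at h
    rw [← hu.transport_val α hv, eb ⟨u v, hu.mapsTo hv⟩]
    exact (eb _).trans h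
  obtain ⟨a, g, ha, hg, hgc, eg⟩ := factor_hull hS hF hG hC hI P _ hu₂.mor
  obtain ⟨a', ha', hl, hr⟩ := ha.exists_symm
  have hgi := hg.toIso
  obtain ⟨g', hg', hgl, -⟩ := hgi.exists_symm
  have hg'c := hull_closed.inv hgi hg' hgl hgc
  have hj : SysIso F F a' a := selfSysIso ha' ha hr hl
  have hsS : a' s ∈ S := ha'.mapsTo hs
  have hval : ∀ v (hv : v ∈ P), g ((α ⟨v, hv⟩ : P) : Ω) = cj (a' s) (g v) := fun v hv => by
    have h := congrArg a' (key v hv)
    rw [show bf (u ((α ⟨v, hv⟩ : P) : Ω)) = _ from eg _ (SetLike.coe_mem _),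
      hl _ (hg.map_mem (SetLike.coe_mem _)), show bf (u v) = _ from eg v hv,
      hj.map_cj hs (ha.mapsTo (hg.map_mem hv)), hl _ (hg.map_mem hv)] at h
    exact h
  have hm : ∀ y ∈ hg.img, cj (a' s) y ∈ hg.img := fun y hy => by
    obtain ⟨v, hv, rfl⟩ := hgi.surj hy
    rw [← hval v hv]
    exact hgi.mapsTo (SetLike.coe_mem _)
  have h1 : Mor F P (g' ∘ cj (a' s) ∘ g) :=
    (hg.comp (Mor.conj hg.img_le hsS) fun x hx => hgi.mapsTo hx).comp hg'.mor
      fun x hx => hm _ (hgi.mapsTo hx)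
  have h2 : hull F G C P (g' ∘ cj (a' s) ∘ g) :=
    hull_closed.comp (hg.comp (Mor.conj hg.img_le hsS) fun x hx => hgi.mapsTo hx) hg'.mor
      (fun x hx => hm _ (hgi.mapsTo hx))
      (hull_closed.comp hg (Mor.conj hg.img_le hsS) (fun x hx => hgi.mapsTo hx) hgc
        (hull_closed.conj hg.img_le hsS)) hg'c
  have e : ∀ v : P, (g' ∘ cj (a' s) ∘ g) v = ((α v : P) : Ω) := fun v => by
    show g' (cj (a' s) (g v)) = _
    rw [← hval v v.2, hgl _ (SetLike.coe_mem _)]
  exact (autGroup_set_eq hP).mpr (mem_of_mor (sysE_mor h1 h2) fun v => (e v).symm)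

theorem sysE_primeIndex :
    (systemOf (hull_closed (F := F) (G := G) (C := C))).HasPrimeToPIndexIn F p := by
  refine ⟨sysE_le, fun P hP => ?_⟩
  rw [MonoidHom.map_closure, Subgroup.closure_le]
  rintro _ ⟨α, ⟨k, hk⟩, rfl⟩
  refine hull_pAut hS hF hG hC hI hP α.2 ?_
  refine IsPGroup.of_card (n := k) ?_
  rw [Nat.card_zpowers, Subgroup.coe_subtype, Subgroup.orderOf_coe, hk]

end

/-- The least class. -/
def minClass (F : FusionSystem S) (p : ℕ) (G : Subgroup Ω → Prop) (A : Subgroup Ω) (f : Ω → Ω) : Prop :=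
  ∀ D, ExtBase F p G D → D A f

theorem minClass_base : ExtBase F p G (minClass F p G) where
  closed :=
    { conj := fun hP hs _ hD => hD.closed.conj hP hs
      congr := fun hf e h D hD => hD.closed.congr hf e (h D hD)
      comp := fun hf hg m h h' D hD => hD.closed.comp hf hg m (h D hD) (h' D hD)
      inv := fun hf hg e h D hD => hD.closed.inv hf hg e (h D hD) }
  pAut := fun k hR hf hk _ hD => hD.pAut k hR hf hk
  ext := fun hP hPA hf h D hD => hD.ext hP hPA hf (h D hD)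

theorem minClass_invar (hG : GoodFam F p G) : Invar F (minClass F p G) := by
  intro a a' hi ha P f _ h D hD
  refine h (fun P f => D (hi.img P) (a ∘ f ∘ a')) ⟨closed_pullback hD.closed, ?_, ?_⟩
  · intro R u k hR hu hk
    have hRS := hu.dom_le
    refine hD.pAut k (hG.conj hR (img_conj hi ha hRS)) (hi.iso hu) fun y hy => ?_
    obtain ⟨x, hx, rfl⟩ := (hi.mem_img hRS).mp hy
    rw [iterate_conj (fun z hz => hu.mapsTo hz) (fun z hz => hi.left z (hRS hz)) _ x hx, hk x hx]
  · intro Q A u hQ hQA hu hd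
    refine hD.ext (hG.conj hQ (img_conj hi ha (hG.centric hQ).1)) (fun y hy => ?_) (hi.mor hu) hd
    obtain ⟨x, hx, rfl⟩ := (hi.mem_img (hQA.trans hu.dom_le)).mp hy
    exact (hi.mem_img hu.dom_le).mpr ⟨x, hQA hx, rfl⟩

theorem centricFam (hS : IsPGroup p S) [Fact p.Prime] [Finite S] : GoodFam F p F.IsCentric where
  centric := id
  conj := isCentric_conj
  mono := isCentric_mono
  star := fun h h' => absurd h h'

/-- A saturated system of index prime to `p` gives such a class. -/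
theorem base_of_primeIndex [Fact p.Prime] [Finite S] (hS : IsPGroup p S) (hF : F.IsSaturated p)
    {D : FusionSystem S} (hD : D.IsSaturated p) (hDi : D.HasPrimeToPIndexIn F p) :
    ExtBase F p F.IsCentric (fun A f => F.IsCentric A → Mor D A f) where
  closed :=
    { conj := fun hP hs _ => Mor.conj hP hs
      congr := fun _ e h hA => (h hA).congr e
      comp := fun {P Q f g} hf hg m h h' hP => (h hP).comp (h' (isCentric_mono
        (isCentric_conj hP hf.toIso.isConj) (fun y hy => by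
          obtain ⟨x, hx, rfl⟩ := hf.toIso.surj hy
          exact m x hx) hg.dom_le)) m
      inv := fun hf hg e h hQ => (Closed.of_system (F := F) D).inv hf hg e
        (h (isCentric_conj hQ hg.isConj)) }
  pAut := fun {R f} k _ hf hk hR => by
    haveI := finite_of_le hR.1
    haveI := finite_mulAut (G := R)
    have hit : ∀ (n : ℕ) (y : R), ((((hf.equiv : MulAut R) ^ n) y : R) : Ω) = f^[n] (y : Ω) := by
      intro n y
      rw [pow_apply_iterate]
      induction n with
      | zero => rfl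
      | succ n ih => rw [Function.iterate_succ_apply', Function.iterate_succ_apply', ← ih]; rfl
    have hp : (⟨hf.equiv, hf.equiv_mem_autGroup⟩ : F.autGroup R) ^ p ^ k = 1 :=
      Subtype.ext (MulEquiv.ext fun y => Subtype.ext ((hit _ y).trans (hk y y.2)))
    obtain ⟨i, -, hi⟩ := (Nat.dvd_prime_pow (Fact.out : p.Prime)).mp (orderOf_dvd_of_pow_eq_one hp)
    obtain ⟨e, he, ee⟩ := (mem_autGroup_iff hR.1).mp
      (hDi.2 R hR.1 ⟨_, Subgroup.subset_closure ⟨i, hi⟩, rfl⟩)
    exact he.mor.congr fun x hx => ee ⟨x, hx⟩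
  ext := fun hP hPA hf h _ => sub_extend hS hF hD hDi.1 hP hPA hf (h hP)

/-- The residual subsystem of index prime to `p` exists. -/
theorem exists_residual [Fact p.Prime] [Finite S] (hS : IsPGroup p S) (hF : F.IsSaturated p) :
    ∃ E : FusionSystem S, F.IsPPrimeResidual p E := by
  have hG := centricFam (F := F) hS
  refine ⟨systemOf (hull_closed (F := F) (G := F.IsCentric) (C := minClass F p F.IsCentric)),
    sysE_saturated hS hF hG minClass_base (minClass_invar hG),
    sysE_primeIndex hS hF hG minClass_base (minClass_invar hG), fun D hD hDi => ?_⟩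
  refine le_of_mor fun A f hf => ?_
  obtain ⟨-, h⟩ := systemOf_mor hull_closed hf
  exact h _ (Closed.of_system D) fun Q u hQ _ hc => hc _ (base_of_primeIndex hS hF hD hDi) hQ

end Cfsg.Agent.Fusion.SatCrit
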