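/-
The residual subsystem of index prime to `p` of a weakly normal subsystem is normal.
-/
import Cfsg.Agent.Fusion.SatIndex
import Cfsg.Agent.Fusion.Invariant
import Cfsg.Agent.Fusion.ExtendMod
import Cfsg.Agent.Fusion.SubsystemClosed
set_option autoImplicit false
set_option linter.style.haveILetI false
set_option linter.unusedSectionVars false

namespace Cfsg.Agent.Fusion.WeakResidual

open Cfsg Cfsg.FusionSystem Cfsg.Agent.Fusion.SatCrit

variable {Ω : Type*} [Group Ω] {S T : Subgroup Ω} {F : FusionSystem S} {E : FusionSystem T}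
  {p : ℕ} {P Q R A : Subgroup Ω} {f g h a a' b ω φ : Ω → Ω}

/-- A weakly normal subsystem. -/
structure WCtx (F : FusionSystem S) (E : FusionSystem T) (p : ℕ) : Prop where
  hS : IsPGroup p S
  hF : F.IsSaturated p
  hEsat : E.IsSaturated p
  hinv : E.IsInvariantIn F

/-- The map extends over `C_S(T)`, trivially modulo `T`. -/
def X (F : FusionSystem S) (T P : Subgroup Ω) (f : Ω → Ω) : Prop :=
  ∃ φ, Mor F (P ⊔ centralizerIn S T) φ ∧ (∀ x ∈ P, φ x = f x) ∧
    ∀ c ∈ centralizerIn S T, c⁻¹ * φ c ∈ T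

/-- The automorphisms of `T` in `E` that extend over `C_S(T)`, trivially modulo `T`. -/
def HF (F : FusionSystem S) (E : FusionSystem T) (a : Ω → Ω) : Prop :=
  Iso E a T T ∧ ∃ β, Iso F β (T ⊔ centralizerIn S T) (T ⊔ centralizerIn S T) ∧
    (∀ x ∈ T, β x = a x) ∧ ∀ c ∈ centralizerIn S T, c⁻¹ * β c ∈ T

theorem iterate_fix {N : Subgroup Ω} (hf : Mor F N f) (hR : R ≤ N) (hfix : ∀ x ∈ R, f x = x)
    (hd : ∀ x ∈ N, x⁻¹ * f x ∈ R) : ∀ (m : ℕ), ∀ x ∈ N, f^[m] x = x * (x⁻¹ * f x) ^ m := by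
  intro m
  induction m with
  | zero => intro x _; simp
  | succ m ih =>
    intro x hx
    rw [Function.iterate_succ_apply', ih x hx, hf.map_mul hx (pow_mem (hR (hd x hx)) m),
      hfix _ (pow_mem (hd x hx) m), pow_succ', ← mul_assoc, mul_inv_cancel_left]

theorem Mor.iterate (hf : Iso F f P P) (n : ℕ) : Iso F f^[n] P P := iso_pow hf n

namespace WCtx

variable (c : WCtx F E p)
include c

theorem strong : F.StronglyClosed T := c.hinv.2.1

theorem tle : T ≤ S := c.strong.1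

theorem hT : IsPGroup p T := c.hS.to_le c.tle

theorem sub (h : Mor E P f) : Mor F P f := subsystem_mor c.hinv.1 h

theorem subIso (h : Iso E f P Q) : Iso F f P Q := ⟨c.sub h.mor, h.bij⟩

theorem ec_conj (hQ : E.IsCentric Q) (hf : Iso F f Q R) : E.IsCentric R := by
  have hQT : Q ≤ T := hQ.1
  obtain ⟨a, g, ha, hg, e⟩ := invariant_frattini c.hinv hf.mor hQT
  obtain ⟨a', ha', hl, hr⟩ := ha.exists_symm
  have hi : SysIso E E a a' := invariant_sysIso c.hinv ha ha' hl hr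
  have hg' := hg.toIso
  have himg : hi.img hg.img = R := by
    ext y
    rw [hi.mem_img hg'.cod_le]
    constructor
    · rintro ⟨x, hx, rfl⟩
      obtain ⟨w, hw, rfl⟩ := hg'.surj hx
      rw [← e w hw]; exact hf.mapsTo hw
    · intro hy
      obtain ⟨w, hw, rfl⟩ := hf.surj hy
      exact ⟨g w, hg'.mapsTo hw, (e w hw).symm⟩
  rw [← himg]
  refine ⟨hi.img_le _, fun R' hR' x hx => ?_⟩
  have h1 : E.IsConj hg.img (hi.symm.img R') := by
    have := hi.symm.isConj hR'
    rwa [hi.img_img hg'.cod_le] at this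
  have hR'T : R' ≤ T := by
    obtain ⟨u, hu⟩ := isConj_iff.mp hR'
    exact hu.cod_le
  have h2 := hQ.2 _ (isConj_trans hg'.isConj h1)
  have h3 : a' x ∈ hi.symm.img R' :=
    h2 ⟨hi.mem' x hx.1, (hi.symm.mem_centralizer_img hR'T hx.1).mpr hx.2⟩
  exact (hi.symm.mem_img_apply hR'T hx.1).mp h3

/-- A conjugate in `F` of an automorphism in `E` is in `E`. -/
theorem conj_mor (hP : P ≤ T) (ha : Iso F a P R) (hb : Iso F b R P) (hl : ∀ x ∈ P, b (a x) = x)
    (hf : Iso E f P P) : Iso E (a ∘ f ∘ b) R R := by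
  obtain ⟨α, g, hα, hg, e⟩ := invariant_frattini c.hinv ha.mor hP
  obtain ⟨α', hα', hαl, hαr⟩ := hα.exists_symm
  have hi : SysIso E E α α' := invariant_sysIso c.hinv hα hα' hαl hαr
  obtain ⟨g', hg', hgl, -⟩ := hg.toIso.exists_symm
  have hmid : Iso E (g ∘ f ∘ g') hg.img hg.img := (hg'.comp hf).comp hg.toIso
  have hm := hi.iso hmid
  have himg : hi.img hg.img = R := by
    ext y
    rw [hi.mem_img hg.toIso.cod_le]
    constructor
    · rintro ⟨x, hx, rfl⟩
      obtain ⟨w, hw, rfl⟩ := hg.toIso.surj hx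
      rw [← e w hw]; exact ha.mapsTo hw
    · intro hy
      obtain ⟨w, hw, rfl⟩ := ha.surj hy
      exact ⟨g w, hg.toIso.mapsTo hw, (e w hw).symm⟩
  rw [himg] at hm
  refine hm.congr fun y hy => ?_
  obtain ⟨x, hx, rfl⟩ := ha.surj hy
  show α (g (f (g' (α' (a x))))) = a (f (b (a x)))
  rw [hl x hx, e x hx, hαl _ (hg.map_mem hx), hgl x hx, ← e _ (hf.mapsTo hx)]

theorem tn {s : Ω} (hs : s ∈ S) : s ∈ Subgroup.normalizer (T : Set Ω) :=
  stronglyClosed_normalized c.strong hs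

theorem cn {s x : Ω} (hs : s ∈ S) (hx : x ∈ centralizerIn S T) : cj s x ∈ centralizerIn S T := by
  refine ⟨S.mul_mem (S.mul_mem hs hx.1) (S.inv_mem hs), fun t ht => ?_⟩
  have h1 : s⁻¹ * t * s ∈ T := by
    have := (cj_mem_iff (c.tn (S.inv_mem hs)) t).mpr ht
    rwa [cj_apply, inv_inv] at this
  have h : s⁻¹ * t * s * x = x * (s⁻¹ * t * s) := hx.2 _ h1
  show t * (s * x * s⁻¹) = s * x * s⁻¹ * t
  calc t * (s * x * s⁻¹) = s * (s⁻¹ * t * s * x) * s⁻¹ := by group
    _ = s * (x * (s⁻¹ * t * s)) * s⁻¹ := by rw [h]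
    _ = s * x * s⁻¹ * t := by group

theorem sup_le_S (hP : P ≤ T) : P ⊔ centralizerIn S T ≤ S :=
  sup_le (hP.trans c.tle) centralizerIn_le

theorem meet_sup [Finite S] (hP : E.IsCentric P) {y : Ω} (hy : y ∈ P ⊔ centralizerIn S T)
    (hyT : y ∈ T) : y ∈ P := by
  haveI := finite_of_le (centralizerIn_le : centralizerIn S T ≤ S)
  have hn : P ≤ Subgroup.normalizer (centralizerIn S T : Set Ω) := fun q hq =>
    Subgroup.mem_normalizer_fintype fun x hx => c.cn (c.tle (hP.1 hq)) hx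
  have hy' : y ∈ ((P ⊔ centralizerIn S T : Subgroup Ω) : Set Ω) := hy
  rw [Subgroup.coe_mul_of_left_le_normalizer_right _ _ hn] at hy'
  obtain ⟨q, hq, x, hx, rfl⟩ := hy'
  have hxT : x ∈ T := by
    have := T.mul_mem (T.inv_mem (hP.1 hq)) hyT
    rwa [inv_mul_cancel_left] at this
  exact P.mul_mem hq (hP.2 P (isConj_refl hP.1) ⟨hxT, fun v hv => hx.2 v (hP.1 hv)⟩)

theorem zmem (hP : E.IsCentric P) (hf : Iso E f P Q) (hφ : Mor F (P ⊔ centralizerIn S T) φ)
    (e : ∀ x ∈ P, φ x = f x) {x : Ω} (hx : x ∈ centralizerIn S T) (hxT : x⁻¹ * φ x ∈ T) :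
    x⁻¹ * φ x ∈ Q := by
  refine (c.ec_conj hP (c.subIso hf)).2 Q (isConj_refl hf.cod_le) ⟨hxT, fun y hy => ?_⟩
  obtain ⟨v, hv, rfl⟩ := hf.surj hy
  have h1 : f v * x = x * f v := hx.2 _ (hf.cod_le (hf.mapsTo hv))
  have h2 : v * x = x * v := hx.2 v (hP.1 hv)
  have h3 : f v * φ x = φ x * f v := by
    rw [← e v hv, ← hφ.map_mul (Subgroup.mem_sup_left hv) (Subgroup.mem_sup_right hx),
      ← hφ.map_mul (Subgroup.mem_sup_right hx) (Subgroup.mem_sup_left hv), h2]
  have h1' : Commute (f v) x := h1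
  have h3' : Commute (f v) (φ x) := h3
  exact h1'.inv_right.mul_right h3'

theorem x_iso (hP : E.IsCentric P) (hf : Iso E f P Q) (hφ : Mor F (P ⊔ centralizerIn S T) φ)
    (e : ∀ x ∈ P, φ x = f x) (hc : ∀ x ∈ centralizerIn S T, x⁻¹ * φ x ∈ T) :
    Iso F φ (P ⊔ centralizerIn S T) (Q ⊔ centralizerIn S T) := by
  have hQ : ∀ v ∈ P, φ v ∈ Q := fun v hv => by rw [e v hv]; exact hf.mapsTo hv
  have heq : hφ.img = Q ⊔ centralizerIn S T := by
    refine le_antisymm (fun y hy => ?_) (sup_le (fun y hy => ?_) fun x hx => ?_)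
    · obtain ⟨x, hx, rfl⟩ := hφ.mem_img.mp hy
      refine hφ.map_sup (fun v hv => Subgroup.mem_sup_left (hQ v hv)) (fun v hv => ?_) x hx
      have := mul_mem (Subgroup.mem_sup_right (S := Q) hv)
        (Subgroup.mem_sup_left (T := centralizerIn S T) (c.zmem hP hf hφ e hv (hc v hv)))
      rwa [mul_inv_cancel_left] at this
    · obtain ⟨v, hv, rfl⟩ := hf.surj hy
      exact hφ.mem_img.mpr ⟨v, Subgroup.mem_sup_left hv, e v hv⟩
    · obtain ⟨v, hv, hve⟩ := hf.surj (Q.inv_mem (c.zmem hP hf hφ e hx (hc x hx)))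
      refine hφ.mem_img.mpr ⟨x * v, mul_mem (Subgroup.mem_sup_right hx) (Subgroup.mem_sup_left hv), ?_⟩
      rw [hφ.map_mul (Subgroup.mem_sup_right hx) (Subgroup.mem_sup_left hv), e v hv, hve,
        mul_inv_rev, inv_inv, mul_inv_cancel_left]
  exact heq ▸ hφ.toIso

variable [Fact p.Prime] [Finite S]

/-- The generated maps extend over `C_S(T)`, trivially modulo `T`. -/
theorem pgen_X (h : PGen E p P f) : E.IsCentric P → X F T P f := by
  induction h with
  | @aut R f hR hf k hk =>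
    intro _
    haveI := finite_of_le c.tle
    haveI := finite_of_le (c.sup_le_S hR.1)
    obtain ⟨R₂, hR₂, hn⟩ := exists_fullyNormalized (F := F) (hR.1.trans c.tle)
    obtain ⟨u, hu⟩ := isConj_iff.mp hR₂
    obtain ⟨-, a, -, ha, -, -, haR⟩ := exists_map_to_fullyNormalized c.hS c.hF hu hn
    have hle : R ⊔ centralizerIn S T ≤ normalizerIn S R := sup_le (le_normalizerIn (hR.1.trans c.tle))
      fun x hx => ⟨hx.1, Subgroup.centralizer_le_normalizer _ fun v hv => hx.2 v (hR.1 hv)⟩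
    have ha0 := ha.restrict hle
    obtain ⟨k', hk', hkl, -⟩ := ha0.toIso.exists_symm
    set A₀ := ha0.img
    have hR₂A : R₂ ≤ A₀ := fun y hy => by
      obtain ⟨v, hv, rfl⟩ := haR.surj hy
      exact ha0.toIso.mapsTo (Subgroup.mem_sup_left hv)
    have hR₂T : R₂ ≤ T := fun y hy => by
      obtain ⟨v, hv, rfl⟩ := haR.surj hy
      exact stronglyClosed_mem c.strong haR.mor hv (hR.1 hv)
    haveI := finite_of_le hR₂T
    haveI := finite_of_le hR.1
    haveI := finite_mulAut (G := R₂)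
    have hkR : Iso F k' R₂ R := (hk'.mor.restrict hR₂A).iso_of_card (fun y hy => by
      obtain ⟨v, hv, rfl⟩ := haR.surj hy
      rw [hkl v (Subgroup.mem_sup_left hv)]; exact hv) haR.card_eq.le
    have hkl' : ∀ x ∈ R, k' (a x) = x := fun x hx => hkl x (Subgroup.mem_sup_left hx)
    have hR₂c : E.IsCentric R₂ := c.ec_conj hR haR
    have hf₂ := c.conj_mor hR.1 haR hkR hkl' hf
    have hEn := subsystem_fullyNormalized c.hS c.hF c.strong c.hinv.1 hR₂T hn
    obtain ⟨-, hEa, -⟩ := IsSaturated_fullyNormalized c.hT c.hEsat hEn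
    have hp : IsPGroup p (Subgroup.zpowers (hf₂.equiv : MulAut R₂)) := by
      have hit : ∀ (n : ℕ) (y : R₂), ((((hf₂.equiv : MulAut R₂) ^ n) y : R₂) : Ω) =
          (a ∘ f ∘ k')^[n] (y : Ω) := by
        intro n y
        rw [pow_apply_iterate]
        induction n with
        | zero => rfl
        | succ n ih => rw [Function.iterate_succ_apply', Function.iterate_succ_apply', ← ih]; rfl
      have h1 : (hf₂.equiv : MulAut R₂) ^ p ^ k = 1 := MulEquiv.ext fun y => Subtype.ext (by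
        rw [hit]
        obtain ⟨v, hv, hvy⟩ := haR.surj y.2
        rw [← hvy, iterate_conj (fun z hz => hf.mapsTo hz) hkl' _ v hv, hk v hv]
        exact hvy)
      obtain ⟨i, -, hi⟩ := (Nat.dvd_prime_pow (Fact.out : p.Prime)).mp (orderOf_dvd_of_pow_eq_one h1)
      exact IsPGroup.of_card (n := i) (by rw [Nat.card_zpowers, hi])
    obtain ⟨β, hβ, hβK⟩ := exists_conj_into hEa hp (Subgroup.zpowers_le.mpr hf₂.equiv_mem_autGroup)
    obtain ⟨t, ht, htn, et⟩ := mem_autInducedBy.mp (hβK _ (Subgroup.mem_zpowers _))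
    obtain ⟨bf, hbf, eb⟩ := (mem_autGroup_iff hR₂T).mp hβ
    obtain ⟨-, -, hrec⟩ := IsSaturated_fullyNormalized c.hS c.hF hn
    obtain ⟨e, he, ee⟩ := (receptive_iff.mp hrec).2 R₂ bf (c.subIso hbf)
    set M := R₂ ⊔ centralizerIn S R₂
    have hMS : M ≤ S := sup_le (hR₂T.trans c.tle) centralizerIn_le
    haveI := finite_of_le hMS
    have heM : Mor F M e := he.restrict (sup_le (c.subIso hbf).mor.le_nphi centralizerIn_le_nphi)
    have heC : ∀ x ∈ centralizerIn S R₂, e x ∈ centralizerIn S R₂ := fun x hx =>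
      (c.subIso hbf).map_centralizer heM le_sup_left ee (Subgroup.mem_sup_right hx) hx
    have heR : ∀ x ∈ R₂, e x ∈ R₂ := fun x hx => by rw [ee x hx]; exact hbf.mapsTo hx
    have hei : Iso F e M M := heM.iso_of_card (fun x hx => heM.map_sup
      (fun y hy => Subgroup.mem_sup_left (heR y hy))
      (fun y hy => Subgroup.mem_sup_right (heC y hy)) x hx) le_rfl
    obtain ⟨e', he', hel, her⟩ := hei.exists_symm
    have hu' : ∀ x ∈ R₂, e' x ∈ R₂ := fun x hx => by
      obtain ⟨v, hv, rfl⟩ := hbf.surj hx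
      rw [← ee v hv, hel v (Subgroup.mem_sup_left hv)]; exact hv
    have htC : ∀ x ∈ centralizerIn S R₂, cj t x ∈ centralizerIn S R₂ := fun x hx => by
      refine ⟨S.mul_mem (S.mul_mem (c.tle ht) hx.1) (S.inv_mem (c.tle ht)), fun v hv => ?_⟩
      have hv' : t⁻¹ * v * t ∈ R₂ := by
        have := (cj_mem_iff (inv_mem htn) v).mpr hv
        rwa [cj_apply, inv_inv] at this
      have h : t⁻¹ * v * t * x = x * (t⁻¹ * v * t) := hx.2 _ hv'
      show v * (t * x * t⁻¹) = t * x * t⁻¹ * v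
      calc v * (t * x * t⁻¹) = t * (t⁻¹ * v * t * x) * t⁻¹ := by group
        _ = t * (x * (t⁻¹ * v * t)) * t⁻¹ := by rw [h]
        _ = t * x * t⁻¹ * v := by group
    have htM : ∀ x ∈ M, cj t x ∈ M := fun x hx =>
      (Mor.conj (F := F) hMS (c.tle ht)).map_sup
        (fun y hy => Subgroup.mem_sup_left ((cj_mem_iff htn y).mpr hy))
        (fun y hy => Subgroup.mem_sup_right (htC y hy)) x hx
    set G := e' ∘ cj t ∘ e with hG
    have hGm : Mor F M G := ((hei.mor.comp (Mor.conj hMS (c.tle ht)) fun x hx => hei.mapsTo hx).comp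
      he'.mor fun x hx => htM _ (hei.mapsTo hx))
    have hGR : ∀ x ∈ R₂, G x = (a ∘ f ∘ k') x := fun x hx => by
      have h := et (β ⟨x, hx⟩)
      rw [MulAut.mul_apply, MulAut.mul_apply, MulAut.inv_apply_self, ← eb, ← eb] at h
      show e' (cj t (e x)) = _
      rw [ee x hx, cj_apply]
      refine Eq.trans (congrArg e' (Eq.trans h.symm (ee _ (hf₂.mapsTo hx)).symm)) ?_
      exact hel _ (Subgroup.mem_sup_left (hf₂.mapsTo hx))
    have hGC : ∀ x ∈ centralizerIn S R₂, x⁻¹ * G x ∈ R₂ := fun x hx => by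
      have hw := heC x hx
      have hu : (e x)⁻¹ * cj t (e x) ∈ R₂ := by
        refine hR₂c.2 R₂ (isConj_refl hR₂T) ⟨?_, (Subgroup.centralizer (R₂ : Set Ω)).mul_mem ((Subgroup.centralizer (R₂ : Set Ω)).inv_mem hw.2) (htC _ hw).2⟩
        have h1 := (cj_mem_iff (c.tn (S.inv_mem hw.1)) t).mpr ht
        rw [cj_apply, inv_inv] at h1
        rw [cj_apply, ← mul_assoc, ← mul_assoc]
        exact T.mul_mem h1 (T.inv_mem ht)
      have h : G x = x * e' ((e x)⁻¹ * cj t (e x)) := by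
        show e' (cj t (e x)) = _
        rw [he'.mor.map_mul (inv_mem (hei.mapsTo (Subgroup.mem_sup_right hx)))
          (htM _ (hei.mapsTo (Subgroup.mem_sup_right hx))),
          he'.mor.map_inv (hei.mapsTo (Subgroup.mem_sup_right hx)),
          hel x (Subgroup.mem_sup_right hx), mul_inv_cancel_left]
      rw [h, inv_mul_cancel_left]
      exact hu' _ hu
    have haC : ∀ x ∈ centralizerIn S T, a x ∈ centralizerIn S R₂ := fun x hx =>
      haR.map_centralizer ha0 le_sup_left (fun _ _ => rfl) (Subgroup.mem_sup_right hx)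
        ⟨hx.1, fun v hv => hx.2 v (hR.1 hv)⟩
    have hA₀M : ∀ y ∈ A₀, y ∈ M := fun y hy => by
      obtain ⟨x, hx, rfl⟩ := ha0.toIso.surj hy
      exact ha0.map_sup (fun v hv => Subgroup.mem_sup_left (haR.mapsTo hv))
        (fun v hv => Subgroup.mem_sup_right (haC v hv)) x hx
    have hGA : ∀ y ∈ A₀, G y ∈ A₀ := fun y hy => by
      obtain ⟨x, hx, rfl⟩ := ha0.toIso.surj hy
      refine (ha0.comp hGm fun z hz => hA₀M _ (ha0.toIso.mapsTo hz)).map_sup (fun v hv => ?_)
        (fun v hv => ?_) x hx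
      · show G (a v) ∈ A₀
        rw [hGR _ (haR.mapsTo hv)]
        exact hR₂A (hf₂.mapsTo (haR.mapsTo hv))
      · show G (a v) ∈ A₀
        have := A₀.mul_mem (ha0.toIso.mapsTo (Subgroup.mem_sup_right hv)) (hR₂A (hGC _ (haC v hv)))
        rwa [mul_inv_cancel_left] at this
    refine ⟨k' ∘ G ∘ a, (ha0.comp hGm fun z hz => hA₀M _ (ha0.toIso.mapsTo hz)).comp hk'.mor
      fun z hz => hGA _ (ha0.toIso.mapsTo hz), fun x hx => ?_, fun x hx => ?_⟩
    · show k' (G (a x)) = f x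
      rw [hGR _ (haR.mapsTo hx)]
      show k' (a (f (k' (a x)))) = f x
      rw [hkl' x hx, hkl' _ (hf.mapsTo hx)]
    · show x⁻¹ * k' (G (a x)) ∈ T
      have hz := hGC _ (haC x hx)
      have hax := ha0.toIso.mapsTo (Subgroup.mem_sup_right (S := R) hx)
      have : k' (G (a x)) = x * k' ((a x)⁻¹ * G (a x)) := by
        rw [hk'.mor.map_mul (inv_mem hax) (hGA _ hax), hk'.mor.map_inv hax,
          hkl x (Subgroup.mem_sup_right hx), mul_inv_cancel_left]
      rw [this, inv_mul_cancel_left]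
      exact hR.1 (hkR.mapsTo hz)
  | @conj P s hP hs =>
    intro _
    refine ⟨cj s, Mor.conj (c.sup_le_S hP) (c.tle hs), fun _ _ => rfl, fun x hx => ?_⟩
    have : cj s x = x := by
      rw [cj_apply, hx.2 s hs, mul_inv_cancel_right]
    rw [this, inv_mul_cancel]
    exact one_mem _
  | congr h e ih =>
    intro hP
    obtain ⟨φ, hφ, e', hc⟩ := ih hP
    exact ⟨φ, hφ, fun x hx => (e' x hx).trans (e x hx), hc⟩
  | @comp P Q f g h h' m ih ih' =>
    intro hP
    obtain ⟨φ, hφ, e, hc⟩ := ih hP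
    have hfi := h.mor.toIso
    have hle : h.mor.img ≤ Q := fun y hy => by
      obtain ⟨x, hx, rfl⟩ := hfi.surj hy; exact m x hx
    obtain ⟨ψ, hψ, e', hc'⟩ := ih' (isCentric_mono (c.ec_conj hP (c.subIso hfi)) hle h'.mor.dom_le)
    have hz : ∀ x ∈ centralizerIn S T, x⁻¹ * φ x ∈ Q := fun x hx =>
      hle (c.zmem hP hfi hφ e hx (hc x hx))
    have hm : ∀ x ∈ P ⊔ centralizerIn S T, φ x ∈ Q ⊔ centralizerIn S T := hφ.map_sup
      (fun v hv => Subgroup.mem_sup_left (by rw [e v hv]; exact m v hv))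
      (fun v hv => by
        have := mul_mem (Subgroup.mem_sup_right (S := Q) hv)
          (Subgroup.mem_sup_left (T := centralizerIn S T) (hz v hv))
        rwa [mul_inv_cancel_left] at this)
    refine ⟨ψ ∘ φ, hφ.comp hψ hm, fun x hx => ?_, fun x hx => ?_⟩
    · show ψ (φ x) = g (f x)
      rw [e x hx, e' _ (m x hx)]
    · show x⁻¹ * ψ (φ x) ∈ T
      have : ψ (φ x) = ψ x * ψ (x⁻¹ * φ x) := by
        rw [← hψ.map_mul (Subgroup.mem_sup_right hx) (Subgroup.mem_sup_left (hz x hx)),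
          mul_inv_cancel_left]
      rw [this, ← mul_assoc, e' _ (hz x hx)]
      exact T.mul_mem (hc' x hx) (h'.mor.map_mem (hz x hx))
  | @inv P Q f g h hf hg e ih =>
    intro hQ
    have hP := c.ec_conj hQ (c.subIso hg)
    obtain ⟨φ, hφ, e', hc⟩ := ih hP
    have hi := c.x_iso hP hf hφ e' hc
    obtain ⟨k, hk, hkl, -⟩ := hi.exists_symm
    refine ⟨k, hk.mor, fun y hy => ?_, fun x hx => ?_⟩
    · obtain ⟨v, hv, rfl⟩ := hf.surj hy
      rw [← e' v hv, hkl v (Subgroup.mem_sup_left hv), e' v hv, e v hv]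
    · have hxP : x ∈ P ⊔ centralizerIn S T := Subgroup.mem_sup_right hx
      have hxQ : x ∈ Q ⊔ centralizerIn S T := Subgroup.mem_sup_right hx
      have hz := c.zmem hP hf hφ e' hx (hc x hx)
      have h1 : k x * k (x⁻¹ * φ x) = x := by
        rw [← hk.mor.map_mul hxQ (Subgroup.mem_sup_left hz), mul_inv_cancel_left, hkl x hxP]
      obtain ⟨v, hv, hve⟩ := hf.surj hz
      rw [← hve, ← e' v hv, hkl v (Subgroup.mem_sup_left hv)] at h1
      rw [eq_mul_inv_of_mul_eq h1, ← mul_assoc, inv_mul_cancel, one_mul]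
      exact T.inv_mem (hP.1 hv)

/-- A map fixing an `E`-centric subgroup has a `p`-power which agrees modulo `T` with one fixing `T`. -/
theorem step_all : ∀ P, E.IsCentric P → ∀ ω,
    Iso F ω (P ⊔ centralizerIn S T) (P ⊔ centralizerIn S T) → (∀ x ∈ P, ω x = x) →
    ∃ i γ, Iso F γ (T ⊔ centralizerIn S T) (T ⊔ centralizerIn S T) ∧ (∀ x ∈ T, γ x = x) ∧
      ∀ x ∈ centralizerIn S T, γ x = ω^[p ^ i] x := by
  haveI := finite_of_le c.tle
  intro P
  induction hd : Nat.card T - Nat.card P using Nat.strong_induction_on generalizing P with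
  | _ n IH =>
  intro hP ω hω hfix
  set C := centralizerIn S T with hC
  rcases hP.1.eq_or_lt with rfl | hlt
  · exact ⟨0, ω, hω, hfix, fun x _ => by rw [pow_zero, Function.iterate_one]⟩
  haveI := finite_of_le hP.1
  set N := normalizerIn T P with hN
  have hNT : N ≤ T := normalizerIn_le
  haveI := finite_of_le hNT
  have hPN : P < N := lt_normalizerIn c.hT hlt
  have hM₀S : P ⊔ C ≤ S := c.sup_le_S hP.1
  haveI := finite_of_le hM₀S
  have hA1S : N ⊔ C ≤ S := c.sup_le_S hNT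
  haveI := finite_of_le hA1S
  obtain ⟨M, hM, hn⟩ := exists_fullyNormalized (F := F) hM₀S
  obtain ⟨u, hu⟩ := isConj_iff.mp hM
  obtain ⟨-, a, -, ha, -, ham, haM⟩ := exists_map_to_fullyNormalized c.hS c.hF hu hn
  have hA1 : N ⊔ C ≤ normalizerIn S (P ⊔ C) := by
    refine sup_le (fun y hy => ⟨c.tle hy.1, Subgroup.mem_normalizer_fintype fun v hv => ?_⟩)
      fun x hx => le_normalizerIn hM₀S (Subgroup.mem_sup_right hx)
    exact (Mor.conj (F := F) hM₀S (c.tle hy.1)).map_sup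
      (fun w hw => Subgroup.mem_sup_left ((cj_mem_iff hy.2 w).mpr hw))
      (fun w hw => Subgroup.mem_sup_right (c.cn (c.tle hy.1) hw)) v hv
  have ha1 := ha.restrict hA1
  obtain ⟨k, hk, hkl, -⟩ := ha1.toIso.exists_symm
  set A := ha1.img with hA
  have hPC : P ⊔ C ≤ N ⊔ C := sup_le_sup_right hPN.le C
  have hMA : M ≤ A := fun y hy => by
    obtain ⟨x, hx, rfl⟩ := haM.surj hy
    exact ha1.toIso.mapsTo (hPC hx)
  haveI := finite_of_le haM.cod_le
  haveI := finite_mulAut (G := M)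
  have hkM : Iso F k M (P ⊔ C) := (hk.mor.restrict hMA).iso_of_card (fun y hy => by
    obtain ⟨x, hx, rfl⟩ := haM.surj hy
    rw [hkl x (hPC hx)]; exact hx) haM.card_eq.le
  set R := (ha1.restrict (le_sup_left.trans hPC : P ≤ N ⊔ C)).img with hRdef
  have haP : Iso F a P R := (ha1.restrict (le_sup_left.trans hPC)).toIso
  have hRc : E.IsCentric R := c.ec_conj hP haP
  have hRM : R ≤ M := fun y hy => by
    obtain ⟨x, hx, rfl⟩ := haP.surj hy
    exact haM.mapsTo (Subgroup.mem_sup_left hx)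
  have hmeet : ∀ y ∈ M, y ∈ T → y ∈ R := fun y hy hyT => by
    obtain ⟨x, hx, hxy⟩ := haM.surj hy
    have : k y ∈ T := stronglyClosed_mem c.strong hkM.mor hy hyT
    rw [← hxy, hkl x (hPC hx)] at this
    exact hxy ▸ haP.mapsTo (c.meet_sup hP hx this)
  set ω₁ := a ∘ ω ∘ k with hω₁
  have hω₁i : Iso F ω₁ M M := (hkM.comp hω).comp haM
  have hω₁R : ∀ y ∈ R, ω₁ y = y := fun y hy => by
    obtain ⟨x, hx, rfl⟩ := haP.surj hy
    show a (ω (k (a x))) = a x
    rw [hkl x (hPC (Subgroup.mem_sup_left hx)), hfix x hx]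
  set α : MulAut M := hω₁i.equiv with hα
  have hαR : ∀ z : M, (z : Ω) ∈ R → α z = z := fun z hz => Subtype.ext (hω₁R z hz)
  have hαR' : ∀ z : M, (z : Ω) ∈ R → α⁻¹ z = z := fun z hz => by
    conv_lhs => rw [← hαR z hz]
    exact MulAut.inv_apply_self M α z
  let D : ℕ → Subgroup M := fun j => match j with
    | 0 => ⊥
    | 1 => R.subgroupOf M
    | _ + 2 => ⊤
  have hinv : ∀ β ∈ F.autGroup M, ∀ j ≤ 2, ∀ z ∈ D j, β z ∈ D j := by
    intro β hβ j hj z hz
    match j with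
    | 0 => rw [Subgroup.mem_bot.mp hz, map_one]; exact one_mem _
    | 1 =>
      obtain ⟨f, hf, ef⟩ := (mem_autGroup_iff haM.cod_le).mp hβ
      show ((β z : M) : Ω) ∈ R
      rw [← ef]
      exact hmeet _ (hf.mapsTo z.2) (stronglyClosed_mem c.strong hf.mor z.2 (hRc.1 hz))
    | _ + 2 => exact Subgroup.mem_top _
  have hmono : ∀ j < 2, D j ≤ D (j + 1) := by
    intro j hj
    match j with
    | 0 => exact bot_le
    | _ + 1 => exact le_top
  set K := seriesStab (F.autGroup M) D 2 hinv with hK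
  have hKp : IsPGroup p K := by
    intro β
    obtain ⟨i, hi⟩ := stabilizes_pow_eq_one (c.hS.to_le haM.cod_le)
      ((β : F.autGroup M) : MulAut M) D 2 rfl rfl hmono β.2
    exact ⟨i, Subtype.ext (Subtype.ext hi)⟩
  obtain ⟨-, hfa, hrec⟩ := IsSaturated_fullyNormalized c.hS c.hF hn
  have hKS : ∀ β : F.autGroup M, β ∈ K → (β : MulAut M) ∈ autInducedBy S M := fun β hβ => by
    obtain ⟨b, hb, hbK⟩ := exists_conj_into hfa (K := K.map (F.autGroup M).subtype) (hKp.map _)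
      (Subgroup.map_subtype_le _)
    have hb' := (seriesStab_normal (F.autGroup M) D 2 hinv).conj_mem β hβ ⟨b, hb⟩⁻¹
    have := hbK _ ⟨_, hb', rfl⟩
    convert this using 1
    simp [mul_assoc]
  -- the transports of `N` and of `C` satisfy the extension condition
  let Y : Subgroup Ω := (((autInducedBy S M).comap (MulAut.conj α).toMonoidHom).comap
      (actHom S M)).map (S ⊓ Subgroup.normalizer (M : Set Ω)).subtype
  have hY : ∀ z ∈ Y, ∃ hz : z ∈ normalizerIn S M,
      α * actHom S M ⟨z, hz⟩ * α⁻¹ ∈ autInducedBy S M := by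
    rintro z ⟨⟨w, hw⟩, h, rfl⟩
    exact ⟨hw, h⟩
  have hMY : ∀ z ∈ M, z ∈ Y := fun z hz => by
    refine ⟨⟨z, haM.cod_le hz, Subgroup.le_normalizer hz⟩, ?_, rfl⟩
    have h1 : (⟨_, autInducedBy_le_autGroup haM.cod_le ((range_actHom S M).le
        ⟨⟨z, haM.cod_le hz, Subgroup.le_normalizer hz⟩, rfl⟩)⟩ : F.autGroup M) ∈
        (Inn M).subgroupOf (F.autGroup M) := by
      show _ ∈ Inn M
      rw [inn_eq_autInducedBy, mem_autInducedBy]
      exact ⟨z, hz, Subgroup.le_normalizer hz, fun _ => rfl⟩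
    exact inn_le_autInducedBy haM.cod_le
      ((inn_normal_autGroup F M).conj_mem _ h1 ⟨α, hω₁i.equiv_mem_autGroup⟩)
  have hNY : ∀ y ∈ N, a y ∈ Y := fun y hy => by
    have hxN : a y ∈ normalizerIn S M := ham y (hA1 (Subgroup.mem_sup_left hy))
    have hxT : a y ∈ T := stronglyClosed_mem c.strong ha1 (Subgroup.mem_sup_left hy) hy.1
    refine ⟨⟨a y, hxN⟩, ?_, rfl⟩
    set cx := actHom S M ⟨a y, hxN⟩ with hcx
    have hcxF : cx ∈ F.autGroup M := autInducedBy_le_autGroup haM.cod_le ((range_actHom S M).le ⟨_, rfl⟩)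
    have hmod : ∀ z ∈ M, ∀ s ∈ T, s ∈ Subgroup.normalizer (M : Set Ω) → z⁻¹ * cj s z ∈ R := by
      intro z hz s hs hsn
      refine hmeet _ (M.mul_mem (M.inv_mem hz) ((cj_mem_iff hsn z).mpr hz)) ?_
      have h1 := (cj_mem_iff (c.tn (S.inv_mem (haM.cod_le hz))) s).mpr hs
      rw [cj_apply, inv_inv] at h1
      rw [cj_apply, ← mul_assoc, ← mul_assoc]
      exact T.mul_mem h1 (T.inv_mem hs)
    have hk1 : (⟨α * cx * α⁻¹ * cx⁻¹, mul_mem (mul_mem (mul_mem hω₁i.equiv_mem_autGroup hcxF)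
        (inv_mem hω₁i.equiv_mem_autGroup)) (inv_mem hcxF)⟩ : F.autGroup M) ∈ K := by
      intro j hj z hz
      have hcinv : ((cx⁻¹ z : M) : Ω) = cj (a y)⁻¹ (z : Ω) := by
        rw [hcx, ← map_inv]; rfl
      obtain rfl | rfl : j = 0 ∨ j = 1 := by omega
      · rw [Subgroup.mem_bot]
        show z⁻¹ * α (cx (α⁻¹ (cx⁻¹ z))) = 1
        rw [hαR' _ (hinv _ (inv_mem hcxF) 1 (by omega) z hz), MulAut.apply_inv_self,
          hαR z hz, inv_mul_cancel]
      · show (((z⁻¹ * α (cx (α⁻¹ (cx⁻¹ z)))) : M) : Ω) ∈ R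
        have r1 : ((z⁻¹ * cx⁻¹ z : M) : Ω) ∈ R := by
          show (z : Ω)⁻¹ * ((cx⁻¹ z : M) : Ω) ∈ R
          rw [hcinv]
          exact hmod z z.2 _ (T.inv_mem hxT) (inv_mem hxN.2)
        set r : M := z⁻¹ * cx⁻¹ z with hr
        set w := α⁻¹ z with hw
        have r2 : ((w⁻¹ * cx w : M) : Ω) ∈ R := hmod w w.2 _ hxT hxN.2
        have r3 : ((cx r : M) : Ω) ∈ R := hinv _ hcxF 1 (by omega) r r1
        have e : α (cx (α⁻¹ (cx⁻¹ z))) = z * ((w⁻¹ * cx w) * cx r) := by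
          have e1 : cx⁻¹ z = z * r := by rw [hr, mul_inv_cancel_left]
          have e2 : cx (α⁻¹ (cx⁻¹ z)) = w * ((w⁻¹ * cx w) * cx r) := by
            rw [e1, map_mul, hαR' r r1, map_mul, ← hw, ← mul_assoc, mul_inv_cancel_left]
          rw [e2, map_mul, hαR _ (show ((((w⁻¹ * cx w) * cx r) : M) : Ω) ∈ R from R.mul_mem r2 r3), hw,
            MulAut.apply_inv_self]
        rw [e, inv_mul_cancel_left]
        exact R.mul_mem r2 r3
    have := mul_mem (hKS _ hk1) ((range_actHom S M).le ⟨⟨a y, hxN⟩, rfl⟩)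
    show α * cx * α⁻¹ ∈ autInducedBy S M
    rwa [inv_mul_cancel_right] at this
  have hAY : A ≤ Y := fun y hy => by
    obtain ⟨x, hx, rfl⟩ := ha1.toIso.surj hy
    exact ha1.map_sup hNY (fun v hv => hMY _ (haM.mapsTo (Subgroup.mem_sup_right hv))) x hx
  obtain ⟨e, he, ee⟩ := ext_of_conj (X := A) hrec hω₁i.equiv_mem_autGroup
    fun z hz => Or.inr (hY z (hAY hz))
  have heM : ∀ x ∈ P ⊔ C, e (a x) = a (ω x) := fun x hx => by
    rw [ee ⟨a x, haM.mapsTo hx⟩ (hMA (haM.mapsTo hx))]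
    show a (ω (k (a x))) = a (ω x)
    rw [hkl x (hPC hx)]
  have hea : ∀ x ∈ N ⊔ C, e (a x) ∈ A := (ha1.comp he fun x hx => ha1.toIso.mapsTo hx).map_sup
    (fun y hy => by
      have hyA : a y ∈ A := ha1.toIso.mapsTo (Subgroup.mem_sup_left hy)
      have hyT : a y ∈ T := stronglyClosed_mem c.strong ha1 (Subgroup.mem_sup_left hy) hy.1
      have hy' : a y ∈ Subgroup.normalizer (R : Set Ω) :=
        (haP.map_normalizer ha1 (le_sup_left.trans hPC) (fun _ _ => rfl) (Subgroup.mem_sup_left hy) hy.2).2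
      have hd : (a y)⁻¹ * e (a y) ∈ R := by
        refine hRc.2 R (isConj_refl hRc.1) ⟨T.mul_mem (T.inv_mem hyT)
          (stronglyClosed_mem c.strong he hyA hyT), fun v hv => ?_⟩
        have hev : ∀ w ∈ R, e w = w := fun w hw => by
          rw [ee ⟨w, hRM hw⟩ (hMA (hRM hw))]; exact hω₁R w hw
        have h1 : a y * v * (a y)⁻¹ = e (a y) * v * (e (a y))⁻¹ := by
          have := hev _ ((cj_mem_iff hy' v).mpr hv)
          rw [cj_apply, ← cj_apply, cj_apply, he.map_conj hyA (hMA (hRM hv)), hev v hv] at this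
          exact this.symm
        have h2 := congrArg (fun t => (a y)⁻¹ * t * e (a y)) h1
        simp only [mul_assoc, inv_mul_cancel, mul_one, inv_mul_cancel_left] at h2
        simpa [mul_assoc] using h2
      have := A.mul_mem hyA (hMA (hRM hd))
      rw [mul_inv_cancel_left] at this
      exact this)
    (fun v hv => by
      show e (a v) ∈ A
      rw [heM v (Subgroup.mem_sup_right hv)]
      exact hMA (haM.mapsTo (hω.mapsTo (Subgroup.mem_sup_right hv))))
  set η := k ∘ e ∘ a with hη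
  have hηm : Mor F (N ⊔ C) η :=
    (ha1.comp he fun x hx => ha1.toIso.mapsTo hx).comp hk.mor hea
  have hηi : Iso F η (N ⊔ C) (N ⊔ C) :=
    hηm.iso_of_card (fun x hx => hk.mapsTo (hea x hx)) le_rfl
  have hηω : ∀ x ∈ P ⊔ C, η x = ω x := fun x hx => by
    show k (e (a x)) = ω x
    rw [heM x hx, hkl _ (hPC (hω.mapsTo hx))]
  have hηP : ∀ x ∈ P, η x = x := fun x hx => by rw [hηω x (Subgroup.mem_sup_left hx), hfix x hx]
  have hηd : ∀ y ∈ N, y⁻¹ * η y ∈ P := fun y hy => by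
    have hyT := stronglyClosed_mem c.strong hηm (Subgroup.mem_sup_left hy) hy.1
    refine hP.2 P (isConj_refl hP.1) ⟨T.mul_mem (T.inv_mem hy.1) hyT, fun v hv => ?_⟩
    have h1 : y * v * y⁻¹ = η y * v * (η y)⁻¹ := by
      have := hηP _ ((cj_mem_iff hy.2 v).mpr hv)
      rw [cj_apply, hηm.map_conj (Subgroup.mem_sup_left hy) (hPC (Subgroup.mem_sup_left hv)), hηP v hv] at this
      exact this.symm
    have h2 := congrArg (fun t => y⁻¹ * t * η y) h1
    simp only [mul_assoc, inv_mul_cancel, mul_one, inv_mul_cancel_left] at h2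
    simpa [mul_assoc] using h2
  obtain ⟨j, hj⟩ := IsPGroup.iff_card.mp (c.hT.to_le hP.1)
  have hfixN : ∀ y ∈ N, η^[p ^ j] y = y := fun y hy => by
    rw [iterate_fix (hηm.restrict le_sup_left) hPN.le hηP hηd _ y hy, ← hj]
    have h : (⟨y⁻¹ * η y, hηd y hy⟩ : P) ^ Nat.card P = 1 := pow_card_eq_one'
    rw [show (y⁻¹ * η y) ^ Nat.card P = 1 from congrArg Subtype.val h, mul_one]
  have hωj : ∀ (m : ℕ), ∀ x ∈ P ⊔ C, η^[m] x = ω^[m] x := by
    intro m
    induction m with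
    | zero => intro x _; rfl
    | succ m ih =>
      intro x hx
      rw [Function.iterate_succ_apply', Function.iterate_succ_apply', ih x hx,
        hηω _ ((iso_pow hω m).mapsTo hx)]
  obtain ⟨i, γ, hγ, hγT, hγc⟩ := IH _ (by
      have h1 := card_lt_of_lt hPN
      have h2 := card_le_of_le hNT
      omega) N rfl (isCentric_mono hP hPN.le hNT) η^[p ^ j] (iso_pow hηi _) hfixN
  refine ⟨j + i, γ, hγ, hγT, fun x hx => ?_⟩
  rw [hγc x hx, ← Function.iterate_mul, ← pow_add, hωj _ x (Subgroup.mem_sup_right hx)]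

theorem hf_comp (h1 : HF F E a) (h2 : HF F E b) : HF F E (b ∘ a) := by
  obtain ⟨ha, β, hβ, e, hc⟩ := h1
  obtain ⟨hb, δ, hδ, e', hc'⟩ := h2
  refine ⟨ha.comp hb, δ ∘ β, hβ.comp hδ, fun x hx => ?_, fun x hx => ?_⟩
  · show δ (β x) = b (a x)
    rw [e x hx, e' _ (ha.mapsTo hx)]
  · have h : δ (β x) = δ x * δ (x⁻¹ * β x) := by
      rw [← hδ.mor.map_mul (Subgroup.mem_sup_right hx) (Subgroup.mem_sup_left (hc x hx)),
        mul_inv_cancel_left]
    show x⁻¹ * δ (β x) ∈ T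
    rw [h, ← mul_assoc, e' _ (hc x hx)]
    exact T.mul_mem (hc' x hx) (hb.mapsTo (hc x hx))

theorem hf_id : HF F E id := by
  refine ⟨Iso.refl le_rfl, id, Iso.refl (c.sup_le_S le_rfl), fun _ _ => rfl, fun x _ => ?_⟩
  show x⁻¹ * x ∈ T
  rw [inv_mul_cancel]; exact one_mem _

theorem hf_symm (h : HF F E a) (ha' : Iso E a' T T) (hl : ∀ x ∈ T, a' (a x) = x) : HF F E a' := by
  obtain ⟨ha, β, hβ, e, hc⟩ := h
  obtain ⟨k, hk, hkl, -⟩ := hβ.exists_symm
  refine ⟨ha', k, hk, fun y hy => ?_, fun x hx => ?_⟩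
  · obtain ⟨v, hv, rfl⟩ := ha.surj hy
    rw [← e v hv, hkl v (Subgroup.mem_sup_left hv), e v hv, hl v hv]
  · have hxs : x ∈ T ⊔ centralizerIn S T := Subgroup.mem_sup_right hx
    obtain ⟨v, hv, hve⟩ := ha.surj (hc x hx)
    have h1 : k x * v = x := by
      conv_lhs => rw [← hkl v (Subgroup.mem_sup_left hv), e v hv, hve,
        ← hk.mor.map_mul hxs (Subgroup.mem_sup_left (hc x hx)), mul_inv_cancel_left, hkl x hxs]
    rw [eq_mul_inv_of_mul_eq h1, ← mul_assoc, inv_mul_cancel, one_mul]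
    exact T.inv_mem hv

theorem hf_congr (h : HF F E a) (e : ∀ x ∈ T, a x = b x) : HF F E b := by
  obtain ⟨ha, β, hβ, e', hc⟩ := h
  exact ⟨ha.congr e, β, hβ, fun x hx => (e' x hx).trans (e x hx), hc⟩

/-- The extendable automorphisms as a subgroup. -/
def hsub (c : WCtx F E p) : Subgroup (MulAut T) where
  carrier := {α | HF F E (extFun (T.subtype.comp α.toMonoidHom))}
  one_mem' := c.hf_congr c.hf_id fun x hx => (extFun_apply (T.subtype.comp (MulEquiv.toMonoidHom (1 : MulAut T))) hx).symm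
  mul_mem' := fun {α β} ha hb => c.hf_congr (c.hf_comp hb ha) fun x hx => by
    show extFun _ (extFun _ x) = _
    rw [extFun_apply _ hx, extFun_apply (T.subtype.comp (MulEquiv.toMonoidHom (α * β))) hx]
    exact extFun_coe _ _
  inv_mem' := fun {α} ha => by
    have hα : α ∈ E.autGroup T := (mem_autGroup_iff le_rfl).mpr ⟨_, ha.1, fun x => extFun_coe _ x⟩
    refine c.hf_symm ha (autGroup_iso le_rfl (inv_mem hα)) fun x hx => ?_
    rw [extFun_apply _ hx]
    exact (extFun_coe _ _).trans (congrArg Subtype.val (MulAut.inv_apply_self T α ⟨x, hx⟩))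

theorem hsub_pElement {α : MulAut T} (hα : α ∈ E.autGroup T) (hp : IsPGroup p (Subgroup.zpowers α)) :
    α ∈ c.hsub := by
  haveI := finite_of_le c.tle
  haveI := finite_mulAut (G := T)
  have hn : E.IsFullyNormalized T := ⟨le_rfl, fun Q hQ => by
    rw [normalizerIn_self]; exact card_le_of_le normalizerIn_le⟩
  obtain ⟨-, hfa, -⟩ := IsSaturated_fullyNormalized c.hT c.hEsat hn
  obtain ⟨b, hb, hbK⟩ := exists_conj_into hfa hp (Subgroup.zpowers_le.mpr hα)
  have h1 := hbK α (Subgroup.mem_zpowers α)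
  rw [← inn_eq_autInducedBy] at h1
  have h2 : α ∈ Inn T := by
    have := (inn_normal_autGroup E T).conj_mem (⟨b, hb⟩ * ⟨α, hα⟩ * ⟨b, hb⟩⁻¹ : E.autGroup T) h1 ⟨b, hb⟩⁻¹
    simpa [mul_assoc] using (show _ ∈ Inn T from this)
  rw [inn_eq_autInducedBy, mem_autInducedBy] at h2
  obtain ⟨t, ht, -, et⟩ := h2
  refine ⟨autGroup_iso le_rfl hα, cj t, Iso.conj_self (c.sup_le_S le_rfl) (c.tle ht)
    (Subgroup.le_normalizer (Subgroup.mem_sup_left ht)),
    fun x hx => by rw [extFun_apply _ hx]; exact (et ⟨x, hx⟩).symm, fun x hx => ?_⟩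
  rw [cj_apply, hx.2 t ht, mul_inv_cancel_right, inv_mul_cancel]
  exact one_mem _

/-- An automorphism of `T` whose restriction to a centric subgroup extends is itself extendable. -/
theorem key (ha : Iso E a T T) (hP : E.IsCentric P) (hX : X F T P a) : HF F E a := by
  haveI := finite_of_le c.tle
  haveI := finite_mulAut (G := T)
  obtain ⟨φ, hφ, eφ, hφc⟩ := hX
  set C := centralizerIn S T with hC
  have hTn : F.IsFullyNormalized T := by
    refine ⟨c.tle, fun Q _ => ?_⟩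
    have h1 : normalizerIn S T = S := le_antisymm normalizerIn_le fun s hs => ⟨hs, c.tn hs⟩
    rw [h1]
    exact card_le_of_le normalizerIn_le
  obtain ⟨-, -, hrec⟩ := IsSaturated_fullyNormalized c.hS c.hF hTn
  have haF := c.subIso ha
  obtain ⟨β, hβ, eβ⟩ := (receptive_iff.mp hrec).2 T a haF
  have hTS := c.sup_le_S (le_refl T)
  haveI := finite_of_le hTS
  have hβm : Mor F (T ⊔ C) β := hβ.restrict (sup_le haF.mor.le_nphi centralizerIn_le_nphi)
  have hβC : ∀ x ∈ C, β x ∈ C := fun x hx =>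
    haF.map_centralizer hβm le_sup_left eβ (Subgroup.mem_sup_right hx) hx
  have hβi : Iso F β (T ⊔ C) (T ⊔ C) := hβm.iso_of_card (fun x hx => hβm.map_sup
    (fun y hy => Subgroup.mem_sup_left (by rw [eβ y hy]; exact ha.mapsTo hy))
    (fun y hy => Subgroup.mem_sup_right (hβC y hy)) x hx) le_rfl
  have hQ := ha.restrict hP.1
  set Q := (ha.mor.restrict hP.1).img
  have hφi := c.x_iso hP hQ hφ eφ hφc
  obtain ⟨k, hk, hkl, -⟩ := hφi.exists_symm
  have hPC : P ⊔ C ≤ T ⊔ C := sup_le_sup_right hP.1 C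
  haveI := finite_of_le (c.sup_le_S hP.1)
  have hm : ∀ x ∈ P ⊔ C, β x ∈ Q ⊔ C := (hβm.restrict hPC).map_sup
    (fun y hy => Subgroup.mem_sup_left (by rw [eβ y (hP.1 hy)]; exact hQ.mapsTo hy))
    (fun y hy => Subgroup.mem_sup_right (hβC y hy))
  have hωi : Iso F (k ∘ β) (P ⊔ C) (P ⊔ C) :=
    ((hβm.restrict hPC).comp hk.mor hm).iso_of_card (fun x hx => hk.mapsTo (hm x hx)) le_rfl
  have hωP : ∀ x ∈ P, (k ∘ β) x = x := fun x hx => by
    show k (β x) = x
    rw [eβ x (hP.1 hx), ← eφ x hx, hkl x (Subgroup.mem_sup_left hx)]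
  have hkc : ∀ x ∈ C, x⁻¹ * k x ∈ T := fun x hx => by
    have hz := c.zmem hP hQ hφ eφ hx (hφc x hx)
    obtain ⟨v, hv, hve⟩ := hQ.surj hz
    have h1 : k x * v = x := by
      conv_lhs => rw [← hkl v (Subgroup.mem_sup_left hv), eφ v hv, hve,
        ← hk.mor.map_mul (Subgroup.mem_sup_right hx) (Subgroup.mem_sup_left hz), mul_inv_cancel_left,
        hkl x (Subgroup.mem_sup_right hx)]
    rw [eq_mul_inv_of_mul_eq h1, ← mul_assoc, inv_mul_cancel, one_mul]
    exact T.inv_mem (hP.1 hv)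
  have hit : ∀ (m : ℕ), ∀ x ∈ C, β^[m] x ∈ C ∧ (β^[m] x)⁻¹ * (k ∘ β)^[m] x ∈ T := by
    intro m
    induction m with
    | zero => intro x hx; exact ⟨hx, by simp⟩
    | succ m ih =>
      intro x hx
      obtain ⟨h1, h2⟩ := ih x hx
      refine ⟨by rw [Function.iterate_succ_apply']; exact hβC _ h1, ?_⟩
      have hmem : (k ∘ β)^[m] x ∈ P ⊔ C := (iso_pow hωi m).mapsTo (Subgroup.mem_sup_right hx)
      have h3 : (β^[m] x)⁻¹ * (k ∘ β)^[m] x ∈ P :=
        c.meet_sup hP ((P ⊔ C).mul_mem ((P ⊔ C).inv_mem (Subgroup.mem_sup_right h1)) hmem) h2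
      rw [Function.iterate_succ_apply', Function.iterate_succ_apply']
      have h4 : (k ∘ β) ((k ∘ β)^[m] x) = (k ∘ β) (β^[m] x) * ((β^[m] x)⁻¹ * (k ∘ β)^[m] x) := by
        conv_lhs => rw [← mul_inv_cancel_left (β^[m] x) ((k ∘ β)^[m] x)]
        rw [hωi.mor.map_mul (Subgroup.mem_sup_right h1) (Subgroup.mem_sup_left h3), hωP _ h3]
      rw [h4, ← mul_assoc]
      exact T.mul_mem (hkc _ (hβC _ h1)) h2
  obtain ⟨i, γ, hγ, hγT, hγc⟩ := c.step_all P hP _ hωi hωP
  obtain ⟨γ', hγ', hγl, hγr⟩ := hγ.exists_symm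
  have hn : HF F E a^[p ^ i] := by
    refine ⟨iso_pow ha _, γ' ∘ β^[p ^ i], (iso_pow hβi _).comp hγ', fun x hx => ?_, fun x hx => ?_⟩
    · have h1 : ∀ (m : ℕ), β^[m] x = a^[m] x := by
        intro m
        induction m with
        | zero => rfl
        | succ m ih =>
          rw [Function.iterate_succ_apply', Function.iterate_succ_apply', ih,
            eβ _ ((iso_pow ha m).mapsTo hx)]
      have h2 : a^[p ^ i] x ∈ T := (iso_pow ha _).mapsTo hx
      show γ' (β^[p ^ i] x) = _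
      rw [h1]
      conv_lhs => rw [← hγT _ h2]
      rw [hγl _ (Subgroup.mem_sup_left h2)]
    · obtain ⟨h1, h2⟩ := hit (p ^ i) x hx
      rw [← hγc x hx] at h2
      have h3 : (γ x)⁻¹ * β^[p ^ i] x ∈ T := by simpa using T.inv_mem h2
      show x⁻¹ * γ' (β^[p ^ i] x) ∈ T
      have h4 : γ' (β^[p ^ i] x) = x * ((γ x)⁻¹ * β^[p ^ i] x) := by
        conv_lhs => rw [← mul_inv_cancel_left (γ x) (β^[p ^ i] x)]
        rw [hγ'.mor.map_mul (hγ.mapsTo (Subgroup.mem_sup_right hx)) (Subgroup.mem_sup_left h3),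
          hγl x (Subgroup.mem_sup_right hx)]
        congr 1
        conv_lhs => rw [← hγT _ h3]
        exact hγl _ (Subgroup.mem_sup_left h3)
      rw [h4, inv_mul_cancel_left]
      exact h3
  set α : MulAut T := ha.equiv with hα
  have hαE : α ∈ E.autGroup T := ha.equiv_mem_autGroup
  have h1 : α ^ p ^ i ∈ c.hsub := c.hf_congr hn fun x hx => by
    rw [extFun_apply _ hx]
    show _ = (((α ^ p ^ i) ⟨x, hx⟩ : T) : Ω)
    rw [pow_apply_iterate]
    have : ∀ m : ℕ, a^[m] x = (((⇑α)^[m] ⟨x, hx⟩ : T) : Ω) := by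
      intro m
      induction m with
      | zero => rfl
      | succ m ih => rw [Function.iterate_succ_apply', Function.iterate_succ_apply', ih]; rfl
    exact this _
  obtain ⟨m, hm, hm2⟩ : ∃ m, ¬ p ∣ m ∧ ∃ k, (α ^ m) ^ p ^ k = 1 := by
    obtain ⟨k, m, hm, hkm⟩ := Nat.exists_eq_pow_mul_and_not_dvd (orderOf_pos α).ne' p
      (Fact.out : p.Prime).ne_one
    exact ⟨m, hm, k, by rw [← pow_mul, mul_comm, ← hkm, pow_orderOf_eq_one]⟩
  have h2 : α ^ m ∈ c.hsub := by
    refine c.hsub_pElement (pow_mem hαE m) ?_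
    obtain ⟨k, hk⟩ := hm2
    obtain ⟨l, -, hl⟩ := (Nat.dvd_prime_pow (Fact.out : p.Prime)).mp (orderOf_dvd_of_pow_eq_one hk)
    exact IsPGroup.of_card (n := l) (by rw [Nat.card_zpowers, hl])
  have hco : Nat.Coprime (p ^ i) m :=
    ((Fact.out : p.Prime).coprime_iff_not_dvd.mpr hm).pow_left i
  have h3 : α ∈ c.hsub := by
    have hb := Nat.gcd_eq_gcd_ab (p ^ i) m
    rw [hco.gcd_eq_one] at hb
    have : α = (α ^ p ^ i) ^ (Nat.gcdA (p ^ i) m) * (α ^ m) ^ (Nat.gcdB (p ^ i) m) := by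
      rw [← zpow_natCast α (p ^ i), ← zpow_natCast α m, ← zpow_mul, ← zpow_mul, ← zpow_add, ← hb,
        Nat.cast_one, zpow_one]
    rw [this]
    exact mul_mem (zpow_mem h1 _) (zpow_mem h2 _)
  exact c.hf_congr h3 fun x hx => extFun_apply _ hx

/-- The class of maps with extendable factor. -/
def CH (F : FusionSystem S) (E : FusionSystem T) (p : ℕ) (A : Subgroup Ω) (f : Ω → Ω) : Prop :=
  E.IsCentric A → ∃ a g, HF F E a ∧ PGen E p A g ∧ ∀ x ∈ A, f x = a (g x)

theorem ch_base : ExtBase E p E.IsCentric (CH F E p) where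
  closed :=
    { conj := fun {P s} hP hs _ => ⟨id, cj s, c.hf_id, PGen.conj hP hs, fun _ _ => rfl⟩
      congr := fun {P f g} _ e h hP => by
        obtain ⟨a, k, ha, hk, h'⟩ := h hP
        exact ⟨a, k, ha, hk, fun x hx => (e x hx).symm.trans (h' x hx)⟩
      comp := by
        intro P Q f g hf hg m hcf hcg hP
        obtain ⟨a, u, haH, hu, eu⟩ := hcf hP
        obtain ⟨b, v, hbH, hv, ev⟩ := hcg (isCentric_mono (isCentric_conj hP hf.toIso.isConj)
          (fun y hy => by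
            obtain ⟨x, hx, rfl⟩ := hf.toIso.surj hy
            exact m x hx) hg.dom_le)
        have ha := haH.1
        obtain ⟨a', ha', hl, hr⟩ := ha.exists_symm
        have hj : SysIso E E a' a := selfSysIso ha' ha hr hl
        refine ⟨b ∘ a, _, c.hf_comp haH hbH, hu.comp (hv.push hj ha') fun x hx => ?_, fun x hx => ?_⟩
        · exact (hj.mem_img hg.dom_le).mpr ⟨f x, m x hx, by rw [eu x hx, hl _ (hu.mor.map_mem hx)]⟩
        · show g (f x) = b (a (a' (v (a (u x)))))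
          rw [← eu x hx, hr _ (hv.mor.map_mem (m x hx)), ev _ (m x hx)]
      inv := by
        intro P Q f g hf hg e hcf hQ
        obtain ⟨a, u, haH, hu, eu⟩ := hcf (isCentric_conj hQ hg.isConj)
        have ha := haH.1
        obtain ⟨a', ha', hl, hr⟩ := ha.exists_symm
        have hj : SysIso E E a a' := selfSysIso ha ha' hl hr
        obtain ⟨u', hu', hul, -⟩ := hu.mor.toIso.exists_symm
        have hu'g : PGen E p hu.mor.img u' := hu.inv hu.mor.toIso hu' hul
        have hQ' : hj.img hu.mor.img = Q := by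
          ext y
          rw [hj.mem_img hu.mor.img_le]
          constructor
          · rintro ⟨x, hx, rfl⟩
            obtain ⟨w, hw, rfl⟩ := hu.mor.mem_img.mp hx
            rw [← eu w hw]; exact hf.mapsTo hw
          · intro hy
            obtain ⟨w, hw, rfl⟩ := hf.surj hy
            exact ⟨u w, hu.mor.mem_img.mpr ⟨w, hw, rfl⟩, (eu w hw).symm⟩
        refine ⟨a', a ∘ u' ∘ a', c.hf_symm haH ha' hl, hQ' ▸ hu'g.push hj ha, fun y hy => ?_⟩
        obtain ⟨w, hw, rfl⟩ := hf.surj hy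
        show g (f w) = a' (a (u' (a' (f w))))
        rw [e w hw, eu w hw, hl _ (hu.mor.map_mem hw), hul w hw, hl _ (hf.dom_le hw)] }
  pAut := fun {R f} k hR hf hk _ => ⟨id, f, c.hf_id, PGen.aut hR hf k hk, fun _ _ => rfl⟩
  ext := by
    intro P A f hP hPA hf h _
    haveI := finite_of_le c.tle
    obtain ⟨a, g, haH, hg, e⟩ := h hP
    obtain ⟨b, g₂, hb, hg₂, e₂⟩ := genFactor c.hT c.hEsat A f hf
    obtain ⟨a', ha', hl, -⟩ := haH.1.exists_symm
    have hg₂P := hg₂.restrict hPA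
    obtain ⟨k, hk, hkl, -⟩ := hg₂P.mor.toIso.exists_symm
    have hkg := hg₂P.inv hg₂P.mor.toIso hk hkl
    have hpg : PGen E p hg₂P.mor.img (a' ∘ b) :=
      (hkg.comp hg fun y hy => hk.mapsTo hy).congr fun y hy => by
        obtain ⟨x, hx, rfl⟩ := hg₂P.mor.toIso.surj hy
        show g (k (g₂ x)) = a' (b (g₂ x))
        rw [hkl x hx, ← e₂ x (hPA hx), e x hx, hl _ (hg.mor.map_mem hx)]
    have hc := isCentric_conj hP hg₂P.mor.toIso.isConj
    have hab := c.key (hb.comp ha') hc (c.pgen_X hpg hc)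
    refine ⟨b, g₂, c.hf_congr (c.hf_comp hab haH) fun x hx => ?_, hg₂, e₂⟩
    obtain ⟨v, hv, hve⟩ := haH.1.surj (hb.mapsTo hx)
    show a (a' (b x)) = b x
    rw [← hve, hl v hv]

/-- The maps of a residual subsystem. -/
theorem residual_mor_iff {D : FusionSystem T} (hD : E.IsPPrimeResidual p D) :
    Mor D P f ↔ Mor E P f ∧ hull E E.IsCentric (minClass E p E.IsCentric) P f := by
  haveI := finite_of_le c.tle
  have hG := centricFam (F := E) c.hT
  constructor
  · intro h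
    have hle := hD.2.2 _ (sysE_saturated c.hT c.hEsat hG minClass_base (minClass_invar hG))
      (sysE_primeIndex c.hT c.hEsat hG minClass_base (minClass_invar hG))
    exact systemOf_mor hull_closed (subsystem_mor hle h)
  · rintro ⟨-, h⟩
    exact h _ (Closed.of_system D) fun Q u hQ _ hc => hc _ (base_of_primeIndex c.hT c.hEsat hD.1 hD.2.1) hQ

theorem residual_push {D : FusionSystem T} (hD : E.IsPPrimeResidual p D) (ha : Iso F a T T)
    (ha' : Iso F a' T T) (hl : ∀ x ∈ T, a' (a x) = x) (hi : SysIso E E a a') (h : Mor D P f) :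
    Mor D (hi.img P) (a ∘ f ∘ a') := by
  obtain ⟨hfE, hf⟩ := (c.residual_mor_iff hD).mp h
  have hcent : ∀ {Q : Subgroup Ω}, E.IsCentric Q → E.IsCentric (hi.img Q) := fun {Q} hQ =>
    c.ec_conj hQ (f := a) ⟨ha.mor.restrict hQ.1, fun x hx => (hi.mem_img hQ.1).mpr ⟨x, hx, rfl⟩,
      (ha.mor.restrict hQ.1).injOn, fun y hy => (hi.mem_img hQ.1).mp hy⟩
  refine (c.residual_mor_iff hD).mpr ⟨hi.mor hfE, fun D' hD' hb => ?_⟩
  refine hf (fun P f => D' (hi.img P) (a ∘ f ∘ a')) (closed_pullback hD') fun Q g hQ hg hc => ?_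
  refine hb _ _ (hcent hQ) (hi.mor hg) fun D₂ hD₂ => ?_
  refine hc (fun P f => D₂ (hi.img P) (a ∘ f ∘ a')) ⟨closed_pullback hD₂.closed, ?_, ?_⟩
  · intro R u k hR hu hk
    refine hD₂.pAut k (hcent hR) (hi.iso hu) fun y hy => ?_
    obtain ⟨x, hx, rfl⟩ := (hi.mem_img hR.1).mp hy
    rw [iterate_conj (fun z hz => hu.mapsTo hz) (fun z hz => hi.left z (hR.1 hz)) _ x hx, hk x hx]
  · intro Q A u hQ hQA hu hd
    refine hD₂.ext (hcent hQ) (fun y hy => ?_) (hi.mor hu) hd
    obtain ⟨x, hx, rfl⟩ := (hi.mem_img (hQA.trans hu.dom_le)).mp hy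
    exact (hi.mem_img hu.dom_le).mpr ⟨x, hQA hx, rfl⟩

/-- The residual subsystem is normal. -/
theorem residual_isNormal {D : FusionSystem T} (hD : E.IsPPrimeResidual p D) : D.IsNormalIn F p := by
  haveI := finite_of_le c.tle
  have hDE : D.IsSubsystemOf E := hD.2.1.1
  obtain ⟨-, hfac, -⟩ := primeIndex_of_centric c.hT c.hEsat hDE fun P hP => hD.2.1.2 P hP.1
  refine ⟨⟨hD.1, c.hF, fun P φ hφ => c.hinv.1 P (hDE P hφ), c.strong, fun P hP φ hφ α hα => ?_,
    fun P hP φ hφ => ?_⟩, fun α hα => ?_⟩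
  · have ha := autGroup_iso (F := F) c.tle hα
    set a := extFun (T.subtype.comp α.toMonoidHom) with hadef
    obtain ⟨a', ha', hl, hr⟩ := ha.exists_symm
    have hi : SysIso E E a a' := invariant_sysIso c.hinv ha ha' hl hr
    have hav : ∀ x : T, a x = ((α x : T) : Ω) := fun x => extFun_coe _ x
    have hDeq : (P.subgroupOf T).map (T.subtype.comp α.toMonoidHom) = hi.img P := by
      ext y
      rw [hi.mem_img hP]
      exact ⟨fun ⟨x, hx, hy⟩ => ⟨x, hx, (hav x).trans hy⟩,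
        fun ⟨x, hx, hy⟩ => ⟨⟨x, hP hx⟩, hx, (hav ⟨x, hP hx⟩).symm.trans hy⟩⟩
    rw [hDeq]
    have hm := c.residual_push hD ha ha' hl hi (mor_of_mem hφ)
    refine ⟨hm.hom, hm.hom_mem, fun x hφx hαx => ?_⟩
    show a (extFun φ (a' ((α ⟨x, hP x.2⟩ : T) : Ω))) = _
    rw [← hav ⟨x, hP x.2⟩, hl _ (hP x.2), extFun_apply φ x.2, ← hav ⟨φ x, hφx⟩]
  · obtain ⟨a, g, ha, hg, e⟩ := invariant_frattini c.hinv (mor_of_mem hφ) hP
    obtain ⟨b, g₂, hb, hg₂, e₂⟩ := hfac P g hg
    have hab : Iso F (a ∘ b) T T := (c.subIso hb).comp ha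
    refine ⟨hab.equiv, hab.equiv_mem_autGroup, hg₂.hom, hg₂.hom_mem, fun x hx => ?_⟩
    rw [← extFun_coe φ x, e x x.2, e₂ x x.2]
    rfl
  · obtain ⟨u, hu, eu⟩ := (mem_autGroup_iff le_rfl).mp hα
    have hmin := of_hull (centricFam (F := E) c.hT) minClass_base.closed ?_
      ((c.residual_mor_iff hD).mp hu.mor).2
    swap
    · refine ⟨le_rfl, fun Q hQ => ?_⟩
      obtain ⟨v, hv⟩ := isConj_iff.mp hQ
      rw [eq_of_le_of_card hv.cod_le hv.card_eq.le]
      exact centralizerIn_le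
    have hTc : E.IsCentric T := ⟨le_rfl, fun Q hQ => by
      obtain ⟨v, hv⟩ := isConj_iff.mp hQ
      rw [eq_of_le_of_card hv.cod_le hv.card_eq.le]
      exact centralizerIn_le⟩
    obtain ⟨a, g, haH, hg, e⟩ := hmin _ c.ch_base hTc
    obtain ⟨a', ha', hl, hr⟩ := haH.1.exists_symm
    have huE : Iso E u T T := ⟨((c.residual_mor_iff hD).mp hu.mor).1, hu.bij⟩
    have hmid : PGen E p T (a' ∘ u) := hg.congr fun x hx => by
      show g x = a' (u x)
      rw [e x hx, hl _ (hg.mor.map_mem hx)]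
    have h1 := c.key (huE.comp ha') hTc (c.pgen_X hmid hTc)
    have h2 : HF F E u := c.hf_congr (c.hf_comp h1 haH) fun x hx => hr _ (huE.mapsTo hx)
    obtain ⟨-, β, hβ, eβ, hβc⟩ := h2
    refine ⟨hβ.equiv, hβ.equiv_mem_autGroup, fun x => (eβ x x.2).trans (eu x), fun z hz => ?_⟩
    refine ⟨hβc _ hz, fun t ht => ?_⟩
    obtain ⟨v, hv, rfl⟩ := hu.surj ht
    have h3 : u v * (z : Ω) = (z : Ω) * u v := hz.2 _ (hu.mapsTo hv)
    have h4 : v * (z : Ω) = (z : Ω) * v := hz.2 v hv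
    have h5 : u v * β z = β z * u v := by
      rw [← eβ v hv, ← hβ.mor.map_mul (Subgroup.mem_sup_left hv) z.2,
        ← hβ.mor.map_mul z.2 (Subgroup.mem_sup_left hv), h4]
    have h3' : Commute (u v) (z : Ω) := h3
    have h5' : Commute (u v) (β z) := h5
    exact h3'.inv_right.mul_right h5'

end WCtx

end Cfsg.Agent.Fusion.WeakResidual
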