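/-
A normal subsystem containing its centralizer, with the same automorphisms of its group, has
`p`-power index.
-/
import Cfsg.Agent.Fusion.WeakResidual
import Cfsg.Agent.Fusion.NormalizerSat
import Cfsg.Agent.Fusion.HypFocal
import Cfsg.Agent.Fusion.PowerIndex
set_option autoImplicit false
set_option linter.style.haveILetI false
set_option linter.unusedSectionVars false
set_option maxHeartbeats 1000000

namespace Cfsg.Agent.Fusion.CentFix

open Cfsg Cfsg.FusionSystem Cfsg.Agent.Fusion.SatCrit Cfsg.Agent.Fusion.WeakResidual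

variable {Ω : Type*} [Group Ω] {S T : Subgroup Ω} {F : FusionSystem S} {E : FusionSystem T}
  {p : ℕ} {P Q R W : Subgroup Ω} {f g φ a : Ω → Ω}

/-- The maps of a centralizer system. -/
theorem cent_mor {K : FusionSystem (centralizerIn S Q)} (hK : F.IsCentralizerSystem Q K) :
    Mor K P f ↔ P ≤ centralizerIn S Q ∧ (∀ x ∈ P, f x ∈ centralizerIn S Q) ∧
      ∃ g, Mor F (P ⊔ Q) g ∧ (∀ x ∈ P, g x = f x) ∧ ∀ x ∈ Q, g x = x := by
  constructor
  · rintro ⟨φ, hφ, e⟩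
    rw [hK P] at hφ
    obtain ⟨-, hP, hv, hst⟩ := hφ
    obtain ⟨g, hg, eg, mg⟩ := (fixExt_iff (φ := φ)).mp hst
    exact ⟨hP, fun x hx => e ⟨x, hx⟩ ▸ hv ⟨x, hx⟩, g, hg,
      fun x hx => (eg ⟨x, hx⟩).trans (e ⟨x, hx⟩), mg⟩
  · rintro ⟨hP, hv, g, hg, eg, mg⟩
    have hm : Mor F P f := (hg.restrict le_sup_left).congr eg
    refine ⟨hm.hom, ?_, fun _ => rfl⟩
    rw [hK P]
    exact ⟨hm.hom_mem, hP, fun x => hv x x.2,
      (fixExt_iff (φ := hm.hom)).mpr ⟨g, hg, fun x => eg x x.2, mg⟩⟩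

/-- A power of order prime to `p` which agrees with a given map of order prime to `p`. -/
theorem exists_pprime_power [Fact p.Prime] [Finite S] (hφ : Iso F φ W W) {k : ℕ} (hk : k.Coprime p) :
    ∃ m l, m % k = 1 % k ∧ l.Coprime p ∧ ∀ x ∈ W, (φ^[m])^[l] x = x := by
  haveI := finite_of_le hφ.dom_le
  haveI := finite_mulAut (G := W)
  obtain ⟨m, l, hm1, hl, hm2⟩ := exists_pprime_exponent (Fact.out : p.Prime) hk
    (orderOf_pos (hφ.equiv : MulAut W)).ne'
  refine ⟨m, l, hm1, hl, fun x hx => ?_⟩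
  rw [← Function.iterate_mul, ← equiv_pow_apply hφ (m * l) ⟨x, hx⟩,
    orderOf_dvd_iff_pow_eq_one.mp hm2]
  rfl

theorem iterate_agree (hf : ∀ x ∈ P, f x ∈ P) (e : ∀ x ∈ P, φ x = f x) :
    ∀ n : ℕ, ∀ x ∈ P, φ^[n] x = f^[n] x := by
  intro n
  induction n with
  | zero => intro x _; rfl
  | succ n ih =>
    intro x hx
    rw [Function.iterate_succ_apply', Function.iterate_succ_apply', ih x hx,
      e _ (iterate_mapsTo hf n x hx)]

/-- A map trivial modulo a strongly closed subgroup has all powers trivial modulo it. -/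
theorem iterate_rel (hφ : Iso F φ W W) (hT : F.StronglyClosed T) {x : Ω} (hx : x ∈ W)
    (h : x⁻¹ * φ x ∈ T) : ∀ n : ℕ, x⁻¹ * φ^[n] x ∈ T := by
  intro n
  induction n with
  | zero => simp
  | succ n ih =>
    have hy := iterate_mapsTo (fun z hz => hφ.mapsTo hz) n x hx
    have hu : x⁻¹ * φ^[n] x ∈ W := mul_mem (inv_mem hx) hy
    rw [Function.iterate_succ_apply']
    have : φ (φ^[n] x) = φ x * φ (x⁻¹ * φ^[n] x) := by
      rw [← hφ.mor.map_mul hx hu, mul_inv_cancel_left]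
    rw [this, ← mul_assoc]
    exact T.mul_mem h (stronglyClosed_mem hT hφ.mor hu ih)

/-- The setting: a weakly normal subsystem with `S = T C_S(T)` and no further automorphisms of `T`. -/
structure Base (F : FusionSystem S) (E : FusionSystem T) (p : ℕ) : Prop extends WCtx F E p where
  htop : T ⊔ centralizerIn S T = S
  hA : F.autGroup T ≤ E.autGroup T
  hext : ∀ a : Ω → Ω, Iso E a T T → HF F E a

namespace Base

variable (c : Base F E p)
include c

theorem mem_mul {x : Ω} (hx : x ∈ S) : ∃ t ∈ T, ∃ z ∈ centralizerIn S T, t * z = x := by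
  have hn : T ≤ Subgroup.normalizer ((centralizerIn S T : Subgroup Ω) : Set Ω) := fun t ht =>
    Subgroup.mem_normalizer_iff.mpr fun y => by
      constructor
      · intro hy
        exact c.toWCtx.cn (c.toWCtx.tle ht) hy
      · intro hy
        have := c.toWCtx.cn (c.toWCtx.tle (T.inv_mem ht)) hy
        simpa [cj_apply, mul_assoc] using this
  have hx' : x ∈ ((T ⊔ centralizerIn S T : Subgroup Ω) : Set Ω) := by rw [c.htop]; exact hx
  rw [Subgroup.coe_mul_of_left_le_normalizer_right _ _ hn] at hx'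
  obtain ⟨t, ht, z, hz, e⟩ := hx'
  exact ⟨t, ht, z, hz, e⟩

theorem autT (ha : Iso F a T T) : Iso E a T T := by
  obtain ⟨b, hb, e⟩ := (mem_autGroup_iff le_rfl).mp (c.hA ha.equiv_mem_autGroup)
  exact hb.congr fun x hx => (e ⟨x, hx⟩).trans rfl

/-- Every map of `F` inside `T` is a map of `E`. -/
theorem mor_E (hf : Mor F P f) (hP : P ≤ T) : Mor E P f := by
  obtain ⟨a, g, ha, hg, e⟩ := invariant_frattini c.hinv hf hP
  exact (hg.comp (c.autT ha).mor fun x hx => hg.map_mem hx).congr fun x hx => (e x hx).symm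

variable [Fact p.Prime] [Finite S]

/-- Maps of `E` on centric subgroups extend over `C_S(T)`. -/
theorem centric_X (hP : E.IsCentric P) (hf : Mor E P f) : X F T P f := by
  haveI := finite_of_le c.toWCtx.tle
  obtain ⟨a, g, ha, hg, e⟩ := genFactor c.toWCtx.hT c.hEsat P f hf
  obtain ⟨φ, hφ, eφ, hc⟩ := c.toWCtx.pgen_X hg hP
  obtain ⟨-, β, hβ, eβ, hβc⟩ := c.hext a ha
  refine ⟨β ∘ φ, hφ.comp hβ.mor fun x hx => c.htop.symm ▸ hφ.map_mem hx, fun x hx => ?_, fun x hx => ?_⟩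
  · show β (φ x) = f x
    rw [eφ x hx, eβ _ (hg.mor.map_mem hx), e x hx]
  · show x⁻¹ * β (φ x) ∈ T
    have h : β (φ x) = β x * β (x⁻¹ * φ x) := by
      rw [← hβ.mor.map_mul (Subgroup.mem_sup_right hx) (Subgroup.mem_sup_left (hc x hx)),
        mul_inv_cancel_left]
    rw [h, ← mul_assoc, eβ _ (hc x hx)]
    exact T.mul_mem (hβc x hx) (ha.mapsTo (hc x hx))

theorem centric_fullyCentralized' (hR : E.IsCentric R) : F.IsFullyCentralized R := by
  refine ⟨hR.1.trans c.toWCtx.tle, fun R' hR' => ?_⟩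
  obtain ⟨u, hu⟩ := isConj_iff.mp (isConj_symm hR')
  have hR'T : R' ≤ T := fun y hy => by
    obtain ⟨v, hv, rfl⟩ := isConj_iff.mp hR' |>.choose_spec.surj hy
    exact stronglyClosed_mem c.toWCtx.strong (isConj_iff.mp hR' |>.choose_spec.mor) hv (hR.1 hv)
  have hR'c : E.IsCentric R' := c.toWCtx.ec_conj hR (isConj_iff.mp hR').choose_spec
  obtain ⟨φ, hφ, e, -⟩ := c.centric_X hR'c (c.mor_E hu.mor hR'T)
  haveI := finite_of_le (centralizerIn_le : centralizerIn S R ≤ S)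
  have hle : centralizerIn S R' ≤ R' ⊔ centralizerIn S T := fun x hx => by
    obtain ⟨t, ht, z, hz, rfl⟩ := c.mem_mul hx.1
    refine mul_mem (Subgroup.mem_sup_left (hR'c.2 R' (isConj_refl hR'T) ⟨ht, fun v hv => ?_⟩))
      (Subgroup.mem_sup_right hz)
    have h1 : v * (t * z) = t * z * v := hx.2 v hv
    have h2 : v * z = z * v := hz.2 v (hR'T hv)
    have h3 : v * t * z = t * v * z := by rw [mul_assoc, h1, mul_assoc, mul_assoc, h2]
    exact mul_right_cancel h3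
  exact (hφ.restrict hle).card_le fun x hx => hu.map_centralizer hφ le_sup_left e (hle hx) hx

/-- The key step: a map of order prime to `p` fixing `C` modulo the centre of `R` fixes the hyperfocal
subgroup of the centralizer of `T`. -/
theorem fix_hyperfocal (hR : E.IsCentric R)
    (hφ : Iso F φ (R ⊔ centralizerIn S T) (R ⊔ centralizerIn S T)) (hφR : ∀ x ∈ R, φ x ∈ R)
    {l : ℕ} (hl : l.Coprime p) (hφl : ∀ x ∈ R ⊔ centralizerIn S T, φ^[l] x = x)
    (hφc : ∀ x ∈ centralizerIn S T, x⁻¹ * φ x ∈ centralizerIn T R)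
    {CT : FusionSystem (centralizerIn S T)} (hCT : F.IsCentralizerSystem T CT) :
    ∀ y ∈ CT.hyperfocalSubgroup p, φ y = y := by
  have hTS := c.toWCtx.tle
  have hRS : R ≤ S := hR.1.trans hTS
  haveI := finite_of_le (centralizerIn_le : centralizerIn S T ≤ S)
  haveI := finite_of_le hRS
  set Z := centralizerIn T R with hZ
  have hZR : Z ≤ R := hR.2 R (isConj_refl hR.1)
  obtain ⟨CR, hCR⟩ := exists_centralizerSystem F R hRS
  have hfc := c.centric_fullyCentralized' hR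
  have hCRsat : CR.IsSaturated p := centralizerSystem_saturated c.hS c.hF hfc hCR
  haveI : Finite (centralizerIn S R) := finite_of_le centralizerIn_le
  have hKp : IsPGroup p (centralizerIn S R) := c.hS.to_le centralizerIn_le
  have hCK : (centralizerIn S T) ≤ (centralizerIn S R) := fun x hx => ⟨hx.1, fun v hv => hx.2 v (hR.1 hv)⟩
  have hZK : Z ≤ (centralizerIn S R) := fun x hx => ⟨hTS hx.1, hx.2⟩
  have hKW : (centralizerIn S R) ≤ R ⊔ (centralizerIn S T) := fun x hx => by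
    obtain ⟨t, ht, z, hz, rfl⟩ := c.mem_mul hx.1
    refine mul_mem (Subgroup.mem_sup_left (hZR ⟨ht, fun v hv => ?_⟩)) (Subgroup.mem_sup_right hz)
    have h1 : v * (t * z) = t * z * v := hx.2 v hv
    have h2 : v * z = z * v := hz.2 v (hR.1 hv)
    have h3 : v * t * z = t * v * z := by rw [mul_assoc, h1, mul_assoc, mul_assoc, h2]
    exact mul_right_cancel h3
  -- `Z` is central in `(centralizerIn S R)` and normalized by `φ`
  have hcomm : ∀ x ∈ (centralizerIn S R), ∀ z ∈ Z, z * x = x * z := fun x hx z hz => hx.2 z (hZR hz)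
  have hφZ : ∀ z ∈ Z, φ z ∈ Z := fun z hz => by
    have hRR : Iso F φ R R := (hφ.mor.restrict le_sup_left).iso_of_card hφR le_rfl
    refine ⟨hR.1 (hφR z (hZR hz)), (hRR.map_centralizer (hφ.mor.restrict le_sup_left) le_rfl
      (fun _ _ => rfl) (hZR hz) ⟨hTS hz.1, hz.2⟩).2⟩
  have hφK : ∀ x ∈ (centralizerIn S R), x⁻¹ * φ x ∈ Z := by
    intro x hx
    obtain ⟨t, ht, z, hz, rfl⟩ := c.mem_mul hx.1
    have htZ : t ∈ Z := ⟨ht, fun v hv => by
      have h1 : v * (t * z) = t * z * v := hx.2 v hv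
      have h2 : v * z = z * v := hz.2 v (hR.1 hv)
      have h3 : v * t * z = t * v * z := by rw [mul_assoc, h1, mul_assoc, mul_assoc, h2]
      exact mul_right_cancel h3⟩
    have hw := hφc z hz
    have hcw := hcomm z (hCK hz) _ (Z.mul_mem (Z.inv_mem htZ) (hφZ t htZ))
    have h : (t * z)⁻¹ * φ (t * z) = t⁻¹ * φ t * (z⁻¹ * φ z) := by
      rw [hφ.mor.map_mul (Subgroup.mem_sup_left (hZR htZ)) (Subgroup.mem_sup_right hz)]
      calc (t * z)⁻¹ * (φ t * φ z) = z⁻¹ * (t⁻¹ * φ t * z) * (z⁻¹ * φ z) := by group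
        _ = z⁻¹ * (z * (t⁻¹ * φ t)) * (z⁻¹ * φ z) := by rw [hcw]
        _ = t⁻¹ * φ t * (z⁻¹ * φ z) := by group
    rw [h]
    exact Z.mul_mem (Z.mul_mem (Z.inv_mem htZ) (hφZ t htZ)) hw
  obtain ⟨φ', hφ', hφl', hφr'⟩ := hφ.exists_symm
  have hφK' : ∀ x ∈ (centralizerIn S R), x⁻¹ * φ' x ∈ Z := by
    intro x hx
    have hy : φ' x ∈ R ⊔ (centralizerIn S T) := hφ'.mapsTo (hKW hx)
    -- `x = φ y` with `y = φ' x`
    have hyK : φ' x ∈ (centralizerIn S R) := by
      refine ⟨hφ'.mor.map_mem (hKW hx), fun v hv => ?_⟩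
      have h1 : φ v * x = x * φ v := hx.2 _ (hφR v hv)
      conv_lhs => rw [← hφl' v (Subgroup.mem_sup_left hv)]
      conv_rhs => rw [← hφl' v (Subgroup.mem_sup_left hv)]
      rw [← hφ'.mor.map_mul (hφ.mapsTo (Subgroup.mem_sup_left hv)) (hKW hx),
        ← hφ'.mor.map_mul (hKW hx) (hφ.mapsTo (Subgroup.mem_sup_left hv)), h1]
    have h := hφK _ hyK
    rw [hφr' x (hKW hx)] at h
    have := Z.inv_mem h
    rwa [mul_inv_rev, inv_inv] at this
  -- maps of `C_F(R)` fix `Z`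
  have hfix : ∀ {A : Subgroup Ω} {h : Ω → Ω}, Mor CR A h → Z ≤ A → ∀ z ∈ Z, h z = z := by
    intro A h hh hZA z hz
    obtain ⟨-, -, k, -, ek, hk⟩ := (cent_mor hCR).mp hh
    rw [← ek z (hZA hz), hk z (hZR hz)]
  have hrel : ∀ {A : Subgroup Ω}, A ≤ (centralizerIn S R) → Z ≤ A → ∀ x ∈ A, φ x ∈ A ∧ φ' x ∈ A := by
    intro A hAK hZA x hx
    constructor
    · simpa using A.mul_mem hx (hZA (hφK x (hAK hx)))
    · simpa using A.mul_mem hx (hZA (hφK' x (hAK hx)))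
  have hconj : ∀ {A B : Subgroup Ω} {h : Ω → Ω}, Iso CR h A B → Z ≤ A →
      Iso CR (φ ∘ h ∘ φ') A B := by
    intro A B h hh hZA
    obtain ⟨hAK, -, k, hk, ek, hkR⟩ := (cent_mor hCR).mp hh.mor
    have hBK : B ≤ (centralizerIn S R) := hh.cod_le
    have hAW : A ⊔ R ≤ R ⊔ (centralizerIn S T) := sup_le (hAK.trans hKW) le_sup_left
    have hZB : Z ≤ B := fun z hz => hfix hh.mor hZA z hz ▸ hh.mapsTo (hZA hz)
    have m1 : ∀ x ∈ A ⊔ R, φ' x ∈ A ⊔ R := (hφ'.mor.restrict hAW).map_sup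
      (fun x hx => Subgroup.mem_sup_left (hrel hAK hZA x hx).2)
      (fun x hx => Subgroup.mem_sup_right (by
        obtain ⟨v, hv, hve⟩ := ((hφ.mor.restrict le_sup_left).iso_of_card hφR le_rfl :
          Iso F φ R R).surj hx
        rw [← hve, hφl' v (Subgroup.mem_sup_left hv)]; exact hv))
    have m2 : ∀ x ∈ A ⊔ R, k x ∈ R ⊔ (centralizerIn S T) := hk.map_sup
      (fun x hx => by rw [ek x hx]; exact hKW (hh.cod_le (hh.mapsTo hx)))
      (fun x hx => by rw [hkR x hx]; exact Subgroup.mem_sup_left hx)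
    have hm : Mor F (A ⊔ R) (φ ∘ k ∘ φ') :=
      ((hφ'.mor.restrict hAW).comp hk m1).comp hφ.mor fun x hx => m2 _ (m1 x hx)
    have hval : ∀ x ∈ A, φ (k (φ' x)) = φ (h (φ' x)) := fun x hx => by
      rw [ek _ (hrel hAK hZA x hx).2]
    have hmor : Mor CR A (φ ∘ h ∘ φ') := (cent_mor hCR).mpr ⟨hAK, fun x hx => hBK
      (hrel hBK hZB _ (hh.mapsTo (hrel hAK hZA x hx).2)).1, _, hm, hval, fun x hx => by
        show φ (k (φ' x)) = x
        obtain ⟨v, hv, hve⟩ := ((hφ.mor.restrict le_sup_left).iso_of_card hφR le_rfl :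
          Iso F φ R R).surj hx
        rw [← hve, hφl' v (Subgroup.mem_sup_left hv), hkR v hv]⟩
    haveI := finite_of_le hBK
    exact hmor.iso_of_card (fun x hx => (hrel hBK hZB _ (hh.mapsTo (hrel hAK hZA x hx).2)).1)
      hh.card_eq.ge
  -- `φ` commutes with the maps of `C_F(R)` acting trivially modulo `Z`
  let Tr : Subgroup Ω → (Ω → Ω) → Prop := fun A η => Iso CR η A A ∧ ∀ x ∈ A, x⁻¹ * η x ∈ Z
  have hTrc : ∀ {A : Subgroup Ω} {η ε : Ω → Ω}, Z ≤ A → Tr A η → Tr A ε →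
      ∀ x ∈ A, η (ε x) = ε (η x) := by
    intro A η ε hZA h1 h2 x hx
    have e1 : η (ε x) = η x * (x⁻¹ * ε x) := by
      conv_lhs => rw [← mul_inv_cancel_left x (ε x)]
      rw [h1.1.mor.map_mul hx (hZA (h2.2 x hx)), hfix h1.1.mor hZA _ (h2.2 x hx)]
    have e2 : ε (η x) = ε x * (x⁻¹ * η x) := by
      conv_lhs => rw [← mul_inv_cancel_left x (η x)]
      rw [h2.1.mor.map_mul hx (hZA (h1.2 x hx)), hfix h2.1.mor hZA _ (h1.2 x hx)]
    rw [e1, e2]
    have := hcomm _ (mul_mem (inv_mem (h1.1.dom_le hx)) (h1.1.dom_le (h1.1.mapsTo hx))) _ (h2.2 x hx)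
    calc η x * (x⁻¹ * ε x) = x * ((x⁻¹ * η x) * (x⁻¹ * ε x)) := by group
      _ = x * ((x⁻¹ * ε x) * (x⁻¹ * η x)) := by rw [this]
      _ = ε x * (x⁻¹ * η x) := by group
  have hcommute : ∀ {A : Subgroup Ω} {η : Ω → Ω}, Z ≤ A → Tr A η →
      ∀ x ∈ A, φ (η x) = η (φ x) := by
    intro A η hZA hη x hx
    have hAK : A ≤ (centralizerIn S R) := hη.1.dom_le
    haveI := finite_of_le hAK
    obtain ⟨A₂, hA₂, hn⟩ := exists_fullyNormalized (F := CR) hAK
    obtain ⟨a₀, ha₀⟩ := isConj_iff.mp hA₂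
    have hA₂K : A₂ ≤ (centralizerIn S R) := hn.1
    haveI := finite_of_le hA₂K
    haveI := finite_mulAut (G := A₂)
    obtain ⟨b₀, hb₀, hbl, -⟩ := ha₀.exists_symm
    have hη₂ : Iso CR (a₀ ∘ η ∘ b₀) A₂ A₂ := (hb₀.comp hη.1).comp ha₀
    haveI : Finite Z := finite_of_le hZK
    obtain ⟨j, hj⟩ := IsPGroup.iff_card.mp (hKp.to_le hZK)
    have hηp : ∀ y ∈ A, η^[p ^ j] y = y := fun y hy => by
      rw [WeakResidual.iterate_fix hη.1.mor hZA (hfix hη.1.mor hZA) hη.2 _ y hy, ← hj]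
      have h : (⟨y⁻¹ * η y, hη.2 y hy⟩ : Z) ^ Nat.card Z = 1 := pow_card_eq_one'
      rw [show (y⁻¹ * η y) ^ Nat.card Z = 1 from congrArg Subtype.val h, mul_one]
    have hpz : IsPGroup p (Subgroup.zpowers (hη₂.equiv : MulAut A₂)) := by
      have h1 : (hη₂.equiv : MulAut A₂) ^ p ^ j = 1 := MulEquiv.ext fun y => Subtype.ext (by
        rw [equiv_pow_apply hη₂]
        obtain ⟨v, hv, hvy⟩ := ha₀.surj y.2
        rw [← hvy, iterate_conj (fun z hz => hη.1.mapsTo hz) hbl _ v hv, hηp v hv]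
        exact hvy)
      obtain ⟨i, -, hi⟩ := (Nat.dvd_prime_pow (Fact.out : p.Prime)).mp (orderOf_dvd_of_pow_eq_one h1)
      exact IsPGroup.of_card (n := i) (by rw [Nat.card_zpowers, hi])
    obtain ⟨-, hfa, -⟩ := IsSaturated_fullyNormalized hKp hCRsat hn
    obtain ⟨β, hβ, hβK⟩ := exists_conj_into hfa hpz (Subgroup.zpowers_le.mpr hη₂.equiv_mem_autGroup)
    obtain ⟨s, hs, -, es⟩ := mem_autInducedBy.mp (hβK _ (Subgroup.mem_zpowers _))
    obtain ⟨bf, hbf, eb⟩ := (mem_autGroup_iff hA₂K).mp hβ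
    -- the adjusted map carries `η` to conjugation by `s`
    set a := bf ∘ a₀
    have ha : Iso CR a A A₂ := ha₀.comp hbf
    have haη : ∀ y ∈ A, a (η y) = cj s (a y) := fun y hy => by
      have h := es (β ⟨a₀ y, ha₀.mapsTo hy⟩)
      rw [MulAut.mul_apply, MulAut.mul_apply, MulAut.inv_apply_self, ← eb, ← eb] at h
      show bf (a₀ (η y)) = cj s (bf (a₀ y))
      rw [cj_apply]
      refine Eq.trans ?_ h
      show bf (a₀ (η y)) = bf (a₀ (η (b₀ (a₀ y))))
      rw [hbl y hy]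
    have hZA₂ : Z ≤ A₂ := fun z hz => hfix ha.mor hZA z hz ▸ ha.mapsTo (hZA hz)
    have hc : ∀ w ∈ A₂, φ (cj s w) = cj s (φ w) := fun w hw => by
      have hsW := hKW hs
      have hwW := hKW (hA₂K hw)
      rw [cj_apply, hφ.mor.map_mul (mul_mem hsW hwW) (inv_mem hsW), hφ.mor.map_mul hsW hwW,
        hφ.mor.map_inv hsW, cj_apply]
      obtain ⟨z, hz, hze⟩ : ∃ z ∈ Z, φ s = s * z :=
        ⟨_, hφK s hs, (mul_inv_cancel_left _ _).symm⟩
      have hzw : z * φ w = φ w * z := hcomm _ (hA₂K (hrel hA₂K hZA₂ w hw).1) z hz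
      rw [hze, mul_assoc s z, hzw]; group
    obtain ⟨a', ha', hal, har⟩ := ha.exists_symm
    set ε := a' ∘ (φ ∘ a ∘ φ') with hε
    have hεi : Iso CR ε A A := (hconj ha hZA).comp ha'
    have hεr : Tr A ε := ⟨hεi, fun y hy => by
      have hy' := (hrel hAK hZA y hy).2
      obtain ⟨z₁, hz₁, h1⟩ : ∃ z ∈ Z, φ' y = y * z :=
        ⟨_, hφK' y (hAK hy), (mul_inv_cancel_left _ _).symm⟩
      obtain ⟨z₂, hz₂, h2⟩ : ∃ z ∈ Z, φ (a (φ' y)) = a (φ' y) * z :=
        ⟨_, hφK _ (hA₂K (ha.mapsTo hy')), (mul_inv_cancel_left _ _).symm⟩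
      show y⁻¹ * a' (φ (a (φ' y))) ∈ Z
      rw [h2, ha'.mor.map_mul (ha.mapsTo hy') (hZA₂ hz₂), hal _ hy', hfix ha'.mor hZA₂ _ hz₂, h1,
        mul_assoc y, inv_mul_cancel_left]
      exact Z.mul_mem hz₁ hz₂⟩
    have haφ : ∀ y ∈ A, φ (a y) = a (ε (φ y)) := fun y hy => by
      show φ (a y) = a (a' (φ (a (φ' (φ y)))))
      rw [hφl' y (hKW (hAK hy)), har _ (hrel hA₂K hZA₂ _ (ha.mapsTo hy)).1]
    have hx' := (hrel hAK hZA x hx).1
    have hηx := hη.1.mapsTo hx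
    have h1 : a (ε (φ (η x))) = a (η (ε (φ x))) := by
      rw [← haφ _ hηx, haη x hx, hc _ (ha.mapsTo hx), haφ x hx, haη _ (hεi.mapsTo hx')]
    have h2 := ha.mor.injOn (hεi.mapsTo (hrel hAK hZA _ hηx).1) (hη.1.mapsTo (hεi.mapsTo hx')) h1
    rw [hTrc hZA hη hεr _ hx'] at h2
    exact hεi.mor.injOn (hrel hAK hZA _ hηx).1 (hη.1.mapsTo hx') h2
  -- the generators
  suffices hle : CT.hyperfocalSubgroup p ≤
      (hφ.mor.hom.eqLocus (R ⊔ (centralizerIn S T)).subtype).map (R ⊔ (centralizerIn S T)).subtype by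
    intro y hy
    obtain ⟨w, hw, rfl⟩ := hle hy
    exact hw
  refine hyperfocal_le_of fun P γ k hγ hk hγk x hx => ?_
  obtain ⟨hPC, -, g, hg, eg, hgT⟩ := (cent_mor hCT).mp hγ.mor
  set M := Z ⊔ P
  have hMK : M ≤ (centralizerIn S R) := sup_le hZK (hPC.trans hCK)
  haveI := finite_of_le hMK
  have hZM : Z ≤ M := le_sup_left
  have hMR : M ⊔ R ≤ P ⊔ T :=
    sup_le (sup_le (fun z hz => Subgroup.mem_sup_right hz.1) le_sup_left) (hR.1.trans le_sup_right)
  have hgM : ∀ y ∈ M, g y ∈ M := (hg.restrict (le_sup_left.trans hMR)).map_sup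
    (fun z hz => Subgroup.mem_sup_left (by rw [hgT z hz.1]; exact hz))
    (fun y hy => Subgroup.mem_sup_right (by rw [eg y hy]; exact hγ.mapsTo hy))
  have hg1 : Iso CR g M M := ((cent_mor hCR).mpr ⟨hMK, fun y hy => hMK (hgM y hy), g,
    hg.restrict hMR, fun _ _ => rfl, fun y hy => hgT y (hR.1 hy)⟩).iso_of_card hgM le_rfl
  obtain ⟨g', hg', hgl, hgr⟩ := hg1.exists_symm
  set δ := g' ∘ (φ ∘ g ∘ φ') with hδ
  have hδi : Iso CR δ M M := (hconj hg1 hZM).comp hg'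
  have hδr : Tr M δ := ⟨hδi, fun y hy => by
    have hy' := (hrel hMK hZM y hy).2
    obtain ⟨z₁, hz₁, h1⟩ : ∃ z ∈ Z, φ' y = y * z :=
      ⟨_, hφK' y (hMK hy), (mul_inv_cancel_left _ _).symm⟩
    obtain ⟨z₂, hz₂, h2⟩ : ∃ z ∈ Z, φ (g (φ' y)) = g (φ' y) * z :=
      ⟨_, hφK _ (hMK (hg1.mapsTo hy')), (mul_inv_cancel_left _ _).symm⟩
    show y⁻¹ * g' (φ (g (φ' y))) ∈ Z
    rw [h2, hg'.mor.map_mul (hg1.mapsTo hy') (hZM hz₂), hgl _ hy', hfix hg'.mor hZM _ hz₂, h1,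
      mul_assoc y, inv_mul_cancel_left]
    exact Z.mul_mem hz₁ hz₂⟩
  have hgφ : ∀ y ∈ M, φ (g y) = g (δ (φ y)) := fun y hy => by
    show φ (g y) = g (g' (φ (g (φ' (φ y)))))
    rw [hφl' y (hKW (hMK hy)), hgr _ (hrel hMK hZM _ (hg1.mapsTo hy)).1]
  have hmemM : ∀ n : ℕ, ∀ y ∈ M, φ^[n] y ∈ M := iterate_mapsTo fun y hy => (hrel hMK hZM y hy).1
  have hpow : ∀ n : ℕ, ∀ y ∈ M, φ^[n] (g y) = g (δ^[n] (φ^[n] y)) := by
    intro n
    induction n with
    | zero => intro y _; rfl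
    | succ n ih =>
      intro y hy
      have hd : δ^[n] (φ^[n] y) ∈ M := iterate_mapsTo (fun z hz => hδi.mapsTo hz) n _ (hmemM n y hy)
      have hcn : ∀ m : ℕ, ∀ z ∈ M, φ (δ^[m] z) = δ^[m] (φ z) := by
        intro m
        induction m with
        | zero => intro z _; rfl
        | succ m ihm =>
          intro z hz
          rw [Function.iterate_succ_apply', Function.iterate_succ_apply',
            hcommute hZM hδr _ (iterate_mapsTo (fun w hw => hδi.mapsTo hw) m z hz), ihm z hz]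
      rw [Function.iterate_succ_apply', ih y hy, hgφ _ hd, Function.iterate_succ_apply',
        hcn n _ (hmemM n y hy), Function.iterate_succ_apply']
  have hδ1 : ∀ y ∈ M, δ y = y := fun y hy => by
    have hMW := hMK.trans hKW
    have h := hpow l y hy
    rw [hφl _ (hMW (hgM y hy)), hφl _ (hMW hy)] at h
    have h' := hg1.mor.injOn hy (iterate_mapsTo (fun w hw => hδi.mapsTo hw) l _ hy) h
    rw [WeakResidual.iterate_fix hδi.mor hZM (hfix hδi.mor hZM) hδr.2 _ y hy] at h'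
    have hz : (y⁻¹ * δ y) ^ l = 1 := mul_left_cancel (h'.symm.trans (mul_one y).symm)
    obtain ⟨i, hi⟩ := hKp ⟨_, hZK (hδr.2 y hy)⟩
    have hi' : (y⁻¹ * δ y) ^ p ^ i = 1 := congrArg Subtype.val hi
    have h4 := pow_gcd_eq_one.mpr ⟨hz, hi'⟩
    rw [(hl.pow_right i : l.Coprime (p ^ i)), pow_one] at h4
    exact (inv_mul_eq_one.mp h4).symm
  have hxM : x ∈ M := Subgroup.mem_sup_right hx
  have hγM : γ x ∈ M := Subgroup.mem_sup_right (hγ.mapsTo hx)
  obtain ⟨z, hz, hφx⟩ : ∃ z ∈ Z, φ x = x * z := ⟨_, hφK x (hMK hxM), (mul_inv_cancel_left _ _).symm⟩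
  have hφγ : φ (γ x) = γ x * z := by
    rw [← eg x hx, hgφ x hxM, hδ1 _ (hrel hMK hZM x hxM).1, hφx,
      hg1.mor.map_mul hxM (hZM hz), hgT z hz.1]
  have hmem : x⁻¹ * γ x ∈ R ⊔ (centralizerIn S T) := hKW (hMK (M.mul_mem (M.inv_mem hxM) hγM))
  refine ⟨⟨_, hmem⟩, ?_, rfl⟩
  show φ (x⁻¹ * γ x) = x⁻¹ * γ x
  have hMW := hMK.trans hKW
  have hzc := hcomm _ (hMK (M.mul_mem (M.inv_mem hxM) hγM)) z hz
  rw [hφ.mor.map_mul (inv_mem (hMW hxM)) (hMW hγM), hφ.mor.map_inv (hMW hxM), hφx, hφγ]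
  calc (x * z)⁻¹ * (γ x * z) = z⁻¹ * ((x⁻¹ * γ x) * z) := by group
    _ = z⁻¹ * (z * (x⁻¹ * γ x)) := by rw [hzc]
    _ = x⁻¹ * γ x := by group

/-- The extension property over a subgroup `Y`. -/
def Fix (F : FusionSystem S) (Y P : Subgroup Ω) (f : Ω → Ω) : Prop :=
  ∃ ψ, Mor F (P ⊔ Y) ψ ∧ (∀ x ∈ P, ψ x = f x) ∧ ∀ y ∈ Y, ψ y = y

/-- Every map of `E` extends to one fixing the hyperfocal subgroup of the centralizer of `T`. -/
theorem fix_all {CT : FusionSystem (centralizerIn S T)} (hCT : F.IsCentralizerSystem T CT) :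
    ∀ P f, Mor E P f → Fix F (CT.hyperfocalSubgroup p) P f := by
  haveI := finite_of_le c.toWCtx.tle
  haveI := finite_of_le (centralizerIn_le : centralizerIn S T ≤ S)
  set Y := CT.hyperfocalSubgroup p
  have hYC : Y ≤ centralizerIn S T := hyperfocal_le
  have hcl : Closed E (Fix F Y) :=
    { conj := fun {P s} hP hs => ⟨cj s, Mor.conj (sup_le (hP.trans c.toWCtx.tle) (hYC.trans centralizerIn_le))
        (c.toWCtx.tle hs), fun _ _ => rfl, fun y hy => by
          rw [cj_apply, (hYC hy).2 s hs, mul_inv_cancel_right]⟩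
      congr := fun _ e ⟨ψ, hψ, h, hy⟩ => ⟨ψ, hψ, fun x hx => (h x hx).trans (e x hx), hy⟩
      comp := by
        rintro P Q f g - - m ⟨ψ, hψ, h, hy⟩ ⟨χ, hχ, h', hy'⟩
        refine ⟨χ ∘ ψ, hψ.comp hχ (hψ.map_sup (fun x hx => Subgroup.mem_sup_left (by rw [h x hx]; exact m x hx))
          fun x hx => Subgroup.mem_sup_right (by rw [hy x hx]; exact hx)), fun x hx => ?_, fun x hx => ?_⟩
        · show χ (ψ x) = g (f x)
          rw [h x hx, h' _ (m x hx)]
        · show χ (ψ x) = x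
          rw [hy x hx, hy' x hx]
      inv := by
        rintro P Q f g hf - e ⟨ψ, hψ, h, hy⟩
        obtain ⟨χ, hχ, hl, -⟩ := hψ.toIso.exists_symm
        refine ⟨χ, hχ.mor.restrict (sup_le (fun z hz => ?_) fun z hz => ?_), fun z hz => ?_, fun z hz => ?_⟩
        · obtain ⟨x, hx, rfl⟩ := hf.surj hz
          exact hψ.mem_img.mpr ⟨x, Subgroup.mem_sup_left hx, h x hx⟩
        · exact hψ.mem_img.mpr ⟨z, Subgroup.mem_sup_right hz, hy z hz⟩
        · obtain ⟨x, hx, rfl⟩ := hf.surj hz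
          rw [← h x hx, hl x (Subgroup.mem_sup_left hx), h x hx, e x hx]
        · conv_lhs => rw [← hy z hz]
          exact hl z (Subgroup.mem_sup_right hz) }
  refine mor_induction c.toWCtx.hT c.hEsat hcl fun R hRn IH f hf => ?_
  haveI := finite_of_le hRn.1
  haveI := finite_mulAut (G := R)
  obtain ⟨hfc, -, hrec⟩ := IsSaturated_fullyNormalized c.toWCtx.hT c.hEsat hRn
  by_cases hcent : centralizerIn T R ≤ R
  swap
  · obtain ⟨e, he, ee⟩ := (receptive_iff.mp hrec).2 R f hf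
    have hle : R ⊔ centralizerIn T R ≤ nphi T R f := sup_le hf.mor.le_nphi centralizerIn_le_nphi
    have hN : nphi T R f ≤ T := nphi_le.trans normalizerIn_le
    haveI := finite_of_le (hle.trans hN)
    have h := IH _ e (he.restrict hle) (card_lt_of_lt (left_lt_sup.mpr hcent))
    exact hcl.congr (he.restrict (le_sup_left.trans hle)) ee (hcl.restrict (he.restrict hle) le_sup_left h)
  have hRc := isCentric_of_fullyCentralized c.toWCtx.hT c.hEsat hfc hcent
  suffices key : ∀ α : E.autGroup R, Fix F Y R (actFun α) by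
    exact hcl.congr (show Mor E R (actFun ⟨_, hf.equiv_mem_autGroup⟩) from
      hf.mor.congr fun x hx => (actFun_val (F := E) ⟨_, hf.equiv_mem_autGroup⟩ hx).symm)
      (fun x hx => (actFun_val _ hx).trans rfl) (key ⟨hf.equiv, hf.equiv_mem_autGroup⟩)
  intro α
  have hav : ∀ γ : E.autGroup R, ∀ x : R, actFun γ (x : Ω) = (((γ : MulAut R) x : R) : Ω) :=
    fun γ x => extFun_coe _ x
  have hα : α ∈ pResidual p ↥(E.autGroup R) ⊔ (autInducedBy T R).subgroupOf (E.autGroup R) :=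
    (autGroup_generated c.toWCtx.hT c.hEsat hRn).symm ▸ Subgroup.mem_top α
  rw [pResidual, ← Subgroup.closure_eq ((autInducedBy T R).subgroupOf (E.autGroup R)),
    ← Subgroup.closure_union] at hα
  induction hα using Subgroup.closure_induction with
  | mem γ hγ =>
    rcases hγ with hγ | hγ
    · have hi : Iso E (actFun γ) R R := autGroup_iso hRn.1 γ.2
      obtain ⟨φ, hφ, eφ, hφc⟩ := c.centric_X hRc hi.mor
      have hφi := c.toWCtx.x_iso hRc hi hφ eφ hφc
      obtain ⟨m, l, hm, hl, hml⟩ := exists_pprime_power hφi (show (orderOf γ).Coprime p from hγ)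
      have hord : ∀ n, ∀ x : R, (actFun γ)^[n] (x : Ω) = (((((γ : MulAut R)) ^ n) x : R) : Ω) := by
        intro n
        induction n with
        | zero => intro x; rfl
        | succ n ih => intro x; rw [Function.iterate_succ_apply', ih, hav γ, pow_succ', MulAut.mul_apply]
      have hγk : ∀ x ∈ R, (actFun γ)^[orderOf γ] x = x := fun x hx => by
        rw [hord _ ⟨x, hx⟩, ← SubmonoidClass.coe_pow, pow_orderOf_eq_one]; rfl
      have heq : ∀ x ∈ R, φ^[m] x = actFun γ x := fun x hx => by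
        rw [iterate_agree (fun z hz => hi.mapsTo hz) eφ m x hx, iterate_mod hγk m hx, hm,
          ← iterate_mod hγk 1 hx, Function.iterate_one]
      have hφm := iso_pow hφi m
      have hfix := c.fix_hyperfocal hRc hφm (fun x hx => by rw [heq x hx]; exact hi.mapsTo hx) hl hml
        (fun x hx => by
          have hT' := WeakResidual.WCtx.strong c.toWCtx
          have h1 : x⁻¹ * φ^[m] x ∈ T := iterate_rel hφi hT' (Subgroup.mem_sup_right hx) (hφc x hx) m
          have h2 := c.toWCtx.zmem hRc hi hφm.mor heq hx h1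
          refine ⟨h1, (Subgroup.centralizer _).mul_mem ((Subgroup.centralizer _).inv_mem
            (fun v hv => hx.2 v (hRn.1 hv))) ?_⟩
          have hRR : Iso F (φ^[m]) R R := (hφm.mor.restrict le_sup_left).iso_of_card
            (fun v hv => by rw [heq v hv]; exact hi.mapsTo hv) le_rfl
          exact (hRR.map_centralizer hφm.mor le_sup_left (fun _ _ => rfl) (Subgroup.mem_sup_right hx)
            ⟨hx.1, fun v hv => hx.2 v (hRn.1 hv)⟩).2) hCT
      exact ⟨φ^[m], hφm.mor.restrict (sup_le_sup_left hYC R), heq, hfix⟩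
    · obtain ⟨t, ht, -, et⟩ := mem_autInducedBy.mp (show (γ : MulAut R) ∈ autInducedBy T R from hγ)
      exact hcl.congr (Mor.conj hRn.1 ht) (fun x hx => by rw [hav γ ⟨x, hx⟩, et ⟨x, hx⟩, cj_apply]) (hcl.conj hRn.1 ht)
  | one =>
    exact hcl.congr (Mor.conj hRn.1 T.one_mem) (fun x hx => by rw [cj_one, hav 1 ⟨x, hx⟩]; rfl)
      (hcl.conj hRn.1 T.one_mem)
  | mul γ δ _ _ hγ hδ =>
    have hid := autGroup_iso hRn.1 δ.2
    have hig := autGroup_iso hRn.1 γ.2
    exact hcl.congr (hid.comp hig).mor (fun x hx => (actFun_mul γ δ hx).symm)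
      (hcl.comp hid.mor hig.mor (fun x hx => actFun_mem δ hx) hδ hγ)
  | inv γ _ hγ =>
    refine hcl.inv (autGroup_iso hRn.1 γ.2) (autGroup_iso hRn.1 γ⁻¹.2) (fun x hx => ?_) hγ
    show actFun γ⁻¹ (actFun γ x) = x
    rw [← actFun_mul γ⁻¹ γ hx, inv_mul_cancel, hav 1 ⟨x, hx⟩]
    rfl

/-- If `C_S(E) ≤ T`, the subsystem has `p`-power index. -/
theorem pPower (hCE : ∀ Y : Subgroup Ω, Y ≤ centralizerIn S T →
    (∀ P f, Mor E P f → Fix F Y P f) → Y ≤ T) : E.HasPPowerIndexIn F p := by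
  have hTS := c.toWCtx.tle
  have hT := c.toWCtx.strong
  haveI := finite_of_le hTS
  haveI := finite_of_le (centralizerIn_le : centralizerIn S T ≤ S)
  refine ⟨c.hinv.1, hyperfocal_le_of fun P f k hf hk hfk x hx => ?_, fun P hP => ?_⟩
  swap
  · rintro _ ⟨α, -, rfl⟩
    obtain ⟨g, hg, e⟩ := (mem_autGroup_iff (hP.trans hTS)).mp α.2
    exact (mem_autGroup_iff hP).mpr ⟨g, ⟨c.mor_E hg.mor hP, hg.bij⟩, e⟩
  obtain ⟨CT, hCT⟩ := exists_centralizerSystem F T hTS
  have hYT := hCE _ hyperfocal_le (c.fix_all hCT)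
  obtain ⟨ψ, l, hψ, hl, hψl, e⟩ := exists_pprime_lift c.hS c.hF hT hf hk hfk
  set W := P ⊔ T
  have hWS : W ≤ S := hψ.dom_le
  haveI := finite_of_le hWS
  have hTT : Iso F ψ T T := (hψ.mor.restrict le_sup_right).iso_of_card
    (fun y hy => stronglyClosed_mem hT hψ.mor (Subgroup.mem_sup_right hy) hy) le_rfl
  obtain ⟨-, β, hβ, eβ, hβc⟩ := c.hext ψ (c.autT hTT)
  rw [c.htop] at hβ
  have hTn : ∀ s ∈ S, ∀ y ∈ T, cj s y ∈ T := fun s hs y hy => (cj_mem_iff (c.toWCtx.tn hs) y).mpr hy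
  have hrelβ : ∀ u ∈ S, u⁻¹ * β u ∈ T := fun u hu => by
    obtain ⟨t, ht, z, hz, rfl⟩ := c.mem_mul hu
    rw [hβ.mor.map_mul (hTS ht) hz.1, eβ t ht,
      show (t * z)⁻¹ * (ψ t * β z) = cj z⁻¹ (t⁻¹ * ψ t) * (z⁻¹ * β z) by rw [cj_apply]; group]
    exact T.mul_mem (hTn _ (S.inv_mem hz.1) _ (T.mul_mem (T.inv_mem ht) (hTT.mapsTo ht))) (hβc z hz)
  obtain ⟨β', hβ', hβl, hβr⟩ := hβ.exists_symm
  have hrelβ' : ∀ u ∈ S, u⁻¹ * β' u ∈ T := fun u hu => by
    have h := T.inv_mem (hrelβ _ (hβ'.mapsTo hu))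
    rwa [hβr u hu, mul_inv_rev, inv_inv] at h
  set γ := β' ∘ ψ
  have hγm : Mor F W γ := hψ.mor.comp hβ'.mor fun y hy => hψ.mor.map_mem hy
  have hγT : ∀ y ∈ T, γ y = y := fun y hy => by
    show β' (ψ y) = y
    rw [← eβ y hy, hβl y (hTS hy)]
  have hγψ : ∀ w ∈ W, (ψ w)⁻¹ * γ w ∈ T := fun w hw => hrelβ' _ (hψ.mor.map_mem hw)
  have hγW : ∀ w ∈ W, γ w ∈ W := fun w hw => by
    have := W.mul_mem (hψ.mapsTo hw) (Subgroup.mem_sup_right (hγψ w hw))
    rwa [mul_inv_cancel_left] at this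
  have hγi : Iso F γ W W := hγm.iso_of_card hγW le_rfl
  have hγn : ∀ n, ∀ w ∈ W, (ψ^[n] w)⁻¹ * γ^[n] w ∈ T := by
    intro n
    induction n with
    | zero => intro w _; simp
    | succ n ih =>
      intro w hw
      have h1 := iterate_mapsTo (fun z hz => hψ.mapsTo hz) n w hw
      have h2 := iterate_mapsTo hγW n w hw
      rw [Function.iterate_succ_apply', Function.iterate_succ_apply',
        ← mul_inv_cancel_left (ψ (γ^[n] w)) (γ (γ^[n] w)), ← mul_assoc]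
      refine T.mul_mem ?_ (hγψ _ h2)
      rw [← hψ.mor.map_inv h1, ← hψ.mor.map_mul (inv_mem h1) h2]
      exact hTT.mapsTo (ih w hw)
  set CW := centralizerIn S T ⊓ W with hCW
  have hCWW : CW ≤ W := inf_le_right
  haveI := finite_of_le hCWW
  have hTi : Iso F γ T T := (hγm.restrict le_sup_right).iso_of_card
    (fun y hy => by rw [hγT y hy]; exact hy) le_rfl
  have hγC : ∀ y ∈ CW, γ y ∈ CW := fun y hy =>
    ⟨hTi.map_centralizer hγm le_sup_right (fun _ _ => rfl) hy.2 hy.1, hγW y hy.2⟩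
  have hγCi : Iso CT γ CW CW := ((cent_mor hCT).mpr ⟨inf_le_left, fun y hy => (hγC y hy).1, γ,
    hγm.restrict (sup_le hCWW le_sup_right), fun _ _ => rfl, hγT⟩).iso_of_card hγC le_rfl
  obtain ⟨m, l', hm, hl', hml⟩ := exists_pprime_power hγCi hl
  -- decompose `x`
  obtain ⟨t, ht, z, hz, hxe⟩ := c.mem_mul (hf.dom_le hx)
  have hxW : x ∈ W := Subgroup.mem_sup_left hx
  have hzW : z ∈ CW := ⟨hz, by
    have := W.mul_mem (W.inv_mem (Subgroup.mem_sup_right ht : t ∈ W)) hxW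
    rwa [← hxe, inv_mul_cancel_left] at this⟩
  have hY : z⁻¹ * γ^[m] z ∈ T := hYT (mem_hyperfocal_gen (iso_pow hγCi m) hl' hml hzW)
  have hψz : z⁻¹ * ψ z ∈ T := by
    have h1 := hγn m z hzW.2
    rw [iterate_mod hψl m hzW.2, hm, ← iterate_mod hψl 1 hzW.2, Function.iterate_one] at h1
    have := T.mul_mem hY (T.inv_mem h1)
    rwa [mul_inv_rev, inv_inv, ← mul_assoc, mul_assoc z⁻¹, mul_inv_cancel, mul_one] at this
  have hψx : x⁻¹ * ψ x ∈ T := by
    rw [← hxe, hψ.mor.map_mul (Subgroup.mem_sup_right ht) hzW.2,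
      show (t * z)⁻¹ * (ψ t * ψ z) = cj z⁻¹ (t⁻¹ * ψ t) * (z⁻¹ * ψ z) by rw [cj_apply]; group]
    exact T.mul_mem (hTn _ (S.inv_mem hz.1) _ (T.mul_mem (T.inv_mem ht) (hTT.mapsTo ht))) hψz
  have := T.mul_mem hψx (T.inv_mem (e x hx))
  rwa [mul_inv_rev, inv_inv, ← mul_assoc, mul_assoc x⁻¹, mul_inv_cancel, mul_one] at this

end Base

end Cfsg.Agent.Fusion.CentFix
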