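/-
The subsystem cut out by a character of order prime to `p` on the automizer of a strongly closed subgroup.
-/
import Cfsg.Agent.Fusion.SatIndex
import Cfsg.Agent.Fusion.Invariant
import Cfsg.Agent.Fusion.ExtendMod
set_option autoImplicit false
set_option linter.style.haveILetI false

namespace Cfsg.Agent.Fusion.CharSys

open Cfsg Cfsg.FusionSystem Cfsg.Agent.Fusion.SatCrit

variable {Ω : Type*} [Group Ω] {S T : Subgroup Ω} {F : FusionSystem S} {E : FusionSystem T}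
  {p : ℕ} {Δ : Type*} [Group Δ] {P Q R A : Subgroup Ω} {f g h a : Ω → Ω} {d e : Δ}

/-- The data of the character. -/
structure CharCtx (F : FusionSystem S) (E : FusionSystem T) (p : ℕ)
    (χ : ↥(F.autGroup T) →* Δ) : Prop where
  hS : IsPGroup p S
  hF : F.IsSaturated p
  hEsat : E.IsSaturated p
  hinv : E.IsInvariantIn F
  hΔ : (Nat.card Δ).Coprime p
  hker : (E.autGroup T).subgroupOf (F.autGroup T) ≤ χ.ker

/-- An automorphism of `T` as a function on the ambient group. -/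
noncomputable def af (α : MulAut T) : Ω → Ω := extFun (T.subtype.comp α.toMonoidHom)

theorem af_coe (α : MulAut T) (x : T) : af α (x : Ω) = ((α x : T) : Ω) := extFun_coe _ x

theorem af_apply (α : MulAut T) {x : Ω} (hx : x ∈ T) : af α x = ((α ⟨x, hx⟩ : T) : Ω) :=
  af_coe α ⟨x, hx⟩

theorem af_mem (α : MulAut T) {x : Ω} (hx : x ∈ T) : af α x ∈ T := by
  rw [af_apply α hx]; exact SetLike.coe_mem _

theorem af_mul (α β : MulAut T) {x : Ω} (hx : x ∈ T) : af (α * β) x = af α (af β x) := by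
  rw [af_apply (α * β) hx, af_apply β hx, af_coe]; rfl

theorem af_one {x : Ω} (hx : x ∈ T) : af (1 : MulAut T) x = x := af_apply 1 hx

theorem af_inv_self (α : MulAut T) {x : Ω} (hx : x ∈ T) : af α⁻¹ (af α x) = x := by
  rw [← af_mul _ _ hx, inv_mul_cancel, af_one hx]

theorem af_self_inv (α : MulAut T) {x : Ω} (hx : x ∈ T) : af α (af α⁻¹ x) = x := by
  rw [← af_mul _ _ hx, mul_inv_cancel, af_one hx]

/-- `d` is a value of the character at the map `f` on `Q`. -/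
def Val (χ : ↥(F.autGroup T) →* Δ) (E : FusionSystem T) (Q : Subgroup Ω) (f : Ω → Ω) (d : Δ) : Prop :=
  ∃ (α : F.autGroup T) (g : Ω → Ω), Mor E Q g ∧ χ α = d ∧ ∀ x ∈ Q, f x = af (α : MulAut T) (g x)

variable {χ : ↥(F.autGroup T) →* Δ}

namespace CharCtx

variable (c : CharCtx F E p χ)
include c

theorem strong : F.StronglyClosed T := c.hinv.2.1

theorem tle : T ≤ S := c.strong.1

theorem sub (h : Mor E P f) : Mor F P f := by
  obtain ⟨φ, hφ, e⟩ := h
  exact ⟨φ, c.hinv.1 P hφ, e⟩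

theorem subIso (h : Iso E f P Q) : Iso F f P Q := ⟨c.sub h.mor, h.bij⟩

theorem afIso (α : F.autGroup T) : Iso F (af (α : MulAut T)) T T := autGroup_iso c.tle α.2

theorem afImg (α : F.autGroup T) (hQ : Q ≤ T) : ∃ Q', Iso F (af (α : MulAut T)) Q Q' ∧ Q' ≤ T :=
  ⟨_, (c.afIso α).restrict hQ, (c.afIso α).restrict_img_le hQ⟩

theorem push (α : F.autGroup T) (h : Mor E P g) {P' : Subgroup Ω}
    (hP' : ∀ y, y ∈ P' ↔ ∃ x ∈ P, af (α : MulAut T) x = y) :
    Mor E P' (af (α : MulAut T) ∘ g ∘ af ((α : MulAut T)⁻¹)) :=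
  invariant_push c.hinv (c.afIso α) (fun _ hx => af_inv_self _ hx) h hP'

theorem val_exists (hQ : Q ≤ T) (hf : Mor F Q f) : ∃ d, Val χ E Q f d := by
  obtain ⟨a, g, ha, hg, e⟩ := invariant_frattini c.hinv hf hQ
  refine ⟨_, ⟨ha.equiv, ha.equiv_mem_autGroup⟩, g, hg, rfl, fun x hx => ?_⟩
  rw [e x hx, af_apply _ (hg.map_mem hx)]
  rfl

theorem val_mor (hg : Mor E Q g) : Val χ E Q g 1 :=
  ⟨1, g, hg, map_one χ, fun x hx => (af_one (hg.map_mem hx)).symm⟩

theorem val_id (hQ : Q ≤ T) : Val χ E Q id (1 : Δ) := c.val_mor (Mor.id' hQ)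

theorem val_af (α : F.autGroup T) (hQ : Q ≤ T) : Val χ E Q (af (α : MulAut T)) (χ α) :=
  ⟨α, id, Mor.id' hQ, rfl, fun _ _ => rfl⟩

theorem val_congr (hv : Val χ E Q f d) (e : ∀ x ∈ Q, f x = h x) : Val χ E Q h d := by
  obtain ⟨α, g, hg, hd, ef⟩ := hv
  exact ⟨α, g, hg, hd, fun x hx => (e x hx).symm.trans (ef x hx)⟩

theorem val_restrict (hv : Val χ E Q f d) (hR : R ≤ Q) : Val χ E R f d := by
  obtain ⟨α, g, hg, hd, ef⟩ := hv
  exact ⟨α, g, hg.restrict hR, hd, fun x hx => ef x (hR hx)⟩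

theorem val_comp (hf : Val χ E Q f d) (hh : Val χ E R h e) (m : ∀ x ∈ Q, f x ∈ R) :
    Val χ E Q (h ∘ f) (e * d) := by
  obtain ⟨α, g, hg, rfl, ef⟩ := hf
  obtain ⟨β, ψ, hψ, rfl, eh⟩ := hh
  obtain ⟨R', hR', -⟩ := c.afImg α⁻¹ hψ.dom_le
  have hψ' := c.push α⁻¹ hψ (P' := R') fun y => ⟨fun hy => hR'.surj hy, fun ⟨x, hx, e⟩ => e ▸ hR'.mapsTo hx⟩
  have hm : ∀ x ∈ Q, g x ∈ R' := fun x hx => by
    have := hR'.mapsTo (m x hx)
    rw [ef x hx, Subgroup.coe_inv, af_inv_self _ (hg.map_mem hx)] at this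
    exact this
  refine ⟨β * α, _, hg.comp hψ' hm, map_mul χ β α, fun x hx => ?_⟩
  show h (f x) = af _ (af _ (ψ (af _ (g x))))
  have h1 : f x ∈ R := m x hx
  rw [eh _ h1, Subgroup.coe_mul, af_mul _ _ (af_mem _ (hψ.map_mem (by rwa [Subgroup.coe_inv, inv_inv, ← ef x hx]))),
    Subgroup.coe_inv, inv_inv, ← ef x hx, af_self_inv _ (hψ.map_mem h1)]

theorem ec_conj (hQ : E.IsCentric Q) (hf : Iso F f Q R) : E.IsCentric R := by
  have hQT : Q ≤ T := hQ.1
  obtain ⟨a, g, ha, hg, e⟩ := invariant_frattini c.hinv hf.mor hQT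
  obtain ⟨a', ha', hl, hr⟩ := ha.exists_symm
  have hi : SysIso E E a a' := invariant_sysIso c.hinv ha ha' hl hr
  have hg' := hg.toIso
  have himg : hi.img hg.img = R := by
    ext y
    rw [hi.mem_img hg'.cod_le]
    constructor
    · rintro ⟨x, hx, rfl⟩
      obtain ⟨w, hw, rfl⟩ := hg'.surj hx
      rw [← e w hw]; exact hf.mapsTo hw
    · intro hy
      obtain ⟨w, hw, rfl⟩ := hf.surj hy
      exact ⟨g w, hg'.mapsTo hw, (e w hw).symm⟩
  rw [← himg]
  refine ⟨hi.img_le _, fun R' hR' x hx => ?_⟩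
  have h1 : E.IsConj hg.img (hi.symm.img R') := by
    have := hi.symm.isConj hR'
    rwa [hi.img_img hg'.cod_le] at this
  have hR'T : R' ≤ T := by
    obtain ⟨u, hu⟩ := isConj_iff.mp hR'
    exact hu.cod_le
  have h2 := hQ.2 _ (isConj_trans hg'.isConj h1)
  have h3 : a' x ∈ hi.symm.img R' := h2 ⟨hi.mem' x hx.1, (hi.symm.mem_centralizer_img hR'T hx.1).mpr hx.2⟩
  exact (hi.symm.mem_img_apply hR'T hx.1).mp h3

end CharCtx

namespace CharCtx

variable (c : CharCtx F E p χ) [Fact p.Prime] [Finite S] [Finite Δ]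
include c

theorem eq_one_of_ppow {x : Δ} {k : ℕ} (h : x ^ p ^ k = 1) : x = 1 :=
  orderOf_eq_one_iff.mp (Nat.eq_one_of_dvd_coprimes (c.hΔ.pow_right k) (orderOf_dvd_natCard x)
    (orderOf_dvd_of_pow_eq_one h))

omit [Fact p.Prime] [Finite S] [Finite Δ] in
theorem val_iterate (hf : Val χ E Q f d) (m : ∀ x ∈ Q, f x ∈ Q) (hQ : Q ≤ T) :
    ∀ n, Val χ E Q f^[n] (d ^ n)
  | 0 => by rw [pow_zero]; exact c.val_id hQ
  | n + 1 => by
    rw [Function.iterate_succ, pow_succ]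
    exact c.val_comp hf (val_iterate hf m hQ n) m

omit [Fact p.Prime] [Finite S] [Finite Δ] in
theorem unique_of_kill (hQ : E.IsCentric Q) (h1 : Val χ E Q f d) (h2 : Val χ E Q f e)
    (hkill : ∀ Q₁, E.IsCentric Q₁ → Nat.card Q₁ = Nat.card Q → ∀ (α : F.autGroup T) (g : Ω → Ω),
      Mor E Q₁ g → (∀ x ∈ Q₁, af (α : MulAut T) x = g x) → χ α = 1) : d = e := by
  obtain ⟨α, g, hg, rfl, eg⟩ := h1
  obtain ⟨β, g', hg', rfl, eg'⟩ := h2
  obtain ⟨k, hk, hkl, -⟩ := hg.toIso.exists_symm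
  have h := hkill hg.img (c.ec_conj hQ (c.subIso hg.toIso)) hg.toIso.card_eq.symm (β⁻¹ * α) (g' ∘ k)
    (hk.mor.comp hg' fun y hy => hk.mapsTo hy) fun y hy => by
      obtain ⟨x, hx, rfl⟩ := hg.toIso.surj hy
      show _ = g' (k (g x))
      rw [hkl x hx, Subgroup.coe_mul, Subgroup.coe_inv, af_mul _ _ (hg.map_mem hx), ← eg x hx, eg' x hx,
        af_inv_self _ (hg'.map_mem hx)]
  rw [map_mul, map_inv] at h
  exact (inv_mul_eq_one.mp h).symm

/-- An automorphism of `T` agreeing with a map of `E` on an `E`-centric subgroup has value `1`. -/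
theorem kill : ∀ Q, E.IsCentric Q → ∀ (α : F.autGroup T) (g : Ω → Ω),
    Mor E Q g → (∀ x ∈ Q, af (α : MulAut T) x = g x) → χ α = 1 := by
  intro Q
  haveI : Finite T := finite_of_le c.tle
  have hT : IsPGroup p T := c.hS.to_le c.tle
  induction hd : Nat.card T - Nat.card Q using Nat.strong_induction_on generalizing Q with
  | _ n IH =>
  intro hQ α g hg eα
  haveI := finite_of_le hQ.1
  rcases hQ.1.eq_or_lt with rfl | hlt
  · have hi : Iso E g Q Q := hg.iso_of_card (fun x hx => hg.map_mem hx) le_rfl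
    refine MonoidHom.mem_ker.mp (c.hker (show (α : MulAut Q) ∈ E.autGroup Q from ?_))
    rw [show (α : MulAut Q) = hi.equiv from MulEquiv.ext fun x => Subtype.ext
      ((af_coe _ x).symm.trans (eα x x.2))]
    exact hi.equiv_mem_autGroup
  set N := normalizerIn T Q with hNdef
  have hNT : N ≤ T := normalizerIn_le
  haveI := finite_of_le hNT
  have hQN : Q < N := lt_normalizerIn hT hlt
  obtain ⟨N₁, hN₁, hN₁T⟩ := c.afImg α hNT
  haveI := finite_of_le hN₁T
  have hgi := hg.toIso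
  set Q₁ := hg.img
  have hQ₁c : E.IsCentric Q₁ := c.ec_conj hQ (c.subIso hgi)
  obtain ⟨e, he, ee⟩ := (receptive_iff.mp (IsSaturated_fullyCentralized_receptive hT c.hEsat
    (centric_fullyCentralized hQ₁c))).2 Q g hgi
  have hafm := (c.afIso α).mor
  have hNphi : N ≤ nphi T Q g := fun x hx => mem_nphi.mpr ⟨hx.1, hx.2, _, af_mem _ hx.1, fun v hv => by
    rw [← eα _ ((cj_mem_iff hx.2 v).mpr hv), ← eα v hv]
    exact hafm.map_conj hx.1 (hQ.1 hv)⟩
  have heN : Mor E N e := he.restrict hNphi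
  have hQ₁N : Q₁ ≤ N₁ := fun y hy => by
    obtain ⟨v, hv, rfl⟩ := hgi.surj hy
    rw [← eα v hv]; exact hN₁.mapsTo (hQN.le hv)
  have hem : ∀ x ∈ N, e x ∈ N₁ := fun x hx => by
    have hz : (af (α : MulAut T) x)⁻¹ * e x ∈ centralizerIn T Q₁ := by
      refine ⟨T.mul_mem (T.inv_mem (af_mem _ hx.1)) (heN.map_mem hx), fun y hy => ?_⟩
      obtain ⟨v, hv, rfl⟩ := hgi.surj hy
      have h1 : af (α : MulAut T) x * g v * (af (α : MulAut T) x)⁻¹ = e x * g v * (e x)⁻¹ := by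
        rw [← eα v hv]
        conv_rhs => rw [eα v hv, ← ee v hv, ← heN.map_conj hx (hQN.le hv)]
        rw [← hafm.map_conj hx.1 (hQ.1 hv), ← cj_apply, eα _ ((cj_mem_iff hx.2 v).mpr hv),
          ← ee _ ((cj_mem_iff hx.2 v).mpr hv)]
      have h2 := congrArg (fun t => (af (α : MulAut T) x)⁻¹ * t * e x) h1
      simp only [mul_assoc, inv_mul_cancel, mul_one, inv_mul_cancel_left] at h2
      simpa [mul_assoc] using h2
    have := N₁.mul_mem (hN₁.mapsTo hx) (hQ₁N (hQ₁c.2 Q₁ (isConj_refl hQ₁c.1) hz))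
    rwa [mul_inv_cancel_left] at this
  have hei : Iso F e N N₁ := (c.sub heN).iso_of_card hem hN₁.card_eq.symm.le
  obtain ⟨k, hk, hkl, hkr⟩ := hei.exists_symm
  set ω := k ∘ af (α : MulAut T) with hω
  have hωi : Iso F ω N N := hN₁.comp hk
  have hωQ : ∀ v ∈ Q, ω v = v := fun v hv => by
    show k (af _ v) = v
    rw [eα v hv, ← ee v hv, hkl v (hQN.le hv)]
  have hωd : ∀ x ∈ N, x⁻¹ * ω x ∈ Q := fun x hx => by
    have hz : (e x)⁻¹ * af (α : MulAut T) x ∈ centralizerIn T Q₁ := by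
      refine ⟨T.mul_mem (T.inv_mem (heN.map_mem hx)) (af_mem _ hx.1), fun y hy => ?_⟩
      obtain ⟨v, hv, rfl⟩ := hgi.surj hy
      have h1 : af (α : MulAut T) x * g v * (af (α : MulAut T) x)⁻¹ = e x * g v * (e x)⁻¹ := by
        rw [← eα v hv]
        conv_rhs => rw [eα v hv, ← ee v hv, ← heN.map_conj hx (hQN.le hv)]
        rw [← hafm.map_conj hx.1 (hQ.1 hv), ← cj_apply, eα _ ((cj_mem_iff hx.2 v).mpr hv),
          ← ee _ ((cj_mem_iff hx.2 v).mpr hv)]
      have h2 := congrArg (fun t => (e x)⁻¹ * t * af (α : MulAut T) x) h1.symm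
      simp only [mul_assoc, inv_mul_cancel, mul_one, inv_mul_cancel_left] at h2
      simpa [mul_assoc] using h2
    obtain ⟨v, hv, hvz⟩ := hgi.surj (hQ₁c.2 Q₁ (isConj_refl hQ₁c.1) hz)
    have : e (x⁻¹ * ω x) = e v := by
      rw [heN.map_mul (N.inv_mem hx) (hωi.mapsTo hx), heN.map_inv hx, ee v hv, hvz]
      show _ * e (k (af _ x)) = _
      rw [hkr _ (hN₁.mapsTo hx)]
    exact heN.injOn (N.mul_mem (N.inv_mem hx) (hωi.mapsTo hx)) (hQN.le hv) this ▸ hv
  have hωn : ∀ (m : ℕ), ∀ x ∈ N, ω^[m] x = x * (x⁻¹ * ω x) ^ m := by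
    intro m
    induction m with
    | zero => intro x _; simp
    | succ m ihm =>
      intro x hx
      have hd := hωd x hx
      rw [Function.iterate_succ_apply', ihm x hx,
        hωi.mor.map_mul hx (pow_mem (hQN.le hd) m), hωQ _ (pow_mem hd m), pow_succ', ← mul_assoc,
        mul_inv_cancel_left]
  obtain ⟨i, hi⟩ := IsPGroup.iff_card.mp (hT.to_le hQ.1)
  have hωid : ∀ x ∈ N, ω^[p ^ i] x = x := fun x hx => by
    have h : (⟨x⁻¹ * ω x, hωd x hx⟩ : Q) ^ Nat.card Q = 1 := pow_card_eq_one'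
    rw [hωn _ x hx, ← hi,
      show (x⁻¹ * ω x) ^ Nat.card Q = 1 from congrArg Subtype.val h, mul_one]
  have huniq : ∀ {f' : Ω → Ω} {d₁ d₂ : Δ}, Val χ E N f' d₁ → Val χ E N f' d₂ → d₁ = d₂ :=
    fun h1 h2 => c.unique_of_kill (isCentric_mono hQ hQN.le hNT) h1 h2 fun Q' hQ' hcard => by
      refine IH _ ?_ Q' rfl hQ'
      have h3 := card_lt_of_lt hQN
      have h4 := card_le_of_le hQ'.1
      omega
  obtain ⟨dω, hdω⟩ := c.val_exists hNT hωi.mor
  have h1 : dω = 1 := c.eq_one_of_ppow (k := i)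
    (huniq (c.val_iterate hdω (fun x hx => hωi.mapsTo hx) hNT _)
      (c.val_congr (c.val_id hNT) fun x hx => (hωid x hx).symm))
  have h2 := c.val_comp hdω (c.val_mor heN) (fun x hx => hωi.mapsTo hx)
  rw [h1, one_mul] at h2
  exact huniq (c.val_af α hNT) (c.val_congr h2 fun x hx => hkr _ (hN₁.mapsTo hx))

theorem unique (hQ : E.IsCentric Q) (h1 : Val χ E Q f d) (h2 : Val χ E Q f e) : d = e :=
  c.unique_of_kill hQ h1 h2 fun Q₁ h _ => c.kill Q₁ h

omit [Fact p.Prime] [Finite S] [Finite Δ] in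
theorem meet_iso (hf : Iso F f P Q) : Iso F f (P ⊓ T) (Q ⊓ T) := by
  refine ⟨hf.mor.restrict inf_le_left, fun x hx => ?_, (hf.mor.restrict inf_le_left).injOn,
    fun y hy => ?_⟩
  · exact ⟨hf.mapsTo hx.1, stronglyClosed_mem c.strong hf.mor hx.1 hx.2⟩
  · obtain ⟨g, hg, -, hgr⟩ := hf.exists_symm
    exact ⟨g y, ⟨hg.mapsTo hy.1, stronglyClosed_mem c.strong hg.mor hy.1 hy.2⟩, hgr y hy.1⟩

omit [Fact p.Prime] [Finite S] [Finite Δ] in
theorem meet_maps (hf : Mor F P f) (m : ∀ x ∈ P, f x ∈ Q) : ∀ x ∈ P ⊓ T, f x ∈ Q ⊓ T :=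
  fun x hx => ⟨m x hx.1, stronglyClosed_mem c.strong hf hx.1 hx.2⟩

omit [Fact p.Prime] [Finite S] [Finite Δ] in
theorem ec_meet (hf : Iso F f P Q) (h : E.IsCentric (P ⊓ T)) : E.IsCentric (Q ⊓ T) :=
  c.ec_conj h (c.meet_iso hf)

end CharCtx

/-- The family of centric subgroups meeting `T` in an `E`-centric subgroup. -/
def Gd (F : FusionSystem S) (E : FusionSystem T) (P : Subgroup Ω) : Prop :=
  F.IsCentric P ∧ E.IsCentric (P ⊓ T)

/-- The maps of value `1`. -/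
def Cls (χ : ↥(F.autGroup T) →* Δ) (E : FusionSystem T) (A : Subgroup Ω) (f : Ω → Ω) : Prop :=
  E.IsCentric (A ⊓ T) → Val χ E (A ⊓ T) f 1

namespace CharCtx

variable (c : CharCtx F E p χ) [Fact p.Prime] [Finite S] [Finite Δ]
include c

theorem val_cj {s : Ω} (hQ : Q ≤ T) (hs : s ∈ S) : Val χ E Q (cj s) (1 : Δ) := by
  have hn : s ∈ normalizerIn S T := ⟨hs, stronglyClosed_normalized c.strong hs⟩
  set α : F.autGroup T := ⟨actHom S T ⟨s, hn⟩,
    autInducedBy_le_autGroup c.tle ((range_actHom S T).le ⟨_, rfl⟩)⟩ with hα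
  obtain ⟨k, hk⟩ := isPGroup_autInducedBy c.hS T
    ⟨actHom S T ⟨s, hn⟩, (range_actHom S T).le ⟨_, rfl⟩⟩
  have h1 : α ^ p ^ k = 1 := Subtype.ext (congrArg Subtype.val hk :)
  have h2 : χ α = 1 := c.eq_one_of_ppow (k := k) (by rw [← map_pow, h1, map_one])
  exact h2 ▸ c.val_congr (c.val_af α hQ) fun x hx => af_apply _ (hQ hx)

theorem base : ExtBase F p (Gd F E) (Cls χ E) where
  closed :=
    { conj := fun _ hs _ => c.val_cj inf_le_right hs
      congr := fun _ e h hA => c.val_congr (h hA) fun x hx => e x hx.1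
      comp := fun {P Q f g} hf hg m h h' hP => by
        have hQ : E.IsCentric (Q ⊓ T) := isCentric_mono (c.ec_meet hf.toIso hP)
          (fun y hy => by
            refine ⟨?_, hy.2⟩
            obtain ⟨x, hx, rfl⟩ := hf.toIso.surj hy.1
            exact m x hx) inf_le_right
        simpa using c.val_comp (h hP) (h' hQ) (c.meet_maps hf m)
      inv := fun {P Q f g} hf hg e h hQ => by
        have hP := c.ec_meet hg hQ
        obtain ⟨d, hd⟩ := c.val_exists inf_le_right (hg.mor.restrict (inf_le_left : Q ⊓ T ≤ Q))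
        have h1 := c.val_comp (h hP) hd (c.meet_maps hf.mor fun x hx => hf.mapsTo hx)
        have := c.unique hP h1 (c.val_congr (c.val_id inf_le_right) fun x hx => (e x hx.1).symm)
        rw [mul_one] at this
        exact this ▸ hd }
  pAut := fun {R f} k _ hf hk hR => by
    obtain ⟨d, hd⟩ := c.val_exists inf_le_right (hf.mor.restrict (inf_le_left : R ⊓ T ≤ R))
    have h1 := c.val_iterate hd (c.meet_maps hf.mor fun x hx => hf.mapsTo hx) inf_le_right (p ^ k)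
    have := c.unique hR h1 (c.val_congr (c.val_id inf_le_right) fun x hx => (hk x hx.1).symm)
    exact c.eq_one_of_ppow this ▸ hd
  ext := fun {P A f} hP hPA hf h _ => by
    obtain ⟨d, hd⟩ := c.val_exists inf_le_right (hf.restrict (inf_le_left : A ⊓ T ≤ A))
    have := c.unique hP.2 (c.val_restrict hd (inf_le_inf_right T hPA)) (h hP.2)
    exact this ▸ hd

theorem invar : Invar F (Cls χ E) := by
  intro a a' hi ha P f hf h hP
  haveI := finite_of_le hf.dom_le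
  set P' := hi.img P
  have hPS := hf.dom_le
  have hP'S : P' ≤ S := hi.img_le P
  have haP : Iso F a P P' := ⟨ha.mor.restrict hPS, fun x hx => (hi.mem_img hPS).mpr ⟨x, hx, rfl⟩,
    (ha.mor.restrict hPS).injOn, fun y hy => (hi.mem_img hPS).mp hy⟩
  obtain ⟨k, hk, hkl, -⟩ := haP.exists_symm
  have ha'P : Iso F a' P' P := hk.congr fun y hy => by
    obtain ⟨x, hx, rfl⟩ := haP.surj hy
    rw [hkl x hx, hi.left x (hPS hx)]
  have hPc := c.ec_meet ha'P hP
  obtain ⟨e, he⟩ := c.val_exists inf_le_right (ha'P.mor.restrict (inf_le_left : P' ⊓ T ≤ P'))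
  obtain ⟨d, hd⟩ := c.val_exists le_rfl (ha.mor.restrict c.tle)
  have h1 := c.val_comp he (h hPc) (c.meet_maps ha'P.mor fun x hx => ha'P.mapsTo hx)
  have h2 := c.val_comp h1 hd fun y hy => stronglyClosed_mem c.strong hf
    (ha'P.mapsTo hy.1) (c.meet_maps ha'P.mor (fun x hx => ha'P.mapsTo hx) y hy).2
  have h3 := c.val_comp he hd fun y hy => (c.meet_maps ha'P.mor (fun x hx => ha'P.mapsTo hx) y hy).2
  have h4 := c.unique hP h3 (c.val_congr (c.val_id inf_le_right) fun y hy => (hi.right y (hP'S hy.1)).symm)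
  rw [one_mul, h4] at h2
  exact h2

/-- A subgroup conjugate to `Q` with an outer element acting in the `p`-core. -/
theorem star (hP : F.IsCentric P) (hP' : ¬ Gd F E P) :
    ∃ Q, F.IsConj P Q ∧ ∃ x ∈ r0 F p Q, x ∉ Q := by
  have hTn := stronglyClosed_normalized c.strong
  have hU : ¬ E.IsCentric (P ⊓ T) := fun h => hP' ⟨hP, h⟩
  set U := P ⊓ T
  have hUS : U ≤ S := inf_le_left.trans hP.1
  haveI := finite_of_le hUS
  obtain ⟨V, hV, hVn⟩ := exists_fullyNormalized (F := F) hUS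
  obtain ⟨u, hu⟩ := isConj_iff.mp hV
  obtain ⟨-, g, -, hg, -, -, hgV⟩ := exists_map_to_fullyNormalized c.hS c.hF hu hVn
  haveI := finite_of_le hP.1
  have hPN : P ≤ normalizerIn S U := fun x hx => ⟨hP.1 hx, Subgroup.mem_normalizer_fintype fun v hv =>
    ⟨P.mul_mem (P.mul_mem hx hv.1) (P.inv_mem hx), (cj_mem_iff (hTn (hP.1 hx)) v).mpr hv.2⟩⟩
  have hgi := (hg.restrict hPN).toIso
  set Q := (hg.restrict hPN).img
  haveI := finite_of_le hgi.cod_le
  have hgU := c.meet_iso hgi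
  have hQT : Q ⊓ T = V := le_antisymm
    (fun y hy => by obtain ⟨x, hx, rfl⟩ := hgU.surj hy; exact hgV.mapsTo hx)
    (fun y hy => by obtain ⟨x, hx, rfl⟩ := hgV.surj hy; exact hgU.mapsTo hx)
  have hVT : V ≤ T := hQT ▸ inf_le_right
  have hVc : ¬ E.IsCentric V := fun h => hU (by
    obtain ⟨k, hk, -⟩ := hgV.exists_symm
    exact c.ec_conj h hk)
  have hnot : ¬ centralizerIn T V ≤ V := by
    intro hle
    refine hVc ⟨hVT, fun V' hV' x hx => ?_⟩
    obtain ⟨b, hb⟩ := isConj_iff.mp (isConj_symm hV')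
    obtain ⟨-, -, hrec⟩ := IsSaturated_fullyNormalized c.hS c.hF hVn
    obtain ⟨b', hb', eb⟩ := (receptive_iff.mp hrec).2 V' b (c.subIso hb)
    have hxN : x ∈ nphi S V' b := centralizerIn_le_nphi ⟨c.tle hx.1, hx.2⟩
    have hbC := (c.subIso hb).map_centralizer hb' (c.subIso hb).mor.le_nphi eb hxN ⟨c.tle hx.1, hx.2⟩
    obtain ⟨v, hv, hvx⟩ := hb.surj (hle ⟨stronglyClosed_mem c.strong hb' hxN hx.1, hbC.2⟩)
    rw [← eb v hv] at hvx
    exact hb'.injOn ((c.subIso hb).mor.le_nphi hv) hxN hvx ▸ hv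
  set W := centralizerIn T V
  have hWS : W ≤ S := centralizerIn_le.trans c.tle
  have hQW : Q ≤ Subgroup.normalizer (W : Set Ω) := fun q hq => by
    haveI := finite_of_le hWS
    refine Subgroup.mem_normalizer_fintype fun w hw => ⟨(cj_mem_iff (hTn (hgi.cod_le hq)) w).mpr hw.1,
      fun v hv => ?_⟩
    have hq' : q⁻¹ * v * q ∈ V := by
      have hv' : v ∈ Q ⊓ T := hQT.ge hv
      rw [← hQT]
      refine ⟨Q.mul_mem (Q.mul_mem (Q.inv_mem hq) hv'.1) hq, ?_⟩
      have := (cj_mem_iff (hTn (inv_mem (hgi.cod_le hq))) v).mpr hv'.2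
      rwa [cj_apply, inv_inv] at this
    have h : q⁻¹ * v * q * w = w * (q⁻¹ * v * q) := hw.2 _ hq'
    show v * (q * w * q⁻¹) = q * w * q⁻¹ * v
    calc v * (q * w * q⁻¹) = q * (q⁻¹ * v * q * w) * q⁻¹ := by group
      _ = q * (w * (q⁻¹ * v * q)) * q⁻¹ := by rw [h]
      _ = q * w * q⁻¹ * v := by group
  have hsup : Q < Q ⊔ W := left_lt_sup.mpr fun hle => hnot fun w hw => hQT ▸ ⟨hle hw, hw.1⟩
  have hsS : Q ⊔ W ≤ S := sup_le hgi.cod_le hWS
  haveI := finite_of_le hsS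
  obtain ⟨y, hy, hyQ, hyn⟩ := exists_mem_normalizer_of_lt (c.hS.to_le hsS) hsup
  have hy' : y ∈ ((Q ⊔ W : Subgroup Ω) : Set Ω) := hy
  rw [Subgroup.coe_mul_of_left_le_normalizer_right _ _ hQW] at hy'
  obtain ⟨q, hq, x, hx, rfl⟩ := hy'
  have hxQ : x ∉ Q := fun h => hyQ (Q.mul_mem hq h)
  have hxn : x ∈ Subgroup.normalizer (Q : Set Ω) := by
    have := mul_mem (inv_mem (Subgroup.le_normalizer hq)) hyn
    rwa [inv_mul_cancel_left] at this
  have hxN : x ∈ normalizerIn S Q := ⟨hWS hx, hxn⟩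
  refine ⟨Q, hgi.isConj, x, mem_r0.mpr ⟨hxN, ?_⟩, hxQ⟩
  let D : ℕ → Subgroup Q := fun j => match j with
    | 0 => ⊥
    | 1 => V.subgroupOf Q
    | _ + 2 => ⊤
  haveI := finite_mulAut (G := Q)
  have hinv : ∀ α ∈ F.autGroup Q, ∀ j ≤ 2, ∀ z ∈ D j, α z ∈ D j := by
    intro α hα j hj z hz
    match j with
    | 0 => rw [Subgroup.mem_bot.mp hz, map_one]; exact one_mem _
    | 1 =>
      obtain ⟨f, hf, ef⟩ := (mem_autGroup_iff hgi.cod_le).mp hα
      show ((α z : Q) : Ω) ∈ V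
      have hz' : (z : Ω) ∈ Q ⊓ T := hQT.ge hz
      rw [← hQT, ← ef]
      exact (c.meet_iso hf).mapsTo hz'
    | _ + 2 => exact Subgroup.mem_top _
  have hmono : ∀ j < 2, D j ≤ D (j + 1) := by
    intro j hj
    match j with
    | 0 => exact bot_le
    | _ + 1 => exact le_top
  refine ⟨⟨_, autInducedBy_le_autGroup hgi.cod_le ((range_actHom S Q).le ⟨_, rfl⟩)⟩,
    Core.le_pCore (seriesStab_normal _ D 2 hinv) (?_ : IsPGroup p (seriesStab _ D 2 hinv)) ?_, rfl⟩
  · intro α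
    obtain ⟨k, hk⟩ := stabilizes_pow_eq_one (c.hS.to_le hgi.cod_le)
      ((α : F.autGroup Q) : MulAut Q) D 2 rfl rfl hmono α.2
    exact ⟨k, Subtype.ext (Subtype.ext hk)⟩
  · intro j hj z hz
    obtain rfl | rfl : j = 0 ∨ j = 1 := by omega
    ·
      rw [Subgroup.mem_bot]
      refine Subtype.ext ?_
      show (z : Ω)⁻¹ * (x * z * x⁻¹) = 1
      rw [← hx.2 (z : Ω) hz]
      group
    ·
      show (z : Ω)⁻¹ * (x * z * x⁻¹) ∈ V
      rw [← hQT]
      refine ⟨Q.mul_mem (Q.inv_mem z.2) ((cj_mem_iff hxn (z : Ω)).mpr z.2), ?_⟩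
      have h1 := (cj_mem_iff (hTn (inv_mem (hgi.cod_le z.2))) x).mpr hx.1
      rw [cj_apply, inv_inv] at h1
      rw [← mul_assoc, ← mul_assoc]
      exact T.mul_mem h1 (T.inv_mem hx.1)

theorem fam : GoodFam F p (Gd F E) where
  centric := fun h => h.1
  conj := fun {P Q} h hPQ => by
    obtain ⟨f, hf⟩ := isConj_iff.mp hPQ
    exact ⟨isCentric_conj h.1 hPQ, c.ec_meet hf h.2⟩
  mono := fun h hPQ hQS =>
    ⟨isCentric_mono h.1 hPQ hQS, isCentric_mono h.2 (inf_le_inf_right T hPQ) inf_le_right⟩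
  star := fun hP hP' => c.star hP hP'

theorem gd_top : Gd F E S := by
  refine ⟨⟨le_rfl, fun Q hQ => ?_⟩, ?_⟩
  · obtain ⟨u, hu⟩ := isConj_iff.mp hQ
    rw [eq_of_le_of_card hu.cod_le hu.card_eq.le]
    exact centralizerIn_le
  · haveI := finite_of_le c.tle
    rw [inf_eq_right.mpr c.tle]
    refine ⟨le_rfl, fun Q hQ => ?_⟩
    obtain ⟨u, hu⟩ := isConj_iff.mp hQ
    rw [eq_of_le_of_card hu.cod_le hu.card_eq.le]
    exact centralizerIn_le

/-- The subsystem. -/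
abbrev sys (_c : CharCtx F E p χ) : FusionSystem S :=
  systemOf (hull_closed (F := F) (G := Gd F E) (C := Cls χ E))

theorem sys_isNormal : c.sys.IsNormalIn F p := by
  refine ⟨⟨sysE_saturated c.hS c.hF c.fam c.base c.invar, c.hF, sysE_le, ⟨le_rfl,
    fun R _ φ hφ x => (F.le_of_mem hφ).2 x⟩, fun P hP φ hφ α hα => ?_, fun P hP φ hφ => ?_⟩,
    fun α hα => ?_⟩
  · have ha := autGroup_iso le_rfl hα
    set a := extFun (S.subtype.comp α.toMonoidHom) with hadef
    obtain ⟨a', ha', hl, hr⟩ := ha.exists_symm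
    have hi : SysIso F F a a' := selfSysIso ha ha' hl hr
    obtain ⟨hφF, hφh⟩ := systemOf_mor hull_closed (mor_of_mem hφ)
    have hav : ∀ x : S, a x = ((α x : S) : Ω) := fun x => extFun_coe _ x
    have hD : (P.subgroupOf S).map (S.subtype.comp α.toMonoidHom) = hi.img P := by
      ext y
      rw [hi.mem_img hP]
      exact ⟨fun ⟨x, hx, hy⟩ => ⟨x, hx, (hav x).trans hy⟩,
        fun ⟨x, hx, hy⟩ => ⟨⟨x, hP hx⟩, hx, (hav ⟨x, hP hx⟩).symm.trans hy⟩⟩
    rw [hD]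
    have hm := sysE_mor (hi.mor hφF) (hull_invar c.fam c.invar hi ha hφF hφh)
    refine ⟨hm.hom, hm.hom_mem, fun x hφx hαx => ?_⟩
    show a (extFun φ (a' ((α ⟨x, hP x.2⟩ : S) : Ω))) = _
    rw [← hav ⟨x, hP x.2⟩, hl _ (hP x.2), extFun_apply φ x.2, ← hav ⟨φ x, hφx⟩]
  · obtain ⟨a, g, ha, hg, hgc, e⟩ := factor_hull c.hS c.hF c.fam c.base c.invar P _ (mor_of_mem hφ)
    refine ⟨ha.equiv, ha.equiv_mem_autGroup, hg.hom,
      mem_of_mor (sysE_mor hg hgc) fun _ => rfl, fun x hx => ?_⟩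
    rw [← extFun_coe φ x]
    exact e x x.2
  · have hle : c.sys.autGroup S ≤ F.autGroup S := fun β hβ => by
      obtain ⟨u, hu, eu⟩ := (mem_autGroup_iff le_rfl).mp hβ
      exact (mem_autGroup_iff le_rfl).mpr ⟨u, ⟨(systemOf_mor _ hu.mor).1, hu.bij⟩, eu⟩
    obtain ⟨a, ha, ea⟩ := (mem_autGroup_iff le_rfl).mp (hle hα)
    have hSC : S ⊔ centralizerIn S S = S := sup_eq_left.mpr centralizerIn_le
    have ha2 : Iso F a (S ⊔ centralizerIn S S) (S ⊔ centralizerIn S S) := by rwa [hSC]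
    refine ⟨ha2.equiv, ha2.equiv_mem_autGroup, fun x => ea x, fun z hz => ?_⟩
    have hzS : (z : Ω) ∈ S := hz.1
    have haz : a z ∈ centralizerIn S S := ha.map_centralizer ha.mor le_rfl (fun _ _ => rfl) hzS hz
    exact ⟨S.mul_mem (S.inv_mem hzS) (ha.mor.map_mem hzS),
      (Subgroup.centralizer (S : Set Ω)).mul_mem ((Subgroup.centralizer (S : Set Ω)).inv_mem hz.2) haz.2⟩

theorem mem_aut_sys {α : MulAut S} :
    α ∈ c.sys.autGroup S ↔ α ∈ F.autGroup S ∧ ∃ β : ↥(F.autGroup T), χ β = 1 ∧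
      ∀ t : T, (((β : MulAut T) t : T) : Ω) = ((α ⟨(t : Ω), c.tle t.2⟩ : S) : Ω) := by
  haveI := finite_of_le c.tle
  have hST : S ⊓ T = T := inf_eq_right.mpr c.tle
  have hTc : E.IsCentric (S ⊓ T) := c.gd_top.2
  constructor
  · intro hα
    obtain ⟨u, hu, eu⟩ := (mem_autGroup_iff le_rfl).mp hα
    obtain ⟨huF, huh⟩ := systemOf_mor hull_closed hu.mor
    refine ⟨(mem_autGroup_iff le_rfl).mpr ⟨u, ⟨huF, hu.bij⟩, eu⟩, ?_⟩
    have hv := of_hull c.fam c.base.closed c.gd_top huh hTc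
    rw [hST] at hv
    obtain ⟨β, g, hg, hβ, eg⟩ := hv
    have hgi : Iso E g T T := hg.iso_of_card (fun x hx => hg.map_mem hx) le_rfl
    have hgF := c.subIso hgi
    have h1 : χ ⟨hgF.equiv, hgF.equiv_mem_autGroup⟩ = 1 :=
      MonoidHom.mem_ker.mp (c.hker (show (hgF.equiv : MulAut T) ∈ E.autGroup T from
        hgi.equiv_mem_autGroup))
    refine ⟨β * ⟨hgF.equiv, hgF.equiv_mem_autGroup⟩, by rw [map_mul, hβ, h1, mul_one], fun t => ?_⟩
    rw [← eu ⟨t, c.tle t.2⟩, eg t t.2, Subgroup.coe_mul, MulAut.mul_apply, ← af_coe]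
    rfl
  · rintro ⟨hα, β, hβ, e⟩
    obtain ⟨u, hu, eu⟩ := (mem_autGroup_iff le_rfl).mp hα
    refine (mem_autGroup_iff le_rfl).mpr ⟨u,
      ⟨sysE_mor hu.mor (hull_of c.gd_top hu.mor fun _ => ?_), hu.bij⟩, eu⟩
    rw [hST, ← hβ]
    exact c.val_congr (c.val_af β le_rfl) fun t ht =>
      (af_apply _ ht).trans ((e ⟨t, ht⟩).trans (eu ⟨t, c.tle ht⟩).symm)

theorem sys_ne (hχ : Function.Surjective χ) [Nontrivial Δ] :
    ¬ ∀ P : Subgroup Ω, c.sys.Hom P = F.Hom P := by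
  intro hall
  haveI := finite_of_le c.tle
  haveI := finite_mulAut (G := T)
  obtain ⟨δ, hδ⟩ := exists_ne (1 : Δ)
  obtain ⟨β, rfl⟩ := hχ δ
  have hTn : F.IsFullyNormalized T := by
    refine ⟨c.tle, fun Q _ => ?_⟩
    have h1 : normalizerIn S T = S :=
      le_antisymm normalizerIn_le (fun s hs => ⟨hs, stronglyClosed_normalized c.strong hs⟩)
    rw [h1]
    exact card_le_of_le normalizerIn_le
  obtain ⟨-, hfa, hrec⟩ := IsSaturated_fullyNormalized c.hS c.hF hTn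
  obtain ⟨-, U, hU⟩ := hfa
  have hUK : (U : Subgroup (F.autGroup T)) ≤ χ.ker := fun γ hγ => by
    obtain ⟨k, hk⟩ := U.isPGroup' ⟨γ, hγ⟩
    refine MonoidHom.mem_ker.mpr (c.eq_one_of_ppow (k := k) ?_)
    rw [← map_pow, show γ ^ p ^ k = 1 from congrArg Subtype.val hk, map_one]
  obtain ⟨n, hn, k, hk, hnk⟩ := Subgroup.mem_sup_of_normal_right.mp
    ((Sylow.normalizer_sup_eq_top' U hUK).ge (Subgroup.mem_top β))
  have hχn : χ n = χ β := by rw [← hnk, map_mul, MonoidHom.mem_ker.mp hk, mul_one]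
  obtain ⟨e, he, ee⟩ := ext_of_conj (X := S) hrec n.2 fun s hs => by
    have hs' : s ∈ normalizerIn S T := ⟨hs, stronglyClosed_normalized c.strong hs⟩
    refine Or.inr ⟨hs', ?_⟩
    have hx' : (⟨actHom S T ⟨s, hs'⟩, autInducedBy_le_autGroup c.tle
        ((range_actHom S T).le ⟨_, rfl⟩)⟩ : F.autGroup T) ∈ (U : Subgroup (F.autGroup T)) := by
      rw [hU]; exact Subgroup.mem_subgroupOf.mpr ((range_actHom S T).le ⟨_, rfl⟩)
    have h2 := ((Subgroup.mem_normalizer_iff.mp hn) _).mp hx'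
    rw [hU] at h2
    exact h2
  have hmem : he.hom ∈ c.sys.Hom S := hall S ▸ he.hom_mem
  have hv := of_hull c.fam c.base.closed c.gd_top
    (systemOf_mor hull_closed (mor_of_mem hmem)).2 c.gd_top.2
  have hst : ∀ t ∈ T, extFun he.hom t = af (n : MulAut T) t := fun t ht => by
    rw [extFun_apply _ (c.tle ht), af_apply _ ht]
    exact ee ⟨t, ht⟩ (c.tle ht)
  have := c.unique c.gd_top.2 hv (c.val_congr (c.val_af n inf_le_right) fun t ht => (hst t ht.2).symm)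
  exact hδ (hχn ▸ this.symm)

theorem sub_sys : E.IsSubsystemOf c.sys := by
  haveI := finite_of_le c.tle
  have hT : IsPGroup p T := c.hS.to_le c.tle
  have hsat := sysE_saturated c.hS c.hF c.fam c.base c.invar
  suffices h : ∀ P f, Mor E P f → Mor c.sys P f from
    fun P φ hφ => mem_iff_mor.mpr (h P _ (mor_of_mem hφ))
  refine alperin hT c.hEsat
    { conj := fun hP hs => Mor.conj (hP.trans c.tle) (c.tle hs)
      congr := fun _ e h => h.congr e
      comp := fun _ _ m h h' => h.comp h' m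
      inv := fun hf hg e h => (Closed.of_system (F := F) c.sys).inv (c.subIso hf) (c.subIso hg) e h }
    fun R hR hRn _ f hf => ?_
  have hRc : E.IsCentric R := by
    rcases hR with rfl | h
    · have := c.gd_top.2
      rwa [inf_eq_right.mpr c.tle] at this
    · exact h.1
  obtain ⟨R₂, g, hn, hg, hgh⟩ :=
    exists_hull_fullyNormalized c.hS c.hF c.fam c.base c.invar (hRn.1.trans c.tle)
  have hRT := hRn.1
  have hR₂T : R₂ ≤ T := fun y hy => by
    obtain ⟨x, hx, rfl⟩ := hg.surj hy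
    exact stronglyClosed_mem c.strong hg.mor hx (hRT hx)
  obtain ⟨g', hg', hgl, hgr⟩ := hg.exists_symm
  have hf₂ : Iso F (g ∘ f ∘ g') R₂ R₂ := (hg'.comp (c.subIso hf)).comp hg
  have hR₂c := c.ec_conj hRc hg
  obtain ⟨d, hd⟩ := c.val_exists hRT hg.mor
  obtain ⟨d', hd'⟩ := c.val_exists hR₂T hg'.mor
  have h1 := c.val_comp (c.val_comp hd' (c.val_mor hf.mor) fun x hx => hg'.mapsTo hx) hd
    fun x hx => hf.mapsTo (hg'.mapsTo hx)
  have h0 := c.unique hR₂c (c.val_comp hd' hd fun x hx => hg'.mapsTo hx)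
    (c.val_congr (c.val_id hR₂T) fun x hx => (hgr x hx).symm)
  rw [one_mul, h0] at h1
  obtain ⟨hfc, -, hrec⟩ := IsSaturated_fullyNormalized c.hS c.hF hn
  obtain ⟨e, he, ee⟩ := (receptive_iff.mp hrec).2 R₂ _ hf₂
  set M := R₂ ⊔ centralizerIn S R₂
  have heM : Mor F M e := he.restrict (sup_le hf₂.mor.le_nphi centralizerIn_le_nphi)
  have hMc : F.IsCentric M := by
    refine ⟨heM.dom_le, fun M' hM' z hz => ?_⟩
    obtain ⟨h, hh⟩ := isConj_iff.mp hM'
    have hhR := (hh.mor.restrict (le_sup_left : R₂ ≤ M)).toIso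
    set R₃ := (hh.mor.restrict (le_sup_left : R₂ ≤ M)).img
    haveI := finite_of_le (centralizerIn_le : centralizerIn S R₃ ≤ S)
    have hC : Iso F h (centralizerIn S R₂) (centralizerIn S R₃) :=
      (hh.mor.restrict le_sup_right).iso_of_card
        (fun x hx => hhR.map_centralizer hh.mor le_sup_left (fun _ _ => rfl) (Subgroup.mem_sup_right hx) hx)
        (hfc.2 R₃ hhR.isConj)
    obtain ⟨x, hx, rfl⟩ := hC.surj (show z ∈ centralizerIn S R₃ from ⟨hz.1, fun y hy => by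
      obtain ⟨v, hv, rfl⟩ := hhR.surj hy
      exact hz.2 _ (hh.mapsTo (Subgroup.mem_sup_left hv))⟩)
    exact hh.mapsTo (Subgroup.mem_sup_right hx)
  have hMG : Gd F E M :=
    ⟨hMc, isCentric_mono hR₂c (le_inf le_sup_left hR₂T) inf_le_right⟩
  have hCe : Cls χ E M e := fun hM => by
    obtain ⟨d₂, hd₂⟩ := c.val_exists inf_le_right (heM.restrict (inf_le_left : M ⊓ T ≤ M))
    have := c.unique hR₂c (c.val_restrict hd₂ (le_inf le_sup_left hR₂T))
      (c.val_congr h1 fun x hx => (ee x hx).symm)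
    exact this ▸ hd₂
  have hmid : Mor c.sys R₂ (g ∘ f ∘ g') :=
    ((sysE_mor heM (hull_of hMG heM hCe)).restrict le_sup_left).congr fun x hx => ee x hx
  have hgm := sysE_mor hg.mor hgh
  have hg'm := sysE_mor hg'.mor (hull_closed.inv hg hg' hgl hgh)
  refine ((hgm.comp hmid fun x hx => hg.mapsTo hx).comp hg'm fun x hx =>
    hf₂.mapsTo (hg.mapsTo hx)).congr fun x hx => ?_
  show g' (g (f (g' (g x)))) = f x
  rw [hgl x hx, hgl _ (hf.mapsTo hx)]

theorem residual_le (R : FusionSystem S) (hR : F.IsPPrimeResidual p R) : R.IsSubsystemOf c.sys :=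
  hR.2.2 c.sys (sysE_saturated c.hS c.hF c.fam c.base c.invar)
    (sysE_primeIndex c.hS c.hF c.fam c.base c.invar)

end CharCtx

end Cfsg.Agent.Fusion.CharSys
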