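/-
The subgroup of `C_S(T)` fixed by a normal subsystem `E` over `T`: extensions of the maps of `E`
fix the focal subgroup of `C_F(T)`, and the largest subgroup they fix is strongly closed.
-/
import Cfsg.Agent.Fusion.CentFix
import Cfsg.Agent.Fusion.CharSys
set_option autoImplicit false
set_option linter.style.haveILetI false
set_option linter.unusedSectionVars false
set_option maxHeartbeats 1000000

namespace Cfsg.Agent.Fusion.CentE

open scoped commutatorElement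
open Cfsg Cfsg.FusionSystem Cfsg.Agent.Fusion.SatCrit Cfsg.Agent.Fusion.WeakResidual
open Cfsg.Agent.Fusion.CentFix (cent_mor exists_pprime_power iterate_agree iterate_rel Base.Fix)

variable {Ω : Type*} [Group Ω] {S T : Subgroup Ω} {F : FusionSystem S} {E : FusionSystem T}
  {p : ℕ} {P Q R A Y : Subgroup Ω} {f g φ η a : Ω → Ω}

/-- A map of `F` fixing `Y` extends `f`. -/
abbrev Fix (F : FusionSystem S) (Y P : Subgroup Ω) (f : Ω → Ω) : Prop := Base.Fix F Y P f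

/-- An extension of an automorphism of `R` over `C_S(R)`, trivial modulo `C_T(R)`. -/
def Rel (F : FusionSystem S) (T R : Subgroup Ω) (φ : Ω → Ω) : Prop :=
  Iso F φ (R ⊔ centralizerIn S R) (R ⊔ centralizerIn S R) ∧ (∀ x ∈ R, φ x ∈ R) ∧
    ∀ x ∈ centralizerIn S R, x⁻¹ * φ x ∈ centralizerIn T R

/-- The local setting at an `E`-centric subgroup. -/
structure Loc (F : FusionSystem S) (T : Subgroup Ω) (p : ℕ) (R : Subgroup Ω) : Prop where
  hS : IsPGroup p S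
  hF : F.IsSaturated p
  hTS : T ≤ S
  hRT : R ≤ T
  hfc : F.IsFullyCentralized R
  hZR : centralizerIn T R ≤ R

namespace Loc

variable (L : Loc F T p R)
include L

theorem hRS : R ≤ S := L.hRT.trans L.hTS

theorem zK : centralizerIn T R ≤ centralizerIn S R := inf_le_inf_right _ L.hTS

theorem comm {x z : Ω} (hx : x ∈ centralizerIn S R) (hz : z ∈ centralizerIn T R) : z * x = x * z :=
  hx.2 z (L.hZR hz)

variable {CR : FusionSystem (centralizerIn S R)} (hCR : F.IsCentralizerSystem R CR)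
include hCR

theorem hfix (hh : Mor CR A g) (hA : centralizerIn T R ≤ A) : ∀ z ∈ centralizerIn T R, g z = z := by
  intro z hz
  obtain ⟨-, -, k, -, ek, hk⟩ := (cent_mor hCR).mp hh
  rw [← ek z (hA hz), hk z (L.hZR hz)]

variable [Fact p.Prime] [Finite S]

/-- An automorphism trivial on `C_T(R)` and modulo it is conjugate to conjugation by an element. -/
theorem tr_conj (hA : centralizerIn T R ≤ A) (hη : Iso CR η A A)
    (hηr : ∀ x ∈ A, x⁻¹ * η x ∈ centralizerIn T R) :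
    ∃ A₂ a s, Iso CR a A A₂ ∧ s ∈ centralizerIn S R ∧ ∀ y ∈ A, a (η y) = cj s (a y) := by
  haveI : Finite (centralizerIn S R) := finite_of_le centralizerIn_le
  haveI := finite_of_le L.zK
  have hKp : IsPGroup p (centralizerIn S R) := L.hS.to_le centralizerIn_le
  have hAK := hη.dom_le
  haveI := finite_of_le hAK
  obtain ⟨A₂, hA₂, hn⟩ := exists_fullyNormalized (F := CR) hAK
  obtain ⟨a₀, ha₀⟩ := isConj_iff.mp hA₂
  haveI := finite_of_le hn.1
  haveI := finite_mulAut (G := A₂)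
  obtain ⟨b₀, hb₀, hbl, -⟩ := ha₀.exists_symm
  have hη₂ : Iso CR (a₀ ∘ η ∘ b₀) A₂ A₂ := (hb₀.comp hη).comp ha₀
  obtain ⟨j, hj⟩ := IsPGroup.iff_card.mp (hKp.to_le L.zK)
  have hηp : ∀ y ∈ A, η^[p ^ j] y = y := fun y hy => by
    rw [WeakResidual.iterate_fix hη.mor hA (L.hfix hCR hη.mor hA) hηr _ y hy, ← hj]
    have h : (⟨y⁻¹ * η y, hηr y hy⟩ : centralizerIn T R) ^ Nat.card (centralizerIn T R) = 1 :=
      pow_card_eq_one'
    rw [show (y⁻¹ * η y) ^ Nat.card (centralizerIn T R) = 1 from congrArg Subtype.val h, mul_one]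
  have hpz : IsPGroup p (Subgroup.zpowers (hη₂.equiv : MulAut A₂)) := by
    have h1 : (hη₂.equiv : MulAut A₂) ^ p ^ j = 1 := MulEquiv.ext fun y => Subtype.ext (by
      rw [equiv_pow_apply hη₂]
      obtain ⟨v, hv, hvy⟩ := ha₀.surj y.2
      rw [← hvy, iterate_conj (fun z hz => hη.mapsTo hz) hbl _ v hv, hηp v hv]
      exact hvy)
    obtain ⟨i, -, hi⟩ := (Nat.dvd_prime_pow (Fact.out : p.Prime)).mp (orderOf_dvd_of_pow_eq_one h1)
    exact IsPGroup.of_card (n := i) (by rw [Nat.card_zpowers, hi])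
  have hsat := centralizerSystem_saturated L.hS L.hF L.hfc hCR
  obtain ⟨-, hfa, -⟩ := IsSaturated_fullyNormalized hKp hsat hn
  obtain ⟨β, hβ, hβK⟩ := exists_conj_into hfa hpz (Subgroup.zpowers_le.mpr hη₂.equiv_mem_autGroup)
  obtain ⟨s, hs, -, es⟩ := mem_autInducedBy.mp (hβK _ (Subgroup.mem_zpowers _))
  obtain ⟨bf, hbf, eb⟩ := (mem_autGroup_iff hn.1).mp hβ
  refine ⟨A₂, bf ∘ a₀, s, ha₀.comp hbf, hs, fun y hy => ?_⟩
  have h := es (β ⟨a₀ y, ha₀.mapsTo hy⟩)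
  rw [MulAut.mul_apply, MulAut.mul_apply, MulAut.inv_apply_self, ← eb, ← eb] at h
  show bf (a₀ (η y)) = cj s (bf (a₀ y))
  rw [cj_apply]
  refine Eq.trans ?_ h
  show bf (a₀ (η y)) = bf (a₀ (η (b₀ (a₀ y))))
  rw [hbl y hy]

omit [Fact p.Prime] [Finite S] in
theorem tr_comm (hA : centralizerIn T R ≤ A) (h1 : Iso CR η A A)
    (h1r : ∀ x ∈ A, x⁻¹ * η x ∈ centralizerIn T R) (h2 : Iso CR g A A)
    (h2r : ∀ x ∈ A, x⁻¹ * g x ∈ centralizerIn T R) : ∀ x ∈ A, η (g x) = g (η x) := by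
  intro x hx
  have e1 : η (g x) = η x * (x⁻¹ * g x) := by
    conv_lhs => rw [← mul_inv_cancel_left x (g x)]
    rw [h1.mor.map_mul hx (hA (h2r x hx)), L.hfix hCR h1.mor hA _ (h2r x hx)]
  have e2 : g (η x) = g x * (x⁻¹ * η x) := by
    conv_lhs => rw [← mul_inv_cancel_left x (η x)]
    rw [h2.mor.map_mul hx (hA (h1r x hx)), L.hfix hCR h2.mor hA _ (h1r x hx)]
  rw [e1, e2]
  have := L.comm (mul_mem (inv_mem (h1.dom_le hx)) (h1.dom_le (h1.mapsTo hx))) (h2r x hx)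
  calc η x * (x⁻¹ * g x) = x * ((x⁻¹ * η x) * (x⁻¹ * g x)) := by group
    _ = x * ((x⁻¹ * g x) * (x⁻¹ * η x)) := by rw [this]
    _ = g x * (x⁻¹ * η x) := by group

variable {φ' : Ω → Ω} (hφ : Rel F T R φ)
  (hφ' : Iso F φ' (R ⊔ centralizerIn S R) (R ⊔ centralizerIn S R))
  (hl : ∀ x ∈ R ⊔ centralizerIn S R, φ' (φ x) = x) (hr : ∀ x ∈ R ⊔ centralizerIn S R, φ (φ' x) = x)
include hφ hφ' hl hr

omit [Fact p.Prime] [Finite S] hCR in
theorem relK {x : Ω} (hx : x ∈ centralizerIn S R) :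
    x⁻¹ * φ x ∈ centralizerIn T R ∧ x⁻¹ * φ' x ∈ centralizerIn T R := by
  refine ⟨hφ.2.2 x hx, ?_⟩
  have hxW : x ∈ R ⊔ centralizerIn S R := Subgroup.mem_sup_right hx
  have hyK : φ' x ∈ centralizerIn S R := by
    refine ⟨hφ'.mor.map_mem hxW, fun v hv => ?_⟩
    have h1 : φ v * x = x * φ v := hx.2 _ (hφ.2.1 v hv)
    conv_lhs => rw [← hl v (Subgroup.mem_sup_left hv)]
    conv_rhs => rw [← hl v (Subgroup.mem_sup_left hv)]
    rw [← hφ'.mor.map_mul (hφ.1.mapsTo (Subgroup.mem_sup_left hv)) hxW,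
      ← hφ'.mor.map_mul hxW (hφ.1.mapsTo (Subgroup.mem_sup_left hv)), h1]
  have h := hφ.2.2 _ hyK
  rw [hr x hxW] at h
  have := (centralizerIn T R).inv_mem h
  rwa [mul_inv_rev, inv_inv] at this

omit [Fact p.Prime] [Finite S] hCR in
theorem memA (hAK : A ≤ centralizerIn S R) (hA : centralizerIn T R ≤ A) {x : Ω} (hx : x ∈ A) :
    φ x ∈ A ∧ φ' x ∈ A := by
  obtain ⟨h1, h2⟩ := L.relK hφ hφ' hl hr (hAK hx)
  exact ⟨by simpa using A.mul_mem hx (hA h1), by simpa using A.mul_mem hx (hA h2)⟩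

theorem conjCR (hh : Iso CR g A Q) (hA : centralizerIn T R ≤ A) : Iso CR (φ ∘ g ∘ φ') A Q := by
  obtain ⟨hAK, -, k, hk, ek, hkR⟩ := (cent_mor hCR).mp hh.mor
  have hQK : Q ≤ centralizerIn S R := hh.cod_le
  haveI := finite_of_le L.hRS
  have hAW : A ⊔ R ≤ R ⊔ centralizerIn S R := sup_le (hAK.trans le_sup_right) le_sup_left
  have hZQ : centralizerIn T R ≤ Q := fun z hz => L.hfix hCR hh.mor hA z hz ▸ hh.mapsTo (hA hz)
  have hRR : Iso F φ R R := (hφ.1.mor.restrict le_sup_left).iso_of_card hφ.2.1 le_rfl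
  have m1 : ∀ x ∈ A ⊔ R, φ' x ∈ A ⊔ R := (hφ'.mor.restrict hAW).map_sup
    (fun x hx => Subgroup.mem_sup_left (L.memA hφ hφ' hl hr hAK hA hx).2)
    (fun x hx => Subgroup.mem_sup_right (by
      obtain ⟨v, hv, rfl⟩ := hRR.surj hx
      rw [hl v (Subgroup.mem_sup_left hv)]; exact hv))
  have m2 : ∀ x ∈ A ⊔ R, k x ∈ R ⊔ centralizerIn S R := hk.map_sup
    (fun x hx => by rw [ek x hx]; exact Subgroup.mem_sup_right (hQK (hh.mapsTo hx)))
    (fun x hx => by rw [hkR x hx]; exact Subgroup.mem_sup_left hx)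
  have hm : Mor F (A ⊔ R) (φ ∘ k ∘ φ') :=
    ((hφ'.mor.restrict hAW).comp hk m1).comp hφ.1.mor fun x hx => m2 _ (m1 x hx)
  have hin : ∀ x ∈ A, φ (g (φ' x)) ∈ Q := fun x hx =>
    (L.memA hφ hφ' hl hr hQK hZQ (hh.mapsTo (L.memA hφ hφ' hl hr hAK hA hx).2)).1
  have hmor : Mor CR A (φ ∘ g ∘ φ') := (cent_mor hCR).mpr ⟨hAK, fun x hx => hQK (hin x hx), _, hm,
    fun x hx => by
      show φ (k (φ' x)) = φ (g (φ' x))
      rw [ek _ (L.memA hφ hφ' hl hr hAK hA hx).2],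
    fun x hx => by
      show φ (k (φ' x)) = x
      obtain ⟨v, hv, rfl⟩ := hRR.surj hx
      rw [hl v (Subgroup.mem_sup_left hv), hkR v hv]⟩
  haveI : Finite (centralizerIn S R) := finite_of_le centralizerIn_le
  haveI := finite_of_le hQK
  exact hmor.iso_of_card hin hh.card_eq.ge

/-- An extension trivial modulo `C_T(R)` commutes with the automorphisms trivial modulo it. -/
theorem commute (hA : centralizerIn T R ≤ A) (hη : Iso CR η A A)
    (hηr : ∀ x ∈ A, x⁻¹ * η x ∈ centralizerIn T R) : ∀ x ∈ A, φ (η x) = η (φ x) := by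
  intro x hx
  have hAK : A ≤ centralizerIn S R := hη.dom_le
  obtain ⟨A₂, a, s, ha, hs, haη⟩ := L.tr_conj hCR hA hη hηr
  have hA₂K : A₂ ≤ centralizerIn S R := ha.cod_le
  have hZA₂ : centralizerIn T R ≤ A₂ := fun z hz => L.hfix hCR ha.mor hA z hz ▸ ha.mapsTo (hA hz)
  have hc : ∀ w ∈ A₂, φ (cj s w) = cj s (φ w) := fun w hw => by
    have hsW : s ∈ R ⊔ centralizerIn S R := Subgroup.mem_sup_right hs
    have hwW : w ∈ R ⊔ centralizerIn S R := Subgroup.mem_sup_right (hA₂K hw)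
    rw [cj_apply, hφ.1.mor.map_mul (mul_mem hsW hwW) (inv_mem hsW), hφ.1.mor.map_mul hsW hwW,
      hφ.1.mor.map_inv hsW, cj_apply]
    obtain ⟨z, hz, hze⟩ : ∃ z ∈ centralizerIn T R, φ s = s * z :=
      ⟨_, hφ.2.2 s hs, (mul_inv_cancel_left _ _).symm⟩
    have hzw : z * φ w = φ w * z := L.comm (hA₂K (L.memA hφ hφ' hl hr hA₂K hZA₂ hw).1) hz
    rw [hze, mul_assoc s z, hzw]; group
  obtain ⟨a', ha', hal, har⟩ := ha.exists_symm
  set ε := a' ∘ (φ ∘ a ∘ φ') with hε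
  have hεi : Iso CR ε A A := (L.conjCR hCR hφ hφ' hl hr ha hA).comp ha'
  have hεr : ∀ y ∈ A, y⁻¹ * ε y ∈ centralizerIn T R := fun y hy => by
    have hy' := (L.memA hφ hφ' hl hr hAK hA hy).2
    obtain ⟨z₁, hz₁, h1⟩ : ∃ z ∈ centralizerIn T R, φ' y = y * z :=
      ⟨_, (L.relK hφ hφ' hl hr (hAK hy)).2, (mul_inv_cancel_left _ _).symm⟩
    obtain ⟨z₂, hz₂, h2⟩ : ∃ z ∈ centralizerIn T R, φ (a (φ' y)) = a (φ' y) * z :=
      ⟨_, hφ.2.2 _ (hA₂K (ha.mapsTo hy')), (mul_inv_cancel_left _ _).symm⟩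
    show y⁻¹ * a' (φ (a (φ' y))) ∈ _
    rw [h2, ha'.mor.map_mul (ha.mapsTo hy') (hZA₂ hz₂), hal _ hy', L.hfix hCR ha'.mor hZA₂ _ hz₂, h1,
      mul_assoc y, inv_mul_cancel_left]
    exact mul_mem hz₁ hz₂
  have haφ : ∀ y ∈ A, φ (a y) = a (ε (φ y)) := fun y hy => by
    show φ (a y) = a (a' (φ (a (φ' (φ y)))))
    rw [hl y (Subgroup.mem_sup_right (hAK hy)), har _ (L.memA hφ hφ' hl hr hA₂K hZA₂ (ha.mapsTo hy)).1]
  have hx' := (L.memA hφ hφ' hl hr hAK hA hx).1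
  have hηx := hη.mapsTo hx
  have h1 : a (ε (φ (η x))) = a (η (ε (φ x))) := by
    rw [← haφ _ hηx, haη x hx, hc _ (ha.mapsTo hx), haφ x hx, haη _ (hεi.mapsTo hx')]
  have h2 := ha.mor.injOn (hεi.mapsTo (L.memA hφ hφ' hl hr hAK hA hηx).1)
    (hη.mapsTo (hεi.mapsTo hx')) h1
  rw [L.tr_comm hCR hA hη hηr hεi hεr _ hx'] at h2
  exact hεi.mor.injOn (L.memA hφ hφ' hl hr hAK hA hηx).1 (hη.mapsTo hx') h2

end Loc

variable [Fact p.Prime] [Finite S]

theorem eq_one_of_coprime_pow (hS : IsPGroup p S) {z : Ω} (hz : z ∈ S) {l : ℕ} (hl : l.Coprime p)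
    (h : z ^ l = 1) : z = 1 := by
  obtain ⟨i, hi⟩ := hS ⟨z, hz⟩
  have hi' : z ^ p ^ i = 1 := congrArg Subtype.val hi
  have h4 := pow_gcd_eq_one.mpr ⟨h, hi'⟩
  rwa [(hl.pow_right i : l.Coprime (p ^ i)), pow_one] at h4

/-- An element fixed by some extension over it is fixed by the relative extension of order prime to `p`. -/
theorem Loc.fix_of_ext (L : Loc F T p R) (hφ : Rel F T R φ) {l : ℕ} (hl : l.Coprime p)
    (hφl : ∀ x ∈ R ⊔ centralizerIn S R, φ^[l] x = x) (hY : Y ≤ centralizerIn S R)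
    {ψ : Ω → Ω} (hψ : Mor F (R ⊔ Y) ψ) (eψ : ∀ x ∈ R, ψ x = φ x) (hψY : ∀ y ∈ Y, ψ y = y) :
    ∀ y ∈ Y, φ y = y := by
  intro y hy
  obtain ⟨CR, hCR⟩ := exists_centralizerSystem F R L.hRS
  obtain ⟨φ', hφ', hφl', hφr'⟩ := hφ.1.exists_symm
  have hyK : y ∈ centralizerIn S R := hY hy
  haveI := finite_of_le L.hRS
  haveI : Finite (centralizerIn S R) := finite_of_le centralizerIn_le
  set A := centralizerIn T R ⊔ Subgroup.zpowers y with hAdef
  have hZA : centralizerIn T R ≤ A := le_sup_left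
  have hAK : A ≤ centralizerIn S R := sup_le L.zK (Subgroup.zpowers_le.mpr hyK)
  have hyA : y ∈ A := Subgroup.mem_sup_right (Subgroup.mem_zpowers y)
  have hAW : A ⊔ R ≤ R ⊔ centralizerIn S R := sup_le (hAK.trans le_sup_right) le_sup_left
  have hAY : A ⊔ R ≤ R ⊔ Y := sup_le (sup_le (L.hZR.trans le_sup_left)
    (Subgroup.zpowers_le.mpr (Subgroup.mem_sup_right hy))) le_sup_left
  obtain ⟨ψ', hψ', hψl, -⟩ := (hψ.restrict hAY).toIso.exists_symm
  obtain ⟨z, hz, hφy⟩ : ∃ z ∈ centralizerIn T R, φ y = y * z :=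
    ⟨_, hφ.2.2 y hyK, (mul_inv_cancel_left _ _).symm⟩
  have hRR : Iso F φ R R := (hφ.1.mor.restrict le_sup_left).iso_of_card hφ.2.1 le_rfl
  have hRimg : ∀ x ∈ R, x ∈ (hψ.restrict hAY).img ∧ φ (ψ' x) = x := fun x hx => by
    obtain ⟨v, hv, rfl⟩ := hRR.surj hx
    refine ⟨(Mor.mem_img _).mpr ⟨v, Subgroup.mem_sup_right hv, eψ v hv⟩, ?_⟩
    rw [← eψ v hv, hψl v (Subgroup.mem_sup_right hv), eψ v hv]
  have hyimg : y ∈ (hψ.restrict hAY).img ∧ ψ' y = y := by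
    refine ⟨(Mor.mem_img _).mpr ⟨y, Subgroup.mem_sup_left hyA, hψY y hy⟩, ?_⟩
    conv_lhs => rw [← hψY y hy]
    exact hψl y (Subgroup.mem_sup_left hyA)
  have hle : A ⊔ R ≤ (hψ.restrict hAY).img := sup_le (sup_le (fun x hx => (hRimg x (L.hZR hx)).1)
    (Subgroup.zpowers_le.mpr hyimg.1)) fun x hx => (hRimg x hx).1
  have hm : Mor F (A ⊔ R) (φ ∘ ψ') := (hψ'.mor.restrict hle).comp hφ.1.mor
    fun x hx => hAW (hψ'.mapsTo (hle hx))
  have hηy : φ (ψ' y) = y * z := by rw [hyimg.2, hφy]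
  have hmA : ∀ x ∈ A, φ (ψ' x) ∈ A := (hm.restrict le_sup_left).map_sup
    (fun x hx => Subgroup.mem_sup_left (by
      show φ (ψ' x) ∈ centralizerIn T R
      rw [(hRimg x (L.hZR hx)).2]; exact hx))
    (fun x hx => by
      obtain ⟨n, rfl⟩ := Subgroup.mem_zpowers_iff.mp hx
      have h := map_zpow (hm.restrict (le_sup_left : A ≤ A ⊔ R)).hom (⟨y, hyA⟩ : A) n
      rw [Mor.hom_apply, Mor.hom_apply] at h
      show φ (ψ' (y ^ n)) ∈ A
      rw [show φ (ψ' (y ^ n)) = (φ (ψ' y)) ^ n from h, hηy]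
      exact zpow_mem (mul_mem hyA (hZA hz)) n)
  have hηi : Iso CR (φ ∘ ψ') A A := by
    haveI := finite_of_le hAK
    exact ((cent_mor hCR).mpr ⟨hAK, fun x hx => hAK (hmA x hx), _, hm, fun _ _ => rfl,
      fun x hx => (hRimg x hx).2⟩).iso_of_card hmA le_rfl
  have hηr : ∀ x ∈ A, x⁻¹ * (φ ∘ ψ') x ∈ centralizerIn T R := by
    intro x hx
    have hn : Subgroup.zpowers y ≤ Subgroup.normalizer ((centralizerIn T R : Subgroup Ω) : Set Ω) :=
      Subgroup.zpowers_le.mpr (Subgroup.mem_normalizer_iff.mpr fun v => by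
        constructor
        · intro hv
          rw [← L.comm hyK hv, mul_inv_cancel_right]; exact hv
        · intro hv
          have h := L.comm hyK hv
          rw [inv_mul_cancel_right] at h
          rw [← mul_left_cancel h] at hv
          exact hv)
    have hx2 : x ∈ ((centralizerIn T R ⊔ Subgroup.zpowers y : Subgroup Ω) : Set Ω) := hx
    rw [sup_comm, Subgroup.coe_mul_of_left_le_normalizer_right _ _ hn] at hx2
    obtain ⟨b, hb, c, hc, rfl⟩ := hx2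
    obtain ⟨n, rfl⟩ := Subgroup.mem_zpowers_iff.mp hb
    have hbA : y ^ n ∈ A := zpow_mem hyA n
    show (y ^ n * c)⁻¹ * (φ ∘ ψ') (y ^ n * c) ∈ centralizerIn T R
    rw [hηi.mor.map_mul hbA (hZA hc), L.hfix hCR hηi.mor hZA c hc]
    have h := map_zpow hηi.mor.hom (⟨y, hyA⟩ : A) n
    rw [Mor.hom_apply, Mor.hom_apply] at h
    rw [show (φ ∘ ψ') (y ^ n) = ((φ ∘ ψ') y) ^ n from h, show (φ ∘ ψ') y = y * z from hηy,
      (show Commute y z from (L.comm hyK hz).symm).mul_zpow n,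
      show (y ^ n * c)⁻¹ * (y ^ n * z ^ n * c) = c⁻¹ * z ^ n * c by group]
    exact mul_mem (mul_mem (inv_mem hc) (zpow_mem hz n)) hc
  -- `φ` commutes with `η`, so fixes the discrepancy, which is killed by the coprime order
  have h := L.commute hCR hφ hφ' hφl' hφr' hZA hηi hηr y hyA
  have hzA := hZA hz
  rw [show (φ ∘ ψ') y = y * z from hηy, hφ.1.mor.map_mul (Subgroup.mem_sup_right hyK)
      (Subgroup.mem_sup_right (L.zK hz)), hφy, hηi.mor.map_mul hyA hzA,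
    show (φ ∘ ψ') y = y * z from hηy, L.hfix hCR hηi.mor hZA z hz] at h
  have hφz : φ z = z := mul_left_cancel h
  have hit : ∀ n : ℕ, φ^[n] y = y * z ^ n := by
    intro n
    induction n with
    | zero => simp
    | succ n ih =>
      rw [Function.iterate_succ_apply', ih, hφ.1.mor.map_mul (Subgroup.mem_sup_right hyK)
        (Subgroup.mem_sup_right (pow_mem (L.zK hz) n)), hφ.1.mor.map_pow (Subgroup.mem_sup_right (L.zK hz)),
        hφy, hφz, pow_succ', mul_assoc]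
  have hzl : z ^ l = 1 := by
    have := hit l
    rw [hφl y (Subgroup.mem_sup_right hyK)] at this
    exact mul_left_cancel (this.symm.trans (mul_one y).symm)
  rw [hφy, eq_one_of_coprime_pow L.hS (L.zK hz).1 hl hzl, mul_one]

/-- The relative extension of order prime to `p` fixes the focal subgroup of the centralizer of `T`. -/
theorem Loc.fix_focal (L : Loc F T p R) (hT : F.IsFullyCentralized T) (hφ : Rel F T R φ) {l : ℕ}
    (hl : l.Coprime p) (hφl : ∀ x ∈ R ⊔ centralizerIn S R, φ^[l] x = x)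
    {D : FusionSystem (centralizerIn S T)} (hD : F.IsCentralizerSystem T D) :
    ∀ y ∈ D.focalSubgroup, φ y = y := by
  obtain ⟨CR, hCR⟩ := exists_centralizerSystem F R L.hRS
  obtain ⟨φ', hφ', hφl', hφr'⟩ := hφ.1.exists_symm
  haveI : Finite (centralizerIn S T) := finite_of_le centralizerIn_le
  haveI : Finite (centralizerIn S R) := finite_of_le centralizerIn_le
  have hDp : IsPGroup p (centralizerIn S T) := L.hS.to_le centralizerIn_le
  have hsatD := centralizerSystem_saturated L.hS L.hF hT hD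
  have hCK : centralizerIn S T ≤ centralizerIn S R := fun x hx => ⟨hx.1, fun v hv => hx.2 v (L.hRT hv)⟩
  rw [focal_eq (p := p) hDp hsatD]
  suffices hle : D.hyperfocalSubgroup p ⊔ ⁅centralizerIn S T, centralizerIn S T⁆ ≤
      (hφ.1.mor.hom.eqLocus (R ⊔ centralizerIn S R).subtype).map (R ⊔ centralizerIn S R).subtype by
    intro y hy
    obtain ⟨w, hw, rfl⟩ := hle hy
    exact hw
  refine sup_le (hyperfocal_le_of fun P γ k hγ hk hγk x hx => ?_) (Subgroup.commutator_le.mpr fun u hu v hv => ?_)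
  swap
  · obtain ⟨z₁, hz₁, h1⟩ : ∃ z ∈ centralizerIn T R, φ u = u * z :=
      ⟨_, hφ.2.2 u (hCK hu), (mul_inv_cancel_left _ _).symm⟩
    obtain ⟨z₂, hz₂, h2⟩ : ∃ z ∈ centralizerIn T R, φ v = v * z :=
      ⟨_, hφ.2.2 v (hCK hv), (mul_inv_cancel_left _ _).symm⟩
    have huW : u ∈ R ⊔ centralizerIn S R := Subgroup.mem_sup_right (hCK hu)
    have hvW : v ∈ R ⊔ centralizerIn S R := Subgroup.mem_sup_right (hCK hv)
    refine ⟨⟨⁅u, v⁆, ?_⟩, ?_, rfl⟩
    · rw [commutatorElement_def]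
      exact mul_mem (mul_mem (mul_mem huW hvW) (inv_mem huW)) (inv_mem hvW)
    show φ ⁅u, v⁆ = ⁅u, v⁆
    rw [commutatorElement_def, hφ.1.mor.map_mul (mul_mem (mul_mem huW hvW) (inv_mem huW)) (inv_mem hvW),
      hφ.1.mor.map_mul (mul_mem huW hvW) (inv_mem huW), hφ.1.mor.map_mul huW hvW,
      hφ.1.mor.map_inv huW, hφ.1.mor.map_inv hvW, h1, h2]
    have a1 : Commute z₁ u := L.comm (hCK hu) hz₁
    have a2 : Commute z₁ v := L.comm (hCK hv) hz₁
    have b1 : Commute z₂ u := L.comm (hCK hu) hz₂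
    have b2 : Commute z₂ v := L.comm (hCK hv) hz₂
    have hzz : Commute z₁ z₂ := L.comm (L.zK hz₂) hz₁
    calc u * z₁ * (v * z₂) * (u * z₁)⁻¹ * (v * z₂)⁻¹
        = u * (z₁ * v) * z₂ * z₁⁻¹ * u⁻¹ * z₂⁻¹ * v⁻¹ := by group
      _ = u * v * (z₁ * z₂ * z₁⁻¹) * u⁻¹ * z₂⁻¹ * v⁻¹ := by rw [a2.eq]; group
      _ = u * v * (z₂ * u⁻¹) * z₂⁻¹ * v⁻¹ := by rw [hzz.eq, mul_inv_cancel_right]; group
      _ = u * v * u⁻¹ * v⁻¹ := by rw [b1.inv_right.eq]; group
  obtain ⟨hPC, -, g, hg, eg, hgT⟩ := (cent_mor hD).mp hγ.mor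
  set M := centralizerIn T R ⊔ P
  have hMK : M ≤ centralizerIn S R := sup_le L.zK (hPC.trans hCK)
  haveI := finite_of_le hMK
  have hZM : centralizerIn T R ≤ M := le_sup_left
  have hMR : M ⊔ R ≤ P ⊔ T :=
    sup_le (sup_le (fun z hz => Subgroup.mem_sup_right hz.1) le_sup_left) (L.hRT.trans le_sup_right)
  have hgM : ∀ y ∈ M, g y ∈ M := (hg.restrict (le_sup_left.trans hMR)).map_sup
    (fun z hz => Subgroup.mem_sup_left (by rw [hgT z hz.1]; exact hz))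
    (fun y hy => Subgroup.mem_sup_right (by rw [eg y hy]; exact hγ.mapsTo hy))
  have hg1 : Iso CR g M M := ((cent_mor hCR).mpr ⟨hMK, fun y hy => hMK (hgM y hy), g,
    hg.restrict hMR, fun _ _ => rfl, fun y hy => hgT y (L.hRT hy)⟩).iso_of_card hgM le_rfl
  obtain ⟨g', hg', hgl, hgr⟩ := hg1.exists_symm
  set δ := g' ∘ (φ ∘ g ∘ φ') with hδ
  have hδi : Iso CR δ M M := (L.conjCR hCR hφ hφ' hφl' hφr' hg1 hZM).comp hg'
  have hδr : ∀ y ∈ M, y⁻¹ * δ y ∈ centralizerIn T R := fun y hy => by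
    have hy' := (L.memA hφ hφ' hφl' hφr' hMK hZM hy).2
    obtain ⟨z₁, hz₁, h1⟩ : ∃ z ∈ centralizerIn T R, φ' y = y * z :=
      ⟨_, (L.relK hφ hφ' hφl' hφr' (hMK hy)).2, (mul_inv_cancel_left _ _).symm⟩
    obtain ⟨z₂, hz₂, h2⟩ : ∃ z ∈ centralizerIn T R, φ (g (φ' y)) = g (φ' y) * z :=
      ⟨_, hφ.2.2 _ (hMK (hg1.mapsTo hy')), (mul_inv_cancel_left _ _).symm⟩
    show y⁻¹ * g' (φ (g (φ' y))) ∈ _
    rw [h2, hg'.mor.map_mul (hg1.mapsTo hy') (hZM hz₂), hgl _ hy', L.hfix hCR hg'.mor hZM _ hz₂, h1,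
      mul_assoc y, inv_mul_cancel_left]
    exact mul_mem hz₁ hz₂
  have hgφ : ∀ y ∈ M, φ (g y) = g (δ (φ y)) := fun y hy => by
    show φ (g y) = g (g' (φ (g (φ' (φ y)))))
    rw [hφl' y (Subgroup.mem_sup_right (hMK hy)),
      hgr _ (L.memA hφ hφ' hφl' hφr' hMK hZM (hg1.mapsTo hy)).1]
  have hmemM : ∀ n : ℕ, ∀ y ∈ M, φ^[n] y ∈ M :=
    iterate_mapsTo fun y hy => (L.memA hφ hφ' hφl' hφr' hMK hZM hy).1
  have hcn : ∀ m : ℕ, ∀ z ∈ M, φ (δ^[m] z) = δ^[m] (φ z) := by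
    intro m
    induction m with
    | zero => intro z _; rfl
    | succ m ihm =>
      intro z hz
      rw [Function.iterate_succ_apply', Function.iterate_succ_apply',
        L.commute hCR hφ hφ' hφl' hφr' hZM hδi hδr _ (iterate_mapsTo (fun w hw => hδi.mapsTo hw) m z hz),
        ihm z hz]
  have hpow : ∀ n : ℕ, ∀ y ∈ M, φ^[n] (g y) = g (δ^[n] (φ^[n] y)) := by
    intro n
    induction n with
    | zero => intro y _; rfl
    | succ n ih =>
      intro y hy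
      have hd : δ^[n] (φ^[n] y) ∈ M := iterate_mapsTo (fun z hz => hδi.mapsTo hz) n _ (hmemM n y hy)
      rw [Function.iterate_succ_apply', ih y hy, hgφ _ hd, Function.iterate_succ_apply',
        hcn n _ (hmemM n y hy), Function.iterate_succ_apply']
  have hδ1 : ∀ y ∈ M, δ y = y := fun y hy => by
    have h := hpow l y hy
    rw [hφl _ (Subgroup.mem_sup_right (hMK (hgM y hy))), hφl _ (Subgroup.mem_sup_right (hMK hy))] at h
    have h' := hg1.mor.injOn hy (iterate_mapsTo (fun w hw => hδi.mapsTo hw) l _ hy) h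
    rw [WeakResidual.iterate_fix hδi.mor hZM (L.hfix hCR hδi.mor hZM) hδr _ y hy] at h'
    have hz : (y⁻¹ * δ y) ^ l = 1 := mul_left_cancel (h'.symm.trans (mul_one y).symm)
    exact (inv_mul_eq_one.mp (eq_one_of_coprime_pow L.hS (L.zK (hδr y hy)).1 hl hz)).symm
  have hxM : x ∈ M := Subgroup.mem_sup_right hx
  have hγM : γ x ∈ M := Subgroup.mem_sup_right (hγ.mapsTo hx)
  obtain ⟨z, hz, hφx⟩ : ∃ z ∈ centralizerIn T R, φ x = x * z :=
    ⟨_, hφ.2.2 x (hMK hxM), (mul_inv_cancel_left _ _).symm⟩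
  have hφγ : φ (γ x) = γ x * z := by
    rw [← eg x hx, hgφ x hxM, hδ1 _ (L.memA hφ hφ' hφl' hφr' hMK hZM hxM).1, hφx,
      hg1.mor.map_mul hxM (hZM hz), hgT z hz.1]
  have hMW : M ≤ R ⊔ centralizerIn S R := hMK.trans le_sup_right
  refine ⟨⟨_, hMW (M.mul_mem (M.inv_mem hxM) hγM)⟩, ?_, rfl⟩
  show φ (x⁻¹ * γ x) = x⁻¹ * γ x
  have hzc := L.comm (hMK (M.mul_mem (M.inv_mem hxM) hγM)) hz
  rw [hφ.1.mor.map_mul (inv_mem (hMW hxM)) (hMW hγM), hφ.1.mor.map_inv (hMW hxM), hφx, hφγ]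
  calc (x * z)⁻¹ * (γ x * z) = z⁻¹ * ((x⁻¹ * γ x) * z) := by group
    _ = z⁻¹ * (z * (x⁻¹ * γ x)) := by rw [hzc]
    _ = x⁻¹ * γ x := by group

end Cfsg.Agent.Fusion.CentE
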