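/-
The largest subgroup of `C_S(T)` fixed by a normal subsystem over `T`, and its strong closure.
-/
import Cfsg.Agent.Fusion.CentE
set_option autoImplicit false
set_option linter.style.haveILetI false
set_option linter.unusedSectionVars false
set_option maxHeartbeats 1000000

namespace Cfsg.Agent.Fusion.CentE

open Cfsg Cfsg.FusionSystem Cfsg.Agent.Fusion.SatCrit Cfsg.Agent.Fusion.WeakResidual
open Cfsg.Agent.Fusion.CharSys (af af_coe af_apply af_mem af_mul af_one af_inv_self CharCtx Gd)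
open Cfsg.Agent.Fusion.CentFix (cent_mor exists_pprime_power iterate_agree iterate_rel Base.Fix)

variable {Ω : Type*} [Group Ω] {S T : Subgroup Ω} {F : FusionSystem S} {E : FusionSystem T}
  {p : ℕ} {P Q R A Y : Subgroup Ω} {f g φ η a : Ω → Ω}

/-- A normal subsystem, in terms of maps. -/
structure Ctx (F : FusionSystem S) (E : FusionSystem T) (p : ℕ) : Prop extends WCtx F E p where
  hext : ∀ a : Ω → Ω, Iso E a T T → HF F E a

theorem Ctx.of_normal (hS : IsPGroup p S) (h : E.IsNormalIn F p) : Ctx F E p := by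
  refine ⟨⟨hS, h.1.2.1, h.1.1, h.1.2.2⟩, fun a ha => ?_⟩
  have hTS : T ≤ S := h.1.2.2.2.1.1
  obtain ⟨β, hβ, h1, h2⟩ := h.2 _ ha.equiv_mem_autGroup
  obtain ⟨b, hb, eb⟩ := (mem_autGroup_iff (sup_le hTS centralizerIn_le)).mp hβ
  refine ⟨ha, b, hb, fun x hx => (eb _).trans (h1 ⟨x, hx⟩), fun z hz => ?_⟩
  have := (h2 ⟨z, Subgroup.mem_sup_right hz⟩ hz).1
  rwa [← eb] at this

/-- The subgroup generated by the elements of `p`-power order of `Aut_E(R)`. -/
def pGenAut (E : FusionSystem T) (p : ℕ) (R : Subgroup Ω) : Subgroup (MulAut R) :=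
  Subgroup.closure {π | π ∈ E.autGroup R ∧ ∃ k : ℕ, orderOf π = p ^ k}

theorem pGenAut_le : pGenAut E p R ≤ E.autGroup R :=
  (Subgroup.closure_le _).mpr fun _ h => h.1

/-- `Y` is fixed by extensions of the maps of `E`. -/
def Good (F : FusionSystem S) (E : FusionSystem T) (Y : Subgroup Ω) : Prop :=
  ∀ P f, Mor E P f → Fix F Y P f

/-- Invariance of `Y` under the symmetries of `T ⊔ C_S(T)`. -/
def Sym (F : FusionSystem S) (T Y : Subgroup Ω) : Prop :=
  ∀ β : Ω → Ω, Iso F β (T ⊔ centralizerIn S T) (T ⊔ centralizerIn S T) → (∀ t ∈ T, β t ∈ T) →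
    ∀ y ∈ Y, β y ∈ Y

/-- `C_S(E)`. -/
def centE (F : FusionSystem S) (E : FusionSystem T) : Subgroup Ω :=
  sSup {X : Subgroup Ω | X ≤ centralizerIn S T ∧ Good F E X}

theorem Fix.mono {X : Subgroup Ω} (h : Fix F Y P f) (hX : X ≤ Y) : Fix F X P f := by
  obtain ⟨ψ, hψ, e, hy⟩ := h
  exact ⟨ψ, hψ.restrict (sup_le_sup_left hX P), e, fun y hyX => hy y (hX hyX)⟩

theorem centE_le : centE F E ≤ centralizerIn S T := sSup_le fun _ h => h.1

/-- The relation to the maps of a centralizer system. -/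
theorem fix_iff_centralizerHom (hsub : E.IsSubsystemOf F) (hY : Y ≤ centralizerIn S T) :
    Good F E Y ↔ ∀ P : Subgroup Ω, E.Hom P ⊆ F.centralizerHom Y P := by
  constructor
  · intro h P φ hφ
    have hTS : T ≤ S := subsystem_dom_le hsub
    have hTC : T ≤ centralizerIn S Y := fun t ht =>
      ⟨hTS ht, fun y hy => ((hY hy).2 t ht).symm⟩
    obtain ⟨ψ, hψ, e, hy⟩ := h P _ (mor_of_mem hφ)
    exact ⟨hsub P hφ, ((E.le_of_mem hφ).1).trans hTC, fun x => hTC ((E.le_of_mem hφ).2 x),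
      (fixExt_iff (φ := φ)).mpr ⟨ψ, hψ, fun x => (e x x.2).trans (extFun_coe φ x), hy⟩⟩
  · intro h P f hf
    obtain ⟨φ, hφ, e⟩ := hf
    obtain ⟨-, -, -, hst⟩ := h P hφ
    obtain ⟨g, hg, eg, mg⟩ := (fixExt_iff (φ := φ)).mp hst
    exact ⟨g, hg, fun x hx => (eg ⟨x, hx⟩).trans (e ⟨x, hx⟩), mg⟩

namespace Ctx

variable (c : Ctx F E p)
include c

theorem strong : F.StronglyClosed T := c.hinv.2.1

theorem tle : T ≤ S := c.strong.1

theorem cn {s y : Ω} (hs : s ∈ S) (hy : y ∈ T ⊔ centralizerIn S T) :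
    cj s y ∈ T ⊔ centralizerIn S T :=
  (Mor.conj (F := F) (sup_le c.tle centralizerIn_le) hs).map_sup
    (fun t ht => Subgroup.mem_sup_left ((cj_mem_iff (c.toWCtx.tn hs) t).mpr ht))
    (fun z hz => Subgroup.mem_sup_right (c.toWCtx.cn hs hz)) y hy

theorem loc (hR : E.IsCentric R) (hfc : F.IsFullyCentralized R) : Loc F T p R :=
  ⟨c.hS, c.hF, c.tle, hR.1, hfc, hR.2 R (isConj_refl hR.1)⟩

variable [Fact p.Prime] [Finite S]

theorem fullyNormalizedT : F.IsFullyNormalized T := by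
  refine ⟨c.tle, fun Q _ => ?_⟩
  have h1 : normalizerIn S T = S :=
    le_antisymm normalizerIn_le (fun s hs => ⟨hs, c.toWCtx.tn hs⟩)
  rw [h1]
  exact card_le_of_le normalizerIn_le

theorem fullyCentralizedT : F.IsFullyCentralized T :=
  (IsSaturated_fullyNormalized c.hS c.hF c.fullyNormalizedT).1

theorem sym_conj {s : Ω} (hs : s ∈ S) :
    Iso F (cj s) (T ⊔ centralizerIn S T) (T ⊔ centralizerIn S T) ∧ ∀ t ∈ T, cj s t ∈ T := by
  haveI := finite_of_le (sup_le c.tle (centralizerIn_le : centralizerIn S T ≤ S))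
  exact ⟨(Mor.conj (sup_le c.tle centralizerIn_le) hs).iso_of_card (fun y hy => c.cn hs hy) le_rfl,
    fun t ht => (cj_mem_iff (c.toWCtx.tn hs) t).mpr ht⟩

/-- Automorphisms of `T` extend over `C_S(T)`. -/
theorem ext_aut (ha : Iso F a T T) :
    ∃ β, Iso F β (T ⊔ centralizerIn S T) (T ⊔ centralizerIn S T) ∧ ∀ x ∈ T, β x = a x := by
  haveI := finite_of_le (sup_le c.tle (centralizerIn_le : centralizerIn S T ≤ S))
  obtain ⟨-, -, hrec⟩ := IsSaturated_fullyNormalized c.hS c.hF c.fullyNormalizedT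
  obtain ⟨β, hβ, eβ⟩ := (receptive_iff.mp hrec).2 T a ha
  have hβm : Mor F (T ⊔ centralizerIn S T) β :=
    hβ.restrict (sup_le ha.mor.le_nphi centralizerIn_le_nphi)
  refine ⟨β, hβm.iso_of_card (fun x hx => hβm.map_sup
    (fun y hy => Subgroup.mem_sup_left (by rw [eβ y hy]; exact ha.mapsTo hy))
    (fun y hy => Subgroup.mem_sup_right
      (ha.map_centralizer hβm le_sup_left eβ (Subgroup.mem_sup_right hy) hy)) x hx) le_rfl, eβ⟩

theorem sym_mapsC {β : Ω → Ω} (hβ : Iso F β (T ⊔ centralizerIn S T) (T ⊔ centralizerIn S T))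
    (hT : ∀ t ∈ T, β t ∈ T) {x : Ω} (hx : x ∈ centralizerIn S T) : β x ∈ centralizerIn S T := by
  haveI := finite_of_le c.tle
  have hTT : Iso F β T T := (hβ.mor.restrict le_sup_left).iso_of_card hT le_rfl
  exact hTT.map_centralizer hβ.mor le_sup_left (fun _ _ => rfl) (Subgroup.mem_sup_right hx) hx

/-- A symmetry and its inverse. -/
theorem sym_symm {β : Ω → Ω} (hβ : Iso F β (T ⊔ centralizerIn S T) (T ⊔ centralizerIn S T))
    (hT : ∀ t ∈ T, β t ∈ T) : ∃ β', Iso F β' (T ⊔ centralizerIn S T) (T ⊔ centralizerIn S T) ∧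
      (∀ t ∈ T, β' t ∈ T) ∧ (∀ x ∈ T ⊔ centralizerIn S T, β' (β x) = x) ∧
      ∀ x ∈ T ⊔ centralizerIn S T, β (β' x) = x := by
  haveI := finite_of_le c.tle
  obtain ⟨β', hβ', hl, hr⟩ := hβ.exists_symm
  refine ⟨β', hβ', fun t ht => ?_, hl, hr⟩
  obtain ⟨v, hv, rfl⟩ := ((hβ.mor.restrict le_sup_left).iso_of_card hT le_rfl : Iso F β T T).surj ht
  rw [hl v (Subgroup.mem_sup_left hv)]; exact hv

/-- The restriction of an extension over `C_S(R)` gives relative extensions. -/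
theorem exists_rel (hn : F.IsFullyNormalized R) (hR : E.IsCentric R) {α : MulAut R}
    (hα : α ∈ pGenAut E p R) : ∃ φ, Rel F T R φ ∧ ∀ x : R, φ x = ((α x : R) : Ω) := by
  have L := c.loc hR (IsSaturated_fullyNormalized c.hS c.hF hn).1
  have hRT := hR.1
  haveI := finite_of_le L.hRS
  haveI : Finite (centralizerIn S R) := finite_of_le centralizerIn_le
  haveI := finite_mulAut (G := R)
  have hW : R ⊔ centralizerIn S R ≤ S := sup_le L.hRS centralizerIn_le
  haveI := finite_of_le hW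
  induction hα using Subgroup.closure_induction with
  | mem π hπ =>
    obtain ⟨hπE, k, hk⟩ := hπ
    haveI := finite_of_le c.tle
    have hEn := subsystem_fullyNormalized c.hS c.hF c.strong c.hinv.1 hRT hn
    obtain ⟨-, hEa, -⟩ := IsSaturated_fullyNormalized c.toWCtx.hT c.hEsat hEn
    have hp : IsPGroup p (Subgroup.zpowers π) := IsPGroup.of_card (n := k) (by rw [Nat.card_zpowers, hk])
    obtain ⟨b, hb, hbK⟩ := exists_conj_into hEa hp (Subgroup.zpowers_le.mpr hπE)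
    obtain ⟨t, ht, htn, et⟩ := mem_autInducedBy.mp (hbK _ (Subgroup.mem_zpowers _))
    obtain ⟨bf, hbf, eb⟩ := (mem_autGroup_iff hRT).mp hb
    obtain ⟨-, -, hrec⟩ := IsSaturated_fullyNormalized c.hS c.hF hn
    obtain ⟨e, he, ee⟩ := (receptive_iff.mp hrec).2 R bf (c.toWCtx.subIso hbf)
    have heM : Mor F (R ⊔ centralizerIn S R) e :=
      he.restrict (sup_le (c.toWCtx.subIso hbf).mor.le_nphi centralizerIn_le_nphi)
    have heC : ∀ x ∈ centralizerIn S R, e x ∈ centralizerIn S R := fun x hx =>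
      (c.toWCtx.subIso hbf).map_centralizer heM le_sup_left ee (Subgroup.mem_sup_right hx) hx
    have heR : ∀ x ∈ R, e x ∈ R := fun x hx => by rw [ee x hx]; exact hbf.mapsTo hx
    have hei : Iso F e (R ⊔ centralizerIn S R) (R ⊔ centralizerIn S R) :=
      heM.iso_of_card (fun x hx => heM.map_sup (fun y hy => Subgroup.mem_sup_left (heR y hy))
        (fun y hy => Subgroup.mem_sup_right (heC y hy)) x hx) le_rfl
    obtain ⟨e', he', hel, -⟩ := hei.exists_symm
    have hu' : ∀ x ∈ R, e' x ∈ R := fun x hx => by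
      obtain ⟨v, hv, rfl⟩ := hbf.surj hx
      rw [← ee v hv, hel v (Subgroup.mem_sup_left hv)]; exact hv
    have htC : ∀ x ∈ centralizerIn S R, cj t x ∈ centralizerIn S R := fun x hx => by
      refine ⟨S.mul_mem (S.mul_mem (c.tle ht) hx.1) (S.inv_mem (c.tle ht)), fun v hv => ?_⟩
      have hv' : t⁻¹ * v * t ∈ R := by
        have := (cj_mem_iff (inv_mem htn) v).mpr hv
        rwa [cj_apply, inv_inv] at this
      have h : t⁻¹ * v * t * x = x * (t⁻¹ * v * t) := hx.2 _ hv'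
      show v * (t * x * t⁻¹) = t * x * t⁻¹ * v
      calc v * (t * x * t⁻¹) = t * (t⁻¹ * v * t * x) * t⁻¹ := by group
        _ = t * (x * (t⁻¹ * v * t)) * t⁻¹ := by rw [h]
        _ = t * x * t⁻¹ * v := by group
    have hti : Iso F (cj t) (R ⊔ centralizerIn S R) (R ⊔ centralizerIn S R) :=
      (Mor.conj hW (c.tle ht)).iso_of_card (fun x hx => (Mor.conj (F := F) hW (c.tle ht)).map_sup
        (fun y hy => Subgroup.mem_sup_left ((cj_mem_iff htn y).mpr hy))
        (fun y hy => Subgroup.mem_sup_right (htC y hy)) x hx) le_rfl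
    set G := e' ∘ cj t ∘ e with hG
    have hGi : Iso F G (R ⊔ centralizerIn S R) (R ⊔ centralizerIn S R) := (hei.comp hti).comp he'
    have hval : ∀ x : R, G x = ((π x : R) : Ω) := fun x => by
      have h := et (b x)
      rw [MulAut.mul_apply, MulAut.mul_apply, MulAut.inv_apply_self, ← eb, ← eb] at h
      show e' (cj t (e x)) = _
      rw [ee x x.2, ← h, ← ee _ (SetLike.coe_mem (π x)),
        hel _ (Subgroup.mem_sup_left (SetLike.coe_mem (π x)))]
    refine ⟨G, ⟨hGi, fun x hx => by rw [hval ⟨x, hx⟩]; exact SetLike.coe_mem _, fun x hx => ?_⟩, hval⟩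
    have hw := heC x hx
    have hu : (e x)⁻¹ * cj t (e x) ∈ centralizerIn T R := by
      refine ⟨?_, (Subgroup.centralizer (R : Set Ω)).mul_mem
        ((Subgroup.centralizer (R : Set Ω)).inv_mem hw.2) (htC _ hw).2⟩
      have h1 := (cj_mem_iff (c.toWCtx.tn (S.inv_mem hw.1)) t).mpr ht
      rw [cj_apply, inv_inv] at h1
      rw [cj_apply, ← mul_assoc, ← mul_assoc]
      exact T.mul_mem h1 (T.inv_mem ht)
    have huR := L.hZR hu
    have hxW : x ∈ R ⊔ centralizerIn S R := Subgroup.mem_sup_right hx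
    have h : G x = x * e' ((e x)⁻¹ * cj t (e x)) := by
      show e' (cj t (e x)) = _
      rw [he'.mor.map_mul (inv_mem (hei.mapsTo hxW)) (hti.mapsTo (hei.mapsTo hxW)),
        he'.mor.map_inv (hei.mapsTo hxW), hel x hxW, mul_inv_cancel_left]
    rw [h, inv_mul_cancel_left]
    refine ⟨hRT (hu' _ huR), ?_⟩
    have hRR : Iso F e' R R := (he'.mor.restrict le_sup_left).iso_of_card hu' le_rfl
    exact (hRR.map_centralizer (he'.mor.restrict le_sup_left) le_rfl (fun _ _ => rfl) huR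
      ⟨c.tle hu.1, hu.2⟩).2
  | one =>
    refine ⟨id, ⟨Iso.refl hW, fun x hx => hx, fun x _ => ?_⟩, fun _ => rfl⟩
    show x⁻¹ * x ∈ _
    rw [inv_mul_cancel]; exact one_mem _
  | mul α β _ _ iha ihb =>
    obtain ⟨φ, hφ, eφ⟩ := iha
    obtain ⟨ψ, hψ, eψ⟩ := ihb
    refine ⟨φ ∘ ψ, ⟨hψ.1.comp hφ.1, fun x hx => hφ.2.1 _ (hψ.2.1 x hx), fun x hx => ?_⟩, fun x => ?_⟩
    · have hz := hψ.2.2 x hx
      show x⁻¹ * φ (ψ x) ∈ _
      have h : φ (ψ x) = φ x * φ (x⁻¹ * ψ x) := by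
        rw [← hφ.1.mor.map_mul (Subgroup.mem_sup_right hx) (Subgroup.mem_sup_left (L.hZR hz)),
          mul_inv_cancel_left]
      rw [h, ← mul_assoc]
      refine mul_mem (hφ.2.2 x hx) ⟨hRT (hφ.2.1 _ (L.hZR hz)), ?_⟩
      have hRR : Iso F φ R R := (hφ.1.mor.restrict le_sup_left).iso_of_card hφ.2.1 le_rfl
      exact (hRR.map_centralizer (hφ.1.mor.restrict le_sup_left) le_rfl (fun _ _ => rfl) (L.hZR hz)
        ⟨c.tle hz.1, hz.2⟩).2
    · show φ (ψ x) = _
      rw [eψ x, eφ (β x)]; rfl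
  | inv α _ iha =>
    obtain ⟨φ, hφ, eφ⟩ := iha
    obtain ⟨φ', hφ', hl, hr⟩ := hφ.1.exists_symm
    refine ⟨φ', ⟨hφ', fun x hx => ?_, fun x hx => (L.relK hφ hφ' hl hr hx).2⟩, fun x => ?_⟩
    · obtain ⟨v, hv, rfl⟩ := ((hφ.1.mor.restrict le_sup_left).iso_of_card hφ.2.1 le_rfl :
        Iso F φ R R).surj hx
      rw [hl v (Subgroup.mem_sup_left hv)]; exact hv
    · have h := eφ (α⁻¹ x)
      rw [MulAut.apply_inv_self] at h
      rw [← h, hl _ (Subgroup.mem_sup_left (SetLike.coe_mem _))]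

/-- An extension of order prime to `p`. -/
theorem exists_rel_pprime (hn : F.IsFullyNormalized R) (hR : E.IsCentric R) {α : MulAut R}
    (hα : α ∈ pGenAut E p R) {k : ℕ} (hk : k.Coprime p) (hαk : α ^ k = 1) :
    ∃ φ l, Rel F T R φ ∧ l.Coprime p ∧ (∀ x ∈ R ⊔ centralizerIn S R, φ^[l] x = x) ∧
      ∀ x : R, φ x = ((α x : R) : Ω) := by
  have L := c.loc hR (IsSaturated_fullyNormalized c.hS c.hF hn).1
  obtain ⟨φ, hφ, eφ⟩ := c.exists_rel hn hR hα
  obtain ⟨m, l, hm, hl, hml⟩ := exists_pprime_power hφ.1 hk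
  have hit : ∀ n, ∀ x : R, φ^[n] (x : Ω) = (((α ^ n) x : R) : Ω) := by
    intro n
    induction n with
    | zero => intro x; rfl
    | succ n ih => intro x; rw [Function.iterate_succ_apply', ih, eφ, pow_succ', MulAut.mul_apply]
  have hαm : α ^ m = α := by
    rw [← Nat.mod_add_div m k, pow_add, pow_mul, hαk, one_pow, mul_one, hm]
    conv_rhs => rw [← pow_one α, ← Nat.mod_add_div 1 k, pow_add, pow_mul, hαk, one_pow, mul_one]
  refine ⟨φ^[m], l, ⟨iso_pow hφ.1 m, fun x hx => ?_, fun x hx => ?_⟩, hl, hml,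
    fun x => by rw [hit, hαm]⟩
  · rw [hit m ⟨x, hx⟩]; exact SetLike.coe_mem _
  · have hxW : x ∈ R ⊔ centralizerIn S R := Subgroup.mem_sup_right hx
    have h1 : x⁻¹ * φ^[m] x ∈ T := iterate_rel hφ.1 c.strong hxW (hφ.2.2 x hx).1 m
    refine ⟨h1, (Subgroup.centralizer _).mul_mem ((Subgroup.centralizer _).inv_mem hx.2) ?_⟩
    haveI := finite_of_le L.hRS
    have hRR : Iso F φ^[m] R R := ((iso_pow hφ.1 m).mor.restrict le_sup_left).iso_of_card
      (fun v hv => by rw [hit m ⟨v, hv⟩]; exact SetLike.coe_mem _) le_rfl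
    exact (hRR.map_centralizer (iso_pow hφ.1 m).mor le_sup_left (fun _ _ => rfl) hxW hx).2

/-- The main induction: an invariant subgroup fixed by the relative extensions is fixed by `E`. -/
theorem fix_all (hY : Y ≤ centralizerIn S T) (hsym : Sym F T Y)
    (hfix : ∀ (R : Subgroup Ω) (φ : Ω → Ω) (l : ℕ), Loc F T p R → Rel F T R φ → Mor E R φ →
      l.Coprime p → (∀ x ∈ R ⊔ centralizerIn S R, φ^[l] x = x) → ∀ y ∈ Y, φ y = y) :
    Good F E Y := by
  haveI := finite_of_le c.tle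
  have hT : IsPGroup p T := c.hS.to_le c.tle
  have hYS : Y ≤ S := hY.trans centralizerIn_le
  have hcl : Closed E (Fix F Y) :=
    { conj := fun {P s} hP hs => ⟨cj s, Mor.conj (sup_le (hP.trans c.tle) hYS)
        (c.tle hs), fun _ _ => rfl, fun y hy => by
          rw [cj_apply, (hY hy).2 s hs, mul_inv_cancel_right]⟩
      congr := fun _ e ⟨ψ, hψ, h, hy⟩ => ⟨ψ, hψ, fun x hx => (h x hx).trans (e x hx), hy⟩
      comp := by
        rintro P Q f g - - m ⟨ψ, hψ, h, hy⟩ ⟨χ, hχ, h', hy'⟩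
        refine ⟨χ ∘ ψ, hψ.comp hχ (hψ.map_sup (fun x hx => Subgroup.mem_sup_left (by rw [h x hx]; exact m x hx))
          fun x hx => Subgroup.mem_sup_right (by rw [hy x hx]; exact hx)), fun x hx => ?_, fun x hx => ?_⟩
        · show χ (ψ x) = g (f x)
          rw [h x hx, h' _ (m x hx)]
        · show χ (ψ x) = x
          rw [hy x hx, hy' x hx]
      inv := by
        rintro P Q f g hf - e ⟨ψ, hψ, h, hy⟩
        obtain ⟨χ, hχ, hl, -⟩ := hψ.toIso.exists_symm
        refine ⟨χ, hχ.mor.restrict (sup_le (fun z hz => ?_) fun z hz => ?_), fun z hz => ?_, fun z hz => ?_⟩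
        · obtain ⟨x, hx, rfl⟩ := hf.surj hz
          exact hψ.mem_img.mpr ⟨x, Subgroup.mem_sup_left hx, h x hx⟩
        · exact hψ.mem_img.mpr ⟨z, Subgroup.mem_sup_right hz, hy z hz⟩
        · obtain ⟨x, hx, rfl⟩ := hf.surj hz
          rw [← h x hx, hl x (Subgroup.mem_sup_left hx), h x hx, e x hx]
        · conv_lhs => rw [← hy z hz]
          exact hl z (Subgroup.mem_sup_right hz) }
  -- automorphisms of order prime to `p` with relative extensions
  have hrel : ∀ {R : Subgroup Ω} {φ f : Ω → Ω} {l : ℕ}, Loc F T p R → Rel F T R φ → Mor E R f →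
      (∀ x ∈ R, φ x = f x) → l.Coprime p → (∀ x ∈ R ⊔ centralizerIn S R, φ^[l] x = x) →
      Fix F Y R f := by
    intro R φ f l L hφ hf e hl hφl
    refine ⟨φ, hφ.1.mor.restrict (sup_le_sup_left (fun y hy => ⟨hYS hy, fun v hv =>
      (hY hy).2 v (L.hRT hv)⟩) R), e, hfix R φ l L hφ (hf.congr fun x hx => (e x hx).symm) hl hφl⟩
  refine mor_induction hT c.hEsat hcl fun R hRn IH f hf => ?_
  haveI := finite_of_le hRn.1
  haveI := finite_mulAut (G := R)
  obtain ⟨hfc, -, hrec⟩ := IsSaturated_fullyNormalized hT c.hEsat hRn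
  by_cases hcent : centralizerIn T R ≤ R
  swap
  · obtain ⟨e, he, ee⟩ := (receptive_iff.mp hrec).2 R f hf
    have hle : R ⊔ centralizerIn T R ≤ nphi T R f := sup_le hf.mor.le_nphi centralizerIn_le_nphi
    have hN : nphi T R f ≤ T := nphi_le.trans normalizerIn_le
    haveI := finite_of_le (hle.trans hN)
    have h := IH _ e (he.restrict hle) (card_lt_of_lt (left_lt_sup.mpr hcent))
    exact hcl.congr (he.restrict (le_sup_left.trans hle)) ee (hcl.restrict (he.restrict hle) le_sup_left h)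
  have hRc := isCentric_of_fullyCentralized hT c.hEsat hfc hcent
  by_cases hRT : R = T
  · subst hRT
    have hfcT := c.fullyCentralizedT
    have L := c.loc hRc hfcT
    have hmem : (⟨hf.equiv, hf.equiv_mem_autGroup⟩ : E.autGroup R) ∈ pResidual p ↥(E.autGroup R) ⊔
        (autInducedBy R R).subgroupOf (E.autGroup R) :=
      (autGroup_generated hT c.hEsat hRn).symm ▸ Subgroup.mem_top _
    suffices key : ∀ α ∈ pResidual p ↥(E.autGroup R) ⊔ (autInducedBy R R).subgroupOf (E.autGroup R),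
        Fix F Y R (af (α : MulAut R)) by
      exact hcl.congr (autGroup_iso le_rfl hf.equiv_mem_autGroup).mor (fun x hx => (af_apply _ hx).trans rfl)
        (key _ hmem)
    intro α hα
    rw [pResidual, ← Subgroup.closure_eq ((autInducedBy R R).subgroupOf (E.autGroup R)),
      ← Subgroup.closure_union] at hα
    induction hα using Subgroup.closure_induction with
    | mem γ hγ =>
      rcases hγ with hγ | hγ
      · have hi : Iso E (af (γ : MulAut R)) R R := autGroup_iso le_rfl γ.2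
        obtain ⟨-, β, hβ, eβ, hβc⟩ := c.hext _ hi
        obtain ⟨m, l, hm, hl, hml⟩ := exists_pprime_power hβ (show (orderOf γ).Coprime p from hγ)
        have hord : ∀ n, ∀ x : R, (af (γ : MulAut R))^[n] (x : Ω) = (((((γ : MulAut R)) ^ n) x : R) : Ω) := by
          intro n
          induction n with
          | zero => intro x; rfl
          | succ n ih => intro x; rw [Function.iterate_succ_apply', ih, af_coe, pow_succ', MulAut.mul_apply]
        have hγk : ∀ x ∈ R, (af (γ : MulAut R))^[orderOf γ] x = x := fun x hx => by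
          rw [hord _ ⟨x, hx⟩, ← SubmonoidClass.coe_pow, pow_orderOf_eq_one]; rfl
        have heq : ∀ x ∈ R, β^[m] x = af (γ : MulAut R) x := fun x hx => by
          rw [iterate_agree (fun z hz => hi.mapsTo hz) eβ m x hx, iterate_mod hγk m hx, hm,
            ← iterate_mod hγk 1 hx, Function.iterate_one]
        refine hrel L ⟨iso_pow hβ m, fun x hx => by rw [heq x hx]; exact hi.mapsTo hx, fun x hx => ?_⟩
          hi.mor heq hl hml
        have hxW : x ∈ R ⊔ centralizerIn S R := Subgroup.mem_sup_right hx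
        refine ⟨iterate_rel hβ c.strong hxW (hβc x hx) m,
          (Subgroup.centralizer _).mul_mem ((Subgroup.centralizer _).inv_mem hx.2) ?_⟩
        exact (c.sym_mapsC (iso_pow hβ m) (fun t ht => by rw [heq t ht]; exact hi.mapsTo ht) hx).2
      · obtain ⟨t, ht, -, et⟩ := mem_autInducedBy.mp (show (γ : MulAut R) ∈ autInducedBy R R from hγ)
        exact hcl.congr (Mor.conj le_rfl ht) (fun x hx => by rw [af_apply _ hx, et ⟨x, hx⟩, cj_apply])
          (hcl.conj le_rfl ht)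
    | one =>
      exact hcl.congr (Mor.conj le_rfl R.one_mem) (fun x hx => by rw [cj_one]; exact (af_one hx).symm)
        (hcl.conj le_rfl R.one_mem)
    | mul γ δ _ _ hγ hδ =>
      have hid : Iso E (af (δ : MulAut R)) R R := autGroup_iso le_rfl δ.2
      have hig : Iso E (af (γ : MulAut R)) R R := autGroup_iso le_rfl γ.2
      exact hcl.congr (hid.comp hig).mor (fun x hx => (af_mul _ _ hx).symm)
        (hcl.comp hid.mor hig.mor (fun x hx => hid.mapsTo hx) hδ hγ)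
    | inv γ _ hγ =>
      exact hcl.inv (autGroup_iso le_rfl γ.2) (autGroup_iso le_rfl γ⁻¹.2)
        (fun x hx => af_inv_self _ hx) hγ
  -- move to a subgroup fully normalized in `F`
  have hRS := hRn.1.trans c.tle
  obtain ⟨R₂, hR₂, hn⟩ := exists_fullyNormalized (F := F) hRS
  obtain ⟨u, hu⟩ := isConj_iff.mp hR₂
  obtain ⟨-, g, -, hg, -, -, hgR⟩ := exists_map_to_fullyNormalized c.hS c.hF hu hn
  haveI := finite_of_le (normalizerIn_le : normalizerIn T R ≤ T)
  have hgN := hg.restrict (inf_le_inf_right _ c.tle : normalizerIn T R ≤ normalizerIn S R)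
  obtain ⟨a, w, ha, hw, eg⟩ := invariant_frattini c.hinv hgN normalizerIn_le
  have hRN : R ≤ normalizerIn T R := le_normalizerIn hRn.1
  have hwFix : Fix F Y R w := hcl.restrict hw hRN
    (IH _ w hw (@card_lt_of_lt _ _ _ _ (finite_of_le normalizerIn_le)
      (lt_normalizerIn hT (lt_of_le_of_ne hRn.1 hRT))))
  set R₁ := (hw.restrict hRN).img
  have hwi : Iso E w R R₁ := (hw.restrict hRN).toIso
  obtain ⟨w', hw', hwl, hwr⟩ := hwi.exists_symm
  obtain ⟨g', hg', hgl, -⟩ := hgR.exists_symm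
  have hR₂c : E.IsCentric R₂ := c.toWCtx.ec_conj hRc hgR
  have hR₂T := hR₂c.1
  have hf₂ := c.toWCtx.conj_mor hRn.1 hgR hg' hgl hf
  haveI := finite_of_le hR₂T
  haveI := finite_mulAut (G := R₂)
  have hcard : Nat.card R₂ = Nat.card R := hgR.card_eq.symm
  have hR₂ne : R₂ ≠ T := fun e => hRT (eq_of_le_of_card hRn.1 (e ▸ hcard).le)
  -- the automorphisms at `R₂`
  have key : Fix F Y R₂ (g ∘ f ∘ g') := by
    have L := c.loc hR₂c (IsSaturated_fullyNormalized c.hS c.hF hn).1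
    have hEn := subsystem_fullyNormalized c.hS c.hF c.strong c.hinv.1 hR₂T hn
    obtain ⟨-, hfa, hrec₂⟩ := IsSaturated_fullyNormalized hT c.hEsat hEn
    set Ag := E.autGroup R₂
    set K := Subgroup.closure {β : Ag | ∃ k : ℕ, orderOf β = p ^ k} with hK
    haveI hKn : K.Normal := ⟨fun β hβ d => by
      have hle : K ≤ K.comap (MulAut.conj d).toMonoidHom := by
        rw [hK, Subgroup.closure_le]
        rintro γ ⟨k, hk⟩
        exact Subgroup.subset_closure ⟨k, by rw [← hk]; exact MulEquiv.orderOf_eq (MulAut.conj d) γ⟩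
      exact hle hβ⟩
    obtain ⟨-, V, hV⟩ := hfa
    have hVK : (V : Subgroup Ag) ≤ K := fun β hβ => by
      obtain ⟨k, hk⟩ := IsPGroup.iff_orderOf.mp V.isPGroup' ⟨β, hβ⟩
      exact Subgroup.subset_closure ⟨k, by rwa [← Subgroup.orderOf_mk (H := (V : Subgroup Ag)) β hβ]⟩
    have hav : ∀ γ : Ag, Iso E (af (γ : MulAut R₂)) R₂ R₂ := fun γ => autGroup_iso hR₂T γ.2
    have hmul : ∀ γ δ : Ag, Fix F Y R₂ (af (γ : MulAut R₂)) → Fix F Y R₂ (af (δ : MulAut R₂)) →
        Fix F Y R₂ (af ((γ * δ : Ag) : MulAut R₂)) := fun γ δ hγ hδ =>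
      hcl.congr ((hav δ).comp (hav γ)).mor (fun x hx => (af_mul _ _ hx).symm)
        (hcl.comp (hav δ).mor (hav γ).mor (fun x hx => (hav δ).mapsTo hx) hδ hγ)
    have hKfix : ∀ k ∈ K, Fix F Y R₂ (af ((k : Ag) : MulAut R₂)) := by
      intro k hk
      have htop : pResidual p K ⊔ ((V : Subgroup Ag).subgroupOf K) = ⊤ := by
        refine eq_top_of_pResidual_le (p := p) le_sup_left fun hd => V.not_dvd_index ?_
        exact (hd.trans (Subgroup.index_dvd_of_le le_sup_right)).trans (Subgroup.relIndex_dvd_index_of_le hVK)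
      have hk' : (⟨k, hk⟩ : K) ∈ Subgroup.closure ({γ : K | (orderOf γ).Coprime p} ∪
          ((V : Subgroup Ag).subgroupOf K : Set K)) := by
        rw [Subgroup.closure_union, Subgroup.closure_eq]
        exact htop.ge (Subgroup.mem_top _)
      suffices h : ∀ γ : K, γ ∈ Subgroup.closure ({γ : K | (orderOf γ).Coprime p} ∪
          ((V : Subgroup Ag).subgroupOf K : Set K)) → Fix F Y R₂ (af (((γ : Ag)) : MulAut R₂)) from
        h ⟨k, hk⟩ hk'
      intro γ hγ
      induction hγ using Subgroup.closure_induction with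
      | mem γ hγ =>
        rcases hγ with hγ | hγ
        · have hmem : (((γ : Ag)) : MulAut R₂) ∈ pGenAut E p R₂ := by
            have hle : K ≤ (pGenAut E p R₂).subgroupOf Ag := by
              rw [hK, Subgroup.closure_le]
              rintro β ⟨j, hj⟩
              exact Subgroup.subset_closure ⟨β.2, j, (Subgroup.orderOf_coe β).trans hj⟩
            exact hle γ.2
          obtain ⟨φ, l, hφ, hl, hφl, eφ⟩ := c.exists_rel_pprime hn hR₂c hmem
            (show (orderOf γ).Coprime p from hγ)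
            (by rw [← SubmonoidClass.coe_pow, ← SubmonoidClass.coe_pow, pow_orderOf_eq_one]; rfl)
          exact hrel L hφ (hav (γ : Ag)).mor (fun x hx => (eφ ⟨x, hx⟩).trans (af_apply _ hx).symm) hl hφl
        · have h0 : ((γ : Ag)) ∈ (V : Subgroup Ag) := hγ
          rw [hV] at h0
          obtain ⟨t, ht, htn, et⟩ := mem_autInducedBy.mp (Subgroup.mem_subgroupOf.mp h0)
          exact hcl.congr (Mor.conj hR₂T ht) (fun x hx => by rw [af_apply _ hx, et ⟨x, hx⟩, cj_apply])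
            (hcl.conj hR₂T ht)
      | one =>
        exact hcl.congr (Mor.conj hR₂T T.one_mem) (fun x hx => by rw [cj_one]; exact (af_one hx).symm)
          (hcl.conj hR₂T T.one_mem)
      | mul γ δ _ _ hγ hδ => exact hmul _ _ hγ hδ
      | inv γ _ hγ =>
        exact hcl.inv (hav (γ : Ag)) (hav ((γ⁻¹ : K) : Ag)) (fun x hx => af_inv_self _ hx) hγ
    obtain ⟨n, hnn, k, hk, hnk⟩ := Subgroup.mem_sup_of_normal_right.mp
      ((Sylow.normalizer_sup_eq_top' V hVK).ge
        (Subgroup.mem_top (⟨hf₂.equiv, hf₂.equiv_mem_autGroup⟩ : Ag)))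
    have hne : ∀ x ∈ normalizerIn T R₂, x ∈ R₂ ∨ ∃ hx : x ∈ normalizerIn T R₂,
        (n : MulAut R₂) * actHom T R₂ ⟨x, hx⟩ * (n : MulAut R₂)⁻¹ ∈ autInducedBy T R₂ := fun x hx => by
      refine Or.inr ⟨hx, ?_⟩
      have hx' : (⟨actHom T R₂ ⟨x, hx⟩, autInducedBy_le_autGroup hR₂T
          ((range_actHom T R₂).le ⟨_, rfl⟩)⟩ : Ag) ∈ (V : Subgroup Ag) := by
        rw [hV]; exact Subgroup.mem_subgroupOf.mpr ((range_actHom T R₂).le ⟨_, rfl⟩)
      have h2 := ((Subgroup.mem_normalizer_iff.mp hnn) _).mp hx'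
      rw [hV] at h2
      exact h2
    obtain ⟨e, he, ee⟩ := ext_of_conj hrec₂ n.2 hne
    haveI := finite_of_le (normalizerIn_le : normalizerIn T R₂ ≤ T)
    have hlt := card_lt_of_lt (lt_normalizerIn hT (lt_of_le_of_ne hR₂T hR₂ne))
    have hRN₂ : R₂ ≤ normalizerIn T R₂ := le_normalizerIn hR₂T
    have hnfix : Fix F Y R₂ (af ((n : Ag) : MulAut R₂)) :=
      hcl.congr (he.restrict hRN₂) (fun x hx => (ee ⟨x, hx⟩ (hRN₂ hx)).trans (af_apply _ hx).symm)
        (hcl.restrict he hRN₂ (IH _ e he (hcard.symm.trans_lt hlt)))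
    have h := hmul n k hnfix (hKfix k hk)
    rw [hnk] at h
    exact hcl.congr (autGroup_iso hR₂T hf₂.equiv_mem_autGroup).mor
      (fun x hx => (af_apply _ hx).trans rfl) h
  -- transport back
  obtain ⟨β, hβ, eβ⟩ := c.ext_aut ha
  have hβT : ∀ t ∈ T, β t ∈ T := fun t ht => by rw [eβ t ht]; exact ha.mapsTo ht
  obtain ⟨β', hβ', hβ'T, hβl, hβr⟩ := c.sym_symm hβ hβT
  have hR₁T : R₁ ≤ T := hwi.cod_le
  have hle₁ : R₁ ⊔ Y ≤ T ⊔ centralizerIn S T := sup_le_sup hR₁T hY
  have hle₂ : R₂ ⊔ Y ≤ T ⊔ centralizerIn S T := sup_le_sup hR₂T hY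
  have hβR : ∀ x ∈ R, β (w x) = g x := fun x hx => by
    rw [eβ _ (hR₁T (hwi.mapsTo hx)), eg x (hRN hx)]
  obtain ⟨ψ, hψ, eψ, hψY⟩ := key
  have m1 : ∀ x ∈ R₁ ⊔ Y, β x ∈ R₂ ⊔ Y := (hβ.mor.restrict hle₁).map_sup
    (fun x hx => Subgroup.mem_sup_left (by
      obtain ⟨v, hv, rfl⟩ := hwi.surj hx
      rw [hβR v hv]; exact hgR.mapsTo hv))
    (fun x hx => Subgroup.mem_sup_right (hsym β hβ hβT x hx))
  have m2 : ∀ x ∈ R₂ ⊔ Y, ψ x ∈ R₂ ⊔ Y := hψ.map_sup
    (fun x hx => Subgroup.mem_sup_left (by rw [eψ x hx]; exact hf₂.mapsTo hx))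
    (fun x hx => Subgroup.mem_sup_right (by rw [hψY x hx]; exact hx))
  have h₁ : Fix F Y R₁ (w ∘ f ∘ w') := by
    refine ⟨β' ∘ ψ ∘ β, ((hβ.mor.restrict hle₁).comp hψ m1).comp hβ'.mor
      fun x hx => hle₂ (m2 _ (m1 x hx)), fun x hx => ?_, fun y hy => ?_⟩
    · obtain ⟨v, hv, rfl⟩ := hwi.surj hx
      show β' (ψ (β (w v))) = w (f (w' (w v)))
      rw [hβR v hv, eψ _ (hgR.mapsTo hv), hwl v hv]
      show β' (g (f (g' (g v)))) = w (f v)
      rw [hgl v hv, ← hβR _ (hf.mapsTo hv), hβl _ (Subgroup.mem_sup_left (hR₁T (hwi.mapsTo (hf.mapsTo hv))))]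
    · show β' (ψ (β y)) = y
      rw [hψY _ (hsym β hβ hβT y hy), hβl y (Subgroup.mem_sup_right (hY hy))]
  have hmid : Iso E (w ∘ f ∘ w') R₁ R₁ := (hw'.comp hf).comp hwi
  have h₂ := hcl.comp (hw.restrict hRN) hmid.mor (fun x hx => hwi.mapsTo hx) hwFix h₁
  have h₃ := hcl.comp (hwi.comp hmid).mor hw'.mor (fun x hx => (hwi.comp hmid).mapsTo hx) h₂
    (hcl.inv hwi hw' hwl hwFix)
  refine hcl.congr ((hwi.comp hmid).comp hw').mor (fun x hx => ?_) h₃
  show w' (w (f (w' (w x)))) = f x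
  rw [hwl x hx, hwl _ (hf.mapsTo hx)]

/-- `C_S(E)` is invariant under the symmetries. -/
theorem sym_centE : Sym F T (centE F E) := by
  intro β hβ hβT y hy
  obtain ⟨β', hβ', hβ'T, hl, hr⟩ := c.sym_symm hβ hβT
  haveI := finite_of_le c.tle
  have hab : Iso F β T T := (hβ.mor.restrict le_sup_left).iso_of_card hβT le_rfl
  have hab' : Iso F β' T T := (hβ'.mor.restrict le_sup_left).iso_of_card hβ'T le_rfl
  have hlT : ∀ x ∈ T, β' (β x) = x := fun x hx => hl x (Subgroup.mem_sup_left hx)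
  have hrT : ∀ x ∈ T, β (β' x) = x := fun x hx => hr x (Subgroup.mem_sup_left hx)
  have hi := invariant_sysIso c.hinv hab' hab hrT hlT
  suffices h : centE F E ≤ (((centE F E).comap hβ.mor.hom)).map (T ⊔ centralizerIn S T).subtype by
    obtain ⟨v, hv, rfl⟩ := h hy
    exact hv
  refine sSup_le fun X hX x hx => ⟨⟨x, Subgroup.mem_sup_right (hX.1 hx)⟩, ?_, rfl⟩
  show β x ∈ centE F E
  set X' := (hβ.mor.restrict (hX.1.trans le_sup_right : X ≤ T ⊔ centralizerIn S T)).img with hX'def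
  have hX' : X' ≤ centralizerIn S T := fun z hz => by
    obtain ⟨v, hv, rfl⟩ := (Mor.mem_img _).mp hz
    exact c.sym_mapsC hβ hβT (hX.1 hv)
  refine le_sSup (show X' ∈ {X : Subgroup Ω | X ≤ centralizerIn S T ∧ Good F E X} from
    ⟨hX', fun P f hf => ?_⟩) ((Mor.mem_img _).mpr ⟨x, hx, rfl⟩)
  obtain ⟨ψ, hψ, eψ, hψX⟩ := hX.2 _ _ (hi.mor hf)
  have hPT := hf.dom_le
  have m1 : ∀ z ∈ P ⊔ X', β' z ∈ hi.img P ⊔ X :=
    (hβ'.mor.restrict (sup_le_sup hPT hX')).map_sup
      (fun z hz => Subgroup.mem_sup_left ((hi.mem_img hPT).mpr ⟨z, hz, rfl⟩))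
      (fun z hz => Subgroup.mem_sup_right (by
        obtain ⟨v, hv, rfl⟩ := (Mor.mem_img _).mp hz
        rw [hl v (Subgroup.mem_sup_right (hX.1 hv))]; exact hv))
  have m2 : ∀ z ∈ hi.img P ⊔ X, ψ z ∈ T ⊔ centralizerIn S T := hψ.map_sup
    (fun z hz => Subgroup.mem_sup_left (by rw [eψ z hz]; exact (hi.mor hf).map_mem hz))
    (fun z hz => Subgroup.mem_sup_right (by rw [hψX z hz]; exact hX.1 hz))
  refine ⟨β ∘ ψ ∘ β', ((hβ'.mor.restrict (sup_le_sup hPT hX')).comp hψ m1).comp hβ.mor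
    fun z hz => m2 _ (m1 z hz), fun z hz => ?_, fun z hz => ?_⟩
  · show β (ψ (β' z)) = f z
    rw [eψ _ ((hi.mem_img hPT).mpr ⟨z, hz, rfl⟩)]
    show β (β' (f (β (β' z)))) = f z
    rw [hrT z (hPT hz), hrT _ (hf.map_mem hz)]
  · obtain ⟨v, hv, rfl⟩ := (Mor.mem_img _).mp hz
    show β (ψ (β' (β v))) = β v
    rw [hl v (Subgroup.mem_sup_right (hX.1 hv)), hψX v hv]

/-- `C_S(E)` is fixed by the maps of `E`. -/
theorem good_centE : Good F E (centE F E) := by
  refine c.fix_all centE_le c.sym_centE fun R φ l L hφ hf hl hφl => ?_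
  suffices h : centE F E ≤
      (hφ.1.mor.hom.eqLocus (R ⊔ centralizerIn S R).subtype).map (R ⊔ centralizerIn S R).subtype by
    intro y hy
    obtain ⟨w, hw, rfl⟩ := h hy
    exact hw
  refine sSup_le fun X hX => ?_
  have hXK : X ≤ centralizerIn S R := fun x hx => ⟨(hX.1 hx).1, fun v hv => (hX.1 hx).2 v (L.hRT hv)⟩
  obtain ⟨ψ, hψ, eψ, hψX⟩ := hX.2 R φ hf
  exact fun x hx => ⟨⟨x, Subgroup.mem_sup_right (hXK hx)⟩,
    L.fix_of_ext hφ hl hφl hXK hψ eψ hψX x hx, rfl⟩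

/-- The focal subgroup of the centralizer of `T` lies in `C_S(E)`. -/
theorem focal_le {D : FusionSystem (centralizerIn S T)} (hD : F.IsCentralizerSystem T D) :
    D.focalSubgroup ≤ centE F E := by
  haveI : Finite (centralizerIn S T) := finite_of_le centralizerIn_le
  have hDp : IsPGroup p (centralizerIn S T) := c.hS.to_le centralizerIn_le
  have hle : D.focalSubgroup ≤ centralizerIn S T := by
    refine (Subgroup.closure_le _).mpr ?_
    rintro _ ⟨P, φ, x, hφ, rfl⟩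
    exact mul_mem (inv_mem ((D.le_of_mem hφ).1 x.2)) ((D.le_of_mem hφ).2 x)
  refine le_sSup ⟨hle, c.fix_all hle (fun β hβ hβT y hy => ?_) fun R φ l L hφ _ hl hφl =>
    L.fix_focal c.fullyCentralizedT hφ hl hφl hD⟩
  obtain ⟨β', hβ', hβ'T, hl, hr⟩ := c.sym_symm hβ hβT
  have hβC := fun {x : Ω} (hx : x ∈ centralizerIn S T) => c.sym_mapsC hβ hβT hx
  suffices h : D.focalSubgroup ≤ ((D.focalSubgroup).comap hβ.mor.hom).map (T ⊔ centralizerIn S T).subtype by
    obtain ⟨v, hv, rfl⟩ := h hy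
    exact hv
  refine (Subgroup.closure_le _).mpr ?_
  rintro _ ⟨P, φ, x, hφ, rfl⟩
  have hmC : (x : Ω)⁻¹ * φ x ∈ T ⊔ centralizerIn S T :=
    Subgroup.mem_sup_right (mul_mem (inv_mem ((D.le_of_mem hφ).1 x.2)) ((D.le_of_mem hφ).2 x))
  refine ⟨⟨_, hmC⟩, ?_, rfl⟩
  show β ((x : Ω)⁻¹ * φ x) ∈ D.focalSubgroup
  have hf := mor_of_mem hφ
  obtain ⟨hPC, hfC, g, hg, eg, hgT⟩ := (cent_mor hD).mp hf
  have hPM : P ≤ T ⊔ centralizerIn S T := hPC.trans le_sup_right
  set P' := (hβ.mor.restrict hPM).img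
  have hP'C : P' ≤ centralizerIn S T := fun z hz => by
    obtain ⟨v, hv, rfl⟩ := (Mor.mem_img _).mp hz
    exact hβC (hPC hv)
  have hle' : P' ⊔ T ≤ T ⊔ centralizerIn S T := sup_le (hP'C.trans le_sup_right) le_sup_left
  have m1 : ∀ z ∈ P' ⊔ T, β' z ∈ P ⊔ T := (hβ'.mor.restrict hle').map_sup
    (fun z hz => Subgroup.mem_sup_left (by
      obtain ⟨v, hv, rfl⟩ := (Mor.mem_img _).mp hz
      rw [hl v (hPM hv)]; exact hv))
    (fun z hz => Subgroup.mem_sup_right (hβ'T z hz))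
  have m2 : ∀ z ∈ P ⊔ T, g z ∈ T ⊔ centralizerIn S T := hg.map_sup
    (fun z hz => Subgroup.mem_sup_right (by rw [eg z hz]; exact hfC z hz))
    (fun z hz => Subgroup.mem_sup_left (by rw [hgT z hz]; exact hz))
  have hm : Mor D P' (β ∘ g ∘ β') := (cent_mor hD).mpr ⟨hP'C, fun z hz => by
    obtain ⟨v, hv, rfl⟩ := (Mor.mem_img _).mp hz
    show β (g (β' (β v))) ∈ _
    rw [hl v (hPM hv), eg v hv]
    exact hβC (hfC v hv), _, ((hβ'.mor.restrict hle').comp hg m1).comp hβ.mor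
      (fun z hz => m2 _ (m1 z hz)), fun _ _ => rfl, fun z hz => by
    show β (g (β' z)) = z
    rw [hgT _ (hβ'T z hz), hr z (Subgroup.mem_sup_left hz)]⟩
  have hxP' : β (x : Ω) ∈ P' := (Mor.mem_img _).mpr ⟨x, x.2, rfl⟩
  have := mem_focal_gen hm hxP'
  rw [show (β ∘ g ∘ β') (β (x : Ω)) = β (φ x) by
    show β (g (β' (β (x : Ω)))) = _
    rw [hl _ (hPM x.2), eg _ x.2, extFun_coe]] at this
  rwa [hβ.mor.map_mul (inv_mem (hPM x.2)) (Subgroup.mem_sup_right ((D.le_of_mem hφ).2 x)),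
    hβ.mor.map_inv (hPM x.2)]

end Ctx

end Cfsg.Agent.Fusion.CentE
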