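/-
`C_S(E)` is strongly closed.
-/
import Cfsg.Agent.Fusion.CentEMax
set_option autoImplicit false
set_option linter.style.haveILetI false
set_option linter.unusedSectionVars false
set_option maxHeartbeats 1000000

namespace Cfsg.Agent.Fusion.CentE

open Cfsg Cfsg.FusionSystem Cfsg.Agent.Fusion.SatCrit Cfsg.Agent.Fusion.WeakResidual
open Cfsg.Agent.Fusion.CharSys (CharCtx Gd)
open Cfsg.Agent.Fusion.CentFix (cent_mor exists_pprime_power iterate_agree iterate_rel Base.Fix)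

variable {Ω : Type*} [Group Ω] {S T : Subgroup Ω} {F : FusionSystem S} {E : FusionSystem T}
  {p : ℕ} {P Q R : Subgroup Ω} {f g a a' : Ω → Ω}

theorem pGenAut_transport (hconj : ∀ π : MulAut R, π ∈ E.autGroup R → ∀ Φ : MulAut R ≃* MulAut Q,
      (∀ β ∈ E.autGroup R, Φ β ∈ E.autGroup Q) → Φ π ∈ E.autGroup Q)
    (Φ : MulAut R ≃* MulAut Q) (hΦ : ∀ β ∈ E.autGroup R, Φ β ∈ E.autGroup Q) {π : MulAut R}
    (h : π ∈ pGenAut E p R) : Φ π ∈ pGenAut E p Q := by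
  have hle : pGenAut E p R ≤ (pGenAut E p Q).comap Φ.toMonoidHom := by
    rw [pGenAut, Subgroup.closure_le]
    rintro β ⟨hβ, k, hk⟩
    exact Subgroup.subset_closure ⟨hconj β hβ Φ hΦ, k, (MulEquiv.orderOf_eq Φ β).trans hk⟩
  exact hle h

namespace Ctx

variable (c : Ctx F E p) [Fact p.Prime] [Finite S]
include c

theorem transport_mem (hR : R ≤ T) (h : Iso F g R Q) {β : MulAut R} (hβ : β ∈ pGenAut E p R) :
    h.transport β ∈ pGenAut E p Q := by
  haveI := finite_of_le c.tle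
  refine pGenAut_transport (fun π hπ Φ hΦ => hΦ π hπ) h.transport (fun α hα => ?_) hβ
  obtain ⟨u, hu, eu⟩ := (mem_autGroup_iff hR).mp hα
  obtain ⟨g', hg', hgl, -⟩ := h.exists_symm
  have hm := c.toWCtx.conj_mor hR h hg' hgl hu
  refine (mem_autGroup_iff hm.dom_le).mpr ⟨_, hm, fun y => ?_⟩
  obtain ⟨x, hx, hxy⟩ := h.surj y.2
  have he : h.transport α ⟨g x, h.mapsTo hx⟩ = ⟨g ((α ⟨x, hx⟩ : R) : Ω), h.mapsTo (SetLike.coe_mem _)⟩ :=
    Subtype.ext (h.transport_val α hx)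
  rw [show y = ⟨g x, h.mapsTo hx⟩ from Subtype.ext hxy.symm, he]
  show g (u (g' (g x))) = g ((α ⟨x, hx⟩ : R) : Ω)
  rw [hgl x hx, eu ⟨x, hx⟩]

/-- An automorphism of `P` of order prime to `p`, lying over the `p`-generated automorphisms of
`P ∩ T`, fixes `P ∩ C_S(E)`. -/
theorem gamma_fix (hP : P ≤ S) (hR : E.IsCentric (P ⊓ T)) {γ : Ω → Ω} (hγ : Iso F γ P P)
    {k : ℕ} (hk : k.Coprime p) (hγk : ∀ x ∈ P, γ^[k] x = x) {κ : MulAut ↥(P ⊓ T)}
    (hκ : κ ∈ pGenAut E p (P ⊓ T)) (eκ : ∀ x : ↥(P ⊓ T), γ x = ((κ x : ↥(P ⊓ T)) : Ω))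
    (hγc : ∀ x ∈ P, x⁻¹ * γ x ∈ P ⊓ T) {x : Ω} (hx : x ∈ P) (hxE : x ∈ centE F E) : γ x = x := by
  have hTS := c.tle
  haveI := finite_of_le hTS
  have hRT : (P ⊓ T) ≤ T := hR.1
  have hRS : (P ⊓ T) ≤ S := hRT.trans hTS
  have hRP : (P ⊓ T) ≤ P := inf_le_left
  obtain ⟨R₂, hR₂, hn⟩ := exists_fullyNormalized (F := F) hRS
  obtain ⟨u, hu⟩ := isConj_iff.mp hR₂
  obtain ⟨-, g, -, hg, -, -, hgR⟩ := exists_map_to_fullyNormalized c.hS c.hF hu hn
  have hPN : P ≤ normalizerIn S (P ⊓ T) := fun y hy => ⟨hP hy, by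
    refine Subgroup.mem_normalizer_iff.mpr fun v => ?_
    have hTn := cj_mem_iff (c.toWCtx.tn (hP hy)) v
    constructor
    · exact fun hv => ⟨P.mul_mem (P.mul_mem hy hv.1) (P.inv_mem hy), hTn.mpr hv.2⟩
    · intro hv
      refine ⟨?_, hTn.mp hv.2⟩
      have := P.mul_mem (P.mul_mem (P.inv_mem hy) hv.1) hy
      simpa [mul_assoc] using this⟩
  have hgP := (hg.restrict hPN).toIso
  set P₂ := (hg.restrict hPN).img
  haveI := finite_of_le hP
  haveI := finite_of_le hRS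
  obtain ⟨g', hg', hgl, hgr⟩ := hgP.exists_symm
  have hR₂c : E.IsCentric R₂ := c.toWCtx.ec_conj hR hgR
  have L := c.loc hR₂c (IsSaturated_fullyNormalized c.hS c.hF hn).1
  -- the transported automorphism and its extension
  have hκk : κ ^ k = 1 := MulEquiv.ext fun v => Subtype.ext (by
    have hit : ∀ n, ∀ v : ↥(P ⊓ T), γ^[n] (v : Ω) = (((κ ^ n) v : ↥(P ⊓ T)) : Ω) := by
      intro n
      induction n with
      | zero => intro v; rfl
      | succ n ih => intro v; rw [Function.iterate_succ_apply', ih, eκ, pow_succ', MulAut.mul_apply]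
    rw [← hit, hγk v (hRP v.2)]; rfl)
  obtain ⟨φ, l, hφ, hl, hφl, eφ⟩ := c.exists_rel_pprime hn hR₂c (c.transport_mem hRT hgR hκ) hk
    (by rw [← map_pow, hκk, map_one])
  have hφg : ∀ v ∈ (P ⊓ T), φ (g v) = g (γ v) := fun v hv => by
    rw [eφ ⟨g v, hgR.mapsTo hv⟩, eκ ⟨v, hv⟩]
    exact hgR.transport_val κ hv
  have hγR : ∀ v ∈ (P ⊓ T), γ v ∈ (P ⊓ T) := fun v hv => by rw [eκ ⟨v, hv⟩]; exact SetLike.coe_mem _
  have hxC := centE_le (F := F) (E := E) hxE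
  have hγE : Mor E (P ⊓ T) γ := by
    obtain ⟨w, hw, ew⟩ := (mem_autGroup_iff hRT).mp (pGenAut_le hκ)
    exact hw.mor.congr fun v hv => (ew ⟨v, hv⟩).trans (eκ ⟨v, hv⟩).symm
  -- `φ` fixes `g x`
  obtain ⟨ψ, hψ, eψ, hψx⟩ := c.good_centE (P ⊓ T) γ hγE
  set y := g x with hy
  have hyP₂ : y ∈ P₂ := hgP.mapsTo hx
  have hgx : ∀ {v}, v ∈ (P ⊓ T) → g x * g v = g v * g x := fun {v} hv => by
    rw [← hgP.mor.map_mul hx (hRP hv), ← hgP.mor.map_mul (hRP hv) hx,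
      show x * v = v * x from (hxC.2 v (hRT hv)).symm]
  have hyK : y ∈ centralizerIn S R₂ := ⟨hgP.mor.map_mem hx, fun w hw => by
    obtain ⟨v, hv, rfl⟩ := hgR.surj hw
    exact (hgx hv).symm⟩
  have hle : R₂ ⊔ Subgroup.zpowers y ≤ P₂ := sup_le (fun w hw => by
    obtain ⟨v, hv, rfl⟩ := hgR.surj hw
    exact hgP.mapsTo (hRP hv)) (Subgroup.zpowers_le.mpr hyP₂)
  have m1 : ∀ w ∈ R₂ ⊔ Subgroup.zpowers y, g' w ∈ (P ⊓ T) ⊔ Subgroup.zpowers x := (hg'.mor.restrict hle).map_sup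
    (fun w hw => Subgroup.mem_sup_left (by
      obtain ⟨v, hv, rfl⟩ := hgR.surj hw
      rw [hgl v (hRP hv)]; exact hv))
    (fun w hw => by
      have h : (Subgroup.zpowers y).map (MonoidHom.id Ω) ≤ Subgroup.zpowers y := (Subgroup.map_id _).le
      obtain ⟨n, rfl⟩ := Subgroup.mem_zpowers_iff.mp hw
      have hh := map_zpow hg'.mor.hom (⟨y, hyP₂⟩ : P₂) n
      rw [Mor.hom_apply, Mor.hom_apply] at hh
      rw [show g' (y ^ n) = (g' y) ^ n from hh, hy, hgl x hx]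
      exact Subgroup.mem_sup_right (zpow_mem (Subgroup.mem_zpowers x) n))
  have hXP : (P ⊓ T) ⊔ Subgroup.zpowers x ≤ P := sup_le hRP (Subgroup.zpowers_le.mpr hx)
  have hXd : (P ⊓ T) ⊔ Subgroup.zpowers x ≤ (P ⊓ T) ⊔ centE F E :=
    sup_le_sup_left (Subgroup.zpowers_le.mpr hxE) (P ⊓ T)
  have m2 : ∀ w ∈ (P ⊓ T) ⊔ Subgroup.zpowers x, ψ w ∈ P := (hψ.restrict hXd).map_sup
    (fun w hw => by rw [eψ w hw]; exact hRP (hγR w hw))
    (fun w hw => by rw [hψx w (Subgroup.zpowers_le.mpr hxE hw)]; exact hXP (Subgroup.mem_sup_right hw))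
  have hψ₂ : Mor F (R₂ ⊔ Subgroup.zpowers y) (g ∘ ψ ∘ g') :=
    (((hg'.mor.restrict hle).comp (hψ.restrict hXd) m1).comp hgP.mor fun w hw => m2 _ (m1 w hw))
  have hφy : φ y = y := L.fix_of_ext hφ hl hφl (Subgroup.zpowers_le.mpr hyK) hψ₂
    (fun w hw => by
      obtain ⟨v, hv, rfl⟩ := hgR.surj hw
      show g (ψ (g' (g v))) = φ (g v)
      rw [hgl v (hRP hv), eψ v hv, hφg v hv])
    (fun w hw => by
      obtain ⟨n, rfl⟩ := Subgroup.mem_zpowers_iff.mp hw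
      have hm := hψ₂.restrict (le_sup_right : Subgroup.zpowers y ≤ R₂ ⊔ Subgroup.zpowers y)
      have hh := map_zpow hm.hom (⟨y, Subgroup.mem_zpowers y⟩ : Subgroup.zpowers y) n
      rw [Mor.hom_apply, Mor.hom_apply] at hh
      rw [show (g ∘ ψ ∘ g') (y ^ n) = ((g ∘ ψ ∘ g') y) ^ n from hh]
      show (g (ψ (g' y))) ^ n = y ^ n
      rw [hy, hgl x hx, hψx x hxE])
    y (Subgroup.mem_zpowers y)
  -- the discrepancy
  have hzR : x⁻¹ * γ x ∈ (P ⊓ T) := hγc x hx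
  set z₀ := x⁻¹ * γ x with hz₀
  have hz₀Z : z₀ ∈ centralizerIn T (P ⊓ T) := by
    refine ⟨hRT hzR, fun v hv => ?_⟩
    have hRR : Iso F γ (P ⊓ T) (P ⊓ T) := (hγ.mor.restrict hRP).iso_of_card hγR le_rfl
    obtain ⟨w, hw, rfl⟩ := hRR.surj hv
    have h2 : γ w * γ x = γ x * γ w := by
      rw [← hγ.mor.map_mul (hRP hw) hx, ← hγ.mor.map_mul hx (hRP hw),
        show w * x = x * w from hxC.2 w (hRT hw)]
    have h1' : Commute (γ w) x := hxC.2 _ (hRT (hγR w hw))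
    exact h1'.inv_right.mul_right h2
  have hz₀R := hR.2 (P ⊓ T) (isConj_refl hRT) hz₀Z
  set z := g z₀ with hz
  have hzR₂ : z ∈ R₂ := hgR.mapsTo hz₀R
  have hzZ : z ∈ centralizerIn T R₂ := ⟨L.hRT hzR₂, fun w hw => by
    obtain ⟨v, hv, rfl⟩ := hgR.surj hw
    rw [← hgP.mor.map_mul (hRP hv) (hRP hz₀R), ← hgP.mor.map_mul (hRP hz₀R) (hRP hv), hz₀Z.2 v hv]⟩
  obtain ⟨CR, hCR⟩ := exists_centralizerSystem F R₂ L.hRS
  obtain ⟨φ', hφ', hφl', hφr'⟩ := hφ.1.exists_symm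
  haveI : Finite (centralizerIn S R₂) := finite_of_le centralizerIn_le
  set A := centralizerIn T R₂ ⊔ Subgroup.zpowers y with hA
  have hZA : centralizerIn T R₂ ≤ A := le_sup_left
  have hAK : A ≤ centralizerIn S R₂ := sup_le L.zK (Subgroup.zpowers_le.mpr hyK)
  have hyA : y ∈ A := Subgroup.mem_sup_right (Subgroup.mem_zpowers y)
  have hAP₂ : A ⊔ R₂ ≤ P₂ := sup_le (sup_le (fun w hw => by
    obtain ⟨v, hv, rfl⟩ := hgR.surj (L.hZR hw)
    exact hgP.mapsTo (hRP hv)) (Subgroup.zpowers_le.mpr hyP₂)) (le_sup_left.trans hle)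
  have hAW : A ⊔ R₂ ≤ R₂ ⊔ centralizerIn S R₂ := sup_le (hAK.trans le_sup_right) le_sup_left
  have hγ₂ : Iso F (g ∘ γ ∘ g') P₂ P₂ := (hg'.comp hγ).comp hgP
  have hφ'A : ∀ w ∈ A ⊔ R₂, φ' w ∈ A ⊔ R₂ := (hφ'.mor.restrict hAW).map_sup
    (fun w hw => Subgroup.mem_sup_left (L.memA hφ hφ' hφl' hφr' hAK hZA hw).2)
    (fun w hw => Subgroup.mem_sup_right (by
      haveI := finite_of_le L.hRS
      obtain ⟨v, hv, rfl⟩ := ((hφ.1.mor.restrict le_sup_left).iso_of_card hφ.2.1 le_rfl :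
        Iso F φ R₂ R₂).surj hw
      rw [hφl' v (Subgroup.mem_sup_left hv)]; exact hv))
  have hm : Mor F (A ⊔ R₂) ((g ∘ γ ∘ g') ∘ φ') :=
    (hφ'.mor.restrict hAW).comp hγ₂.mor fun w hw => hAP₂ (hφ'A w hw)
  set η := (g ∘ γ ∘ g') ∘ φ' with hη
  have hηR : ∀ w ∈ R₂, η w = w := fun w hw => by
    haveI := finite_of_le L.hRS
    obtain ⟨v, hv, rfl⟩ := ((hφ.1.mor.restrict le_sup_left).iso_of_card hφ.2.1 le_rfl :
      Iso F φ R₂ R₂).surj hw
    obtain ⟨v₀, hv₀, rfl⟩ := hgR.surj hv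
    show g (γ (g' (φ' (φ (g v₀))))) = φ (g v₀)
    rw [hφl' _ (Subgroup.mem_sup_left hv), hgl v₀ (hRP hv₀), hφg v₀ hv₀]
  have hφ'y : φ' y = y := by
    conv_lhs => rw [← hφy]
    exact hφl' y (Subgroup.mem_sup_right hyK)
  have hγy : g (γ (g' y)) = y * z := by
    rw [hy, hgl x hx, hz, ← hgP.mor.map_mul hx (hRP hz₀R), hz₀, mul_inv_cancel_left]
  have hηy : η y = y * z := by
    show g (γ (g' (φ' y))) = y * z
    rw [hφ'y, hγy]
  have hn' : Subgroup.zpowers y ≤ Subgroup.normalizer ((centralizerIn T R₂ : Subgroup Ω) : Set Ω) :=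
    Subgroup.zpowers_le.mpr (Subgroup.mem_normalizer_iff.mpr fun v => by
      constructor
      · intro hv
        rw [← L.comm hyK hv, mul_inv_cancel_right]; exact hv
      · intro hv
        have h := L.comm hyK hv
        rw [inv_mul_cancel_right] at h
        rw [← mul_left_cancel h] at hv
        exact hv)
  have hpw : ∀ n : ℤ, η (y ^ n) = y ^ n * z ^ n := fun n => by
    have h := map_zpow (hm.restrict (le_sup_left : A ≤ A ⊔ R₂)).hom (⟨y, hyA⟩ : A) n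
    rw [Mor.hom_apply, Mor.hom_apply] at h
    rw [show η (y ^ n) = (η y) ^ n from h, hηy]
    exact (show Commute y z from (L.comm hyK hzZ).symm).mul_zpow n
  have hrelA : ∀ w ∈ A, η w ∈ A ∧ w⁻¹ * η w ∈ centralizerIn T R₂ := by
    intro w hw
    have hw2 : w ∈ ((centralizerIn T R₂ ⊔ Subgroup.zpowers y : Subgroup Ω) : Set Ω) := hw
    rw [sup_comm, Subgroup.coe_mul_of_left_le_normalizer_right _ _ hn'] at hw2
    obtain ⟨b, hb, d, hd, rfl⟩ := hw2
    obtain ⟨n, rfl⟩ := Subgroup.mem_zpowers_iff.mp hb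
    have hbA : y ^ n ∈ A := zpow_mem hyA n
    have e : η (y ^ n * d) = y ^ n * z ^ n * d := by
      rw [hm.map_mul (Subgroup.mem_sup_left hbA) (Subgroup.mem_sup_left (hZA hd)), hpw,
        hηR d (L.hZR hd)]
    show η (y ^ n * d) ∈ A ∧ (y ^ n * d)⁻¹ * η (y ^ n * d) ∈ _
    rw [e]
    refine ⟨A.mul_mem (A.mul_mem hbA (hZA (zpow_mem hzZ n))) (hZA hd), ?_⟩
    rw [show (y ^ n * d)⁻¹ * (y ^ n * z ^ n * d) = d⁻¹ * z ^ n * d by group]
    exact mul_mem (mul_mem (inv_mem hd) (zpow_mem hzZ n)) hd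
  haveI := finite_of_le hAK
  have hηi : Iso CR η A A := ((cent_mor hCR).mpr ⟨hAK, fun w hw => hAK (hrelA w hw).1, η, hm,
    fun _ _ => rfl, hηR⟩).iso_of_card (fun w hw => (hrelA w hw).1) le_rfl
  have hc := L.commute hCR hφ hφ' hφl' hφr' hZA hηi (fun w hw => (hrelA w hw).2) y hyA
  rw [hηy, hφy, hηy, hφ.1.mor.map_mul (Subgroup.mem_sup_right hyK) (Subgroup.mem_sup_right (L.zK hzZ)),
    hφy] at hc
  have hφz : φ z = z := mul_left_cancel hc
  have hγz : γ z₀ = z₀ := by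
    have h := hφg z₀ hz₀R
    rw [show φ (g z₀) = g z₀ from hφz] at h
    exact (hgR.mor.injOn hz₀R (hγR _ hz₀R) h).symm
  have hit : ∀ n : ℕ, γ^[n] x = x * z₀ ^ n := by
    intro n
    induction n with
    | zero => simp
    | succ n ih =>
      rw [Function.iterate_succ_apply', ih, hγ.mor.map_mul hx (pow_mem (hRP hz₀R) n),
        hγ.mor.map_pow (hRP hz₀R), hγz, pow_succ', ← mul_assoc, hz₀, mul_inv_cancel_left]
  have hzk : z₀ ^ k = 1 := by
    have h := hit k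
    rw [hγk x hx] at h
    exact mul_left_cancel (h.symm.trans (mul_one x).symm)
  exact (inv_mul_eq_one.mp (eq_one_of_coprime_pow c.hS (hRS hz₀R) hk hzk)).symm

/-- The automorphisms of `P` over the `p`-generated automorphisms of `P ∩ T`, trivial modulo it. -/
def gam (c : Ctx F E p) (P : Subgroup Ω) : Subgroup (MulAut P) where
  carrier := {α | α ∈ F.autGroup P ∧ (∀ x : P, (x : Ω)⁻¹ * ((α x : P) : Ω) ∈ P ⊓ T) ∧
    ∃ κ ∈ pGenAut E p (P ⊓ T), ∀ r : ↥(P ⊓ T),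
      ((α ⟨(r : Ω), r.2.1⟩ : P) : Ω) = ((κ r : ↥(P ⊓ T)) : Ω)}
  one_mem' := ⟨one_mem _, fun x => by rw [MulAut.one_apply, inv_mul_cancel]; exact one_mem _,
    1, one_mem _, fun _ => rfl⟩
  mul_mem' := by
    rintro α β ⟨hα, hαc, κ, hκ, eκ⟩ ⟨hβ, hβc, μ, hμ, eμ⟩
    refine ⟨mul_mem hα hβ, fun x => ?_, κ * μ, mul_mem hκ hμ, fun r => ?_⟩
    · have h : (x : Ω)⁻¹ * ((α (β x) : P) : Ω) =
          ((x : Ω)⁻¹ * ((β x : P) : Ω)) * (((β x : P) : Ω)⁻¹ * ((α (β x) : P) : Ω)) := by group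
      rw [MulAut.mul_apply, h]
      exact mul_mem (hβc x) (hαc (β x))
    · rw [MulAut.mul_apply, MulAut.mul_apply, ← eκ (μ r)]
      congr 2
      exact Subtype.ext (eμ r)
  inv_mem' := by
    rintro α ⟨hα, hαc, κ, hκ, eκ⟩
    refine ⟨inv_mem hα, fun x => ?_, κ⁻¹, inv_mem hκ, fun r => ?_⟩
    · have h := inv_mem (hαc (α⁻¹ x))
      rwa [MulAut.apply_inv_self, mul_inv_rev, inv_inv] at h
    · have h := eκ (κ⁻¹ r)
      rw [MulAut.apply_inv_self] at h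
      have h2 : α ⟨((κ⁻¹ r : ↥(P ⊓ T)) : Ω), (κ⁻¹ r).2.1⟩ = ⟨(r : Ω), r.2.1⟩ := Subtype.ext h
      rw [← h2, MulAut.inv_apply_self]

theorem mem_gam_iff {α : MulAut P} : α ∈ c.gam P ↔ α ∈ F.autGroup P ∧
    (∀ x : P, (x : Ω)⁻¹ * ((α x : P) : Ω) ∈ P ⊓ T) ∧ ∃ κ ∈ pGenAut E p (P ⊓ T), ∀ r : ↥(P ⊓ T),
      ((α ⟨(r : Ω), r.2.1⟩ : P) : Ω) = ((κ r : ↥(P ⊓ T)) : Ω) := Iff.rfl

theorem gam_normal (hP : P ≤ S) (hR : E.IsCentric (P ⊓ T)) : ((c.gam P).subgroupOf (F.autGroup P)).Normal := by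
  refine ⟨fun α hα β => ?_⟩
  haveI := finite_of_le c.tle
  haveI := finite_of_le hP
  haveI : Finite ↥(P ⊓ T) := finite_of_le (inf_le_left.trans hP)
  obtain ⟨-, hαc, κ, hκ, eκ⟩ := (c.mem_gam_iff).mp (show (α : MulAut P) ∈ c.gam P from hα)
  obtain ⟨b, hb, eb⟩ := (mem_autGroup_iff hP).mp β.2
  have hbR : Iso F b (P ⊓ T) (P ⊓ T) := (hb.mor.restrict inf_le_left).iso_of_card
    (fun v hv => ⟨hb.mapsTo hv.1, stronglyClosed_mem c.strong hb.mor hv.1 hv.2⟩) le_rfl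
  show ((β * α * β⁻¹ : F.autGroup P) : MulAut P) ∈ c.gam P
  refine ⟨(β * α * β⁻¹).2, fun x => ?_, hbR.transport κ, c.transport_mem inf_le_right hbR hκ, fun r => ?_⟩
  · set w := (β : MulAut P)⁻¹ x with hw
    have hxw : (β : MulAut P) w = x := MulAut.apply_inv_self _ _ _
    show (x : Ω)⁻¹ * (((β : MulAut P) ((α : MulAut P) w) : P) : Ω) ∈ _
    rw [← hxw, ← eb w, ← eb, ← hb.mor.map_inv w.2,
      ← hb.mor.map_mul (inv_mem w.2) (SetLike.coe_mem _)]
    exact hbR.mapsTo (hαc w)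
  · obtain ⟨v, hv, hvr⟩ := hbR.surj r.2
    have h1 : (β : MulAut P)⁻¹ ⟨(r : Ω), r.2.1⟩ = ⟨v, hv.1⟩ := by
      rw [show (⟨(r : Ω), r.2.1⟩ : P) = (β : MulAut P) ⟨v, hv.1⟩ from
        Subtype.ext (hvr.symm.trans (eb ⟨v, hv.1⟩)), MulAut.inv_apply_self]
    show (((β : MulAut P) ((α : MulAut P) ((β : MulAut P)⁻¹ ⟨(r : Ω), r.2.1⟩)) : P) : Ω) = _
    rw [h1, ← eb, eκ ⟨v, hv⟩]
    conv_rhs => rw [show r = ⟨b v, hbR.mapsTo hv⟩ from Subtype.ext hvr.symm]
    exact (hbR.transport_val κ hv).symm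

/-- `C_S(E)` is strongly closed. -/
theorem centE_stronglyClosed : F.StronglyClosed (centE F E) := by
  have hTS := c.tle
  haveI := finite_of_le hTS
  haveI := finite_of_le (centralizerIn_le : centralizerIn S T ≤ S)
  have hTCS : T ⊔ centralizerIn S T ≤ S := sup_le hTS centralizerIn_le
  haveI := finite_of_le hTCS
  have hsymm : ∀ {β : Ω → Ω}, Iso F β (T ⊔ centralizerIn S T) (T ⊔ centralizerIn S T) →
      (∀ t ∈ T, β t ∈ T) → ∀ x ∈ T ⊔ centralizerIn S T, (x ∈ centE F E ↔ β x ∈ centE F E) := by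
    intro β hβ hβT x hx
    refine ⟨fun h => c.sym_centE β hβ hβT x h, fun h => ?_⟩
    obtain ⟨β', hβ', hβ'T, hl, -⟩ := c.sym_symm hβ hβT
    rw [← hl x hx]
    exact c.sym_centE β' hβ' hβ'T _ h
  have hcjE : ∀ s ∈ S, ∀ x ∈ S, (x ∈ centE F E ↔ cj s x ∈ centE F E) := by
    intro s hs x _
    obtain ⟨hi, ht⟩ := c.sym_conj hs
    refine ⟨fun h => c.sym_centE _ hi ht x h, fun h => ?_⟩
    obtain ⟨hi', ht'⟩ := c.sym_conj (S.inv_mem hs)
    have := c.sym_centE _ hi' ht' _ h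
    rwa [cj_inv_cancel] at this
  suffices key : ∀ P f, Mor F P f → ∀ x ∈ P, (x ∈ centE F E ↔ f x ∈ centE F E) by
    refine ⟨centE_le.trans centralizerIn_le, fun P hP φ hφ x => ?_⟩
    have := (key P _ (mor_of_mem hφ) x x.2).mp (hP x.2)
    rwa [extFun_coe] at this
  refine alperin c.hS c.hF (C := fun P f => ∀ x ∈ P, (x ∈ centE F E ↔ f x ∈ centE F E))
    { conj := fun hP hs x hx => hcjE _ hs x (hP hx)
      congr := fun _ e h x hx => by rw [← e x hx]; exact h x hx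
      comp := fun _ _ m h h' x hx => (h x hx).trans (h' _ (m x hx))
      inv := fun {P Q f g} hf _ e h y hy => by
        obtain ⟨x, hx, rfl⟩ := hf.surj hy
        rw [e x hx]; exact (h x hx).symm } ?_
  intro P hPe hPn IH f hf
  have hP := hPn.1
  haveI := finite_of_le hP
  haveI := finite_mulAut (G := P)
  have hR : E.IsCentric (P ⊓ T) := by
    let c₀ : CharCtx F E p (1 : ↥(F.autGroup T) →* Unit) :=
      ⟨c.hS, c.hF, c.hEsat, c.hinv, by simp, fun x _ => rfl⟩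
    rcases hPe with rfl | hess
    · exact c₀.gd_top.2
    · exact (c₀.fam.essential c.hS c.hF hess).2
  suffices hinto : ∀ (f : Ω → Ω), Iso F f P P → ∀ x ∈ P, x ∈ centE F E → f x ∈ centE F E by
    obtain ⟨f', hf', hl, -⟩ := hf.exists_symm
    exact fun x hx => ⟨hinto f hf x hx, fun h => hl x hx ▸ hinto f' hf' _ (hf.mapsTo hx) h⟩
  intro f hf x hx hxE
  have hxC := centE_le (F := F) (E := E) hxE
  by_cases hTP : T ≤ P
  · have hfT : Iso F f T T := (hf.mor.restrict hTP).iso_of_card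
      (fun t ht => stronglyClosed_mem c.strong hf.mor (hTP ht) ht) le_rfl
    obtain ⟨β, hβ, eβ⟩ := c.ext_aut hfT
    have hβT : ∀ t ∈ T, β t ∈ T := fun t ht => by rw [eβ t ht]; exact hfT.mapsTo ht
    obtain ⟨β', hβ', hβ'T, hl, hr⟩ := c.sym_symm hβ hβT
    set Q := P ⊓ centralizerIn S T
    have hfC : ∀ v ∈ Q, f v ∈ centralizerIn S T := fun v hv =>
      hfT.map_centralizer hf.mor hTP (fun _ _ => rfl) hv.1 hv.2
    have hQT : Q ⊔ T ≤ P := sup_le inf_le_left hTP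
    have m : ∀ v ∈ Q ⊔ T, f v ∈ T ⊔ centralizerIn S T := (hf.mor.restrict hQT).map_sup
      (fun v hv => Subgroup.mem_sup_right (hfC v hv)) (fun v hv => Subgroup.mem_sup_left (hfT.mapsTo hv))
    obtain ⟨D, hD⟩ := exists_centralizerSystem F T hTS
    have hm : Mor D Q (β' ∘ f) := (cent_mor hD).mpr ⟨inf_le_right,
      fun v hv => c.sym_mapsC hβ' hβ'T (hfC v hv), _, (hf.mor.restrict hQT).comp hβ'.mor m,
      fun _ _ => rfl, fun t ht => by
        show β' (f t) = t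
        rw [← eβ t ht, hl t (Subgroup.mem_sup_left ht)]⟩
    have h1 := c.focal_le hD (mem_focal_gen hm (show x ∈ Q from ⟨hx, hxC⟩))
    have h2 := (centE F E).mul_mem hxE h1
    rw [mul_inv_cancel_left] at h2
    have h3 := c.sym_centE β hβ hβT _ h2
    rwa [Function.comp_apply, hr _ (Subgroup.mem_sup_right (hfC x ⟨hx, hxC⟩))] at h3
  -- `P ∩ T` is proper: Frattini argument
  set A := F.autGroup P
  set Γ := (c.gam P).subgroupOf A with hΓ
  haveI : Γ.Normal := c.gam_normal hP hR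
  obtain ⟨-, hfa, hrec⟩ := IsSaturated_fullyNormalized c.hS c.hF hPn
  obtain ⟨-, V, hV⟩ := hfa
  set W := ((V : Subgroup A) ⊓ Γ).subgroupOf Γ with hW
  have hWp : IsPGroup p W := (V.isPGroup'.to_le inf_le_left).comap_subtype
  have hWi : ¬ p ∣ W.index := by
    intro hd
    refine V.not_dvd_index (hd.trans ?_)
    show ((V : Subgroup A) ⊓ Γ).relIndex Γ ∣ (V : Subgroup A).index
    have h1 := Subgroup.relIndex_mul_relIndex ((V : Subgroup A) ⊓ Γ) Γ ((V : Subgroup A) ⊔ Γ)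
      inf_le_right le_sup_right
    have h2 := Subgroup.relIndex_mul_relIndex ((V : Subgroup A) ⊓ Γ) (V : Subgroup A)
      ((V : Subgroup A) ⊔ Γ) inf_le_left le_sup_left
    rw [Subgroup.relIndex_sup_right] at h1
    rw [← h1, Subgroup.inf_relIndex_left, mul_comm] at h2
    haveI : Finite ↥(V : Subgroup A) := inferInstance
    have h3 := Nat.eq_of_mul_eq_mul_right (Nat.pos_of_ne_zero
      (show Γ.relIndex (V : Subgroup A) ≠ 0 from Subgroup.index_ne_zero_of_finite)) h2.symm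
    rw [h3]
    exact Subgroup.relIndex_dvd_index_of_le le_sup_left
  let Wy : Sylow p Γ := hWp.toSylow hWi
  have hpres : ∀ γ ∈ Γ, ∀ y : P, ((y : Ω) ∈ centE F E ↔ (((γ : MulAut P) y : P) : Ω) ∈ centE F E) := by
    let St : Subgroup Γ :=
      { carrier := {γ | ∀ y : P, ((y : Ω) ∈ centE F E ↔ (((((γ : A) : MulAut P)) y : P) : Ω) ∈ centE F E)}
        one_mem' := fun _ => Iff.rfl
        mul_mem' := fun {γ δ} hγ hδ y => (hδ y).trans (hγ _)
        inv_mem' := fun {γ} hγ y => by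
          have := (hγ ((((γ : A) : MulAut P))⁻¹ y)).symm
          rwa [MulAut.apply_inv_self] at this }
    have htop : pResidual p Γ ⊔ W = ⊤ := eq_top_of_pResidual_le (p := p) le_sup_left
      fun hd => hWi (hd.trans (Subgroup.index_dvd_of_le le_sup_right))
    have hle : pResidual p Γ ⊔ W ≤ St := by
      refine sup_le ?_ fun γ hγ => ?_
      · rw [pResidual, Subgroup.closure_le]
        intro γ hγ y
        obtain ⟨-, hγc, κ, hκ, eκ⟩ := (c.mem_gam_iff).mp (show ((γ : A) : MulAut P) ∈ c.gam P from γ.2)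
        obtain ⟨u, hu, eu⟩ := (mem_autGroup_iff hP).mp (γ : A).2
        have huk : ∀ v ∈ P, u^[orderOf γ] v = v := by
          have hit : ∀ n, ∀ v : P, u^[n] (v : Ω) = ((((((γ : A) : MulAut P)) ^ n) v : P) : Ω) := by
            intro n
            induction n with
            | zero => intro v; rfl
            | succ n ih => intro v; rw [Function.iterate_succ_apply', ih, eu, pow_succ', MulAut.mul_apply]
          intro v hv
          rw [hit _ ⟨v, hv⟩, ← SubmonoidClass.coe_pow, ← SubmonoidClass.coe_pow, pow_orderOf_eq_one]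
          rfl
        have hfix : ∀ v ∈ P, v ∈ centE F E → u v = v := fun v hv hvE =>
          c.gamma_fix hP hR hu (show (orderOf γ).Coprime p from hγ) huk hκ
            (fun r => (eu ⟨r, r.2.1⟩).trans (eκ r))
            (fun w hw => by rw [eu ⟨w, hw⟩]; exact hγc ⟨w, hw⟩) hv hvE
        rw [← eu y]
        refine ⟨fun h => by rw [hfix y y.2 h]; exact h, fun h => ?_⟩
        have h2 := hfix _ (hu.mapsTo y.2) h
        rwa [← hu.mor.injOn (hu.mapsTo y.2) y.2 h2]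
      · have h0 : (γ : A) ∈ (V : Subgroup A) := (Subgroup.mem_subgroupOf.mp hγ).1
        rw [hV] at h0
        obtain ⟨s, hs, -, es⟩ := mem_autInducedBy.mp (Subgroup.mem_subgroupOf.mp h0)
        intro y
        rw [es y]
        exact hcjE s hs y (hP y.2)
    intro γ hγ
    exact (hle (htop.ge (Subgroup.mem_top (⟨γ, hγ⟩ : Γ))))
  obtain ⟨n, hn, k, hk, hnk⟩ := Subgroup.mem_sup_of_normal_right.mp
    ((Sylow.normalizer_sup_eq_top Wy).ge (Subgroup.mem_top (⟨hf.equiv, hf.equiv_mem_autGroup⟩ : A)))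
  -- `n` extends beyond `P`
  have hWm : (Wy : Subgroup Γ).map Γ.subtype = (V : Subgroup A) ⊓ Γ :=
    Subgroup.map_subgroupOf_eq_of_le inf_le_right
  obtain ⟨u, hu, eu⟩ := (mem_autGroup_iff hP).mp n.2
  obtain ⟨e, he, ee⟩ := (receptive_iff.mp hrec).2 P u hu
  have hlt : P < nphi S P u := by
    refine lt_of_le_of_ne hu.mor.le_nphi fun heq => ?_
    -- an element of `N_T(P)` outside `P`
    have hTn : ∀ v ∈ P, v ∈ Subgroup.normalizer (T : Set Ω) := fun v hv => c.toWCtx.tn (hP hv)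
    have hlt' : P < P ⊔ T := left_lt_sup.mpr hTP
    haveI : Finite ↥(P ⊔ T) := finite_of_le (sup_le hP hTS)
    obtain ⟨w, hw, hwP, hwn⟩ := exists_mem_normalizer_of_lt (c.hS.to_le (sup_le hP hTS)) hlt'
    have hw' : w ∈ ((P ⊔ T : Subgroup Ω) : Set Ω) := hw
    rw [Subgroup.coe_mul_of_left_le_normalizer_right _ _ hTn] at hw'
    obtain ⟨v, hv, t, ht, rfl⟩ := hw'
    have htn : t ∈ Subgroup.normalizer (P : Set Ω) := by
      have := (Subgroup.normalizer (P : Set Ω)).mul_mem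
        ((Subgroup.normalizer (P : Set Ω)).inv_mem (Subgroup.le_normalizer hv)) hwn
      rwa [inv_mul_cancel_left] at this
    have htP : t ∉ P := fun h => hwP (P.mul_mem hv h)
    have htS : t ∈ S ⊓ Subgroup.normalizer (P : Set Ω) := ⟨hTS ht, htn⟩
    have htA : actHom S P ⟨t, htS⟩ ∈ A :=
      autInducedBy_le_autGroup hP ((range_actHom S P).le ⟨_, rfl⟩)
    have htR : t ∈ Subgroup.normalizer ((P ⊓ T : Subgroup Ω) : Set Ω) :=
      Subgroup.mem_normalizer_iff.mpr fun r => ⟨fun hr =>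
        ⟨(cj_mem_iff htn r).mpr hr.1, (cj_mem_iff (Subgroup.le_normalizer ht) r).mpr hr.2⟩,
        fun hr => ⟨(cj_mem_iff htn r).mp hr.1, (cj_mem_iff (Subgroup.le_normalizer ht) r).mp hr.2⟩⟩
    haveI : Finite ↥(P ⊓ T) := finite_of_le (inf_le_left.trans hP)
    haveI := finite_mulAut (G := ↥(P ⊓ T))
    have hτ : Iso E (cj t) (P ⊓ T) (P ⊓ T) := Iso.conj_self inf_le_right ht htR
    have hτp : ∃ j : ℕ, orderOf (hτ.equiv : MulAut ↥(P ⊓ T)) = p ^ j := by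
      have hm : (hτ.equiv : MulAut ↥(P ⊓ T)) ∈ autInducedBy T (P ⊓ T) :=
        mem_autInducedBy.mpr ⟨t, ht, htR, fun r => rfl⟩
      obtain ⟨j, hj⟩ := IsPGroup.iff_orderOf.mp (isPGroup_autInducedBy (c.hS.to_le hTS) (P ⊓ T)) ⟨_, hm⟩
      exact ⟨j, by rwa [Subgroup.orderOf_mk] at hj⟩
    have htΓ : (⟨_, htA⟩ : A) ∈ (V : Subgroup A) ⊓ Γ := by
      refine ⟨by rw [hV]; exact Subgroup.mem_subgroupOf.mpr ((range_actHom S P).le ⟨_, rfl⟩), ?_⟩
      refine (c.mem_gam_iff).mpr ⟨htA, fun y => ?_, hτ.equiv,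
        Subgroup.subset_closure ⟨hτ.equiv_mem_autGroup, hτp⟩, fun r => actHom_apply S P _ _⟩
      show (y : Ω)⁻¹ * ((actHom S P ⟨t, htS⟩ y : P) : Ω) ∈ P ⊓ T
      rw [actHom_apply]
      refine ⟨P.mul_mem (P.inv_mem y.2) ((cj_mem_iff htn _).mpr y.2), ?_⟩
      have h1 : cj (y : Ω)⁻¹ t ∈ T := (cj_mem_iff (hTn _ (P.inv_mem y.2)) t).mpr ht
      rw [show (y : Ω)⁻¹ * cj t y = cj (y : Ω)⁻¹ t * t⁻¹ by simp [cj_apply, mul_assoc]]
      exact T.mul_mem h1 (T.inv_mem ht)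
    have h2 := ((Subgroup.mem_normalizer_iff.mp hn) _).mp (hWm.ge htΓ)
    have h2' := (hWm.le h2).1
    rw [hV] at h2'
    obtain ⟨s, hs, -, es⟩ := mem_autInducedBy.mp (Subgroup.mem_subgroupOf.mp h2')
    refine htP (heq.ge (mem_nphi.mpr ⟨hTS ht, htn, s, hs, fun v hv => ?_⟩))
    have h3 := es ((n : MulAut P) ⟨v, hv⟩)
    simp only [Subgroup.coe_mul, Subgroup.coe_inv, MulAut.mul_apply, MulAut.inv_apply_self] at h3
    rw [← eu, ← eu, actHom_apply] at h3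
    exact h3
  haveI := finite_of_le (nphi_le.trans normalizerIn_le : nphi S P u ≤ S)
  have hnE : ∀ y : P, ((y : Ω) ∈ centE F E ↔ (((n : MulAut P) y : P) : Ω) ∈ centE F E) := fun y => by
    rw [← eu y, ← ee _ y.2]
    exact IH _ e he (card_lt_of_lt hlt) _ (hu.mor.le_nphi y.2)
  have h1 := (hpres k hk ⟨x, hx⟩).mp hxE
  have h2 := (hnE _).mp h1
  have h3 : ((n * k : A) : MulAut P) ⟨x, hx⟩ = (n : MulAut P) ((k : MulAut P) ⟨x, hx⟩) := rfl
  rw [← h3, hnk] at h2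
  exact h2

end Ctx

end Cfsg.Agent.Fusion.CentE
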