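/-
Transport of subsystems, normality, subnormality and components along isomorphisms of fusion systems.
-/
import Cfsg.Agent.Fusion.Transport
import Cfsg.Agent.Fusion.Joins
import Cfsg.Prelude.Def_FusionComponents
set_option autoImplicit false

namespace Cfsg.Agent.Fusion

open Cfsg Cfsg.FusionSystem

variable {Ω Ω' : Type*} [Group Ω] [Group Ω'] {S : Subgroup Ω} {S' : Subgroup Ω'}
  {F : FusionSystem S} {F' : FusionSystem S'} {e : Ω → Ω'} {e' : Ω' → Ω}

theorem tr_subsystem_base_le {T : Subgroup Ω} {E : FusionSystem T} (hE : E.IsSubsystemOf F) : T ≤ S :=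
  (F.le_of_mem (hE T (E.conj_mem le_rfl (one_mem T)))).1

theorem tr_subsystem_mor {T : Subgroup Ω} {E : FusionSystem T} (hE : E.IsSubsystemOf F) {P : Subgroup Ω}
    {f : Ω → Ω} (hf : Mor E P f) : Mor F P f :=
  ⟨hf.hom, hE P hf.hom_mem, fun _ => rfl⟩

theorem tr_subsystem_iso {T : Subgroup Ω} {E : FusionSystem T} (hE : E.IsSubsystemOf F) {P Q : Subgroup Ω}
    {f : Ω → Ω} (hf : Iso E f P Q) : Iso F f P Q :=
  ⟨tr_subsystem_mor hE hf.mor, hf.bij⟩

theorem tr_subsystem_trans {T U : Subgroup Ω} {E : FusionSystem T} {D : FusionSystem U}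
    (hE : E.IsSubsystemOf D) (hD : D.IsSubsystemOf F) : E.IsSubsystemOf F :=
  fun P => (hE P).trans (hD P)

theorem isInvariantIn_of_mor {T : Subgroup Ω} {E : FusionSystem T} (hsub : E.IsSubsystemOf F)
    (hT : T ≤ S) (hclosed : ∀ P ≤ T, ∀ f, Mor F P f → ∀ x ∈ P, f x ∈ T)
    (hpush : ∀ a a', Iso F a T T → (∀ x ∈ T, a' (a x) = x) → ∀ P f, Mor E P f →
      ∀ P' : Subgroup Ω, (∀ y, y ∈ P' ↔ ∃ x ∈ P, a x = y) → Mor E P' (a ∘ f ∘ a'))
    (hfrat : ∀ P ≤ T, ∀ f, Mor F P f → ∃ a g, Iso F a T T ∧ Mor E P g ∧ ∀ x ∈ P, f x = a (g x)) :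
    E.IsInvariantIn F := by
  refine ⟨hsub, ⟨hT, fun R hR φ hφ x => ?_⟩, fun P hPT φ hφ α hα => ?_, fun P hP φ hφ => ?_⟩
  · rw [← extFun_coe φ x]
    exact hclosed R hR _ (mor_of_mem hφ) x x.2
  · have ha := autGroup_iso hT hα
    obtain ⟨a', -, hl, -⟩ := ha.exists_symm
    have hm := hpush _ a' ha hl P _ (mor_of_mem hφ)
      ((P.subgroupOf T).map (T.subtype.comp α.toMonoidHom)) (fun y => ⟨fun ⟨x, hx, hy⟩ =>
        ⟨x, hx, (extFun_coe _ x).trans hy⟩, fun ⟨x, hx, hy⟩ => ⟨⟨x, hPT hx⟩, hx,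
        (extFun_apply _ (hPT hx)).symm.trans hy⟩⟩)
    refine ⟨hm.hom, hm.hom_mem, fun x hφx hαx => ?_⟩
    rw [Mor.hom_apply]
    show extFun (T.subtype.comp α.toMonoidHom) (extFun φ (a' ((α ⟨x, hPT x.2⟩ : T) : Ω))) = _
    rw [show ((α ⟨x, hPT x.2⟩ : T) : Ω) = extFun (T.subtype.comp α.toMonoidHom) (x : Ω) from
      (extFun_apply (T.subtype.comp α.toMonoidHom) (hPT x.2)).symm, hl x (hPT x.2), extFun_coe φ x, extFun_apply _ hφx]
    rfl
  · obtain ⟨a, g, ha, hg, eg⟩ := hfrat P hP _ (mor_of_mem hφ)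
    refine ⟨ha.equiv, ha.equiv_mem_autGroup, hg.hom, hg.hom_mem, fun x hx => ?_⟩
    rw [← extFun_coe φ x, eg x x.2]
    rfl

theorem invariant_push_inv {T : Subgroup Ω} {E : FusionSystem T} (hE : E.IsInvariantIn F) {b b' : Ω → Ω}
    (hb : Iso F b T T) (hl : ∀ x ∈ T, b' (b x) = x) :
    ∀ P f, Mor E P f → ∀ P' : Subgroup Ω, (∀ y, y ∈ P' ↔ ∃ x ∈ P, b x = y) → Mor E P' (b ∘ f ∘ b') := by
  intro P f hf P' hP'
  have hPT := hf.dom_le
  obtain ⟨χ, hχ, eχ⟩ := hE.2.2.1 P hPT hf.hom hf.hom_mem hb.equiv hb.equiv_mem_autGroup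
  have hD : (P.subgroupOf T).map (T.subtype.comp ((hb.equiv : MulAut T).toMonoidHom)) = P' := by
    ext y
    rw [hP']
    exact ⟨fun ⟨x, hx, hy⟩ => ⟨x, hx, hy⟩, fun ⟨x, hx, hy⟩ => ⟨⟨x, hPT hx⟩, hx, hy⟩⟩
  have hm : Mor E P' (extFun χ) := (congrArg (fun A => Mor E A (extFun χ)) hD).mp (mor_of_mem hχ)
  refine hm.congr fun y hy => ?_
  obtain ⟨x, hx, rfl⟩ := (hP' y).mp hy
  have hax : b x ∈ (P.subgroupOf T).map (T.subtype.comp ((hb.equiv : MulAut T).toMonoidHom)) :=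
    hD.symm ▸ hy
  rw [extFun_apply χ hax]
  show _ = b (f (b' (b x)))
  rw [hl x (hPT hx)]
  exact eχ ⟨x, hx⟩ (hf.map_mem hx) hax

namespace SysIso

variable (h : SysIso F F' e e')

theorem img_mono {P Q : Subgroup Ω} (hPQ : P ≤ Q) : h.img P ≤ h.img Q :=
  Subgroup.map_mono (fun _ hx => hPQ hx)

theorem img_sup {P Q : Subgroup Ω} (hP : P ≤ S) (hQ : Q ≤ S) : h.img (P ⊔ Q) = h.img P ⊔ h.img Q := by
  rw [SysIso.img, SysIso.img, SysIso.img, Subgroup.subgroupOf_sup hP hQ, Subgroup.map_sup]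

theorem img_self : h.img S = S' := by
  refine le_antisymm (h.img_le S) fun y hy => (h.mem_img le_rfl).mpr ⟨e' y, h.mem' y hy, h.right y hy⟩

theorem img_bot : h.img (⊥ : Subgroup Ω) = ⊥ := by
  refine (Subgroup.eq_bot_iff_forall _).mpr fun y hy => ?_
  obtain ⟨x, hx, rfl⟩ := (h.mem_img bot_le).mp hy
  rw [Subgroup.mem_bot.mp hx]
  exact h.hom.map_one

/-- The image of a subsystem. -/
def subSys {T : Subgroup Ω} (E : FusionSystem T) (hE : E.IsSubsystemOf F) : FusionSystem (h.img T) where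
  Hom P' := {φ | P' ≤ h.img T ∧ ∃ f, Mor E (h.symm.img P') f ∧ ∀ y : P', φ y = e (f (e' y))}
  le_of_mem := fun {P'} {φ} ⟨hP, f, hf, ef⟩ => ⟨hP, fun y => by
    rw [ef]
    exact (h.mem_img (tr_subsystem_base_le hE)).mpr ⟨_, hf.map_mem
      ((h.symm.mem_img (hP.trans (h.img_le T))).mpr ⟨y, y.2, rfl⟩), rfl⟩⟩
  injective_of_mem := fun {P'} {φ} ⟨hP, f, hf, ef⟩ a b hab => by
    have hP' := hP.trans (h.img_le T)
    have hTS := tr_subsystem_base_le hE
    have ma : e' a ∈ h.symm.img P' := (h.symm.mem_img hP').mpr ⟨a, a.2, rfl⟩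
    have mb : e' b ∈ h.symm.img P' := (h.symm.mem_img hP').mpr ⟨b, b.2, rfl⟩
    rw [ef, ef] at hab
    have h1 := congrArg e' hab
    rw [h.left _ (hTS (hf.map_mem ma)), h.left _ (hTS (hf.map_mem mb))] at h1
    refine Subtype.ext ?_
    rw [← h.right a (hP' a.2), hf.injOn ma mb h1, h.right b (hP' b.2)]
  conj_mem := fun {P'} {g} hP hg => by
    have hTS := tr_subsystem_base_le hE
    obtain ⟨t, ht, rfl⟩ := (h.mem_img hTS).mp hg
    have hP' := hP.trans (h.img_le T)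
    refine ⟨hP, cj t, Mor.conj ?_ ht, fun y => ?_⟩
    · rw [← h.img_img hTS]
      exact h.symm.img_mono hP
    · rw [h.map_cj (hTS ht) (h.mem' y (hP' y.2)), h.right y (hP' y.2)]
      rfl
  comp_mem := fun {P' Q' φ ψ} ⟨hP, f, hf, ef⟩ ⟨hQ, g, hg, eg⟩ m => by
    have hTS := tr_subsystem_base_le hE
    have hP' := hP.trans (h.img_le T)
    have hval : ∀ y : P', e' (φ y) = f (e' y) := fun y => by
      rw [ef, h.left _ (hTS (hf.map_mem ((h.symm.mem_img hP').mpr ⟨y, y.2, rfl⟩)))]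
    refine ⟨hP, g ∘ f, hf.comp hg fun x hx => ?_, fun y => ?_⟩
    · obtain ⟨y, hy, rfl⟩ := (h.symm.mem_img hP').mp hx
      exact (h.symm.mem_img (hQ.trans (h.img_le T))).mpr ⟨_, m ⟨y, hy⟩, hval ⟨y, hy⟩⟩
    · show ψ ⟨φ y, m y⟩ = _
      rw [eg]
      show e (g (e' (φ y))) = _
      rw [hval]
      rfl
  inv_mem := fun {P'} {φ} ⟨hP, f, hf, ef⟩ => by
    have hTS := tr_subsystem_base_le hE
    have hP' := hP.trans (h.img_le T)
    obtain ⟨g, hg, hgf, -⟩ := hf.toIso.exists_symm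
    have himg : ∀ y, y ∈ φ.range ↔ y ∈ h.img hf.img := fun y => by
      constructor
      · rintro ⟨z, rfl⟩
        rw [ef]
        exact (h.mem_img (hf.img_le.trans hTS)).mpr
          ⟨_, hf.mem_img.mpr ⟨_, (h.symm.mem_img hP').mpr ⟨z, z.2, rfl⟩, rfl⟩, rfl⟩
      · intro hy
        obtain ⟨w, hw, rfl⟩ := (h.mem_img (hf.img_le.trans hTS)).mp hy
        obtain ⟨x, hx, rfl⟩ := hf.mem_img.mp hw
        obtain ⟨z, hz, rfl⟩ := (h.symm.mem_img hP').mp hx
        exact ⟨⟨z, hz⟩, ef ⟨z, hz⟩⟩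
    have hr : φ.range = h.img hf.img := SetLike.ext himg
    have hpre : h.symm.img φ.range = hf.img := by rw [hr, h.img_img (hf.img_le.trans hTS)]
    have hF : Mor F' φ.range (e ∘ g ∘ e') := by rw [hr]; exact h.mor (tr_subsystem_mor hE hg.mor)
    refine ⟨hF.hom, ⟨by rw [hr]; exact h.img_mono hf.img_le, g, by rw [hpre]; exact hg.mor, fun _ => rfl⟩,
      fun y => ?_⟩
    have m := (h.symm.mem_img hP').mpr ⟨y, y.2, rfl⟩
    rw [Mor.hom_apply]
    show e (g (e' (φ y))) = y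
    rw [ef, h.left _ (hTS (hf.map_mem m)), hgf _ m, h.right y (hP' y.2)]

theorem subSys_isSubsystem {T : Subgroup Ω} (E : FusionSystem T) (hE : E.IsSubsystemOf F) :
    (h.subSys E hE).IsSubsystemOf F' := by
  rintro P' φ ⟨hP, f, hf, ef⟩
  have hm := h.mor (tr_subsystem_mor hE hf)
  have hPP : h.img (h.symm.img P') = P' := h.symm.img_img (hP.trans (h.img_le T))
  rw [hPP] at hm
  exact mem_of_mor hm ef

theorem subSys_sysIso {T : Subgroup Ω} (E : FusionSystem T) (hE : E.IsSubsystemOf F) :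
    SysIso E (h.subSys E hE) e e' := by
  have hTS := tr_subsystem_base_le hE
  refine ⟨fun x hx => (h.mem_img hTS).mpr ⟨x, hx, rfl⟩, fun y hy => ?_, fun x hx => h.left x (hTS hx),
    fun y hy => h.right y (h.img_le T hy), fun x hx y hy => h.map_mul x (hTS hx) y (hTS hy),
    fun P f hf P' hP' => ?_, fun P' f' hf' P hP => ?_⟩
  · obtain ⟨x, hx, rfl⟩ := (h.mem_img hTS).mp hy
    rwa [h.left x (hTS hx)]
  · have hPS := hf.dom_le.trans hTS
    have e1 : P' = h.img P := SetLike.ext fun y => (hP' y).trans (h.mem_img hPS).symm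
    subst e1
    have hm := h.mor (tr_subsystem_mor hE hf)
    exact ⟨hm.hom, ⟨h.img_mono hf.dom_le, f, by rw [h.img_img hPS]; exact hf, fun _ => rfl⟩, fun _ => rfl⟩
  · obtain ⟨φ, ⟨hPT, f, hf, ef⟩, eφ⟩ := hf'
    have hP'S := hPT.trans (h.img_le T)
    have e1 : P = h.symm.img P' := SetLike.ext fun x => (hP x).trans (h.symm.mem_img hP'S).symm
    subst e1
    refine hf.congr fun x hx => ?_
    obtain ⟨y, hy, rfl⟩ := (h.symm.mem_img hP'S).mp hx
    show f (e' y) = e' (f' (e (e' y)))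
    rw [h.right y (hP'S hy), ← eφ ⟨y, hy⟩, ef, h.left _ (hTS (hf.map_mem hx))]

variable {T : Subgroup Ω} {T' : Subgroup Ω'} {E : FusionSystem T} {E' : FusionSystem T'}

include h

theorem base_eq (hi : SysIso E E' e e') (hT : T ≤ S) : T' = h.img T := by
  ext y
  rw [h.mem_img hT]
  exact ⟨fun hy => ⟨e' y, hi.mem' y hy, hi.right y hy⟩, fun ⟨x, hx, hxy⟩ => hxy ▸ hi.mem x hx⟩

theorem transfer_subsystem (hi : SysIso E E' e e') (hE : E.IsSubsystemOf F) : E'.IsSubsystemOf F' := by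
  intro P' φ hφ
  have hf := mor_of_mem hφ
  have hT' := (h.base_eq hi (tr_subsystem_base_le hE)).le.trans (h.img_le T)
  have h1 := tr_subsystem_mor hE (hi.symm.mor hf)
  have h2 := h.push _ _ h1 P' fun y => by
    constructor
    · intro hy
      exact ⟨e' y, (hi.symm.mem_img hf.dom_le).mpr ⟨y, hy, rfl⟩, hi.right y (hf.dom_le hy)⟩
    · rintro ⟨x, hx, rfl⟩
      obtain ⟨z, hz, rfl⟩ := (hi.symm.mem_img hf.dom_le).mp hx
      rwa [hi.right z (hf.dom_le hz)]
  refine mem_of_mor h2 fun y => ?_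
  have hy := hf.dom_le y.2
  show φ y = e (e' (extFun φ (e (e' (y : Ω')))))
  rw [hi.right y hy, hi.right _ (hf.map_mem y.2), extFun_coe]

theorem transfer_invariant (hi : SysIso E E' e e') (hE : E.IsInvariantIn F) : E'.IsInvariantIn F' := by
  have hTS := hE.2.1.1
  have hT'e : T' = h.img T := h.base_eq hi hTS
  have hT' : T' ≤ S' := hT'e.le.trans (h.img_le T)
  have hback : h.symm.img T' = T := by rw [hT'e]; exact h.img_img hTS
  refine isInvariantIn_of_mor (h.transfer_subsystem hi hE.1) hT' ?_ ?_ ?_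
  · intro P hP f hf x hx
    have h1 := h.symm.mor hf
    have hle : h.symm.img P ≤ T := hback ▸ h.symm.img_mono hP
    have h2 : e' (f (e (e' x))) ∈ T := by
      have := hE.2.1.2 _ hle h1.hom h1.hom_mem ⟨e' x, (h.symm.mem_img hf.dom_le).mpr ⟨x, hx, rfl⟩⟩
      rwa [Mor.hom_apply] at this
    rw [h.right x (hf.dom_le hx)] at h2
    rw [← h.right (f x) (hf.map_mem hx)]
    exact hi.mem _ h2
  · intro a a' ha hl P f hf P' hP'
    have h1 := h.symm.iso ha
    rw [hback] at h1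
    obtain ⟨b', hb', hbl, hbr⟩ := h1.exists_symm
    have hsys := invariant_push_inv hE h1 hbl
    have hm := hi.symm.mor hf
    have hP'T : P' ≤ T' := fun y hy => by
      obtain ⟨x, hx, rfl⟩ := (hP' y).mp hy
      exact ha.mapsTo (hf.dom_le hx)
    have h2 := hsys _ _ hm (hi.symm.img P') fun y => by
      rw [hi.symm.mem_img hP'T]
      constructor
      · rintro ⟨z, hz, rfl⟩
        obtain ⟨x, hx, rfl⟩ := (hP' z).mp hz
        exact ⟨e' x, (hi.symm.mem_img hf.dom_le).mpr ⟨x, hx, rfl⟩,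
          congrArg (fun t => e' (a t)) (hi.right x (hf.dom_le hx))⟩
      · rintro ⟨w, hw, rfl⟩
        obtain ⟨x, hx, rfl⟩ := (hi.symm.mem_img hf.dom_le).mp hw
        exact ⟨a x, (hP' _).mpr ⟨x, hx, rfl⟩,
          (congrArg (fun t => e' (a t)) (hi.right x (hf.dom_le hx))).symm⟩
    refine (hi.push _ _ h2 P' fun y => ?_).congr fun y hy => ?_
    · constructor
      · intro hy
        exact ⟨e' y, (hi.symm.mem_img hP'T).mpr ⟨y, hy, rfl⟩, hi.right y (hP'T hy)⟩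
      · rintro ⟨x, hx, rfl⟩
        obtain ⟨z, hz, rfl⟩ := (hi.symm.mem_img hP'T).mp hx
        rwa [hi.right z (hP'T hz)]
    · obtain ⟨x, hx, rfl⟩ := (hP' y).mp hy
      have hxT : x ∈ T' := hf.dom_le hx
      have hb : b' (e' (a x)) = e' x := by
        have := hbl (e' x) (hi.mem' x hxT)
        simp only [Function.comp_apply, hi.right x hxT] at this
        exact this
      have hfx := hf.map_mem hx
      simp only [Function.comp_apply]
      rw [hb, hi.right x hxT, hl x hxT, hi.right _ hfx,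
        hi.right _ (ha.mapsTo hfx)]
  · intro P hP f hf
    have h1 := h.symm.mor hf
    have hle : h.symm.img P ≤ T := hback ▸ h.symm.img_mono hP
    obtain ⟨α, hα, φ₀, hφ₀, eφ⟩ := hE.2.2.2 _ hle h1.hom h1.hom_mem
    have ha := h.iso (autGroup_iso hTS hα)
    rw [← hT'e] at ha
    have hg : Mor E' P (e ∘ extFun φ₀ ∘ e') := hi.push _ _ (mor_of_mem hφ₀) P fun y => by
      constructor
      · intro hy
        exact ⟨e' y, (h.symm.mem_img hf.dom_le).mpr ⟨y, hy, rfl⟩, h.right y (hf.dom_le hy)⟩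
      · rintro ⟨x, hx, rfl⟩
        obtain ⟨z, hz, rfl⟩ := (h.symm.mem_img hf.dom_le).mp hx
        rwa [h.right z (hf.dom_le hz)]
    refine ⟨_, _, ha, hg, fun x hx => ?_⟩
    have mx : e' x ∈ h.symm.img P := (h.symm.mem_img hf.dom_le).mpr ⟨x, hx, rfl⟩
    have hm : φ₀ ⟨e' x, mx⟩ ∈ T := (E.le_of_mem hφ₀).2 _
    have h2 := eφ ⟨e' x, mx⟩ hm
    rw [Mor.hom_apply] at h2
    change e' (f (e (e' x))) = _ at h2
    rw [h.right x (hf.dom_le hx)] at h2
    simp only [Function.comp_apply, extFun_apply φ₀ mx, hi.left _ hm, extFun_apply _ hm]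
    rw [← h.right (f x) (hf.map_mem hx), h2]
    rfl

theorem transfer_normal {p : ℕ} [Fact p.Prime] [Finite S] [Finite S'] (hS : IsPGroup p S)
    (hS' : IsPGroup p S') (hi : SysIso E E' e e') (hE : E.IsNormalIn F p) : E'.IsNormalIn F' p := by
  obtain ⟨⟨hEs, hFs, hEi⟩, hext⟩ := hE
  have hTS := hEi.2.1.1
  have hT'e : T' = h.img T := h.base_eq hi hTS
  have hT' : T' ≤ S' := hT'e.le.trans (h.img_le T)
  haveI := finite_of_le hTS
  haveI := finite_of_le hT'
  refine ⟨⟨hi.saturated (hS.to_le hTS) (hS'.to_le hT') hEs, h.saturated hS hS' hFs,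
    h.transfer_invariant hi hEi⟩, fun α hα => ?_⟩
  obtain ⟨a, ha, ea⟩ := (mem_autGroup_iff le_rfl).mp hα
  have hb := hi.symm.iso ha
  rw [show hi.symm.img T' = T from hi.symm.img_self] at hb
  obtain ⟨β, hβ, eβ, cβ⟩ := hext _ hb.equiv_mem_autGroup
  have hCS : (centralizerIn S T) ≤ S := inf_le_left
  have hU : T ⊔ (centralizerIn S T) ≤ S := sup_le hTS hCS
  have hCimg : h.img (centralizerIn S T) = centralizerIn S' T' := by rw [hT'e]; exact h.img_centralizerIn hTS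
  have hc := h.iso (autGroup_iso hU hβ)
  rw [h.img_sup hTS hCS, hCimg, ← hT'e] at hc
  refine ⟨hc.equiv, hc.equiv_mem_autGroup, fun x => ?_, fun c hc' => ?_⟩
  · rw [Iso.equiv_apply]
    show e (extFun _ (e' (x : Ω'))) = _
    have m : e' (x : Ω') ∈ T := hi.mem' x x.2
    rw [extFun_apply _ (Subgroup.mem_sup_left m)]
    show e ((β (Subgroup.inclusion le_sup_left ⟨e' (x : Ω'), m⟩) : ↥(T ⊔ (centralizerIn S T))) : Ω) = _
    rw [eβ, Iso.equiv_apply]
    show e (e' (a (e (e' (x : Ω'))))) = _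
    rw [hi.right x x.2, hi.right _ (ha.mapsTo x.2)]
    exact ea x
  · rw [Iso.equiv_apply]
    show (c : Ω')⁻¹ * e (extFun _ (e' (c : Ω'))) ∈ _
    obtain ⟨d, hd, hdc⟩ := (h.mem_img hCS).mp (hCimg.ge hc')
    rw [← hdc, h.left d (hCS hd), extFun_apply _ (Subgroup.mem_sup_right hd)]
    have h1 := cβ ⟨d, Subgroup.mem_sup_right hd⟩ hd
    have hbS : ((β ⟨d, Subgroup.mem_sup_right hd⟩ : ↥(T ⊔ (centralizerIn S T))) : Ω) ∈ S := hU (SetLike.coe_mem _)
    show (e d)⁻¹ * e ((β ⟨d, _⟩ : ↥(T ⊔ (centralizerIn S T))) : Ω) ∈ _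
    rw [← h.map_inv (hCS hd), ← h.map_mul _ (inv_mem (hCS hd)) _ hbS, hT'e]
    refine ⟨(h.mem_img hTS).mpr ⟨_, h1.1, rfl⟩, ?_⟩
    exact (h.mem_centralizer_img hTS (mul_mem (inv_mem (hCS hd)) hbS)).mpr h1.2

end SysIso

theorem IsSubnormalIn.isSubsystemOf {T S : Subgroup Ω} {E : FusionSystem T} {F : FusionSystem S} {p : ℕ}
    (h : E.IsSubnormalIn F p) : E.IsSubsystemOf F := by
  induction h with
  | refl F p => exact fun P => Set.Subset.refl _
  | step _ h2 ih => exact tr_subsystem_trans ih h2.1.2.2.1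

theorem IsSubnormalIn.transfer {T S : Subgroup Ω} {E : FusionSystem T} {F : FusionSystem S} {p : ℕ}
    (hsn : E.IsSubnormalIn F p) :
    ∀ {S' : Subgroup Ω'} {F' : FusionSystem S'} (_h : SysIso F F' e e') (_ : Fact p.Prime) (_ : Finite S)
      (_ : Finite S'),
      IsPGroup p S → IsPGroup p S' →
        ∃ (T' : Subgroup Ω') (E' : FusionSystem T'), SysIso E E' e e' ∧ E'.IsSubnormalIn F' p := by
  induction hsn with
  | refl F p =>
    intro S' F' h _ _ _ _ _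
    exact ⟨S', F', h, IsSubnormalIn.refl F' p⟩
  | step h1 h2 ih =>
    intro S' F' h _ _ _ hS hS'
    have hsub := h2.1.2.2.1
    have hUS := tr_subsystem_base_le hsub
    have hi := h.subSys_sysIso _ hsub
    haveI := finite_of_le hUS
    haveI := finite_of_le (tr_subsystem_base_le (h.subSys_isSubsystem _ hsub))
    obtain ⟨T', E', hi', hn⟩ := ih hi inferInstance inferInstance inferInstance (hS.to_le hUS) (hS'.to_le (h.img_le _))
    exact ⟨T', E', hi', hn.step (h.transfer_normal hS hS' hi h2)⟩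

end Cfsg.Agent.Fusion
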