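/-
Quasisimple systems and components under isomorphisms of fusion systems; the layer is characteristic.
-/
import Cfsg.Agent.Fusion.SysTransport
import Cfsg.Agent.Fusion.Normal
set_option autoImplicit false

namespace Cfsg.Agent.Fusion

open Cfsg Cfsg.FusionSystem

variable {Ω Ω' : Type*} [Group Ω] [Group Ω'] {S : Subgroup Ω} {S' : Subgroup Ω'}
  {F : FusionSystem S} {F' : FusionSystem S'} {e : Ω → Ω'} {e' : Ω' → Ω}

theorem mor_central_ext {Q P : Subgroup Ω} (hQ : F.IsCentral Q) {f : Ω → Ω} (hf : Mor F P f) :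
    ∃ g, Mor F (P ⊔ Q) g ∧ (∀ x ∈ P, g x = f x) ∧ ∀ x ∈ Q, g x = x := by
  obtain ⟨ψ, hψ, e1, e2⟩ := hQ.2 P hf.hom hf.hom_mem
  refine ⟨extFun ψ, mor_of_mem hψ, fun x hx => ?_, fun x hx => ?_⟩
  · rw [extFun_apply ψ (Subgroup.mem_sup_left hx)]; exact e1 ⟨x, hx⟩
  · rw [extFun_apply ψ (Subgroup.mem_sup_right hx)]; exact e2 ⟨x, hx⟩

namespace SysIso

theorem transfer_isCentral (h : SysIso F F' e e') {Q : Subgroup Ω} (hQ : F.IsCentral Q) :
    F'.IsCentral (h.img Q) := by
  refine ⟨h.img_le Q, fun P φ hφ => ?_⟩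
  have hf := mor_of_mem hφ
  obtain ⟨g, hg, eg, fg⟩ := mor_central_ext hQ (h.symm.mor hf)
  have hPS := hf.dom_le
  have hm := h.mor hg
  rw [h.img_sup (h.symm.img_le P) hQ.1, show h.img (h.symm.img P) = P from h.symm.img_img hPS] at hm
  refine ⟨hm.hom, hm.hom_mem, fun x => ?_, fun x => ?_⟩
  · rw [Mor.hom_apply]
    show e (g (e' (x : Ω'))) = φ x
    rw [eg _ ((h.symm.mem_img hPS).mpr ⟨x, x.2, rfl⟩)]
    show e (e' (extFun φ (e (e' (x : Ω'))))) = φ x
    rw [h.right _ (hPS x.2), h.right _ (hf.map_mem x.2), extFun_coe]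
  · rw [Mor.hom_apply]
    show e (g (e' (x : Ω'))) = x
    obtain ⟨z, hz, hzx⟩ := (h.mem_img hQ.1).mp x.2
    rw [← hzx, h.left z (hQ.1 hz), fg z hz]

theorem transfer_center [Finite S] [Finite S'] (h : SysIso F F' e e') : h.img F.center = F'.center := by
  refine le_antisymm (le_sSup (h.transfer_isCentral center_isCentral)) ?_
  have hc : F'.center ≤ S' := center_isCentral.1
  rw [show F'.center = h.img (h.symm.img F'.center) from (h.symm.img_img hc).symm]
  exact h.img_mono (le_sSup (h.symm.transfer_isCentral center_isCentral))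

theorem hyperfocal_le {p : ℕ} (h : SysIso F F' e e') (hF : F.hyperfocalSubgroup p = S) :
    S' ≤ F'.hyperfocalSubgroup p := by
  suffices hgoal : S ≤ (h.symm.img (F'.hyperfocalSubgroup p ⊓ S')) by
    intro y hy
    obtain ⟨z, hz, hze⟩ := (h.symm.mem_img inf_le_right).mp (hgoal (h.mem' y hy))
    rw [← h.right y hy, ← hze, h.right z hz.2]
    exact hz.1
  conv_lhs => rw [← hF]
  rw [FusionSystem.hyperfocalSubgroup, Subgroup.closure_le]
  rintro _ ⟨P, α, x, hP, hα, rfl⟩
  have hmem : ((α : MulAut P) x : Ω) ∈ S := hP (SetLike.coe_mem _)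
  have hy : ((x : Ω)⁻¹ * ((α : MulAut P) x : Ω)) ∈ S := mul_mem (inv_mem (hP x.2)) hmem
  refine (h.symm.mem_img inf_le_right).mpr ⟨_, ⟨Subgroup.subset_closure ?_, h.mem _ hy⟩, h.left _ hy⟩
  let c : F.autGroup P →* F'.autGroup (h.img P) :=
    ((MulAut.congr (h.equivImg hP)).toMonoidHom.comp (F.autGroup P).subtype).codRestrict _
      fun a => h.autGroup_mem hP a.2
  refine ⟨h.img P, c α, h.equivImg hP x, h.img_le P, ?_, ?_⟩
  · have hle : pResidual p (F.autGroup P) ≤ (pResidual p (F'.autGroup (h.img P))).comap c := by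
      rw [pResidual, Subgroup.closure_le]
      intro a ha
      exact Subgroup.subset_closure (Nat.Coprime.coprime_dvd_left (orderOf_map_dvd c a) ha)
    exact hle hα
  · rw [h.map_mul _ (inv_mem (hP x.2)) _ hmem, h.map_inv (hP x.2)]
    show _ = ((h.equivImg hP x : h.img P) : Ω')⁻¹ *
      ((h.equivImg hP ((α : MulAut P) ((h.equivImg hP).symm (h.equivImg hP x)))) : Ω')
    rw [MulEquiv.symm_apply_apply]
    rfl

theorem hyperfocal_eq {p : ℕ} (h : SysIso F F' e e') (hF : F.hyperfocalSubgroup p = S) :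
    F'.hyperfocalSubgroup p = S' := by
  refine le_antisymm ?_ (h.hyperfocal_le hF)
  rw [FusionSystem.hyperfocalSubgroup, Subgroup.closure_le]
  rintro _ ⟨P, α, x, hP, -, rfl⟩
  exact mul_mem (inv_mem (hP x.2)) (hP (SetLike.coe_mem _))

theorem transfer_simple {p : ℕ} [Fact p.Prime] [Finite S] [Finite S'] (hS : IsPGroup p S)
    (hS' : IsPGroup p S') (h : SysIso F F' e e') (hF : F.IsSimple p) : F'.IsSimple p := by
  obtain ⟨hs, hne, hmax⟩ := hF
  refine ⟨h.saturated hS hS' hs, fun hb => hne ?_, fun T E hE => ?_⟩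
  · refine (Subgroup.eq_bot_iff_forall _).mpr fun x hx => ?_
    have h1 : e x = e 1 := by
      rw [(Subgroup.eq_bot_iff_forall _).mp hb _ (h.mem x hx),
        (Subgroup.eq_bot_iff_forall _).mp hb _ (h.mem 1 (one_mem S))]
    rw [← h.left x hx, h1, h.left 1 (one_mem S)]
  have hsub := hE.1.2.2.1
  have hTS := tr_subsystem_base_le hsub
  have hi := h.symm.subSys_sysIso E hsub
  rcases hmax _ _ (h.symm.transfer_normal hS' hS hi hE) with h0 | ⟨h0, hall⟩
  · left
    rw [← h.symm.img_img hTS, h0]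
    exact h.img_bot
  · have hTe : T = S' := by rw [← h.symm.img_img hTS, h0]; exact h.img_self
    refine Or.inr ⟨hTe, fun P => Set.Subset.antisymm (hsub P) fun φ hφ => ?_⟩
    have hf := mor_of_mem hφ
    have h1 := h.symm.mor hf
    have h2 : Mor (h.symm.subSys E hsub) (h.symm.img P) (e' ∘ extFun φ ∘ e) :=
      ⟨h1.hom, (hall _).symm ▸ h1.hom_mem, fun _ => rfl⟩
    refine mem_of_mor ((hi.push' _ _ h2 P fun x => ?_)) fun y => ?_
    · constructor
      · intro hx
        exact ⟨e' x, (h.symm.mem_img hf.dom_le).mpr ⟨x, hx, rfl⟩, h.right x (hf.dom_le hx)⟩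
      · rintro ⟨y, hy, rfl⟩
        obtain ⟨z, hz, rfl⟩ := (h.symm.mem_img hf.dom_le).mp hy
        rwa [h.right z (hf.dom_le hz)]
    · show φ y = e (e' (extFun φ (e (e' (y : Ω')))))
      rw [h.right _ (hf.dom_le y.2), h.right _ (hf.map_mem y.2), extFun_coe]

end SysIso

/-- The pullback of a system on a whole group along a group isomorphism. -/
def pullTop {Q Q' : Type*} [Group Q] [Group Q'] (ψ : Q ≃* Q') (E : FusionSystem (⊤ : Subgroup Q')) :
    FusionSystem (⊤ : Subgroup Q) where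
  Hom P := {φ | ∃ f, Mor E (P.map ψ.toMonoidHom) f ∧ ∀ x : P, φ x = ψ.symm (f (ψ x))}
  le_of_mem := fun _ => ⟨le_top, fun _ => trivial⟩
  injective_of_mem := fun {P φ} ⟨f, hf, ef⟩ a b hab => by
    rw [ef, ef] at hab
    exact Subtype.ext (ψ.injective (hf.injOn ⟨a, a.2, rfl⟩ ⟨b, b.2, rfl⟩ (ψ.symm.injective hab)))
  conj_mem := fun {P g} _ _ => ⟨cj (ψ g), Mor.conj le_top (Subgroup.mem_top _), fun x => by
    rw [cj_apply, ← map_inv, ← map_mul, ← map_mul, MulEquiv.symm_apply_apply]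
    rfl⟩
  comp_mem := fun {P R φ χ} ⟨f, hf, ef⟩ ⟨g, hg, eg⟩ m => ⟨g ∘ f, hf.comp hg (by
    rintro _ ⟨x, hx, rfl⟩
    have hfx : f (ψ x) = ψ (φ ⟨x, hx⟩) := by rw [ef, MulEquiv.apply_symm_apply]
    show f (ψ x) ∈ _
    rw [hfx]
    exact ⟨_, m ⟨x, hx⟩, rfl⟩), fun x => by
    show χ ⟨φ x, m x⟩ = _
    rw [eg]
    show ψ.symm (g (ψ (φ x))) = _
    rw [ef, MulEquiv.apply_symm_apply]
    rfl⟩
  inv_mem := fun {P φ} ⟨f, hf, ef⟩ => by
    obtain ⟨g, hg, hgf, -⟩ := hf.toIso.exists_symm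
    have hr : (φ.range).map ψ.toMonoidHom = hf.img := by
      ext y
      rw [hf.mem_img]
      constructor
      · rintro ⟨_, ⟨x, rfl⟩, rfl⟩
        exact ⟨ψ x, ⟨x, x.2, rfl⟩, by
          show _ = ψ (φ x)
          rw [ef, MulEquiv.apply_symm_apply]⟩
      · rintro ⟨_, ⟨x, hx, rfl⟩, rfl⟩
        exact ⟨φ ⟨x, hx⟩, ⟨_, rfl⟩, by
          show ψ (φ ⟨x, hx⟩) = f (ψ x)
          rw [ef, MulEquiv.apply_symm_apply]⟩
    have hg' : Mor E (φ.range.map ψ.toMonoidHom) g := hr ▸ hg.mor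
    let χ : φ.range →* Q := (ψ.symm.toMonoidHom.comp hg'.hom).comp
      ((ψ.toMonoidHom.comp φ.range.subtype).codRestrict _ fun x => ⟨x, x.2, rfl⟩)
    have hχ : ∀ z : φ.range, χ z = ψ.symm (g (ψ z)) := fun _ => rfl
    refine ⟨χ, ⟨g, hg', hχ⟩, fun x => ?_⟩
    rw [hχ]
    show ψ.symm (g (ψ (φ x))) = (x : Q)
    rw [ef, MulEquiv.apply_symm_apply, show g (f (ψ x)) = ψ x from hgf _ ⟨x, x.2, rfl⟩]
    exact ψ.symm_apply_apply x

theorem pullTop_sysIso {Q Q' : Type*} [Group Q] [Group Q'] (ψ : Q ≃* Q')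
    (E : FusionSystem (⊤ : Subgroup Q')) : SysIso (pullTop ψ E) E ψ ψ.symm := by
  refine ⟨fun _ _ => trivial, fun _ _ => trivial, fun x _ => ψ.symm_apply_apply x,
    fun y _ => ψ.apply_symm_apply y, fun _ _ _ _ => map_mul ψ _ _, fun P f hf P' hP' => ?_,
    fun P' f hf P hP => ?_⟩
  · obtain ⟨φ, ⟨g, hg, eg⟩, eφ⟩ := hf
    have : P.map ψ.toMonoidHom = P' := SetLike.ext fun y => (hP' y).symm
    subst this
    refine hg.congr ?_
    rintro _ ⟨x, hx, rfl⟩
    show g (ψ x) = ψ (f (ψ.symm (ψ x)))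
    rw [ψ.symm_apply_apply, ← eφ ⟨x, hx⟩, eg, ψ.apply_symm_apply]
  · have hPP : P.map ψ.toMonoidHom = P' := by
      ext y
      constructor
      · rintro ⟨x, hx, rfl⟩
        obtain ⟨z, hz, rfl⟩ := (hP x).mp hx
        show ψ (ψ.symm z) ∈ P'
        rwa [ψ.apply_symm_apply]
      · intro hy
        exact ⟨ψ.symm y, (hP _).mpr ⟨y, hy, rfl⟩, ψ.apply_symm_apply y⟩
    subst hPP
    let χ : P →* Q := (ψ.symm.toMonoidHom.comp hf.hom).comp
      ((ψ.toMonoidHom.comp P.subtype).codRestrict _ fun x => ⟨x, x.2, rfl⟩)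
    exact ⟨χ, ⟨f, hf, fun _ => rfl⟩, fun _ => rfl⟩

namespace SysIso

theorem transfer_quasisimple {p : ℕ} [Fact p.Prime] [Finite S] [Finite S'] (hS : IsPGroup p S)
    (hS' : IsPGroup p S') (h : SysIso F F' e e') (hF : F.Quasisimple p) : F'.Quasisimple p := by
  obtain ⟨hs, hhyp, hfac⟩ := hF
  refine ⟨h.saturated hS hS' hs, h.hyperfocal_eq hhyp, fun E hE => ?_⟩
  have hZS : F.center ≤ S := center_isCentral.1
  have hZ := h.transfer_center
  let φ : S ≃* S' :=
    { toFun := fun x => ⟨e x, h.mem x x.2⟩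
      invFun := fun y => ⟨e' y, h.mem' y y.2⟩
      left_inv := fun x => Subtype.ext (h.left x x.2)
      right_inv := fun y => Subtype.ext (h.right y y.2)
      map_mul' := fun x y => Subtype.ext (h.map_mul x x.2 y y.2) }
  have hmap : (F.center.subgroupOf S).map (φ : S →* S') = F'.center.subgroupOf S' := by
    ext y
    rw [Subgroup.mem_subgroupOf, ← hZ, h.mem_img hZS]
    constructor
    · rintro ⟨x, hx, rfl⟩
      exact ⟨x, hx, rfl⟩
    · rintro ⟨x, hx, hxy⟩
      exact ⟨⟨x, hZS hx⟩, hx, Subtype.ext hxy⟩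
  let ψ := QuotientGroup.congr (F.center.subgroupOf S) (F'.center.subgroupOf S') φ hmap
  have hψ : ∀ x : S, ψ (QuotientGroup.mk' _ x) = QuotientGroup.mk' _ (φ x) := fun x => rfl
  have hi := pullTop_sysIso ψ E
  obtain ⟨-, -, -, hEf⟩ := hE
  have hpre : ∀ P, preimageAlong (QuotientGroup.mk' (F'.center.subgroupOf S')) (P.map ψ.toMonoidHom) =
      h.img (preimageAlong (QuotientGroup.mk' (F.center.subgroupOf S)) P) := by
    intro P
    ext y
    constructor
    · rintro ⟨w, hw, rfl⟩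
      obtain ⟨u, hu, hue⟩ := hw
      refine (h.mem_img (Subgroup.map_subtype_le _)).mpr
        ⟨_, ⟨φ.symm w, ?_, rfl⟩, congrArg Subtype.val (φ.apply_symm_apply w)⟩
      show QuotientGroup.mk' _ (φ.symm w) ∈ P
      rw [← ψ.injective (show ψ u = ψ (QuotientGroup.mk' _ (φ.symm w)) by
        rw [hψ, φ.apply_symm_apply]; exact hue)]
      exact hu
    · intro hy
      obtain ⟨_, ⟨x, hx, rfl⟩, rfl⟩ := (h.mem_img (Subgroup.map_subtype_le _)).mp hy
      exact ⟨φ x, ⟨_, hx, hψ x⟩, rfl⟩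
  have hfactor : F.IsFactorSystem F.center (QuotientGroup.mk' (F.center.subgroupOf S)) (pullTop ψ E) := by
    refine ⟨hZS, fun s => QuotientGroup.eq_one_iff s,
      MonoidHom.range_eq_top.mpr (QuotientGroup.mk'_surjective _), fun P χ => ?_⟩
    constructor
    · intro hχ
      have hf := hi.push _ _ (mor_of_mem hχ) (P.map ψ.toMonoidHom) fun y => Iff.rfl
      obtain ⟨-, φ', hφ', hle, hval, hin, hind⟩ := (hEf _ hf.hom).mp hf.hom_mem
      have hg := (congrArg (fun A => Mor F' A (extFun φ')) (hpre P)).mp (mor_of_mem hφ')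
      have hPre : preimageAlong (QuotientGroup.mk' (F.center.subgroupOf S)) P ≤ S := Subgroup.map_subtype_le _
      have hg' := h.push' _ _ hg (preimageAlong (QuotientGroup.mk' (F.center.subgroupOf S)) P) fun x => by
        constructor
        · intro hx
          exact ⟨e x, (h.mem_img hPre).mpr ⟨x, hx, rfl⟩, h.left x (hPre hx)⟩
        · rintro ⟨y, hy, rfl⟩
          obtain ⟨z, hz, rfl⟩ := (h.mem_img hPre).mp hy
          rwa [h.left z (hPre hz)]
      refine ⟨le_top, hg'.hom, hg'.hom_mem, hPre, fun x => hg'.map_mem x.2, fun x => ?_, fun x => ?_⟩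
      · obtain ⟨u, hu, hue⟩ := x.2
        rw [show (⟨x.1, hPre x.2⟩ : S) = u from Subtype.ext hue.symm]
        exact hu
      · have mx : e (x : Ω) ∈ preimageAlong (QuotientGroup.mk' (F'.center.subgroupOf S')) (P.map ψ.toMonoidHom) := by
          rw [hpre P]
          exact (h.mem_img hPre).mpr ⟨x, x.2, rfl⟩
        have h1 := hind ⟨e x, mx⟩
        rw [Mor.hom_apply] at h1
        apply ψ.injective
        rw [hψ]
        refine Eq.trans ?_ (h1.trans ?_)
        · show _ = ψ (extFun χ (ψ.symm (QuotientGroup.mk' _ (φ ⟨x, hPre x.2⟩))))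
          rw [← hψ, ψ.symm_apply_apply]
          exact congrArg ψ (extFun_apply χ _).symm
        · refine congrArg (QuotientGroup.mk' _) (Subtype.ext ?_)
          show φ' ⟨e x, mx⟩ = e (e' (extFun φ' (e (x : Ω))))
          rw [extFun_apply φ' mx, h.right _ ((F'.le_of_mem hφ').2 _)]
    · rintro ⟨-, φ₀, hφ₀, hPre, hval, hin, hind⟩
      have hg := mor_of_mem hφ₀
      have hg' := h.mor hg
      rw [← hpre P] at hg'
      let χ' : P.map ψ.toMonoidHom →* S' ⧸ F'.center.subgroupOf S' :=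
        (ψ.toMonoidHom.comp χ).comp ((ψ.symm.toMonoidHom.comp (P.map ψ.toMonoidHom).subtype).codRestrict P fun y => by
          obtain ⟨x, hx, hxy⟩ := y.2
          show ψ.symm y.1 ∈ P
          rw [← hxy]
          show ψ.symm (ψ x) ∈ P
          rwa [ψ.symm_apply_apply])
      have hsle : preimageAlong (QuotientGroup.mk' (F'.center.subgroupOf S')) (P.map ψ.toMonoidHom) ≤ S' :=
        Subgroup.map_subtype_le _
      have hmemE : χ' ∈ E.Hom (P.map ψ.toMonoidHom) := by
        refine (hEf _ χ').mpr ⟨le_top, hg'.hom, hg'.hom_mem, hsle, fun y => hg'.map_mem y.2,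
          fun y => ?_, fun y => ?_⟩
        · obtain ⟨u, hu, hue⟩ := y.2
          rw [show (⟨y.1, hsle y.2⟩ : S') = u from Subtype.ext hue.symm]
          exact hu
        · have my : (y : Ω') ∈ h.img (preimageAlong (QuotientGroup.mk' (F.center.subgroupOf S)) P) := hpre P ▸ y.2
          obtain ⟨x, hx, hxy⟩ := (h.mem_img hPre).mp my
          have h1 := hind ⟨x, hx⟩
          have hy' : (⟨y.1, hsle y.2⟩ : S') = φ ⟨x, hPre hx⟩ := Subtype.ext hxy.symm
          show ψ (χ ⟨ψ.symm (QuotientGroup.mk' _ (⟨y.1, hsle y.2⟩ : S')), _⟩) = _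
          have hs : ψ.symm (QuotientGroup.mk' (F'.center.subgroupOf S') (⟨y.1, hsle y.2⟩ : S')) =
              QuotientGroup.mk' _ (⟨x, hPre hx⟩ : S) := by
            rw [hy', ← hψ, ψ.symm_apply_apply]
          simp only [hs]
          rw [h1, hψ]
          refine congrArg (QuotientGroup.mk' _) (Subtype.ext ?_)
          show e (φ₀ ⟨x, hx⟩) = e (extFun φ₀ (e' (y : Ω')))
          rw [← hxy, h.left x (hPre hx), extFun_apply φ₀ hx]
      have hm := hi.push' _ _ (mor_of_mem hmemE) P fun x => by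
        constructor
        · intro hx
          exact ⟨ψ x, ⟨x, hx, rfl⟩, ψ.symm_apply_apply x⟩
        · rintro ⟨_, ⟨z, hz, rfl⟩, rfl⟩
          show ψ.symm (ψ z) ∈ P
          rwa [ψ.symm_apply_apply]
      refine mem_of_mor hm fun x => ?_
      show χ x = ψ.symm (extFun χ' (ψ (x : S ⧸ F.center.subgroupOf S)))
      rw [extFun_apply χ' (show ψ (x : S ⧸ F.center.subgroupOf S) ∈ P.map ψ.toMonoidHom from ⟨x, x.2, rfl⟩)]
      show χ x = ψ.symm (ψ (χ ⟨ψ.symm (ψ x.1), _⟩))
      rw [ψ.symm_apply_apply]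
      simp only [MulEquiv.symm_apply_apply]
  exact hi.transfer_simple (hS.to_quotient _ |>.to_subgroup ⊤) (hS'.to_quotient _ |>.to_subgroup ⊤)
    (hfac _ hfactor)

theorem transfer_component {p : ℕ} [Fact p.Prime] [Finite S] [Finite S'] (hS : IsPGroup p S)
    (hS' : IsPGroup p S') (h : SysIso F F' e e') {U : Subgroup Ω} {C : FusionSystem U}
    (hC : C.IsComponentIn F p) :
    ∃ (U' : Subgroup Ω') (C' : FusionSystem U'), SysIso C C' e e' ∧ C'.IsComponentIn F' p := by
  obtain ⟨U', C', hi, hn⟩ := IsSubnormalIn.transfer hC.1 h inferInstance inferInstance inferInstance hS hS'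
  have hUS := tr_subsystem_base_le (IsSubnormalIn.isSubsystemOf hC.1)
  have hUS' := tr_subsystem_base_le (IsSubnormalIn.isSubsystemOf hn)
  haveI := finite_of_le hUS
  haveI := finite_of_le hUS'
  exact ⟨U', C', hi, hn, hi.transfer_quasisimple (hS.to_le hUS) (hS'.to_le hUS') hC.2⟩

end SysIso

/-- The layer is invariant under isomorphisms of the system. -/
theorem layer_transfer {p : ℕ} [Fact p.Prime] [Finite S] (hS : IsPGroup p S) {a a' : Ω → Ω}
    (h : SysIso F F a a') {T : Subgroup Ω} {E : FusionSystem T} (hE : E.IsLayerOf F p) :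
    T ≤ h.img T ∧ ∀ P f, Mor E P f → Mor E (h.symm.img P) (a' ∘ f ∘ a) := by
  obtain ⟨hnor, hcomp, hmin⟩ := hE
  have hsub := hnor.1.2.2.1
  have hi := h.subSys_sysIso E hsub
  have hD := h.transfer_normal hS hS hi hnor
  have hcont : ∀ (U : Subgroup Ω) (C : FusionSystem U), C.IsComponentIn F p →
      C.IsSubsystemOf (h.subSys E hsub) := by
    intro U C hC P φ hφ
    obtain ⟨U', C', hj, hC'⟩ := h.symm.transfer_component hS hS hC
    have hf := mor_of_mem hφ
    have hUS := tr_subsystem_base_le (IsSubnormalIn.isSubsystemOf hC.1)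
    have h1 := tr_subsystem_mor (hcomp U' C' hC') (hj.mor hf)
    have h2 := hi.push _ _ h1 P fun y => by
      constructor
      · intro hy
        exact ⟨a' y, (hj.mem_img hf.dom_le).mpr ⟨y, hy, rfl⟩, h.right y (hUS (hf.dom_le hy))⟩
      · rintro ⟨x, hx, rfl⟩
        obtain ⟨z, hz, rfl⟩ := (hj.mem_img hf.dom_le).mp hx
        rwa [h.right z (hUS (hf.dom_le hz))]
    refine mem_of_mor h2 fun y => ?_
    have hy := hUS (hf.dom_le y.2)
    show φ y = a (a' (extFun φ (a (a' (y : Ω)))))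
    rw [h.right _ hy, h.right _ (hUS (hf.map_mem y.2)), extFun_coe]
  have hle := hmin _ _ hD hcont
  refine ⟨tr_subsystem_base_le hle, fun P f hf => ?_⟩
  have h1 := tr_subsystem_mor hle hf
  exact hi.symm.mor h1 |> fun h2 => by
    have hPT := hf.dom_le
    have hTS := tr_subsystem_base_le hsub
    have e1 : hi.symm.img P = h.symm.img P := by
      ext x
      rw [hi.symm.mem_img h1.dom_le, h.symm.mem_img (hPT.trans hTS)]
    rwa [e1] at h2

end Cfsg.Agent.Fusion
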