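/-
A conjugate of a component is a component.
-/
import Cfsg.Agent.Fusion.ComponentTransport
import Cfsg.Agent.Fusion.Invariant
set_option autoImplicit false

namespace Cfsg.Agent.Fusion

open Cfsg Cfsg.FusionSystem

variable {Ω : Type*} [Group Ω]

theorem SysIso.comp {S₁ S₂ S₃ : Subgroup Ω} {F₁ : FusionSystem S₁} {F₂ : FusionSystem S₂}
    {F₃ : FusionSystem S₃} {e₁ e₁' e₂ e₂' : Ω → Ω} (h₁ : SysIso F₁ F₂ e₁ e₁') (h₂ : SysIso F₂ F₃ e₂ e₂') :
    SysIso F₁ F₃ (e₂ ∘ e₁) (e₁' ∘ e₂') := by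
  refine ⟨fun x hx => h₂.mem _ (h₁.mem x hx), fun y hy => h₁.mem' _ (h₂.mem' y hy),
    fun x hx => ?_, fun y hy => ?_, fun x hx y hy => ?_, fun P f hf P' hP' => ?_, fun P' f hf P hP => ?_⟩
  · show e₁' (e₂' (e₂ (e₁ x))) = x
    rw [h₂.left _ (h₁.mem x hx), h₁.left x hx]
  · show e₂ (e₁ (e₁' (e₂' y))) = y
    rw [h₁.right _ (h₂.mem' y hy), h₂.right y hy]
  · show e₂ (e₁ (x * y)) = e₂ (e₁ x) * e₂ (e₁ y)
    rw [h₁.map_mul x hx y hy, h₂.map_mul _ (h₁.mem x hx) _ (h₁.mem y hy)]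
  · refine h₂.push _ _ (h₁.mor hf) P' fun y => ?_
    rw [hP']
    constructor
    · rintro ⟨x, hx, hy⟩
      exact ⟨e₁ x, (h₁.mem_img hf.dom_le).mpr ⟨x, hx, rfl⟩, hy⟩
    · rintro ⟨z, hz, hy⟩
      obtain ⟨x, hx, rfl⟩ := (h₁.mem_img hf.dom_le).mp hz
      exact ⟨x, hx, hy⟩
  · refine h₁.push' _ _ (h₂.symm.mor hf) P fun x => ?_
    rw [hP]
    constructor
    · rintro ⟨y, hy, hx⟩
      exact ⟨e₂' y, (h₂.symm.mem_img hf.dom_le).mpr ⟨y, hy, rfl⟩, hx⟩
    · rintro ⟨z, hz, hx⟩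
      obtain ⟨y, hy, rfl⟩ := (h₂.symm.mem_img hf.dom_le).mp hz
      exact ⟨y, hy, hx⟩

theorem SysIso.congr {S₁ S₂ : Subgroup Ω} {F₁ : FusionSystem S₁} {F₂ : FusionSystem S₂} {a a' b : Ω → Ω}
    (h : SysIso F₁ F₂ a a') (eab : ∀ x ∈ S₁, b x = a x) : SysIso F₁ F₂ b a' := by
  refine ⟨fun x hx => eab x hx ▸ h.mem x hx, h.mem', fun x hx => by rw [eab x hx]; exact h.left x hx,
    fun y hy => by rw [eab _ (h.mem' y hy)]; exact h.right y hy, fun x hx y hy => by
      rw [eab _ (mul_mem hx hy), eab x hx, eab y hy]; exact h.map_mul x hx y hy,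
    fun P f hf P' hP' => ?_, fun P' f hf P hP => ?_⟩
  · have hPS := hf.dom_le
    have hP'' : ∀ y, y ∈ P' ↔ ∃ x ∈ P, a x = y := fun y => (hP' y).trans
      ⟨fun ⟨x, hx, e⟩ => ⟨x, hx, (eab x (hPS hx)).symm.trans e⟩,
        fun ⟨x, hx, e⟩ => ⟨x, hx, (eab x (hPS hx)).trans e⟩⟩
    refine (h.push P f hf P' hP'').congr fun y hy => ?_
    obtain ⟨x, hx, rfl⟩ := (hP'' y).mp hy
    show a (f (a' (a x))) = b (f (a' (a x)))
    rw [h.left x (hPS hx)]
    exact (eab _ (hf.map_mem hx)).symm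
  · refine (h.push' P' f hf P hP).congr fun x hx => ?_
    obtain ⟨y, hy, rfl⟩ := (hP x).mp hx
    show a' (f (a (a' y))) = a' (f (b (a' y)))
    rw [eab _ (h.mem' y (hf.dom_le hy))]

theorem auto_sysIso {S : Subgroup Ω} {F : FusionSystem S} {g : Ω → Ω} (hg : Iso F g S S) :
    ∃ g', SysIso F F g g' := by
  obtain ⟨g', hg', hl, hr⟩ := hg.exists_symm
  refine ⟨g', fun x hx => hg.mapsTo hx, fun x hx => hg'.mapsTo hx, hl, hr,
    fun x hx y hy => hg.mor.map_mul hx hy, fun P f hf P' hP' => ?_, fun P' f hf P hP => ?_⟩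
  · have hP'S : P' ≤ S := fun y hy => by
      obtain ⟨x, hx, rfl⟩ := (hP' y).mp hy
      exact hg.mapsTo (hf.dom_le hx)
    refine (((hg'.mor.restrict hP'S).comp hf fun y hy => ?_).comp hg.mor fun y hy => ?_).congr fun _ _ => rfl
    · obtain ⟨x, hx, rfl⟩ := (hP' y).mp hy
      rwa [hl x (hf.dom_le hx)]
    · obtain ⟨x, hx, rfl⟩ := (hP' y).mp hy
      show f (g' (g x)) ∈ S
      rw [hl x (hf.dom_le hx)]
      exact hf.map_mem hx
  · have hPS : P ≤ S := fun y hy => by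
      obtain ⟨x, hx, rfl⟩ := (hP y).mp hy
      exact hg'.mapsTo (hf.dom_le hx)
    refine (((hg.mor.restrict hPS).comp hf fun y hy => ?_).comp hg'.mor fun y hy => ?_).congr fun _ _ => rfl
    · obtain ⟨x, hx, rfl⟩ := (hP y).mp hy
      rwa [hr x (hf.dom_le hx)]
    · obtain ⟨x, hx, rfl⟩ := (hP y).mp hy
      show f (g (g' x)) ∈ S
      rw [hr x (hf.dom_le hx)]
      exact hf.map_mem hx

/-- A subnormal subsystem is carried to a subnormal subsystem by every map of the system. -/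
theorem IsSubnormalIn.conjugate {T S : Subgroup Ω} {C : FusionSystem T} {F : FusionSystem S} {p : ℕ}
    (hsn : C.IsSubnormalIn F p) :
    ∀ (_ : Fact p.Prime) (_ : Finite S), IsPGroup p S → ∀ g : Ω → Ω, Mor F T g →
      ∃ (T' : Subgroup Ω) (C' : FusionSystem T') (g' : Ω → Ω), SysIso C C' g g' ∧ C'.IsSubnormalIn F p := by
  induction hsn with
  | refl F p =>
    intro _ _ _ g hg
    have hiso : Iso F g T T := by
      refine ⟨hg, fun x hx => hg.map_mem hx, hg.injOn, fun y hy => ?_⟩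
      have heq : hg.img = T := eq_of_le_of_card hg.img_le (hg.toIso.card_eq).le
      obtain ⟨x, hx, e⟩ := hg.mem_img.mp (heq.ge hy)
      exact ⟨x, hx, e⟩
    obtain ⟨g', h⟩ := auto_sysIso hiso
    exact ⟨_, F, g', h, IsSubnormalIn.refl F p⟩
  | step h1 h2 ih =>
    intro _ _ hS g hg
    have hsub := h2.1.2.2.1
    have hUS := tr_subsystem_base_le hsub
    haveI := finite_of_le hUS
    have hTU := tr_subsystem_base_le (IsSubnormalIn.isSubsystemOf h1)
    obtain ⟨a, b, ha, hb, eg⟩ := invariant_frattini h2.1.2.2 hg hTU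
    obtain ⟨T₁, C₁, b', hi₁, hn₁⟩ := ih inferInstance inferInstance (hS.to_le hUS) b hb
    obtain ⟨a', hia⟩ := invariant_exists_sysIso h2.1.2.2 ha
    obtain ⟨T₂, C₂, hi₂, hn₂⟩ := IsSubnormalIn.transfer hn₁ hia inferInstance inferInstance inferInstance
      (hS.to_le hUS) (hS.to_le hUS)
    exact ⟨T₂, C₂, _, (hi₁.comp hi₂).congr (fun x hx => eg x hx), hn₂.step h2⟩

theorem component_conjugate {p : ℕ} [Fact p.Prime] {S : Subgroup Ω} [Finite S] (hS : IsPGroup p S)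
    {F : FusionSystem S} {T : Subgroup Ω} {C : FusionSystem T} (hC : C.IsComponentIn F p) (γ : T →* Ω)
    (hγ : γ ∈ F.Hom T) (E : FusionSystem γ.range) (hE : C.IsFactorSystem ⊥ γ E) : E.IsComponentIn F p := by
  obtain ⟨T', C', g', hi, hn⟩ := IsSubnormalIn.conjugate hC.1 inferInstance inferInstance hS _ (mor_of_mem hγ)
  have hTS := tr_subsystem_base_le (IsSubnormalIn.isSubsystemOf hC.1)
  have hT'S := tr_subsystem_base_le (IsSubnormalIn.isSubsystemOf hn)
  haveI := finite_of_le hTS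
  haveI := finite_of_le hT'S
  have hq := hi.transfer_quasisimple (hS.to_le hTS) (hS.to_le hT'S) hC.2
  have hT : T' = γ.range := by
    ext y
    constructor
    · intro hy
      exact ⟨⟨g' y, hi.mem' y hy⟩, by
        rw [← extFun_coe γ ⟨g' y, hi.mem' y hy⟩]
        exact hi.right y hy⟩
    · rintro ⟨x, rfl⟩
      rw [← extFun_coe γ x]
      exact hi.mem x x.2
  subst hT
  obtain ⟨-, -, -, hEf⟩ := hE
  have hEC : E = C' := by
    refine system_ext fun P => Set.ext fun φ => ?_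
    rw [hEf P φ]
    constructor
    · rintro ⟨hP, φ₀, hφ₀, hle, hval, hin, hind⟩
      have h1 := hi.push _ _ (mor_of_mem hφ₀) P fun y => by
        constructor
        · intro hy
          obtain ⟨x, rfl⟩ := hP hy
          exact ⟨x, ⟨x, hy, rfl⟩, extFun_coe γ x⟩
        · rintro ⟨_, ⟨x, hx, rfl⟩, rfl⟩
          exact (extFun_coe γ x).symm ▸ hx
      refine mem_of_mor h1 fun y => ?_
      obtain ⟨x, hx⟩ := hP y.2
      have mx : (x : Ω) ∈ preimageAlong γ P := ⟨x, by show γ x ∈ P; rw [hx]; exact y.2, rfl⟩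
      have h2 := hind ⟨x, mx⟩
      rw [show (⟨γ ⟨x, hle mx⟩, hin ⟨x, mx⟩⟩ : P) = y from Subtype.ext hx] at h2
      have hgy : g' (y : Ω) = x := by
        rw [← hx, ← extFun_coe γ x]
        exact hi.left x x.2
      show φ y = extFun γ (extFun φ₀ (g' (y : Ω)))
      rw [hgy, extFun_apply φ₀ mx, h2, extFun_apply γ (hval ⟨x, mx⟩)]
    · intro hφ
      have hf := mor_of_mem hφ
      refine ⟨hf.dom_le, ?_⟩
      have hpre : preimageAlong γ P ≤ T := Subgroup.map_subtype_le _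
      have h1 := hi.push' _ _ hf (preimageAlong γ P) fun x => by
        constructor
        · rintro ⟨u, hu, rfl⟩
          refine ⟨γ u, hu, ?_⟩
          rw [← extFun_coe γ u]
          exact hi.left u u.2
        · rintro ⟨y, hy, rfl⟩
          refine ⟨⟨g' y, hi.mem' y (hf.dom_le hy)⟩, ?_, rfl⟩
          show γ ⟨g' y, _⟩ ∈ P
          rw [← extFun_coe γ ⟨g' y, hi.mem' y (hf.dom_le hy)⟩]
          exact (hi.right y (hf.dom_le hy)).symm ▸ hy
      have hin : ∀ x : preimageAlong γ P, γ ⟨x, hpre x.2⟩ ∈ P := fun x => by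
        obtain ⟨u, hu, hue⟩ := x.2
        rw [show (⟨x.1, hpre x.2⟩ : T) = u from Subtype.ext hue.symm]
        exact hu
      refine ⟨h1.hom, h1.hom_mem, hpre, fun x => h1.map_mem x.2, hin, fun x => ?_⟩
      rw [← extFun_coe γ ⟨h1.hom x, h1.map_mem x.2⟩]
      show φ ⟨_, hin x⟩ = extFun γ (g' (extFun φ (extFun γ (x : Ω))))
      rw [extFun_apply γ (hpre x.2), extFun_apply φ (hin x), hi.right _ ((C'.le_of_mem hφ).2 _)]
  subst hEC
  exact ⟨hn, hq⟩

end Cfsg.Agent.Fusion
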