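/-
Residual limits exist, and do not change under passing to a subsystem of index prime to `p`.
-/
import Cfsg.Agent.Fusion.ResidualLimit
import Cfsg.Agent.Fusion.PowerIndex
import Cfsg.Agent.Fusion.SatIndex
import Cfsg.Agent.Fusion.SubsystemClosed
set_option autoImplicit false
set_option linter.style.haveILetI false
set_option linter.unusedSectionVars false

namespace Cfsg.Agent.Fusion.Limit

open Cfsg Cfsg.FusionSystem Cfsg.Agent.Fusion.SatCrit

universe u

variable {Ω : Type u} [Group Ω] {S T U : Subgroup Ω} {F : FusionSystem S} {p : ℕ} {P : Subgroup Ω}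

theorem autGroup_mono {E : FusionSystem T} (h : E.IsSubsystemOf F) (hP : P ≤ T) :
    E.autGroup P ≤ F.autGroup P := fun _ hα =>
  Subgroup.subset_closure (h P ((autGroup_set_eq hP).mp hα))

theorem hyperfocal_mono [Finite S] [Finite T] {E : FusionSystem T} (h : E.IsSubsystemOf F) :
    E.hyperfocalSubgroup p ≤ F.hyperfocalSubgroup p :=
  hyperfocal_le_of fun _ _ _ hf hk hfk _ hx =>
    mem_hyperfocal_gen (F := F) ⟨subsystem_mor h hf.mor, hf.bij⟩ hk hfk hx

theorem primeIndex_pElement {D : FusionSystem S} (hD : D.HasPrimeToPIndexIn F p) (hP : P ≤ S)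
    {α : MulAut P} (hα : α ∈ F.autGroup P) {k : ℕ} (hk : orderOf α = p ^ k) : α ∈ D.autGroup P :=
  hD.2 P hP ⟨⟨α, hα⟩, Subgroup.subset_closure ⟨k, by rw [Subgroup.orderOf_mk]; exact hk⟩, rfl⟩

theorem primeIndex_refl : F.HasPrimeToPIndexIn F p :=
  ⟨fun _ _ h => h, fun _ _ => Subgroup.map_subtype_le _⟩

theorem primeIndex_of_pElement {D : FusionSystem S} (hsub : D.IsSubsystemOf F)
    (h : ∀ P ≤ S, ∀ α ∈ F.autGroup P, ∀ k : ℕ, orderOf α = p ^ k → α ∈ D.autGroup P) :
    D.HasPrimeToPIndexIn F p := by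
  refine ⟨hsub, fun P hP => ?_⟩
  rw [MonoidHom.map_closure, Subgroup.closure_le]
  rintro _ ⟨α, ⟨k, hk⟩, rfl⟩
  exact h P hP α α.2 k (by rw [Subgroup.orderOf_coe]; exact hk)

theorem primeIndex_trans {D E : FusionSystem S} (h₁ : E.HasPrimeToPIndexIn D p)
    (h₂ : D.HasPrimeToPIndexIn F p) : E.HasPrimeToPIndexIn F p :=
  primeIndex_of_pElement (fun P φ h => h₂.1 P (h₁.1 P h)) fun _ hP _ hα _ hk =>
    primeIndex_pElement h₁ hP (primeIndex_pElement h₂ hP hα hk) hk

theorem primeIndex_mid {D E : FusionSystem S} (hED : E.IsSubsystemOf D) (hDF : D.IsSubsystemOf F)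
    (hE : E.HasPrimeToPIndexIn F p) : E.HasPrimeToPIndexIn D p :=
  primeIndex_of_pElement hED fun _ hP _ hα _ hk => primeIndex_pElement hE hP (autGroup_mono hDF hP hα) hk

theorem residual_unique {R R' : FusionSystem S} (h : F.IsPPrimeResidual p R)
    (h' : F.IsPPrimeResidual p R') : R = R' :=
  system_le_antisymm (h.2.2 _ h'.1 h'.2.1) (h'.2.2 _ h.1 h.2.1)

/-- A subsystem of index prime to `p` has the same residual. -/
theorem residual_of_primeIndex {X R R₀ : FusionSystem S} (hX : X.IsSaturated p)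
    (hXi : X.HasPrimeToPIndexIn F p) (hR : F.IsPPrimeResidual p R) (hR₀ : X.IsPPrimeResidual p R₀) :
    R₀ = R :=
  system_le_antisymm
    (hR₀.2.2 R hR.1 (primeIndex_mid (hR.2.2 X hX hXi) hXi.1 hR.2.1))
    (hR.2.2 R₀ hR₀.1 (primeIndex_trans hR₀.2.1 hXi))

theorem residual_idem {R : FusionSystem S} (hR : F.IsPPrimeResidual p R) : R.IsPPrimeResidual p R :=
  ⟨hR.1, primeIndex_refl, fun D hD hDi => hR.2.2 D hD (primeIndex_trans hDi hR.2.1)⟩

theorem SameSys.symm' {E : FusionSystem T} (h : SameSys E F) : SameSys F E :=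
  ⟨h.1.symm, fun P => (h.2 P).symm⟩

theorem SameSys.trans' {E : FusionSystem T} {D : FusionSystem U} (h : SameSys E F) (h' : SameSys F D) :
    SameSys E D :=
  ⟨h.1.trans h'.1, fun P => (h.2 P).trans (h'.2 P)⟩

variable [Fact p.Prime]

theorem exists_limit_idem : ∀ (n : ℕ) {S : Subgroup Ω} [Finite S], Nat.card S = n → IsPGroup p S →
    ∀ (F : FusionSystem S), F.IsSaturated p → F.IsPPrimeResidual p F →
      ∃ (V : Subgroup Ω) (A : FusionSystem V), A.IsResidualLimitOf F p := by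
  intro n
  induction n using Nat.strong_induction_on with
  | _ n ih =>
  intro S _ hn hS F hF hres
  by_cases hh : F.hyperfocalSubgroup p = S
  · exact ⟨S, F, .stable F p hh hres⟩
  haveI := finite_of_le (hyperfocal_le (F := F) (p := p))
  have hT : IsPGroup p (F.hyperfocalSubgroup p) := hS.to_le hyperfocal_le
  obtain ⟨D, hD⟩ := exists_pPower_system (Nat.card S) rfl hS F hF _ hyperfocal_le le_rfl
  obtain ⟨D', hD'⟩ := exists_residual hT hD.1
  have hlt : Nat.card (F.hyperfocalSubgroup p) < n := by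
    rw [← hn]
    exact lt_of_le_of_ne (card_le_of_le hyperfocal_le) fun e =>
      hh (Subgroup.eq_of_le_of_card_ge hyperfocal_le e.ge)
  obtain ⟨V, A, hA⟩ := ih _ hlt rfl hT D' hD'.1 (residual_idem hD')
  exact ⟨V, A, .step F p D D' hD hD' hA⟩

theorem exists_limit [Finite S] (hS : IsPGroup p S) (hF : F.IsSaturated p) :
    ∃ (V : Subgroup Ω) (A : FusionSystem V), A.IsResidualLimitOf F p := by
  haveI := finite_of_le (hyperfocal_le (F := F) (p := p))
  have hT : IsPGroup p (F.hyperfocalSubgroup p) := hS.to_le hyperfocal_le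
  obtain ⟨D, hD⟩ := exists_pPower_system (Nat.card S) rfl hS F hF _ hyperfocal_le le_rfl
  obtain ⟨D', hD'⟩ := exists_residual hT hD.1
  obtain ⟨V, A, hA⟩ := exists_limit_idem _ rfl hT D' hD'.1 (residual_idem hD')
  exact ⟨V, A, .step F p D D' hD hD' hA⟩

/-- A residual limit lies in its system. -/
theorem limit_le {V : Subgroup Ω} {A : FusionSystem V} {S : Subgroup Ω} {F : FusionSystem S} {q : ℕ}
    (hA : A.IsResidualLimitOf F q) : A.IsSubsystemOf F := by
  induction hA with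
  | stable F p _ _ => exact fun _ _ h => h
  | step F p D D' hD hD' _ ih => exact fun P φ h => hD.2.1 P (hD'.2.1.1 P (ih P h))

theorem limit_unique [Finite S] (hS : IsPGroup p S) (hF : F.IsSaturated p) {V W : Subgroup Ω}
    {A : FusionSystem V} {B : FusionSystem W} (hA : A.IsResidualLimitOf F p) (hB : B.IsResidualLimitOf F p) :
    SameSys B A :=
  residualLimit_eq hA hS hF F stronglyClosed_top hF hasPPowerIndex_refl B hB

theorem limit_congr [Finite S] (hS : IsPGroup p S) (hF : F.IsSaturated p) {G : FusionSystem U}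
    (h : SameSys G F) {V W : Subgroup Ω} {A : FusionSystem V} {B : FusionSystem W}
    (hA : A.IsResidualLimitOf G p) (hB : B.IsResidualLimitOf F p) : SameSys B A := by
  obtain ⟨rfl, e⟩ := h
  obtain rfl := system_ext e
  exact limit_unique hS hF hA hB

/-- Passing to index prime to `p` commutes with passing to `p`-power index. -/
theorem primeIndex_pPower [Finite S] (hS : IsPGroup p S) (hF : F.IsSaturated p) {R : FusionSystem S}
    (hR : R.IsSaturated p) (hRi : R.HasPrimeToPIndexIn F p) (hU : F.StronglyClosed U)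
    {D : FusionSystem U} (hD : D.IsSaturated p) (hDi : D.HasPPowerIndexIn F p)
    {Ru : FusionSystem U} (hRu : Ru.IsSaturated p) (hRui : Ru.HasPPowerIndexIn R p) :
    Ru.HasPrimeToPIndexIn D p := by
  have hUS := hU.1
  haveI := finite_of_le hUS
  have hUp : IsPGroup p U := hS.to_le hUS
  have hsub : Ru.IsSubsystemOf D :=
    subsystem_of_pPowerIndex hUp hRu (fun P φ h => hRi.1 P (hRui.1 P h)) le_rfl hDi.2.2
  have hUR : R.StronglyClosed U := ⟨hUS, fun P hP φ hφ x => hU.2 P hP φ (hRi.1 P hφ) x⟩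
  have hUn : ∀ s ∈ S, ∀ x ∈ U, cj s x ∈ U := fun s hs x hx =>
    stronglyClosed_mem hU (Mor.conj (F := F) (hUS) hs) hx hx
  have hfac := (primeIndex_of_centric hS hF hRi.1 fun P hP => hRi.2 P hP.1).2.1
  refine (primeIndex_of_centric hUp hD hsub fun P hPc => ?_).1
  have hPU : P ≤ U := hPc.1
  rw [MonoidHom.map_closure, Subgroup.closure_le]
  rintro _ ⟨α, ⟨k, hk⟩, rfl⟩
  haveI := finite_of_le hPU
  obtain ⟨Q, hPQ, hQn⟩ := exists_fullyNormalized (F := D) hPU
  obtain ⟨u, hu⟩ := isConj_iff.mp hPQ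
  obtain ⟨a, g, ha, hg, e⟩ := hfac P u (subsystem_mor hDi.1 hu.mor)
  obtain ⟨s, hs, hg₀'⟩ := pPower_frattini hS hR hUR hUn hRu hRui P g hg
  have hg₀ : Mor Ru P (fun x => cj s (g x)) := hg₀'.restrict (le_inf le_rfl hPU)
  set Q' := hg₀.img with hQ'
  have hQ'U : Q' ≤ U := hg₀.img_le
  haveI := finite_of_le hQ'U
  haveI := finite_mulAut (G := Q')
  -- `a ∘ cj s⁻¹` carries `Q'` onto `Q` and normalizes `U`
  set b := a ∘ cj s⁻¹ with hb
  have hbU : Iso F b U U := (((Mor.conj (F := F) hUS (S.inv_mem hs)).comp ha.mor fun x hx =>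
    hUS (hUn _ (S.inv_mem hs) x hx)).congr fun _ _ => rfl).iso_of_card (fun x hx =>
      stronglyClosed_mem hU ha.mor (hUS (hUn _ (S.inv_mem hs) x hx)) (hUn _ (S.inv_mem hs) x hx)) le_rfl
  have hbQ : ∀ y ∈ Q', b y ∈ Q := fun y hy => by
    obtain ⟨x, hx, rfl⟩ := hg₀.mem_img.mp hy
    show a (cj s⁻¹ (cj s (g x))) ∈ Q
    rw [cj_inv_cancel, ← e x hx]; exact hu.mapsTo hx
  have hbQ' : ∀ z ∈ Q, ∃ y ∈ Q', b y = z := fun z hz => by
    obtain ⟨x, hx, rfl⟩ := hu.surj hz
    refine ⟨_, hg₀.mem_img.mpr ⟨x, hx, rfl⟩, ?_⟩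
    show a (cj s⁻¹ (cj s (g x))) = u x
    rw [cj_inv_cancel, ← e x hx]
  have hQ'n : D.IsFullyNormalized Q' := by
    obtain ⟨b', hb', hl, hr⟩ := hbU.exists_symm
    have hQ'b : ∀ z ∈ Q, b' z ∈ Q' := fun z hz => by
      obtain ⟨y, hy, rfl⟩ := hbQ' z hz
      rw [hl y (hQ'U hy)]; exact hy
    refine ⟨hQ'U, fun R' hR' => ?_⟩
    have hPQ' : D.IsConj P Q' := ⟨_, hsub P hg₀.hom_mem, by
      ext y
      rw [MonoidHom.mem_range, hg₀.mem_img]
      exact ⟨fun ⟨x, hx⟩ => ⟨x, x.2, hx⟩, fun ⟨x, hx, hy⟩ => ⟨⟨x, hx⟩, hy⟩⟩⟩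
    refine (hQn.2 R' (isConj_trans (isConj_trans (isConj_symm hPQ) hPQ') hR')).trans ?_
    haveI := finite_of_le (normalizerIn_le : normalizerIn U Q' ≤ U)
    haveI := finite_of_le (normalizerIn_le : normalizerIn U Q ≤ U)
    refine (hb'.mor.restrict (normalizerIn_le : normalizerIn U Q ≤ U)).card_le fun y hy => ?_
    refine ⟨hb'.mapsTo hy.1, Subgroup.mem_normalizer_fintype fun q hq => ?_⟩
    obtain ⟨z, hz, rfl⟩ : ∃ z ∈ Q, b' z = q := ⟨b q, hbQ q hq, hl q (hQ'U hq)⟩
    rw [SetLike.mem_coe, ← hb'.mor.map_inv hy.1, ← hb'.mor.map_mul hy.1 (hQn.1 hz),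
      ← hb'.mor.map_mul (U.mul_mem hy.1 (hQn.1 hz)) (U.inv_mem hy.1)]
    exact hQ'b _ ((cj_mem_iff hy.2 z).mpr hz)
  -- the automorphisms of `Q'` in both systems
  obtain ⟨f, hf, ef⟩ := (mem_autGroup_iff hPU).mp α.2
  obtain ⟨g', hg', hgl, hgr⟩ := hg₀.toIso.exists_symm
  have hgD : Iso D (fun x => cj s (g x)) P Q' := ⟨subsystem_mor hsub hg₀, hg₀.toIso.bij⟩
  have hgD' : Iso D g' Q' P := ⟨subsystem_mor hsub hg'.mor, hg'.bij⟩
  have hα' : Iso D ((fun x => cj s (g x)) ∘ f ∘ g') Q' Q' := (hgD'.comp hf).comp hgD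
  have hord : ∀ y ∈ Q', ((fun x => cj s (g x)) ∘ f ∘ g')^[p ^ k] y = y := by
    intro y hy
    obtain ⟨x, hx, rfl⟩ := hg₀.toIso.surj hy
    rw [iterate_conj (fun z hz => hf.mapsTo hz) hgl _ x hx]
    have hit : ∀ n, f^[n] x = (((α : MulAut P) ^ n) ⟨x, hx⟩ : P) := by
      intro n
      induction n with
      | zero => rfl
      | succ n ih => rw [Function.iterate_succ_apply', ih, ef, pow_succ', MulAut.mul_apply]
    rw [hit, ← Subgroup.coe_pow, ← hk, pow_orderOf_eq_one]
    rfl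
  have hmem : (hα'.equiv : MulAut Q') ∈ Ru.autGroup Q' := by
    set H := D.autGroup Q' ⊓ R.autGroup Q' with hH
    obtain ⟨-, hfa, -⟩ := IsSaturated_fullyNormalized hUp hD hQ'n
    obtain ⟨-, W, hW⟩ := hfa
    have hAU : autInducedBy U Q' ≤ H := le_inf (autInducedBy_le_autGroup hQ'U)
      ((autInducedBy_mono hUS Q').trans (autInducedBy_le_autGroup (hQ'U.trans hUS)))
    have hidx : ¬ p ∣ ((autInducedBy U Q').subgroupOf (D.autGroup Q')).index := by
      rw [← hW]; exact W.not_dvd_index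
    have hle : H ≤ Ru.autGroup Q' := by
      have htop : (Ru.autGroup Q').subgroupOf H = ⊤ := by
        refine eq_top_of_pResidual_le (p := p) ((Subgroup.closure_le _).mpr fun β hβ => ?_) fun hd => ?_
        · refine hRui.2.2 Q' hQ'U ⟨⟨β, β.2.2⟩, Subgroup.subset_closure ?_, rfl⟩
          show (orderOf (⟨(β : MulAut Q'), β.2.2⟩ : R.autGroup Q')).Coprime p
          rw [Subgroup.orderOf_mk, Subgroup.orderOf_coe]
          exact hβ
        · refine hidx (hd.trans ?_)
          have h1 : ((Ru.autGroup Q').subgroupOf H).index ∣ ((autInducedBy U Q').subgroupOf H).index :=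
            Subgroup.index_dvd_of_le fun β hβ => autInducedBy_le_autGroup hQ'U hβ
          refine h1.trans ?_
          show (autInducedBy U Q').relIndex H ∣ (autInducedBy U Q').relIndex (D.autGroup Q')
          exact Dvd.intro _ (Subgroup.relIndex_mul_relIndex _ _ _ hAU inf_le_left)
      exact fun β hβ => htop.ge (Subgroup.mem_top (⟨β, hβ⟩ : H))
    refine hle ⟨hα'.equiv_mem_autGroup, ?_⟩
    have hF' : Iso F ((fun x => cj s (g x)) ∘ f ∘ g') Q' Q' := ⟨subsystem_mor hDi.1 hα'.mor, hα'.bij⟩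
    have hp : (hα'.equiv : MulAut Q') ^ p ^ k = 1 := MulEquiv.ext fun y => Subtype.ext (by
      rw [equiv_pow_apply hα']; exact hord y y.2)
    obtain ⟨i, -, hi⟩ := (Nat.dvd_prime_pow (Fact.out : p.Prime)).mp (orderOf_dvd_of_pow_eq_one hp)
    exact primeIndex_pElement hRi (hQ'U.trans hUS) hF'.equiv_mem_autGroup hi
  obtain ⟨w, hw, ew⟩ := (mem_autGroup_iff hQ'U).mp hmem
  refine (mem_autGroup_iff hPU).mpr ⟨g' ∘ w ∘ fun x => cj s (g x), (hg₀.toIso.comp hw).comp hg', fun x => ?_⟩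
  show g' (w (cj s (g x))) = _
  have hx' := hg₀.toIso.mapsTo x.2
  rw [ew ⟨_, hx'⟩]
  show g' (cj s (g (f (g' (cj s (g x)))))) = _
  rw [hgl x x.2, hgl _ (hf.mapsTo x.2)]
  exact ef x

/-- A system and its residual of index prime to `p` have the same limit. -/
theorem limit_residual : ∀ (n : ℕ) {S : Subgroup Ω} [Finite S], Nat.card S = n → IsPGroup p S →
    ∀ (F : FusionSystem S), F.IsSaturated p → ∀ (R : FusionSystem S), F.IsPPrimeResidual p R →
      ∀ {V W : Subgroup Ω} (A : FusionSystem V) (B : FusionSystem W), A.IsResidualLimitOf F p →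
        B.IsResidualLimitOf R p → SameSys B A := by
  intro n
  induction n using Nat.strong_induction_on with
  | _ n ih =>
  intro S _ hn hS F hF R hR V W A B hA hB
  haveI := finite_of_le (hyperfocal_le (F := F) (p := p))
  have hUp : IsPGroup p (F.hyperfocalSubgroup p) := hS.to_le hyperfocal_le
  by_cases hh : F.hyperfocalSubgroup p = S
  · cases hA with
    | stable _ _ _ hres =>
      obtain rfl := residual_unique hR hres
      exact limit_unique hS hF (.stable _ p hh hres) hB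
    | step _ _ D D' hD hD' hlim =>
      have hsame : SameSys D F := SameSys.of_subsystem hD.2.1
        (subsystem_of_pPowerIndex hS hF (fun _ _ h => h) hh.ge hD.2.2.2)
      exact limit_congr hS hR.1 (pPrimeResidual_same hsame hR hD') hlim hB
  have hlt : Nat.card (F.hyperfocalSubgroup p) < n := by
    rw [← hn]
    exact lt_of_le_of_ne (card_le_of_le hyperfocal_le) fun e =>
      hh (Subgroup.eq_of_le_of_card_ge hyperfocal_le e.ge)
  have hU := hyperfocal_stronglyClosed hS hF (p := p)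
  obtain ⟨D, hD⟩ := exists_pPower_system (Nat.card S) rfl hS F hF _ hyperfocal_le le_rfl
  obtain ⟨Ru, hRu, hRui⟩ := exists_pPower_system (Nat.card S) rfl hS R hR.1 _ hyperfocal_le
    (hyperfocal_mono hR.2.1.1)
  obtain ⟨D', hD'⟩ := exists_residual hUp hD.1
  obtain ⟨R', hR'⟩ := exists_residual hUp hRu
  obtain rfl := residual_of_primeIndex hRu (primeIndex_pPower hS hF hR.1 hR.2.1 hU hD.1 hD.2 hRu hRui) hD' hR'
  obtain ⟨V₁, A₁, hA₁⟩ := exists_limit hUp hD.1
  obtain ⟨V₂, A₂, hA₂⟩ := exists_limit hUp hRu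
  obtain ⟨V₃, A₃, hA₃⟩ := exists_limit hUp hD'.1
  have h1 := residualLimit_eq hA hS hF D hU hD.1 hD.2 A₁ hA₁
  have h2 := residualLimit_eq hB hS hR.1 Ru
    ⟨hU.1, fun P hP φ hφ x => hU.2 P hP φ (hR.2.1.1 P hφ) x⟩ hRu hRui A₂ hA₂
  have h3 := ih _ hlt rfl hUp D hD.1 _ hD' A₁ A₃ hA₁ hA₃
  have h4 := ih _ hlt rfl hUp Ru hRu _ hR' A₂ A₃ hA₂ hA₃
  exact SameSys.trans' (SameSys.symm' h2) (SameSys.trans' (SameSys.symm' h4) (SameSys.trans' h3 h1))

/-- A subsystem of index prime to `p` has the same limit. -/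
theorem limit_primeIndex [Finite S] (hS : IsPGroup p S) (hF : F.IsSaturated p) {X : FusionSystem S}
    (hX : X.IsSaturated p) (hXi : X.HasPrimeToPIndexIn F p) {V W : Subgroup Ω} {A : FusionSystem V}
    {B : FusionSystem W} (hA : A.IsResidualLimitOf F p) (hB : B.IsResidualLimitOf X p) : SameSys B A := by
  obtain ⟨R, hR⟩ := exists_residual hS hF
  obtain ⟨R₀, hR₀⟩ := exists_residual hS hX
  obtain rfl := residual_of_primeIndex hX hXi hR hR₀
  obtain ⟨V₃, A₃, hA₃⟩ := exists_limit hS hR.1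
  exact SameSys.trans' (SameSys.symm' (limit_residual _ rfl hS X hX _ hR₀ B A₃ hB hA₃))
    (limit_residual _ rfl hS F hF _ hR A A₃ hA hA₃)

end Cfsg.Agent.Fusion.Limit
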