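/-
Invariance of a subsystem and strong invariance.
-/
import Cfsg.Agent.Fusion.Invariant
import Cfsg.Agent.Fusion.GroupSimple
set_option autoImplicit false

namespace Cfsg.Agent.Fusion.StrongInv

open Cfsg Cfsg.FusionSystem

variable {Ω : Type*} [Group Ω] {S T : Subgroup Ω} {F : FusionSystem S} {E : FusionSystem T}
  {p : ℕ} {P Q : Subgroup Ω} {f g a : Ω → Ω}

/-- Strong invariance. -/
def Strong (F : FusionSystem S) (E : FusionSystem T) : Prop :=
  ∀ (P Q : Subgroup Ω) (hPQ : P ≤ Q) (_ : Q ≤ T) (φ : P →* Ω) (_ : φ ∈ E.Hom P) (hφQ : ∀ x : P, φ x ∈ Q) (ψ : Q →* Ω) (_ : ψ ∈ F.Hom Q), ∃ χ ∈ E.Hom ((P.subgroupOf Q).map ψ), ∀ (x : P) (hx : ψ (Subgroup.inclusion hPQ x) ∈ (P.subgroupOf Q).map ψ), χ ⟨ψ (Subgroup.inclusion hPQ x), hx⟩ = ψ ⟨φ x, hφQ x⟩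

theorem strong_push (H : Strong F E) (hPQ : P ≤ Q) (hQT : Q ≤ T) (hf : Mor E P f)
    (hfQ : ∀ x ∈ P, f x ∈ Q) (ha : Mor F Q a) :
    ∃ χ, Mor E (ha.restrict hPQ).img χ ∧ ∀ x ∈ P, χ (a x) = a (f x) := by
  obtain ⟨χ, hχ, e⟩ := H P Q hPQ hQT hf.hom hf.hom_mem (fun x => hfQ x x.2) ha.hom ha.hom_mem
  have hD : (P.subgroupOf Q).map ha.hom = (ha.restrict hPQ).img := by
    ext y
    rw [Mor.mem_img]
    exact ⟨fun ⟨x, hx, hy⟩ => ⟨x, hx, hy⟩, fun ⟨x, hx, hy⟩ => ⟨⟨x, hPQ hx⟩, hx, hy⟩⟩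
  refine ⟨extFun χ, (congrArg (fun A => Mor E A (extFun χ)) hD).mp (mor_of_mem hχ), fun x hx => ?_⟩
  have hax : a x ∈ (P.subgroupOf Q).map ha.hom := ⟨⟨x, hPQ hx⟩, hx, rfl⟩
  rw [extFun_apply χ hax]
  exact e ⟨x, hx⟩ hax

/-- A map is a map of `E` followed by an automorphism of `T`. -/
def Good (F : FusionSystem S) (E : FusionSystem T) (P : Subgroup Ω) (f : Ω → Ω) : Prop :=
  ∃ a g, Iso F a T T ∧ Mor E P g ∧ ∀ x ∈ P, f x = a (g x)

theorem good_of_mem (hTS : T ≤ S) (hg : Mor E P g) : Good F E P g :=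
  ⟨id, g, Iso.refl hTS, hg, fun _ _ => rfl⟩

theorem Good.restrict {R : Subgroup Ω} (h : Good F E P f) (hR : R ≤ P) : Good F E R f := by
  obtain ⟨a, g, ha, hg, e⟩ := h
  exact ⟨a, g, ha, hg.restrict hR, fun x hx => e x (hR hx)⟩

theorem Good.congr (h : Good F E P f) (e : ∀ x ∈ P, f x = g x) : Good F E P g := by
  obtain ⟨a, k, ha, hk, e'⟩ := h
  exact ⟨a, k, ha, hk, fun x hx => (e x hx).symm.trans (e' x hx)⟩

theorem Good.comp (H : Strong F E) {P' : Subgroup Ω} {f' : Ω → Ω} (h : Good F E P f)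
    (h' : Good F E P' f') (hm : ∀ x ∈ P, f x ∈ P') : Good F E P (f' ∘ f) := by
  obtain ⟨a, g, ha, hg, e⟩ := h
  obtain ⟨b, k, hb, hk, e'⟩ := h'
  obtain ⟨a', ha', hl, hr⟩ := ha.exists_symm
  obtain ⟨χ, hχ, eχ⟩ := strong_push H hk.dom_le le_rfl hk (fun x hx => hk.map_mem hx) ha'.mor
  have hgm : ∀ x ∈ P, g x ∈ (ha'.mor.restrict hk.dom_le).img := fun x hx =>
    (Mor.mem_img _).mpr ⟨f x, hm x hx, by rw [e x hx, hl _ (hg.map_mem hx)]⟩
  refine ⟨b ∘ a, χ ∘ g, ha.comp hb, hg.comp hχ hgm, fun x hx => ?_⟩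
  show f' (f x) = b (a (χ (g x)))
  rw [e' _ (hm x hx)]
  congr 1
  have h1 : g x = a' (f x) := by rw [e x hx, hl _ (hg.map_mem hx)]
  rw [h1, eχ _ (hm x hx), hr _ (hk.map_mem (hm x hx))]

theorem Good.symm (H : Strong F E) (h : Good F E P f) (hf : Iso F f P Q) {f' : Ω → Ω}
    (hf' : ∀ x ∈ P, f' (f x) = x) : Good F E Q f' := by
  obtain ⟨a, g, ha, hg, e⟩ := h
  obtain ⟨a', ha', hl, hr⟩ := ha.exists_symm
  obtain ⟨g', hg', hgl, hgr⟩ := hg.toIso.exists_symm
  obtain ⟨χ, hχ, eχ⟩ := strong_push H hg.img_le le_rfl hg'.mor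
    (fun x hx => hg.dom_le (hg'.mapsTo hx)) ha.mor
  have hQ : Q ≤ (ha.mor.restrict hg.img_le).img := fun y hy => by
    obtain ⟨x, hx, rfl⟩ := hf.surj hy
    exact (Mor.mem_img _).mpr ⟨g x, hg.toIso.mapsTo hx, (e x hx).symm⟩
  refine ⟨a', χ, ha', hχ.restrict hQ, fun y hy => ?_⟩
  obtain ⟨x, hx, rfl⟩ := hf.surj hy
  rw [hf' x hx, e x hx, eχ _ (hg.toIso.mapsTo hx), hgl x hx, hl x (hg.dom_le hx)]

variable [hp : Fact p.Prime]

theorem good_all [Finite S] (hS : IsPGroup p S) (hF : F.IsSaturated p) (hsub : E.IsSubsystemOf F)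
    (hT : F.StronglyClosed T) (H : Strong F E) :
    ∀ (P : Subgroup Ω) (f : Ω → Ω), P ≤ T → Mor F P f → Good F E P f := by
  haveI := finite_of_le hT.1
  intro P
  induction hc : Nat.card T - Nat.card P using Nat.strong_induction_on generalizing P with
  | _ c IH =>
  intro f hPT hf
  rcases eq_or_lt_of_le hPT with rfl | hlt
  · exact ⟨f, id, hf.iso_of_card (fun x hx => stronglyClosed_mem hT hf hx hx) le_rfl,
      Mor.id' le_rfl, fun _ _ => rfl⟩
  have hbig : ∀ R : Subgroup Ω, P < R → R ≤ T → ∀ k, Mor F R k → Good F E R k := fun R hR hRT k hk => by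
    haveI := finite_of_le hRT
    have h1 := card_lt_of_lt hR
    have h2 := card_le_of_le hRT
    exact IH _ (by omega) R rfl k hRT hk
  have hPS := hPT.trans hT.1
  haveI := finite_of_le hPS
  obtain ⟨Q, hPQ, hQn⟩ := exists_fullyNormalized (F := F) hPS
  obtain ⟨-, hA, hR⟩ := IsSaturated_fullyNormalized hS hF hQn
  obtain ⟨u, hu⟩ := isConj_iff.mp hPQ
  have hQT : Q ≤ T := fun y hy => by
    obtain ⟨x, hx, rfl⟩ := hu.surj hy
    exact stronglyClosed_mem hT hu.mor hx (hPT hx)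
  haveI := finite_of_le hQn.1
  haveI : Finite (MulAut Q) := finite_mulAut
  have hPn : P < T ⊓ Subgroup.normalizer (P : Set Ω) :=
    lt_normalizerIn (hS.to_le hT.1) hlt
  have hQlt : Q < T := by
    refine lt_of_le_of_ne hQT fun e => ?_
    have h1 := card_lt_of_lt hlt
    have h2 := hu.card_eq
    rw [e] at h2
    omega
  -- the automorphisms of the representative
  have hAut : ∀ β ∈ F.autGroup Q, Good F E Q (extFun (Q.subtype.comp β.toMonoidHom)) := by
    intro β hβ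
    set A := F.autGroup Q
    let K : Subgroup A := (E.autGroup Q).subgroupOf A
    haveI hK : K.Normal := by
      refine ⟨fun b hb c => ?_⟩
      show (c : MulAut Q) * b * (c : MulAut Q)⁻¹ ∈ E.autGroup Q
      obtain ⟨k, hk, ek⟩ := (mem_autGroup_iff hQT).mp (show (b : MulAut Q) ∈ E.autGroup Q from hb)
      obtain ⟨d, hd, ed⟩ := (mem_autGroup_iff hQn.1).mp c.2
      obtain ⟨χ, hχ, eχ⟩ := strong_push H le_rfl hQT hk.mor (fun x hx => hk.mapsTo hx) hd.mor
      have hsurj : Q ≤ (hd.mor.restrict (le_refl Q)).img := fun y hy => by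
        obtain ⟨x, hx, rfl⟩ := hd.surj hy
        exact (Mor.mem_img _).mpr ⟨x, hx, rfl⟩
      refine (autGroup_set_eq hQT).mpr (mem_of_mor (hχ.restrict hsurj) fun y => ?_)
      obtain ⟨x, hx, hxy⟩ := hd.surj y.2
      have hy : y = (c : MulAut Q) ⟨x, hx⟩ := Subtype.ext (hxy.symm.trans (ed ⟨x, hx⟩))
      show ((((c : MulAut Q) * b * (c : MulAut Q)⁻¹) y : Q) : Ω) = χ y
      rw [hy, MulAut.mul_apply, MulAut.mul_apply, MulAut.inv_apply_self, ← ed ⟨x, hx⟩, eχ x hx,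
        ek ⟨x, hx⟩, ed]
    obtain ⟨-, R, hRA⟩ := hA
    -- Frattini argument
    have hKR : ∀ x : A, x ∈ (R : Subgroup A) → (x : MulAut Q) ∈ autInducedBy S Q := fun x hx => by
      rw [hRA] at hx; exact hx
    let R₀ : Subgroup K := (R : Subgroup A).subgroupOf K
    have hR₀p : IsPGroup p R₀ := R.isPGroup'.comap_subtype
    have hR₀i : ¬ p ∣ R₀.index := by
      have h1 : R₀.index ∣ (R : Subgroup A).index := by
        show (R : Subgroup A).relIndex K ∣ _
        have e1 := Subgroup.relIndex_mul_index (inf_le_right : (R : Subgroup A) ⊓ K ≤ K)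
        have e2 := Subgroup.relIndex_mul_index (inf_le_left : (R : Subgroup A) ⊓ K ≤ (R : Subgroup A))
        rw [Subgroup.inf_relIndex_right] at e1
        rw [Subgroup.inf_relIndex_left] at e2
        have hd := Nat.mul_dvd_mul_right (Subgroup.relIndex_dvd_index_of_normal K (R : Subgroup A)) (R : Subgroup A).index
        rw [e2, ← e1, mul_comm K.index] at hd
        exact Nat.dvd_of_mul_dvd_mul_right (Nat.pos_of_ne_zero Subgroup.index_ne_zero_of_finite) hd
      exact fun h => R.not_dvd_index (h.trans h1)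
    let P₀ : Sylow p K := hR₀p.toSylow hR₀i
    have htop := Sylow.normalizer_sup_eq_top P₀
    have hmem : (⟨β, hβ⟩ : A) ∈ Subgroup.normalizer ((R₀.map K.subtype : Subgroup A) : Set A) ⊔ K := by
      rw [IsPGroup.toSylow_coe] at htop
      rw [htop]; trivial
    rw [← SetLike.mem_coe, Subgroup.mul_normal] at hmem
    obtain ⟨n, hn, k, hk, hnk⟩ := hmem
    have hkG : Good F E Q (extFun (Q.subtype.comp (k : MulAut Q).toMonoidHom)) :=
      good_of_mem hT.1 (mor_of_mem ((autGroup_set_eq hQT).mp hk))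
    suffices hnG : Good F E Q (extFun (Q.subtype.comp (n : MulAut Q).toMonoidHom)) by
      refine (Good.comp H hkG hnG fun x hx => ?_).congr fun x hx => ?_
      · rw [extFun_apply _ hx]; exact ((k : MulAut Q) ⟨x, hx⟩).2
      · show extFun _ (extFun _ x) = _
        rw [extFun_apply (Q.subtype.comp (k : MulAut Q).toMonoidHom) hx,
          extFun_apply _ hx,
          extFun_apply _ (show (Q.subtype.comp (k : MulAut Q).toMonoidHom) ⟨x, hx⟩ ∈ Q from ((k : MulAut Q) ⟨x, hx⟩).2),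
          show β = (n : MulAut Q) * (k : MulAut Q) from (congrArg Subtype.val hnk).symm]
        rfl
    obtain ⟨d, hd, ed⟩ := (mem_autGroup_iff hQn.1).mp n.2
    obtain ⟨d', hd', ed'⟩ := (receptive_iff.mp hR).2 Q d hd
    have hQn' : Q < T ⊓ Subgroup.normalizer (Q : Set Ω) := lt_normalizerIn (hS.to_le hT.1) hQlt
    have hsubn : T ⊓ Subgroup.normalizer (Q : Set Ω) ≤ nphi S Q d := by
      rintro y ⟨hyT, hyn⟩
      have hyK : actHom S Q ⟨y, ⟨hT.1 hyT, hyn⟩⟩ ∈ E.autGroup Q :=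
        autInducedBy_le_autGroup hQT (mem_autInducedBy.mpr ⟨y, hyT, hyn, fun x => actHom_apply S Q _ x⟩)
      have hyA : actHom S Q ⟨y, ⟨hT.1 hyT, hyn⟩⟩ ∈ A :=
        autInducedBy_le_autGroup hQn.1 ((range_actHom S Q).le ⟨_, rfl⟩)
      have hyR : (⟨_, hyA⟩ : A) ∈ R₀.map K.subtype := by
        refine ⟨⟨⟨_, hyA⟩, hyK⟩, ?_, rfl⟩
        show (⟨_, hyA⟩ : A) ∈ (R : Subgroup A)
        rw [hRA]; exact (range_actHom S Q).le ⟨_, rfl⟩
      obtain ⟨z, hz, hze⟩ := (Subgroup.mem_normalizer_iff.mp hn _).mp hyR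
      obtain ⟨s, hs, -, es⟩ := mem_autInducedBy.mp (hKR (z : A) hz)
      refine ⟨hT.1 hyT, hyn, s, hs, fun x hx => ?_⟩
      have hze' : ((z : A) : MulAut Q) =
          (n : MulAut Q) * actHom S Q ⟨y, ⟨hT.1 hyT, hyn⟩⟩ * (n : MulAut Q)⁻¹ :=
        congrArg Subtype.val hze
      have h := es ((n : MulAut Q) ⟨x, hx⟩)
      rw [hze', MulAut.mul_apply, MulAut.mul_apply, MulAut.inv_apply_self, ← ed, ← ed] at h
      rw [show cj y x = ((actHom S Q ⟨y, ⟨hT.1 hyT, hyn⟩⟩ ⟨x, hx⟩ : Q) : Ω) from (actHom_apply S Q ⟨y, ⟨hT.1 hyT, hyn⟩⟩ ⟨x, hx⟩).symm]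
      exact h
    have hG : Good F E (T ⊓ Subgroup.normalizer (Q : Set Ω)) d' := by
      haveI := finite_of_le (inf_le_left : T ⊓ Subgroup.normalizer (Q : Set Ω) ≤ T)
      have h1 := card_lt_of_lt hQn'
      have h2 := hu.card_eq
      have h3 := card_le_of_le (inf_le_left : T ⊓ Subgroup.normalizer (Q : Set Ω) ≤ T)
      exact IH _ (by omega) _ rfl d' inf_le_left (hd'.restrict hsubn)
    exact (hG.restrict hQn'.le).congr fun x hx => by
      rw [ed' x hx, extFun_apply _ hx]; exact ed ⟨x, hx⟩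
  -- maps onto the representative
  have hto : ∀ (R : Subgroup Ω) (k : Ω → Ω), R ≤ T → Nat.card R = Nat.card P → Iso F k R Q →
      Good F E R k := by
    intro R k hRT hRc hk
    obtain ⟨a, ha, haf, hN⟩ := hk.exists_full hS hA
    obtain ⟨m, hm, em⟩ := (receptive_iff.mp hR).2 R _ haf
    have hRlt : R < T := lt_of_le_of_ne hRT fun e => by
      have h1 := card_lt_of_lt hlt
      rw [← hRc, e] at h1
      exact lt_irrefl _ h1
    have hRn : R < T ⊓ Subgroup.normalizer (R : Set Ω) := lt_normalizerIn (hS.to_le hT.1) hRlt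
    have hG : Good F E (T ⊓ Subgroup.normalizer (R : Set Ω)) m := by
      haveI := finite_of_le (inf_le_left : T ⊓ Subgroup.normalizer (R : Set Ω) ≤ T)
      have h1 := card_lt_of_lt hRn
      have h3 := card_le_of_le (inf_le_left : T ⊓ Subgroup.normalizer (R : Set Ω) ≤ T)
      refine IH _ (by omega) _ rfl m inf_le_left (hm.restrict ?_)
      rw [hN]
      exact inf_le_inf_right _ hT.1
    obtain ⟨a', ha', hal, har⟩ := ha.exists_symm
    have haG : Good F E Q a' :=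
      (hAut _ ha'.equiv_mem_autGroup).congr fun x hx => extFun_apply _ hx
    refine (Good.comp H (hG.restrict hRn.le) haG fun x hx => ?_).congr fun x hx => ?_
    · rw [em x hx]; exact haf.mapsTo hx
    · show a' (m x) = k x
      rw [em x hx]; exact hal _ (hk.mapsTo hx)
  -- the general case
  have hfi := hf.toIso
  have hf'T : hf.img ≤ T := fun y hy => by
    obtain ⟨x, hx, rfl⟩ := hf.mem_img.mp hy
    exact stronglyClosed_mem hT hf hx (hPT hx)
  obtain ⟨v, hv, hvl, -⟩ := hfi.exists_symm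
  have hw := hv.comp hu
  have hG1 := hto P u hPT rfl hu
  have hG2 := hto hf.img (u ∘ v) hf'T hfi.card_eq.symm hw
  obtain ⟨w', hw', hwl, -⟩ := hw.exists_symm
  refine (Good.comp H hG1 (Good.symm H hG2 hw hwl) fun x hx => hu.mapsTo hx).congr fun x hx => ?_
  show w' (u x) = f x
  have := hwl (f x) (hfi.mapsTo hx)
  simp only [Function.comp_apply, hvl x hx] at this
  exact this

/-- Invariance is strong invariance. -/
theorem invariant_iff_strong [Finite S] (hS : IsPGroup p S) (hF : F.IsSaturated p)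
    (hsub : E.IsSubsystemOf F) (hT : F.StronglyClosed T) : E.IsInvariantIn F ↔ Strong F E := by
  constructor
  · intro hI P Q hPQ hQT φ hφ hφQ ψ hψ
    have hf := mor_of_mem hφ
    have hk := mor_of_mem hψ
    obtain ⟨a, g, ha, hg, e⟩ := invariant_frattini hI hk hQT
    obtain ⟨a', ha', hl, hr⟩ := ha.exists_symm
    obtain ⟨g', hg', hgl, -⟩ := (hg.restrict hPQ).toIso.exists_symm
    have h1 : Mor E (hg.restrict hPQ).img (g ∘ (extFun φ ∘ g')) :=
      (hg'.mor.comp hf fun y hy => hg'.mapsTo hy).comp hg fun y hy => by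
        show extFun φ (g' y) ∈ Q
        rw [extFun_apply φ (hg'.mapsTo hy)]
        exact hφQ ⟨_, hg'.mapsTo hy⟩
    have h2 := invariant_push hI ha hl h1 (P' := (P.subgroupOf Q).map ψ) fun y => by
      constructor
      · rintro ⟨x, hx, rfl⟩
        exact ⟨g x, (Mor.mem_img _).mpr ⟨x, hx, rfl⟩, (e x x.2).symm.trans (extFun_coe ψ x)⟩
      · rintro ⟨z, hz, rfl⟩
        obtain ⟨x, hx, rfl⟩ := (Mor.mem_img _).mp hz
        exact ⟨⟨x, hPQ hx⟩, hx, ((e x (hPQ hx)).symm.trans (extFun_apply ψ (hPQ hx))).symm⟩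
    refine ⟨h2.hom, h2.hom_mem, fun x hx => ?_⟩
    rw [Mor.hom_apply]
    show a ((g ∘ (extFun φ ∘ g')) (a' (ψ (Subgroup.inclusion hPQ x)))) = _
    rw [← extFun_coe ψ, Subgroup.coe_inclusion, e x (hPQ x.2), hl _ (hg.map_mem (hPQ x.2))]
    show a (g (extFun φ (g' (g x)))) = _
    rw [hgl x x.2, extFun_coe, ← e _ (hφQ x), extFun_apply ψ (hφQ x)]
  · intro H
    refine ⟨hsub, hT, fun P hPT φ hφ α hα => ?_, fun P hPT φ hφ => ?_⟩
    · have hψ := (autGroup_set_eq hT.1).mp hα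
      obtain ⟨χ, hχ, e⟩ := H P T hPT le_rfl φ hφ (fun x => (E.le_of_mem hφ).2 x) _ hψ
      exact ⟨χ, hχ, fun x hφx hαx => e x hαx⟩
    · obtain ⟨a, g, ha, hg, e⟩ := good_all hS hF hsub hT H P _ hPT (mor_of_mem hφ)
      refine ⟨ha.equiv, ha.equiv_mem_autGroup, hg.hom, hg.hom_mem, fun x hx => ?_⟩
      rw [← extFun_coe φ x, e x x.2]
      rfl

end Cfsg.Agent.Fusion.StrongInv
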