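/-
Normal subsystems of the fusion system of a group of characteristic `p` come from normal subgroups.
-/
import Cfsg.Agent.Fusion.GroupNormal
import Cfsg.Agent.Fusion.GroupLift
import Cfsg.Agent.Fusion.GroupSimple
import Cfsg.Agent.Fusion.HypFocal
import Cfsg.Agent.Core.Cores
set_option autoImplicit false
set_option linter.style.haveILetI false

universe u

namespace Cfsg.Agent.Fusion.ModelNormalSys

open Cfsg Cfsg.FusionSystem IsInducedBy

/-- Invariant saturated subsystems on the same subgroup with the same automorphisms of it coincide. -/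
theorem mor_of_invariant_pair {Ω : Type*} [Group Ω] {S T : Subgroup Ω} {p : ℕ} [Fact p.Prime] [Finite T]
    (hT : IsPGroup p T) {F : FusionSystem S} {E E' : FusionSystem T} (hE : E.IsSaturated p)
    (hsub : E.IsSubsystemOf F) (hinv : E'.IsInvariantIn F)
    (htop : E.autGroup T ≤ E'.autGroup T) : ∀ P f, Mor E P f → Mor E' P f := by
  refine mor_induction hT hE (Closed.of_system E') fun R hR IH f hf => ?_
  suffices h : E.autGroup R ≤ E'.autGroup R by
    obtain ⟨g, hg, e⟩ := (mem_autGroup_iff hR.1).mp (h hf.equiv_mem_autGroup)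
    exact hg.mor.congr fun x hx => e ⟨x, hx⟩
  by_cases hRT : R = T
  · subst hRT; exact htop
  haveI := finite_of_le hR.1
  haveI := finite_mulAut (G := R)
  have hRS : R ≤ S := hR.1.trans hinv.2.1.1
  set A := E.autGroup R with hA
  set B := (E'.autGroup R).subgroupOf A with hB
  obtain ⟨-, hfa, hrec⟩ := IsSaturated_fullyNormalized hT hE hR
  obtain ⟨-, U, hU⟩ := hfa
  have hAF : A ≤ F.autGroup R := fun a ha => by
    obtain ⟨g, hg, eg⟩ := (mem_autGroup_iff hR.1).mp ha
    obtain ⟨φ, hφ, e⟩ := hg.mor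
    have hm : Mor F R g := ⟨φ, hsub R hφ, e⟩
    exact (mem_autGroup_iff hRS).mpr ⟨g, hm.iso_of_card (fun x hx => hg.mapsTo hx) le_rfl, eg⟩
  haveI hBn : B.Normal := ⟨fun b hb a =>
    (weaklyNormal_autGroup_normal hinv hR.1).conj_mem ⟨(b : MulAut R), hAF b.2⟩ hb ⟨(a : MulAut R), hAF a.2⟩⟩
  have hUB : (U : Subgroup A) ≤ B := by
    rw [hU]
    exact Subgroup.comap_mono (autInducedBy_le_autGroup hR.1)
  have hN : Subgroup.normalizer ((U : Subgroup A) : Set A) ≤ B := by
    intro γ hγ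
    obtain ⟨g, hg, eg⟩ := (mem_autGroup_iff hR.1).mp γ.2
    have hnp : normalizerIn T R ≤ nphi T R g := by
      intro a ha
      have hαS : actHom T R ⟨a, ha⟩ ∈ autInducedBy T R := (range_actHom T R).le ⟨_, rfl⟩
      have hαU : (⟨actHom T R ⟨a, ha⟩, autInducedBy_le_autGroup hR.1 hαS⟩ : A) ∈ (U : Subgroup A) := by
        rw [hU]; exact hαS
      have hc := (Subgroup.mem_normalizer_iff.mp hγ _).mp hαU
      rw [hU] at hc
      obtain ⟨h, hh, -, eh⟩ := mem_autInducedBy.mp hc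
      refine ⟨ha.1, ha.2, h, hh, fun x hx => ?_⟩
      have e1 := eh ((γ : MulAut R) ⟨x, hx⟩)
      change (((γ : MulAut R) (actHom T R ⟨a, ha⟩ ((γ : MulAut R)⁻¹ ((γ : MulAut R) ⟨x, hx⟩))) : R) : Ω) = _ at e1
      rw [MulAut.inv_apply_self] at e1
      have hmem : cj a x ∈ R := (cj_mem_iff ha.2 x).mpr hx
      rw [show g x = _ from eg ⟨x, hx⟩, ← e1, show g (cj a x) = _ from eg ⟨cj a x, hmem⟩]
      rfl
    obtain ⟨f', hf', e'⟩ := (receptive_iff.mp hrec).2 R g hg
    haveI := finite_of_le (normalizerIn_le : normalizerIn T R ≤ T)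
    have hm' := hf'.restrict hnp
    have hE' := IH _ _ hm' (card_lt_of_lt (lt_normalizerIn hT (lt_of_le_of_ne hR.1 hRT)))
    exact (autGroup_set_eq (F := E') hR.1).mpr
      (mem_of_mor (hE'.restrict (le_normalizerIn hR.1)) fun x => ((e' x x.2).trans (eg x)).symm)
  intro a ha
  have htopB : (⊤ : Subgroup A) ≤ B := by
    rw [← Sylow.normalizer_sup_eq_top' U hUB]
    exact sup_le hN le_rfl
  exact htopB (Subgroup.mem_top (⟨a, ha⟩ : A))

variable {G : Type u} [Group G] [Finite G] {p : ℕ} [Fact p.Prime] (S : Sylow p G) {T : Subgroup G}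
  {E : FusionSystem T}

omit [Finite G] [Fact p.Prime] in
theorem cj_pow (g x : G) : ∀ n : ℕ, cj (g ^ n) x = (cj g)^[n] x
  | 0 => by simp
  | n + 1 => by rw [pow_succ', cj_mul, cj_pow g x n, Function.iterate_succ_apply']

/-- `Q ∩ T`. -/
def rR (p : ℕ) (T : Subgroup G) : Subgroup G := pCore p G ⊓ T

/-- Conjugation by `g` on a subgroup it normalizes, as a map of the group's system. -/
theorem iso_cj {X : Subgroup G} (hX : X ≤ (S : Subgroup G)) {g : G} (hg : ∀ x ∈ X, cj g x ∈ X) :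
    Iso (groupFusionSystem (S : Subgroup G)) (cj g) X X :=
  ((groupFusion_inducedBy _ _ _).mpr
    ⟨hX, fun x hx => hX (hg x hx), g, trivial, fun _ _ => rfl⟩).iso_of_card hg le_rfl

variable (hTS : T ≤ (S : Subgroup G)) (hE : E.IsNormalIn (groupFusionSystem (S : Subgroup G)) p)
include hTS hE

theorem cj_mem_T {g x : G} (hx : x ∈ T) (hgx : cj g x ∈ (S : Subgroup G)) : cj g x ∈ T := by
  have hX : Subgroup.zpowers x ≤ (S : Subgroup G) := (Subgroup.zpowers_le.mpr (hTS hx))
  have hm : Mor (groupFusionSystem (S : Subgroup G)) (Subgroup.zpowers x) (cj g) :=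
    (groupFusion_inducedBy _ _ _).mpr ⟨hX, fun y hy => by
      obtain ⟨i, rfl⟩ := Subgroup.mem_zpowers_iff.mp hy
      show cj g (x ^ i) ∈ _
      rw [cj_apply, ← conj_zpow]
      exact zpow_mem hgx i, g, trivial, fun _ _ => rfl⟩
  exact stronglyClosed_mem hE.1.2.2.2.1 hm (Subgroup.mem_zpowers x) hx

theorem T_normal_S {s x : G} (hs : s ∈ (S : Subgroup G)) (hx : x ∈ T) : cj s x ∈ T :=
  cj_mem_T S hTS hE hx (cj_mem hs (hTS hx))

theorem rR_normal : (rR p T).Normal := ⟨fun x hx g => by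
  have h1 : cj g x ∈ pCore p G := (inferInstance : (pCore p G).Normal).conj_mem x hx.1 g
  exact ⟨h1, cj_mem_T S hTS hE hx.2 (Core.pCore_le_sylow S h1)⟩⟩

omit [Finite G] [Fact p.Prime] hTS hE in
/-- Conjugation on `R`. -/
noncomputable def conjR (hR : (rR p T).Normal) : G →* MulAut (rR p T) := @MulAut.conjNormal G _ (rR p T) hR

omit [Finite G] [Fact p.Prime] hTS hE in
theorem conjR_apply (hR : (rR p T).Normal) (g : G) (x : rR p T) : ((conjR hR g x : rR p T) : G) = cj g x := rfl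

theorem conjR_mem (hR : (rR p T).Normal) (g : G) :
    conjR hR g ∈ (groupFusionSystem (S : Subgroup G)).autGroup (rR p T) :=
  (mem_autGroup_iff (inf_le_left.trans (Core.pCore_le_sylow S))).mpr
    ⟨cj g, iso_cj S (inf_le_left.trans (Core.pCore_le_sylow S)) fun x hx => hR.conj_mem x hx g,
      fun _ => rfl⟩

/-- The elements acting on `R` as `E` does and trivially on `Q/R`. -/
noncomputable def mM : Subgroup G where
  carrier := {g | conjR (rR_normal S hTS hE) g ∈ E.autGroup (rR p T) ∧ ∀ q ∈ pCore p G, q⁻¹ * cj g q ∈ rR p T}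
  one_mem' := ⟨by rw [map_one]; exact one_mem _, fun q _ => by rw [cj_one, inv_mul_cancel]; exact one_mem _⟩
  mul_mem' := by
    rintro a b ⟨ha, ha'⟩ ⟨hb, hb'⟩
    refine ⟨by rw [map_mul]; exact mul_mem ha hb, fun q hq => ?_⟩
    have hbq : cj b q ∈ pCore p G := (inferInstance : (pCore p G).Normal).conj_mem q hq b
    have h := mul_mem (hb' q hq) (ha' _ hbq)
    rwa [mul_assoc, mul_inv_cancel_left, ← cj_mul] at h
  inv_mem' := by
    rintro a ⟨ha, ha'⟩
    refine ⟨by rw [map_inv]; exact InvMemClass.inv_mem ha, fun q hq => ?_⟩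
    have hq' : cj a⁻¹ q ∈ pCore p G := (inferInstance : (pCore p G).Normal).conj_mem q hq a⁻¹
    have h := InvMemClass.inv_mem (ha' _ hq')
    rwa [cj_cancel_inv, mul_inv_rev, inv_inv] at h

theorem mem_mM {g : G} : g ∈ mM S hTS hE ↔ conjR (rR_normal S hTS hE) g ∈ E.autGroup (rR p T) ∧
    ∀ q ∈ pCore p G, q⁻¹ * cj g q ∈ rR p T := Iff.rfl

theorem mM_normal : (mM S hTS hE).Normal := ⟨fun a ha g => by
  have hR := rR_normal S hTS hE
  refine ⟨?_, fun q hq => ?_⟩
  · rw [map_mul, map_mul, map_inv]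
    exact (weaklyNormal_autGroup_normal hE.1.2.2 inf_le_right).conj_mem
      ⟨conjR hR a, conjR_mem S hTS hE hR a⟩ ha.1 ⟨conjR hR g, conjR_mem S hTS hE hR g⟩
  · have hq' : cj g⁻¹ q ∈ pCore p G := (inferInstance : (pCore p G).Normal).conj_mem q hq g⁻¹
    have h := hR.conj_mem _ (ha.2 _ hq') g
    rw [← cj_apply, cj_map_mul] at h
    rw [show g * a * g⁻¹ = g * (a * g⁻¹) from mul_assoc _ _ _, cj_mul, cj_mul]
    rwa [show cj g (cj g⁻¹ q)⁻¹ = q⁻¹ by simp [cj, mul_assoc]] at h⟩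

theorem T_le_mM : T ≤ mM S hTS hE := fun t ht => by
  have hR := rR_normal S hTS hE
  refine ⟨?_, fun q hq => ⟨(pCore p G).mul_mem ((pCore p G).inv_mem hq) ((inferInstance : (pCore p G).Normal).conj_mem q hq t), ?_⟩⟩
  · exact (mem_autGroup_iff (P := rR p T) inf_le_right).mpr ⟨cj t,
      (Mor.conj inf_le_right ht).iso_of_card (fun x hx => hR.conj_mem x hx t) le_rfl, fun _ => rfl⟩
  · have h := T.mul_mem (T_normal_S S hTS hE ((S : Subgroup G).inv_mem (Core.pCore_le_sylow S hq)) ht) (T.inv_mem ht)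
    simpa [cj, mul_assoc] using h

/-- The subgroup generated by `T` and the elements of `M` of order prime to `p`. -/
noncomputable def hH : Subgroup G :=
  Subgroup.closure ((T : Set G) ∪ {m | m ∈ mM S hTS hE ∧ (orderOf m).Coprime p})

theorem T_le_hH : T ≤ hH S hTS hE := fun _ hx => Subgroup.subset_closure (Or.inl hx)

theorem pprime_mem_hH {m : G} (hm : m ∈ mM S hTS hE) (ho : (orderOf m).Coprime p) : m ∈ hH S hTS hE :=
  Subgroup.subset_closure (Or.inr ⟨hm, ho⟩)

theorem hH_le_mM : hH S hTS hE ≤ mM S hTS hE := (Subgroup.closure_le _).mpr fun x hx =>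
  hx.elim (fun h => T_le_mM S hTS hE h) fun h => h.1

/-- Every automorphism of `T` in `E` is induced by `H`. -/
theorem exists_liftT {β : MulAut T} (hβ : β ∈ E.autGroup T) :
    ∃ m ∈ hH S hTS hE, ∀ x : T, ((β x : T) : G) = cj m x := by
  set F := groupFusionSystem (S : Subgroup G) with hFdef
  haveI : (rR p T).Normal := rR_normal S hTS hE
  haveI := finite_mulAut (G := T)
  have hTp : IsPGroup p T := S.isPGroup'.to_le hTS
  let B : Subgroup (E.autGroup T) :=
    { carrier := {b | ∃ m ∈ hH S hTS hE, ∀ x : T, (((b : MulAut T) x : T) : G) = cj m x}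
      one_mem' := ⟨1, one_mem _, fun x => (cj_one _).symm⟩
      mul_mem' := by
        rintro a b ⟨m, hm, em⟩ ⟨n, hn, en⟩
        exact ⟨m * n, mul_mem hm hn, fun x => by
          rw [Subgroup.coe_mul, MulAut.mul_apply, em, en, ← cj_mul]⟩
      inv_mem' := by
        rintro a ⟨m, hm, em⟩
        refine ⟨m⁻¹, InvMemClass.inv_mem hm, fun x => ?_⟩
        have h := em ((a : MulAut T)⁻¹ x)
        rw [MulAut.apply_inv_self] at h
        rw [h, cj_inv_cancel]
        rfl }
  suffices hB : B = ⊤ by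
    have := hB.ge (Subgroup.mem_top ⟨β, hβ⟩)
    exact this
  refine top_le_iff.mp ((autGroup_generated hTp hE.1.1 (fullyNormalized_self (F := E))).ge.trans
    (sup_le ?_ ?_))
  swap
  · intro b hb
    obtain ⟨t, ht, -, et⟩ := mem_autInducedBy.mp (show (b : MulAut T) ∈ autInducedBy T T from hb)
    exact ⟨t, T_le_hH S hTS hE ht, et⟩
  refine (Subgroup.closure_le _).mpr fun b hb => ?_
  -- an element of order prime to `p`
  obtain ⟨γ, hγ, eγ, eγC⟩ := hE.2 b b.2
  set C := centralizerIn (S : Subgroup G) T with hC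
  have hTC : T ⊔ C ≤ (S : Subgroup G) := sup_le hTS centralizerIn_le
  obtain ⟨f, hf, ef⟩ := (mem_autGroup_iff hTC).mp hγ
  obtain ⟨-, -, g₀, -, eg₀⟩ := (groupFusion_inducedBy _ _ _).mp hf.mor
  set k := orderOf b with hk
  have hcop : k.Coprime p := hb
  obtain ⟨n, l, hn1, hl, hn2⟩ := exists_pprime_exponent (Fact.out : p.Prime) hcop (orderOf_pos g₀).ne'
  set g := g₀ ^ n with hg
  have hgl : g ^ l = 1 := by rw [hg, ← pow_mul]; exact orderOf_dvd_iff_pow_eq_one.mp hn2
  have hgo : (orderOf g).Coprime p := hl.coprime_dvd_left (orderOf_dvd_of_pow_eq_one hgl)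
  have hg₀T : ∀ x : T, cj g₀ x = (((b : MulAut T) x : T) : G) := fun x => by
    rw [← eγ x, ← ef, ← eg₀ _ (Subgroup.mem_sup_left x.2)]; rfl
  have hg₀C : ∀ c ∈ C, c⁻¹ * cj g₀ c ∈ T ⊓ Subgroup.centralizer (T : Set G) := fun c hc => by
    have h := eγC ⟨c, Subgroup.mem_sup_right hc⟩ hc
    rwa [← ef, show f ((⟨c, Subgroup.mem_sup_right hc⟩ : ↥(T ⊔ C)) : G) = cj g₀ c from
      eg₀ c (Subgroup.mem_sup_right hc)] at h
  have hpowT : ∀ (j : ℕ) (x : T), cj (g₀ ^ j) x = ((((b : MulAut T) ^ j) x : T) : G) := by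
    intro j
    induction j with
    | zero => intro x; simp
    | succ j ih => intro x; rw [pow_succ', cj_mul, ih, hg₀T, pow_succ', MulAut.mul_apply]
  have hgT : ∀ x : T, (((b : MulAut T) x : T) : G) = cj g x := fun x => by
    rw [hg, hpowT, ← Subgroup.coe_pow]
    have hbn : b ^ n = b := by
      conv_rhs => rw [← pow_one b]
      exact pow_eq_pow_iff_modEq.mpr hn1
    rw [hbn]
  have hgTm : ∀ x ∈ T, cj g x ∈ T := fun x hx => by rw [← hgT ⟨x, hx⟩]; exact SetLike.coe_mem _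
  have hgC : ∀ c ∈ C, c⁻¹ * cj g c ∈ T := by
    have key : ∀ (j : ℕ), ∀ c ∈ C, c⁻¹ * cj (g₀ ^ j) c ∈ T ⊓ Subgroup.centralizer (T : Set G) := by
      intro j
      induction j with
      | zero => intro c _; rw [pow_zero, cj_one, inv_mul_cancel]; exact one_mem _
      | succ j ih =>
        intro c hc
        rw [pow_succ, cj_mul]
        set d := c⁻¹ * cj g₀ c with hd
        have hd' := hg₀C c hc
        have hdC : d ∈ C := ⟨hTS hd'.1, hd'.2⟩
        have hcd : cj g₀ c = c * d := by rw [hd, mul_inv_cancel_left]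
        rw [hcd, cj_map_mul, ← mul_assoc]
        have h1 : cj (g₀ ^ j) d ∈ T ⊓ Subgroup.centralizer (T : Set G) := by
          have := mul_mem hd' (ih d hdC)
          rwa [mul_inv_cancel_left] at this
        exact mul_mem (ih c hc) h1
    exact fun c hc => (key n c hc).1
  refine ⟨g, pprime_mem_hH S hTS hE ⟨?_, ?_⟩ hgo, hgT⟩
  · -- the action on `R` lies in `E`
    have hR := rR_normal S hTS hE
    obtain ⟨fb, hfb, efb⟩ := (mem_autGroup_iff le_rfl).mp b.2
    have hm : Mor E (rR p T) (cj g) := (hfb.mor.restrict inf_le_right).congr fun x hx =>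
      (efb ⟨x, hx.2⟩).trans (hgT ⟨x, hx.2⟩)
    exact (mem_autGroup_iff (P := rR p T) inf_le_right).mpr ⟨cj g, hm.iso_of_card (fun x hx => hR.conj_mem x hx g) le_rfl,
      fun _ => rfl⟩
  · -- the action on `Q/R`
    intro q hq
    have hQS : pCore p G ≤ (S : Subgroup G) := Core.pCore_le_sylow S
    have hQn : (pCore p G).Normal := inferInstance
    set y := q⁻¹ * cj g q with hy
    have hyQ : y ∈ pCore p G := mul_mem (InvMemClass.inv_mem hq) (hQn.conj_mem q hq g)
    -- `y` acts on `T` as an element of `T`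
    have hiy : Iso F (cj y) T T := iso_cj S hTS fun x hx => T_normal_S S hTS hE (hQS hyQ) hx
    have hiq : Iso F (cj q⁻¹) T T := iso_cj S hTS fun x hx => T_normal_S S hTS hE ((S : Subgroup G).inv_mem (hQS hq)) hx
    have hyE : (hiy.equiv : MulAut T) ∈ E.autGroup T := by
      have hbF : (b : MulAut T) ∈ F.autGroup T :=
        (mem_autGroup_iff hTS).mpr ⟨cj g, iso_cj S hTS hgTm, fun x => (hgT x).symm⟩
      have hn := (weaklyNormal_autGroup_normal hE.1.2.2 (le_refl T)).conj_mem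
        ⟨(b : MulAut T), hbF⟩ b.2 ⟨hiq.equiv, hiq.equiv_mem_autGroup⟩
      have h2 := mul_mem (show (hiq.equiv : MulAut T) * (b : MulAut T) * (hiq.equiv : MulAut T)⁻¹ ∈ E.autGroup T from hn)
        (InvMemClass.inv_mem b.2)
      have e : (hiy.equiv : MulAut T) =
          (hiq.equiv : MulAut T) * (b : MulAut T) * (hiq.equiv : MulAut T)⁻¹ * (b : MulAut T)⁻¹ := by
        rw [eq_mul_inv_iff_mul_eq, eq_mul_inv_iff_mul_eq]
        refine MulEquiv.ext fun x => Subtype.ext ?_
        show cj y (((b : MulAut T) ((hiq.equiv : MulAut T) x) : T) : G) = cj q⁻¹ (((b : MulAut T) x : T) : G)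
        rw [hgT, hgT, show (((hiq.equiv : MulAut T) x : T) : G) = cj q⁻¹ x from rfl, ← cj_mul, ← cj_mul, ← cj_mul]
        congr 1
        rw [hy, cj_apply]; group
      exact e ▸ h2
    obtain ⟨e', hye⟩ : ∃ j, (⟨hiy.equiv, hyE⟩ : E.autGroup T) ^ p ^ j = 1 := by
      obtain ⟨j, hj⟩ := (S.isPGroup'.to_le hQS : IsPGroup p (pCore p G)) ⟨y, hyQ⟩
      refine ⟨j, Subtype.ext (MulEquiv.ext fun x => Subtype.ext ?_)⟩
      have hj' : y ^ p ^ j = 1 := by simpa using congrArg Subtype.val hj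
      rw [Subgroup.coe_pow, equiv_pow_apply hiy, ← cj_pow, hj', cj_one]
      rfl
    obtain ⟨-, W, hW⟩ := (IsSaturated_fullyNormalized hTp hE.1.1 (fullyNormalized_self (F := E))).2.1
    haveI hWn : ((autInducedBy T T).subgroupOf (E.autGroup T)).Normal :=
      inn_eq_autInducedBy T ▸ inn_normal_autGroup E T
    have hyW : (⟨hiy.equiv, hyE⟩ : E.autGroup T) ∈ (W : Subgroup (E.autGroup T)) := by
      haveI : (W : Subgroup (E.autGroup T)).Normal := hW ▸ hWn
      have hz : IsPGroup p (Subgroup.zpowers (⟨hiy.equiv, hyE⟩ : E.autGroup T)) := by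
        obtain ⟨i, -, hi⟩ := (Nat.dvd_prime_pow (Fact.out : p.Prime)).mp (orderOf_dvd_of_pow_eq_one hye)
        exact IsPGroup.of_card (n := i) (by rw [Nat.card_zpowers, hi])
      have hz' : IsPGroup p ((Subgroup.zpowers (⟨hiy.equiv, hyE⟩ : E.autGroup T)) ⊔ (W : Subgroup (E.autGroup T)) : Subgroup _) :=
        hz.to_sup_of_normal_right W.isPGroup'
      exact (W.3 hz' le_sup_right).le (Subgroup.mem_sup_left (Subgroup.mem_zpowers _))
    rw [hW] at hyW
    obtain ⟨t, ht, -, et⟩ := mem_autInducedBy.mp (show (hiy.equiv : MulAut T) ∈ autInducedBy T T from hyW)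
    have hyTC : y ∈ T ⊔ C := by
      have h1 : t⁻¹ * y ∈ C := ⟨mul_mem ((S : Subgroup G).inv_mem (hTS ht)) (hQS hyQ), fun x hx => by
        have h2 : cj (t⁻¹ * y) x = x := by
          rw [cj_mul, show cj y x = cj t x from et ⟨x, hx⟩, cj_inv_cancel]
        exact (mul_inv_eq_iff_eq_mul.mp h2).symm⟩
      have := mul_mem (Subgroup.mem_sup_left ht) (Subgroup.mem_sup_right h1 : t⁻¹ * y ∈ T ⊔ C)
      rwa [mul_inv_cancel_left] at this
    -- `g` is trivial on `(Q ∩ T C)/R`
    have hX : ∀ w ∈ pCore p G, w ∈ T ⊔ C → w⁻¹ * cj g w ∈ rR p T := by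
      intro w hw hwTC
      refine ⟨(pCore p G).mul_mem ((pCore p G).inv_mem hw) (hQn.conj_mem w hw g), ?_⟩
      have hCT : C ≤ Subgroup.normalizer (T : Set G) :=
        centralizerIn_le_normalizerIn.trans inf_le_right
      have h1 : w ∈ ((T ⊔ C : Subgroup G) : Set G) := hwTC
      rw [Subgroup.coe_mul_of_right_le_normalizer_left T C hCT] at h1
      obtain ⟨t', ht', c, hc, rfl⟩ := h1
      have h2 : cj c⁻¹ (t'⁻¹ * cj g t') ∈ T :=
        T_normal_S S hTS hE ((S : Subgroup G).inv_mem hc.1) (mul_mem (InvMemClass.inv_mem ht') (hgTm t' ht'))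
      have e : (t' * c)⁻¹ * cj g (t' * c) = cj c⁻¹ (t'⁻¹ * cj g t') * (c⁻¹ * cj g c) := by
        simp only [cj_apply]; group
      rw [e]
      exact mul_mem h2 (hgC c hc)
    let π := QuotientGroup.mk' (rR p T)
    have hπy : Commute (π g) (π y) := by
      have h := hX y hyQ hyTC
      have h1 : π (y⁻¹ * cj g y) = 1 := (QuotientGroup.eq_one_iff _).mpr h
      rw [map_mul, map_inv, inv_mul_eq_one, cj_apply, map_mul, map_mul, map_inv] at h1
      exact (eq_mul_inv_iff_mul_eq.mp h1).symm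
    have hgq : π g * π q * (π g)⁻¹ = π q * π y := by
      rw [← map_inv, ← map_mul, ← map_mul, ← map_mul, hy, cj_apply, mul_inv_cancel_left]
    have hpow : ∀ j : ℕ, π g ^ j * π q * (π g ^ j)⁻¹ = π q * π y ^ j := by
      intro j
      induction j with
      | zero => simp
      | succ j ih =>
        calc π g ^ (j + 1) * π q * (π g ^ (j + 1))⁻¹ = π g * (π g ^ j * π q * (π g ^ j)⁻¹) * (π g)⁻¹ := by
              rw [pow_succ']; group
          _ = (π g * π q * (π g)⁻¹) * (π g * π y ^ j * (π g)⁻¹) := by rw [ih]; group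
          _ = π q * π y * π y ^ j := by rw [hgq, (hπy.pow_right j).eq, mul_inv_cancel_right]
          _ = _ := by rw [pow_succ', mul_assoc]
    have hyl : π y ^ l = 1 := by
      have h := hpow l
      rw [← map_pow π g, hgl, map_one, one_mul, inv_one, mul_one] at h
      exact left_eq_mul.mp h
    obtain ⟨j, hj⟩ := (S.isPGroup'.to_le hQS : IsPGroup p (pCore p G)) ⟨y, hyQ⟩
    have hyj : π y ^ p ^ j = 1 := by
      rw [← map_pow, show y ^ p ^ j = 1 by simpa using congrArg Subtype.val hj, map_one]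
    have h1 : π y = 1 := orderOf_eq_one_iff.mp (Nat.eq_one_of_dvd_coprimes (hl.pow_right j)
      (orderOf_dvd_of_pow_eq_one hyl) (orderOf_dvd_of_pow_eq_one hyj))
    exact (QuotientGroup.eq_one_iff y).mp h1

/-- An element normalizing `T` acting on `R` as `E` does extends in `E` to `T`. -/
theorem exists_extension {h : G} (hh : conjR (rR_normal S hTS hE) h ∈ E.autGroup (rR p T))
    (hnorm : ∀ a ∈ T, ∃ a' ∈ T, ∀ x ∈ rR p T, cj h (cj a x) = cj a' (cj h x)) :
    ∃ h' ∈ hH S hTS hE, ∀ x ∈ rR p T, cj h' x = cj h x := by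
  have hTp : IsPGroup p T := S.isPGroup'.to_le hTS
  have hR := rR_normal S hTS hE
  obtain ⟨f, hf, ef⟩ := (mem_autGroup_iff (P := rR p T) inf_le_right).mp hh
  have hRfn : E.IsFullyNormalized (rR p T) := ⟨inf_le_right, fun Q hQ => by
    haveI := finite_of_le (normalizerIn_le : normalizerIn T (rR p T) ≤ T)
    refine card_le_of_le (normalizerIn_le.trans fun x hx => ⟨hx, ?_⟩)
    exact Subgroup.mem_normalizer_iff.mpr fun y => ⟨fun hy => hR.conj_mem y hy x, fun hy => by
      have := hR.conj_mem _ hy x⁻¹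
      simpa [mul_assoc] using this⟩⟩
  obtain ⟨-, -, hrec⟩ := IsSaturated_fullyNormalized hTp hE.1.1 hRfn
  have hnp : nphi T (rR p T) f = T := by
    refine le_antisymm (fun a ha => ha.1) fun a ha => ?_
    obtain ⟨a', ha', e⟩ := hnorm a ha
    refine ⟨ha, ?_, a', ha', fun x hx => ?_⟩
    · exact Subgroup.mem_normalizer_iff.mpr fun y => ⟨fun hy => hR.conj_mem y hy a, fun hy => by
        have := hR.conj_mem _ hy a⁻¹
        simpa [mul_assoc] using this⟩
    · have hax : cj a x ∈ rR p T := hR.conj_mem x hx a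
      rw [show f (cj a x) = cj h (cj a x) from ef ⟨_, hax⟩, show f x = cj h x from ef ⟨x, hx⟩]
      exact e x hx
  obtain ⟨g, hg, eg⟩ := (receptive_iff.mp hrec).2 _ f hf
  rw [hnp] at hg
  have hgi : Iso E g T T := hg.iso_of_card (fun x hx => hg.map_mem hx) le_rfl
  obtain ⟨m, hm, em⟩ := exists_liftT S hTS hE hgi.equiv_mem_autGroup
  refine ⟨m, hm, fun x hx => ?_⟩
  rw [← em ⟨x, hx.2⟩]
  show g x = _
  rw [eg x hx]
  exact ef ⟨x, hx⟩

theorem hH_normal : (hH S hTS hE).Normal := by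
  haveI hMn := mM_normal S hTS hE
  set M := mM S hTS hE with hMdef
  set H := hH S hTS hE with hHdef
  have hgen : ∀ g : G, (∀ t ∈ T, cj g t ∈ H) → ∀ h ∈ H, cj g h ∈ H := by
    intro g hg h hh
    have hle : H ≤ H.comap (MulAut.conj g).toMonoidHom := (Subgroup.closure_le _).mpr fun x hx =>
      hx.elim (fun h => hg x h) fun h => pprime_mem_hH S hTS hE (hMn.conj_mem x h.1 g) (by
        show (orderOf (MulAut.conj g x)).Coprime p
        rw [MulEquiv.orderOf_eq]; exact h.2)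
    exact hle hh
  -- `M` normalizes `H`
  let N : Subgroup M :=
    { carrier := {l | ∀ h ∈ H, cj (l : G) h ∈ H ∧ cj (l : G)⁻¹ h ∈ H}
      one_mem' := fun h hh => by simpa using hh
      mul_mem' := fun {a b} ha hb h hh => by
        refine ⟨?_, ?_⟩
        · rw [Subgroup.coe_mul, cj_mul]; exact (ha _ (hb h hh).1).1
        · rw [Subgroup.coe_mul, mul_inv_rev, cj_mul]; exact (hb _ (ha h hh).2).2
      inv_mem' := fun {a} ha h hh => by
        rw [Subgroup.coe_inv, inv_inv]; exact ⟨(ha h hh).2, (ha h hh).1⟩ }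
  have hN : N = ⊤ := by
    refine eq_top_of_pResidual_le (p := p) ((Subgroup.closure_le _).mpr fun m hm h hh => ?_) fun hd => ?_
    · have hmH : (m : G) ∈ H := pprime_mem_hH S hTS hE m.2 (by rwa [Subgroup.orderOf_coe])
      exact ⟨cj_mem hmH hh, cj_mem (H.inv_mem hmH) hh⟩
    · have hd' : p ∣ (((S : Subgroup G) ⊓ M).subgroupOf M).index :=
        hd.trans (Subgroup.index_dvd_of_le fun x (hx : (x : G) ∈ (S : Subgroup G) ⊓ M) h hh =>
          ⟨hgen _ (fun t ht => T_le_hH S hTS hE (T_normal_S S hTS hE hx.1 ht)) h hh,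
            hgen _ (fun t ht => T_le_hH S hTS hE (T_normal_S S hTS hE (InvMemClass.inv_mem hx.1) ht)) h hh⟩)
      exact inf_sylow_not_dvd S M hd'
  refine ⟨fun h hh g => hgen g (fun t ht => ?_) h hh⟩
  -- a conjugate of `T` comes back into `T` by an element of `M`
  obtain ⟨l, hl, hlS⟩ := exists_conj_le_of_sylow (A := (S : Subgroup G) ⊓ M) (L := M) inf_le_right
    (S.isPGroup'.to_le inf_le_left) (inf_sylow_not_dvd S M) (R := T.map (MulAut.conj g).toMonoidHom)
    (by rintro _ ⟨x, hx, rfl⟩; exact hMn.conj_mem x (T_le_mM S hTS hE hx) g)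
    ((S.isPGroup'.to_le hTS).map _)
  have h1 : cj (l * g) t ∈ T := cj_mem_T S hTS hE ht (by rw [cj_mul]; exact (hlS _ ⟨t, ht, rfl⟩).1)
  have h2 := ((hN.ge (Subgroup.mem_top (⟨l, hl⟩ : M)) : (⟨l, hl⟩ : M) ∈ N) _ (T_le_hH S hTS hE h1)).2
  rwa [cj_mul, cj_inv_cancel] at h2

/-- Every automorphism of `R` in `E` is induced by `H`. -/
theorem exists_lift {α : MulAut (rR p T)} (hα : α ∈ E.autGroup (rR p T)) :
    ∃ m ∈ hH S hTS hE, conjR (rR_normal S hTS hE) m = α := by
  have hR := rR_normal S hTS hE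
  haveI := finite_of_le (inf_le_right : rR p T ≤ T)
  haveI := finite_mulAut (G := rR p T)
  have hTp : IsPGroup p T := S.isPGroup'.to_le hTS
  set A := E.autGroup (rR p T) with hA
  let B : Subgroup A := ((hH S hTS hE).map (conjR hR)).subgroupOf A
  have hconj : ∀ a ∈ A, ∃ g : G, conjR hR g = a := by
    intro a ha
    obtain ⟨f, hf, ef⟩ := (mem_autGroup_iff (P := rR p T) inf_le_right).mp ha
    obtain ⟨φ, hφ, eφ⟩ := hf.mor
    obtain ⟨-, -, g, hg⟩ := hE.1.2.2.1 _ hφ
    refine ⟨g, MulEquiv.ext fun x => Subtype.ext ?_⟩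
    rw [conjR_apply, ← ef, ← eφ, hg x]
    rfl
  haveI hBn : B.Normal := ⟨fun b hb a => by
    obtain ⟨h, hh, e⟩ := (show (b : MulAut (rR p T)) ∈ (hH S hTS hE).map (conjR hR) from hb)
    obtain ⟨g, hg⟩ := hconj a a.2
    refine ⟨g * h * g⁻¹, (hH_normal S hTS hE).conj_mem h hh g, ?_⟩
    rw [map_mul, map_mul, map_inv, e, hg]
    rfl⟩
  have hRfn : E.IsFullyNormalized (rR p T) := ⟨inf_le_right, fun Q hQ => by
    haveI := finite_of_le (normalizerIn_le : normalizerIn T (rR p T) ≤ T)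
    refine card_le_of_le (normalizerIn_le.trans fun x hx => ⟨hx, ?_⟩)
    exact Subgroup.mem_normalizer_iff.mpr fun y => ⟨fun hy => hR.conj_mem y hy x, fun hy => by
      have := hR.conj_mem _ hy x⁻¹
      simpa [mul_assoc] using this⟩⟩
  obtain ⟨-, ⟨-, U, hU⟩, -⟩ := IsSaturated_fullyNormalized hTp hE.1.1 hRfn
  have hUB : (U : Subgroup A) ≤ B := by
    rw [hU]
    intro a ha
    obtain ⟨t, ht, -, et⟩ := mem_autInducedBy.mp (show (a : MulAut (rR p T)) ∈ autInducedBy T (rR p T) from ha)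
    exact ⟨t, T_le_hH S hTS hE ht, MulEquiv.ext fun x => Subtype.ext (et x).symm⟩
  have hN : Subgroup.normalizer ((U : Subgroup A) : Set A) ≤ B := by
    intro γ hγ
    obtain ⟨g, hg⟩ := hconj γ γ.2
    obtain ⟨h', hh', e'⟩ := exists_extension S hTS hE (h := g) (hg.symm ▸ γ.2) fun a ha => by
      have hαS : conjR hR a ∈ autInducedBy T (rR p T) := mem_autInducedBy.mpr ⟨a, ha,
        Subgroup.mem_normalizer_iff.mpr fun y => ⟨fun hy => hR.conj_mem y hy a, fun hy => by
          have := hR.conj_mem _ hy a⁻¹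
          simpa [mul_assoc] using this⟩, fun _ => rfl⟩
      have hαU : (⟨conjR hR a, autInducedBy_le_autGroup inf_le_right hαS⟩ : A) ∈ (U : Subgroup A) := by
        rw [hU]; exact hαS
      have hc := (Subgroup.mem_normalizer_iff.mp hγ _).mp hαU
      rw [hU] at hc
      obtain ⟨a', ha', -, ea⟩ := mem_autInducedBy.mp
        (show (γ : MulAut (rR p T)) * conjR hR a * (γ : MulAut (rR p T))⁻¹ ∈ autInducedBy T (rR p T) from hc)
      refine ⟨a', ha', fun x hx => ?_⟩
      have e1 := ea (conjR hR g ⟨x, hx⟩)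
      rw [← hg, ← map_inv, ← map_mul, ← map_mul, conjR_apply, conjR_apply, ← cj_mul,
        show g * a * g⁻¹ * g = g * a by group, cj_mul] at e1
      exact e1
    exact ⟨h', hh', Eq.trans (b := conjR hR g) (MulEquiv.ext fun x => Subtype.ext (e' x x.2)) hg⟩
  have htop : (⊤ : Subgroup A) ≤ B := by
    rw [← Sylow.normalizer_sup_eq_top' U hUB]
    exact sup_le hN le_rfl
  obtain ⟨m, hm, e⟩ := htop (Subgroup.mem_top (⟨α, hα⟩ : A))
  exact ⟨m, hm, e⟩

/-- An element of `M` fixing `R` lies in `Q`. -/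
theorem mem_pCore_of_fix (hG : Subgroup.centralizer ((pCore p G : Subgroup G) : Set G) ≤ pCore p G) {g : G}
    (hg : g ∈ mM S hTS hE) (hfix : ∀ x ∈ rR p T, cj g x = x) : g ∈ pCore p G := by
  have hR := rR_normal S hTS hE
  haveI := hR
  let K : Subgroup G :=
    { carrier := {g | g ∈ mM S hTS hE ∧ ∀ x ∈ rR p T, cj g x = x}
      one_mem' := ⟨one_mem _, fun x _ => cj_one x⟩
      mul_mem' := fun {a b} ha hb => ⟨mul_mem ha.1 hb.1, fun x hx => by rw [cj_mul, hb.2 x hx, ha.2 x hx]⟩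
      inv_mem' := fun {a} ha => ⟨InvMemClass.inv_mem ha.1, fun x hx => by
        conv_lhs => rw [← ha.2 x hx, cj_inv_cancel]⟩ }
  have hKn : K.Normal := ⟨fun a ha b => ⟨(mM_normal S hTS hE).conj_mem a ha.1 b, fun x hx => by
    have hx' : cj b⁻¹ x ∈ rR p T := hR.conj_mem x hx b⁻¹
    rw [mul_assoc, cj_mul, cj_mul, ha.2 _ hx', cj_cancel_inv]⟩⟩
  refine Core.le_pCore hKn ?_ (show g ∈ K from ⟨hg, hfix⟩)
  intro k
  have hQp : IsPGroup p (pCore p G) := Core.isPGroup_pCore p G
  let α : MulAut (pCore p G) := MulAut.conjNormal (k : G)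
  let D : ℕ → Subgroup (pCore p G) := fun j =>
    if j = 0 then ⊥ else if j = 1 then (rR p T).subgroupOf (pCore p G) else ⊤
  obtain ⟨a, ha⟩ := stabilizes_pow_eq_one hQp α D 2 (by simp [D]) (by simp [D])
    (by intro j hj; interval_cases j <;> simp [D]) (by
    intro j hj x hx
    interval_cases j
    · show _ ∈ D 0
      have hxR : (x : G) ∈ rR p T := hx
      have : α x = x := Subtype.ext (k.2.2 _ hxR)
      simp [D, this]
    · show _ ∈ (rR p T).subgroupOf (pCore p G)
      exact k.2.1.2 _ x.2)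
  have hc : (k : G) ^ p ^ a ∈ pCore p G := hG fun x hx => by
    have h := congrArg Subtype.val (DFunLike.congr_fun ha ⟨x, hx⟩)
    have h2 : ((α ^ p ^ a) ⟨x, hx⟩ : pCore p G) = (MulAut.conjNormal ((k : G) ^ p ^ a)) ⟨x, hx⟩ := by
      rw [map_pow]
    rw [h2] at h
    exact (mul_inv_eq_iff_eq_mul.mp h).symm
  obtain ⟨b, hb⟩ := hQp ⟨_, hc⟩
  refine ⟨a + b, Subtype.ext ?_⟩
  have hb' : ((k : G) ^ p ^ a) ^ p ^ b = 1 := by simpa using congrArg Subtype.val hb
  rw [← pow_mul, ← pow_add] at hb'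
  simpa using hb'

/-- An element of `S ∩ M` is an element of `T` times one fixing `R`. -/
theorem exists_T_mul {x : G} (hxS : x ∈ (S : Subgroup G)) (hxM : x ∈ mM S hTS hE) :
    ∃ t ∈ T, ∀ w ∈ rR p T, cj (t⁻¹ * x) w = w := by
  have hR := rR_normal S hTS hE
  haveI := finite_of_le (inf_le_right : rR p T ≤ T)
  haveI := finite_mulAut (G := rR p T)
  have hTp : IsPGroup p T := S.isPGroup'.to_le hTS
  have hRfn : E.IsFullyNormalized (rR p T) := ⟨inf_le_right, fun Q hQ => by
    haveI := finite_of_le (normalizerIn_le : normalizerIn T (rR p T) ≤ T)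
    refine card_le_of_le (normalizerIn_le.trans fun x hx => ⟨hx, ?_⟩)
    exact Subgroup.mem_normalizer_iff.mpr fun y => ⟨fun hy => hR.conj_mem y hy x, fun hy => by
      have := hR.conj_mem _ hy x⁻¹
      simpa [mul_assoc] using this⟩⟩
  obtain ⟨-, ⟨-, U, hU⟩, -⟩ := IsSaturated_fullyNormalized hTp hE.1.1 hRfn
  let V : Subgroup (E.autGroup (rR p T)) :=
    (((S : Subgroup G) ⊓ mM S hTS hE).map (conjR hR)).subgroupOf _
  have hV : IsPGroup p V := ((S.isPGroup'.to_le inf_le_left).map _).comap_subtype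
  have hUV : (U : Subgroup (E.autGroup (rR p T))) ≤ V := by
    rw [hU]
    intro a ha
    obtain ⟨t, ht, -, et⟩ := mem_autInducedBy.mp (show (a : MulAut (rR p T)) ∈ autInducedBy T (rR p T) from ha)
    exact ⟨t, ⟨hTS ht, T_le_mM S hTS hE ht⟩, MulEquiv.ext fun x => Subtype.ext (et x).symm⟩
  have hxV : (⟨conjR hR x, hxM.1⟩ : E.autGroup (rR p T)) ∈ V := ⟨x, ⟨hxS, hxM⟩, rfl⟩
  rw [U.3 hV hUV, hU] at hxV
  obtain ⟨t, ht, -, et⟩ := mem_autInducedBy.mp (show conjR hR x ∈ autInducedBy T (rR p T) from hxV)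
  refine ⟨t, ht, fun w hw => ?_⟩
  have h : cj x w = cj t w := et ⟨w, hw⟩
  rw [cj_mul, h, cj_inv_cancel]

/-- `H ∩ S = T`. -/
theorem hH_inf (hG : Subgroup.centralizer ((pCore p G : Subgroup G) : Set G) ≤ pCore p G) :
    (S : Subgroup G) ⊓ hH S hTS hE = T := by
  haveI hMn := mM_normal S hTS hE
  refine le_antisymm ?_ (le_inf hTS (T_le_hH S hTS hE))
  set M := mM S hTS hE with hMdef
  let S₀ : Sylow p M := ((S.isPGroup'.to_le (inf_le_left : (S : Subgroup G) ⊓ M ≤ S)).comap_subtype).toSylow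
    (inf_sylow_not_dvd S M)
  have hS₀ : (S₀ : Subgroup M) = ((S : Subgroup G) ⊓ M).subgroupOf M := IsPGroup.toSylow_coe _ _
  -- the hyperfocal subgroup of `M` lies in `T`
  have hhyp : (S₀ : Subgroup M) ⊓ pResidual p M ≤ T.subgroupOf M := by
    rw [← hyperfocal_group S₀]
    refine hyperfocal_le_of fun P f k hf hk hfk x hx => ?_
    obtain ⟨hP, hfS, g, -, eg⟩ := (groupFusion_inducedBy _ _ _).mp hf.mor
    have hxS : (x : G) ∈ (S : Subgroup G) := (hS₀.le (hP hx)).1
    have hgxS : cj (g : G) (x : G) ∈ (S : Subgroup G) := by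
      have h := (hS₀.le (hfS x hx)).1
      rw [eg x hx] at h
      exact h
    obtain ⟨t, ht, htfix⟩ := exists_T_mul S hTS hE hxS x.2
    set w := t⁻¹ * (x : G) with hw
    have hwM : w ∈ M := mul_mem (InvMemClass.inv_mem (T_le_mM S hTS hE ht)) x.2
    have hwQ : w ∈ pCore p G := mem_pCore_of_fix S hTS hE hG hwM htfix
    have hr : w⁻¹ * cj (g : G) w ∈ rR p T := g.2.2 w hwQ
    have hgwS : cj (g : G) w ∈ (S : Subgroup G) :=
      Core.pCore_le_sylow S ((inferInstance : (pCore p G).Normal).conj_mem w hwQ g)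
    have hxtw : (x : G) = t * w := by rw [hw, mul_inv_cancel_left]
    have hgt : cj (g : G) t ∈ (S : Subgroup G) := by
      rw [hxtw, cj_map_mul] at hgxS
      have h := mul_mem hgxS (InvMemClass.inv_mem hgwS)
      rwa [mul_inv_cancel_right] at h
    have hgt' : cj (g : G) t ∈ T := cj_mem_T S hTS hE ht hgt
    have hwS : w ∈ (S : Subgroup G) := Core.pCore_le_sylow S hwQ
    show ((x⁻¹ * f x : M) : G) ∈ T
    rw [eg x hx]
    show (x : G)⁻¹ * cj (g : G) (x : G) ∈ T
    rw [hxtw, cj_map_mul]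
    have h1 : cj w⁻¹ (t⁻¹ * cj (g : G) t) ∈ T :=
      T_normal_S S hTS hE ((S : Subgroup G).inv_mem hwS) (mul_mem (InvMemClass.inv_mem ht) hgt')
    have e : (t * w)⁻¹ * (cj (g : G) t * cj (g : G) w) = cj w⁻¹ (t⁻¹ * cj (g : G) t) * (w⁻¹ * cj (g : G) w) := by
      simp only [cj_apply]; group
    rw [e]
    exact mul_mem h1 hr.2
  haveI := pResidual_isNormal p M
  intro x hx
  have hle : hH S hTS hE ≤ (T.subgroupOf M ⊔ pResidual p M).map M.subtype := by
    refine (Subgroup.closure_le _).mpr fun y hy => hy.elim (fun hy => ?_) fun hy => ?_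
    · exact ⟨⟨y, T_le_mM S hTS hE hy⟩, Subgroup.mem_sup_left hy, rfl⟩
    · exact ⟨⟨y, hy.1⟩, Subgroup.mem_sup_right (Subgroup.subset_closure
        (show (orderOf (⟨y, hy.1⟩ : M)).Coprime p by rw [Subgroup.orderOf_mk]; exact hy.2)), rfl⟩
  obtain ⟨x', hx', rfl⟩ := hle hx.2
  obtain ⟨t, ht, b, hb, rfl⟩ := Subgroup.mem_sup_of_normal_right.mp hx'
  have htT : (t : G) ∈ T := ht
  have hbS : b ∈ (S₀ : Subgroup M) := by
    rw [hS₀]
    refine ⟨?_, b.2⟩
    have h := mul_mem ((S : Subgroup G).inv_mem (hTS htT)) hx.1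
    show (b : G) ∈ (S : Subgroup G)
    simpa using h
  have hbT : (b : G) ∈ T := hhyp ⟨hbS, hb⟩
  exact mul_mem htT hbT

/-- The subgroup `H` realizes `E`, and it is the only one. -/
theorem exists_unique_normal (hG : Subgroup.centralizer ((pCore p G : Subgroup G) : Set G) ≤ pCore p G) :
    ∃ H : Subgroup G, (∃ hTH : T ≤ H, H.Normal ∧ (∃ R : Sylow p H, (R : Subgroup H) = T.subgroupOf H) ∧
        ∀ P : Subgroup G, E.Hom P = (fusionSystemOfSubgroup H T hTH).Hom P) ∧
      ∀ H' : Subgroup G, (∃ hTH' : T ≤ H', H'.Normal ∧ (∃ R : Sylow p H', (R : Subgroup H') = T.subgroupOf H') ∧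
        ∀ P : Subgroup G, E.Hom P = (fusionSystemOfSubgroup H' T hTH').Hom P) → H' = H := by
  set H := hH S hTS hE with hHdef
  haveI hHn : H.Normal := hH_normal S hTS hE
  have hR := rR_normal S hTS hE
  have hTp : IsPGroup p T := S.isPGroup'.to_le hTS
  have hinf := hH_inf S hTS hE hG
  have hTH := T_le_hH S hTS hE
  have hSyl : ¬ p ∣ T.relIndex H := by
    have h := inf_sylow_not_dvd S H
    rwa [hinf] at h
  set E' := fusionSystemOfSubgroup H T hTH with hE'def
  have hI := fusionOfSubgroup_inducedBy H T hTH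
  have hE'n : E'.IsWeaklyNormalIn (groupFusionSystem (S : Subgroup G)) p := by
    have key : ∀ (T' : Subgroup G) (h' : T' ≤ H), (S : Subgroup G) ⊓ H = T' →
        (fusionSystemOfSubgroup H T' h').IsWeaklyNormalIn (groupFusionSystem (S : Subgroup G)) p := by
      rintro T' h' rfl
      exact (subgroup_fusion_normal S H).1
    exact key T hTH hinf
  have hle1 : E.autGroup T ≤ E'.autGroup T := by
    intro β hβ
    obtain ⟨m, hm, em⟩ := exists_liftT S hTS hE hβ
    refine (mem_autGroup_iff le_rfl).mpr ⟨cj m, ((hI _ _).mpr ⟨le_rfl, fun x hx => ?_, m, hm,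
      fun _ _ => rfl⟩).iso_of_card (fun x hx => ?_) le_rfl, fun x => (em x).symm⟩
    · rw [← em ⟨x, hx⟩]; exact SetLike.coe_mem _
    · rw [← em ⟨x, hx⟩]; exact SetLike.coe_mem _
  have hle2 : E'.autGroup T ≤ E.autGroup T := by
    intro γ hγ
    obtain ⟨f, hf, ef⟩ := (mem_autGroup_iff le_rfl).mp hγ
    obtain ⟨-, -, h, hh, eh⟩ := (hI _ _).mp hf.mor
    have hhT : ∀ a ∈ T, cj h a ∈ T := fun a ha => by rw [← eh a ha]; exact hf.mapsTo ha
    obtain ⟨h', hh', e'⟩ := exists_extension S hTS hE (hH_le_mM S hTS hE hh).1 fun a ha =>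
      ⟨cj h a, hhT a ha, fun x _ => by simp only [cj_apply]; group⟩
    have hk : h'⁻¹ * h ∈ T := by
      rw [← hinf]
      refine ⟨Core.pCore_le_sylow S (mem_pCore_of_fix S hTS hE hG
        (hH_le_mM S hTS hE (mul_mem (InvMemClass.inv_mem hh') hh)) fun x hx => ?_), H.mul_mem (H.inv_mem hh') hh⟩
      rw [cj_mul, ← e' x hx, cj_inv_cancel]
    have hh'T : ∀ a ∈ T, cj h' a ∈ T := fun a ha => by
      have h1 := hhT (cj (h'⁻¹ * h)⁻¹ a) (cj_mem (T.inv_mem hk) ha)
      rwa [← cj_mul, mul_inv_rev, inv_inv, mul_inv_cancel_left] at h1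
    have hm : Mor E' T (cj h') :=
      (hI _ _).mpr ⟨le_rfl, hh'T, h', hh', fun _ _ => rfl⟩
    -- an automorphism of `E` inducing the same map on `R`
    obtain ⟨fR, hfR, efR⟩ := (mem_autGroup_iff (P := rR p T) inf_le_right).mp (hH_le_mM S hTS hE hh).1
    have hRfn : E.IsFullyNormalized (rR p T) := ⟨inf_le_right, fun Q hQ => by
      haveI := finite_of_le (normalizerIn_le : normalizerIn T (rR p T) ≤ T)
      refine card_le_of_le (normalizerIn_le.trans fun x hx => ⟨hx, ?_⟩)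
      exact Subgroup.mem_normalizer_iff.mpr fun y => ⟨fun hy => hR.conj_mem y hy x, fun hy => by
        have := hR.conj_mem _ hy x⁻¹
        simpa [mul_assoc] using this⟩⟩
    obtain ⟨-, -, hrec⟩ := IsSaturated_fullyNormalized hTp hE.1.1 hRfn
    have hnp : nphi T (rR p T) fR = T := by
      refine le_antisymm (fun a ha => ha.1) fun a ha => ⟨ha, ?_, cj h a, hhT a ha, fun x hx => ?_⟩
      · exact Subgroup.mem_normalizer_iff.mpr fun y => ⟨fun hy => hR.conj_mem y hy a, fun hy => by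
          have := hR.conj_mem _ hy a⁻¹
          simpa [mul_assoc] using this⟩
      · have hax : cj a x ∈ rR p T := hR.conj_mem x hx a
        rw [show fR (cj a x) = cj h (cj a x) from efR ⟨_, hax⟩, show fR x = cj h x from efR ⟨x, hx⟩]
        simp only [cj_apply]; group
    obtain ⟨g, hg, eg⟩ := (receptive_iff.mp hrec).2 _ fR hfR
    rw [hnp] at hg
    have hgi : Iso E g T T := hg.iso_of_card (fun x hx => hg.map_mem hx) le_rfl
    obtain ⟨m, hmH, em⟩ := exists_liftT S hTS hE hgi.equiv_mem_autGroup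
    have hk2 : m⁻¹ * h ∈ T := by
      rw [← hinf]
      refine ⟨Core.pCore_le_sylow S (mem_pCore_of_fix S hTS hE hG
        (hH_le_mM S hTS hE (mul_mem (InvMemClass.inv_mem hmH) hh)) fun x hx => ?_), H.mul_mem (H.inv_mem hmH) hh⟩
      have e1 : cj m x = cj h x := by
        rw [← em ⟨x, hx.2⟩]
        show g x = _
        rw [eg x hx]; exact efR ⟨x, hx⟩
      rw [cj_mul, ← e1, cj_inv_cancel]
    refine (mem_autGroup_iff le_rfl).mpr ⟨f, ?_, ef⟩
    refine ((Iso.conj_self le_rfl hk2 (Subgroup.le_normalizer hk2)).comp hgi).congr fun x hx => ?_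
    rw [eh x hx]
    show g (cj (m⁻¹ * h) x) = _
    rw [show g (cj (m⁻¹ * h) x) = cj m (cj (m⁻¹ * h) x) from em ⟨_, cj_mem hk2 hx⟩, ← cj_mul,
      mul_inv_cancel_left]
  have hhom : ∀ P : Subgroup G, E.Hom P = E'.Hom P := by
    intro P
    ext φ
    exact ⟨fun hφ => mem_of_mor (mor_of_invariant_pair hTp hE.1.1 hE.1.2.2.1 hE'n.2.2 hle1 _ _ (mor_of_mem hφ))
        fun x => (extFun_coe φ x).symm,
      fun hφ => mem_of_mor (mor_of_invariant_pair hTp hE'n.1 hE'n.2.2.1 hE.1.2.2 hle2 _ _ (mor_of_mem hφ))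
        fun x => (extFun_coe φ x).symm⟩
  refine ⟨H, ⟨hTH, hHn, (exists_sylow_eq_iff hTp).mpr hSyl, hhom⟩, ?_⟩
  rintro H' ⟨hTH', hH'n, ⟨R', hR'⟩, hhom'⟩
  haveI := hH'n
  have hI' := fusionOfSubgroup_inducedBy H' T hTH'
  have hinf' : ∀ x ∈ (S : Subgroup G), x ∈ H' → x ∈ T := by
    intro x hxS hxH
    have hp' : IsPGroup p (((S : Subgroup G) ⊓ H').subgroupOf H') := (S.isPGroup'.to_le inf_le_left).comap_subtype
    have hle : (R' : Subgroup H') ≤ ((S : Subgroup G) ⊓ H').subgroupOf H' :=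
      hR'.le.trans (Subgroup.comap_mono (le_inf hTS hTH'))
    have h := (R'.3 hp' hle).le (show (⟨x, hxH⟩ : H') ∈ _ from ⟨hxS, hxH⟩)
    exact hR'.le h
  have hH'M : H' ≤ mM S hTS hE := fun g hg => by
    refine ⟨?_, fun q hq => ?_⟩
    · have hm : Mor (fusionSystemOfSubgroup H' T hTH') (rR p T) (cj g) :=
        (hI' _ _).mpr ⟨inf_le_right, fun x hx => (hR.conj_mem x hx g).2, g, hg, fun _ _ => rfl⟩
      obtain ⟨φ, hφ, eφ⟩ := hm
      rw [← hhom'] at hφ
      exact (mem_autGroup_iff (P := rR p T) inf_le_right).mpr ⟨cj g,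
        (show Mor E (rR p T) (cj g) from ⟨φ, hφ, eφ⟩).iso_of_card (fun x hx => hR.conj_mem x hx g) le_rfl,
        fun _ => rfl⟩
    · have hQ : q⁻¹ * cj g q ∈ pCore p G :=
        mul_mem (InvMemClass.inv_mem hq) ((inferInstance : (pCore p G).Normal).conj_mem q hq g)
      refine ⟨hQ, hinf' _ (Core.pCore_le_sylow S hQ) ?_⟩
      have := H'.mul_mem (hH'n.conj_mem g hg q⁻¹) (H'.inv_mem hg)
      rw [cj_apply]
      simpa [mul_assoc] using this
  apply le_antisymm
  · intro x hx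
    let N : Subgroup H' := H.subgroupOf H'
    have hN : N = ⊤ := eq_top_of_pResidual_le (p := p)
      ((Subgroup.closure_le _).mpr fun m hm =>
        pprime_mem_hH S hTS hE (hH'M m.2) (by show (orderOf (m : G)).Coprime p; rwa [Subgroup.orderOf_coe]))
      fun hd => R'.not_dvd_index (hd.trans (Subgroup.index_dvd_of_le (hR'.le.trans (Subgroup.comap_mono hTH))))
    exact (hN.ge (Subgroup.mem_top (⟨x, hx⟩ : H')) : (⟨x, hx⟩ : H') ∈ N)
  · intro h hh
    obtain ⟨f, hf, ef⟩ := (mem_autGroup_iff (P := rR p T) inf_le_right).mp (hH_le_mM S hTS hE hh).1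
    obtain ⟨φ, hφ, eφ⟩ := hf.mor
    rw [hhom'] at hφ
    obtain ⟨-, -, h', hh', eh'⟩ := hφ
    have hHH' : ∀ x ∈ rR p T, cj h' x = cj h x := fun x hx => by
      rw [← show f x = cj h x from ef ⟨x, hx⟩, ← eφ ⟨x, hx⟩, eh' ⟨x, hx⟩, cj_apply]
    have hk : h'⁻¹ * h ∈ T := by
      have hfix : ∀ x ∈ rR p T, cj (h'⁻¹ * h) x = x := fun x hx => by
        rw [cj_mul, ← hHH' x hx, cj_inv_cancel]
      have hh'H : h' ∈ H := by
        let N : Subgroup H' := H.subgroupOf H'
        have hN : N = ⊤ := eq_top_of_pResidual_le (p := p)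
          ((Subgroup.closure_le _).mpr fun m hm =>
            pprime_mem_hH S hTS hE (hH'M m.2) (by show (orderOf (m : G)).Coprime p; rwa [Subgroup.orderOf_coe]))
          fun hd => R'.not_dvd_index (hd.trans (Subgroup.index_dvd_of_le (hR'.le.trans (Subgroup.comap_mono hTH))))
        exact (hN.ge (Subgroup.mem_top (⟨h', hh'⟩ : H')) : (⟨h', hh'⟩ : H') ∈ N)
      have hmem : h'⁻¹ * h ∈ H := mul_mem (InvMemClass.inv_mem hh'H) hh
      rw [← hinf]
      exact ⟨Core.pCore_le_sylow S (mem_pCore_of_fix S hTS hE hG (hH_le_mM S hTS hE hmem) hfix), hmem⟩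
    have := H'.mul_mem hh' (hTH' hk)
    rwa [mul_inv_cancel_left] at this

end Cfsg.Agent.Fusion.ModelNormalSys
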