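/-
The residual subsystem of index prime to `p` lies in every invariant saturated system over the same subgroup.
-/
import Cfsg.Agent.Fusion.WeakResidual
set_option autoImplicit false
set_option linter.style.haveILetI false
set_option linter.unusedSectionVars false

namespace Cfsg.Agent.Fusion.WeakResidual

open Cfsg Cfsg.FusionSystem Cfsg.Agent.Fusion.SatCrit

variable {Ω : Type*} [Group Ω] {S T : Subgroup Ω} {F : FusionSystem S} {E D D' : FusionSystem T}
  {p : ℕ} {P Q R A : Subgroup Ω} {f g a a' : Ω → Ω}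

variable [Fact p.Prime] [Finite S] (c : WCtx F E p) (d : WCtx F D' p)
include c d

omit [Fact p.Prime] [Finite S] in
theorem centric_transfer (hQ : E.IsCentric Q) : D'.IsCentric Q := by
  refine ⟨hQ.1, fun R hR => ?_⟩
  obtain ⟨u, hu⟩ := isConj_iff.mp hR
  exact (c.ec_conj hQ (d.subIso hu)).2 R (isConj_refl hu.cod_le)

/-- The automorphisms of `p`-power order in `E` lie in `D'`. -/
theorem pElem (hP : P ≤ T) {α : MulAut P} (hα : α ∈ E.autGroup P)
    (hp : IsPGroup p (Subgroup.zpowers α)) : α ∈ D'.autGroup P := by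
  haveI := finite_of_le c.tle
  haveI := finite_of_le hP
  obtain ⟨R, hR, hn⟩ := exists_fullyNormalized (F := F) (hP.trans c.tle)
  obtain ⟨u, hu⟩ := isConj_iff.mp hR
  obtain ⟨v, hv, hvl, hvr⟩ := hu.exists_symm
  have hRT : R ≤ T := fun y hy => by
    obtain ⟨x, hx, rfl⟩ := hu.surj hy
    exact stronglyClosed_mem c.strong hu.mor hx (hP hx)
  haveI := finite_of_le hRT
  haveI := finite_mulAut (G := R)
  have hEn := subsystem_fullyNormalized c.hS c.hF c.strong c.hinv.1 hRT hn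
  obtain ⟨-, hEa, -⟩ := IsSaturated_fullyNormalized c.hT c.hEsat hEn
  have hαE := autGroup_iso hP hα
  set f := extFun (P.subtype.comp α.toMonoidHom) with hf
  have hf₂ : Iso E (u ∘ f ∘ v) R R := c.conj_mor hP hu hv hvl hαE
  set β : MulAut R := hu.transport α with hβ
  have hβE : β ∈ E.autGroup R := by
    refine (mem_autGroup_iff hRT).mpr ⟨_, hf₂, fun y => ?_⟩
    obtain ⟨x, hx, hxy⟩ := hu.surj y.2
    obtain rfl : y = ⟨u x, hu.mapsTo hx⟩ := Subtype.ext hxy.symm
    rw [hβ, hu.transport_val α hx]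
    show u (f (v (u x))) = _
    rw [hvl x hx, hf, extFun_apply _ hx]
    rfl
  have hpβ : IsPGroup p (Subgroup.zpowers β) := by
    have h := hp.map hu.transport.toMonoidHom
    rwa [MonoidHom.map_zpowers] at h
  obtain ⟨b, hb, hbK⟩ := exists_conj_into hEa hpβ (Subgroup.zpowers_le.mpr hβE)
  have h1 : b * β * b⁻¹ ∈ D'.autGroup R :=
    autInducedBy_le_autGroup hRT (hbK β (Subgroup.mem_zpowers β))
  obtain ⟨g, hg, eg⟩ := (mem_autGroup_iff hRT).mp h1
  obtain ⟨bf, hbf, ebf⟩ := (mem_autGroup_iff hRT).mp (inv_mem hb)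
  obtain ⟨bi, hbi, hbl, hbr⟩ := hbf.exists_symm
  have h2 := d.conj_mor hRT (c.subIso hbf) (c.subIso hbi) hbl hg
  have h3 := d.conj_mor hRT hv hu hvr h2
  refine (mem_autGroup_iff hP).mpr ⟨_, h3, fun x => ?_⟩
  show v (bf (g (bi (u x)))) = _
  have hy : (b : MulAut R) ⟨u x, hu.mapsTo x.2⟩ = ⟨bi (u x), hbi.mapsTo (hu.mapsTo x.2)⟩ := by
    apply (b⁻¹ : MulAut R).injective
    rw [MulAut.inv_apply_self]
    exact Subtype.ext ((ebf ⟨bi (u x), hbi.mapsTo (hu.mapsTo x.2)⟩).symm.trans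
      (hbr _ (hu.mapsTo x.2))).symm
  have hg' := eg ⟨bi (u x), hbi.mapsTo (hu.mapsTo x.2)⟩
  rw [show g (bi (u x)) = _ from hg', MulAut.mul_apply, MulAut.mul_apply, ← hy, MulAut.inv_apply_self,
    show bf _ = _ from ebf _, MulAut.inv_apply_self, hβ, hu.transport_val α x.2]
  exact hvl _ (α x).2

theorem pgen_mor (h : PGen E p P f) : Mor D' P f := by
  haveI := finite_of_le c.tle
  induction h with
  | @aut R f hR hf k hk =>
    haveI := finite_of_le hR.1
    haveI := finite_mulAut (G := R)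
    have hit : ∀ (n : ℕ) (y : R), ((((hf.equiv : MulAut R) ^ n) y : R) : Ω) = f^[n] (y : Ω) := by
      intro n y
      rw [pow_apply_iterate]
      induction n with
      | zero => rfl
      | succ n ih => rw [Function.iterate_succ_apply', Function.iterate_succ_apply', ← ih]; rfl
    have hp : (hf.equiv : MulAut R) ^ p ^ k = 1 :=
      MulEquiv.ext fun y => Subtype.ext ((hit _ y).trans (hk y y.2))
    obtain ⟨i, -, hi⟩ := (Nat.dvd_prime_pow (Fact.out : p.Prime)).mp (orderOf_dvd_of_pow_eq_one hp)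
    obtain ⟨e, he, ee⟩ := (mem_autGroup_iff hR.1).mp (pElem c d hR.1 hf.equiv_mem_autGroup
      (IsPGroup.of_card (n := i) (by rw [Nat.card_zpowers, hi])))
    exact he.mor.congr fun x hx => ee ⟨x, hx⟩
  | conj hP hs => exact Mor.conj hP hs
  | congr _ e ih => exact ih.congr e
  | comp _ _ m ih ih' => exact ih.comp ih' m
  | @inv P Q f g h hf hg e ih => exact (Closed.of_system (F := E) D').inv hf hg e ih

/-- An automorphism of `T` in `E` agreeing with a map of `D'` on a centric subgroup is in `D'`. -/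
theorem killE : ∀ Q, D'.IsCentric Q → ∀ a g, Iso E a T T → Mor D' Q g → (∀ x ∈ Q, a x = g x) →
    Mor D' T a := by
  haveI := finite_of_le c.tle
  haveI := finite_mulAut (G := T)
  intro Q
  induction hn : Nat.card T - Nat.card Q using Nat.strong_induction_on generalizing Q with
  | _ n IH =>
  intro hQ a g ha hg ea
  haveI := finite_of_le hQ.1
  rcases hQ.1.eq_or_lt with rfl | hlt
  · exact hg.congr fun x hx => (ea x hx).symm
  set N := normalizerIn T Q with hNdef
  have hNT : N ≤ T := normalizerIn_le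
  haveI := finite_of_le hNT
  have hQN : Q < N := lt_normalizerIn c.hT hlt
  have hN₁ := ha.restrict hNT
  set N₁ := (ha.mor.restrict hNT).img
  have hN₁T : N₁ ≤ T := hN₁.cod_le
  haveI := finite_of_le hN₁T
  have hgi := hg.toIso
  set Q₁ := hg.img
  have hQ₁c : D'.IsCentric Q₁ := d.ec_conj hQ (d.subIso hgi)
  obtain ⟨e, he, ee⟩ := (receptive_iff.mp (IsSaturated_fullyCentralized_receptive d.hT d.hEsat
    (centric_fullyCentralized hQ₁c))).2 Q g hgi
  have hNphi : N ≤ nphi T Q g := fun x hx => mem_nphi.mpr ⟨hx.1, hx.2, _, ha.mapsTo hx.1, fun v hv => by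
    rw [← ea _ ((cj_mem_iff hx.2 v).mpr hv), ← ea v hv]
    exact ha.mor.map_conj hx.1 (hQ.1 hv)⟩
  have heN : Mor D' N e := he.restrict hNphi
  have hQ₁N : Q₁ ≤ N₁ := fun y hy => by
    obtain ⟨v, hv, rfl⟩ := hgi.surj hy
    rw [← ea v hv]; exact hN₁.mapsTo (hQN.le hv)
  have hz : ∀ x ∈ N, (a x)⁻¹ * e x ∈ Q₁ := fun x hx => by
    refine hQ₁c.2 Q₁ (isConj_refl hQ₁c.1) ⟨T.mul_mem (T.inv_mem (ha.mapsTo hx.1)) (heN.map_mem hx),
      fun y hy => ?_⟩
    obtain ⟨v, hv, rfl⟩ := hgi.surj hy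
    have h1 : a x * g v * (a x)⁻¹ = e x * g v * (e x)⁻¹ := by
      rw [← ea v hv]
      conv_rhs => rw [ea v hv, ← ee v hv, ← heN.map_conj hx (hQN.le hv)]
      rw [← ha.mor.map_conj hx.1 (hQ.1 hv), ← cj_apply, ea _ ((cj_mem_iff hx.2 v).mpr hv),
        ← ee _ ((cj_mem_iff hx.2 v).mpr hv)]
    have h2 := congrArg (fun t => (a x)⁻¹ * t * e x) h1
    simp only [mul_assoc, inv_mul_cancel, mul_one, inv_mul_cancel_left] at h2
    simpa [mul_assoc] using h2
  have hem : ∀ x ∈ N, e x ∈ N₁ := fun x hx => by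
    have := N₁.mul_mem (hN₁.mapsTo hx) (hQ₁N (hz x hx))
    rwa [mul_inv_cancel_left] at this
  have hei : Iso D' e N N₁ := heN.iso_of_card hem hN₁.card_eq.symm.le
  obtain ⟨k, hk, hkl, hkr⟩ := hei.exists_symm
  set ω := k ∘ a with hω
  have hωi : Iso F ω N N := (c.subIso hN₁).comp (d.subIso hk)
  have hωQ : ∀ v ∈ Q, ω v = v := fun v hv => by
    show k (a v) = v
    rw [ea v hv, ← ee v hv, hkl v (hQN.le hv)]
  have hωd : ∀ x ∈ N, x⁻¹ * ω x ∈ Q := fun x hx => by
    obtain ⟨v, hv, hve⟩ := hgi.surj (Q₁.inv_mem (hz x hx))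
    have hz' : (e x)⁻¹ * a x = g v := by rw [hve, mul_inv_rev, inv_inv]
    have : e (x⁻¹ * ω x) = e v := by
      rw [heN.map_mul (N.inv_mem hx) (hωi.mapsTo hx), heN.map_inv hx, ee v hv, ← hz']
      show _ * e (k (a x)) = _
      rw [hkr _ (hN₁.mapsTo hx)]
    exact heN.injOn (N.mul_mem (N.inv_mem hx) (hωi.mapsTo hx)) (hQN.le hv) this ▸ hv
  obtain ⟨i, hi⟩ := IsPGroup.iff_card.mp (c.hT.to_le hQ.1)
  have hωid : ∀ x ∈ N, ω^[p ^ i] x = x := fun x hx => by
    rw [iterate_fix hωi.mor hQN.le hωQ hωd _ x hx, ← hi]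
    have h : (⟨x⁻¹ * ω x, hωd x hx⟩ : Q) ^ Nat.card Q = 1 := pow_card_eq_one'
    rw [show (x⁻¹ * ω x) ^ Nat.card Q = 1 from congrArg Subtype.val h, mul_one]
  obtain ⟨a', ha', hal, har⟩ := ha.exists_symm
  have hj : SysIso D' D' a a' := invariant_sysIso d.hinv (c.subIso ha) (c.subIso ha') hal har
  -- `ω^m` is a map of `D'` following `a^m`
  have hpow : ∀ m : ℕ, ∃ Nm ψ, Iso E a^[m] N Nm ∧ Mor D' Nm ψ ∧ ∀ x ∈ N, ω^[m] x = ψ (a^[m] x) := by
    intro m
    induction m with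
    | zero => exact ⟨N, id, Iso.refl hNT, Mor.id' hNT, fun x _ => rfl⟩
    | succ m ih =>
      obtain ⟨Nm, ψ, hNm, hψ, eψ⟩ := ih
      have hNmT := hNm.cod_le
      have haN : Iso E a Nm (hj.img Nm) := ⟨ha.mor.restrict hNmT,
        fun x hx => (hj.mem_img hNmT).mpr ⟨x, hx, rfl⟩, (ha.mor.restrict hNmT).injOn,
        fun y hy => (hj.mem_img hNmT).mp hy⟩
      refine ⟨hj.img Nm, k ∘ (a ∘ ψ ∘ a'), ?_, (hj.mor hψ).comp hk.mor fun y hy => ?_, fun x hx => ?_⟩
      · rw [Function.iterate_succ']; exact hNm.comp haN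
      · obtain ⟨z, hz, rfl⟩ := (hj.mem_img hNmT).mp hy
        obtain ⟨x, hx, rfl⟩ := hNm.surj hz
        show a (ψ (a' (a (a^[m] x)))) ∈ N₁
        rw [hal _ (hNmT hz), ← eψ x hx]
        exact hN₁.mapsTo ((iso_pow hωi m).mapsTo hx)
      · rw [Function.iterate_succ_apply', Function.iterate_succ_apply', eψ x hx]
        show k (a _) = k (a (ψ (a' (a (a^[m] x)))))
        rw [hal _ (hNmT (hNm.mapsTo hx))]
  obtain ⟨Nm, ψ, hNm, hψ, eψ⟩ := hpow (p ^ i)
  haveI := finite_of_le hNm.cod_le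
  have hψi : Iso D' ψ Nm N := hψ.iso_of_card (fun y hy => by
    obtain ⟨x, hx, rfl⟩ := hNm.surj hy
    rw [← eψ x hx, hωid x hx]; exact hx) hNm.card_eq.le
  obtain ⟨ψ', hψ', hψl, -⟩ := hψi.exists_symm
  have hpi : Mor D' T a^[p ^ i] := by
    refine IH _ ?_ N rfl (isCentric_mono hQ hQN.le hNT) _ ψ' (iso_pow ha _) hψ'.mor fun x hx => ?_
    · have h1 := card_lt_of_lt hQN
      have h2 := card_le_of_le hNT
      omega
    · have := hψl _ (hNm.mapsTo hx)
      rw [← eψ x hx, hωid x hx] at this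
      exact this.symm
  set α : MulAut T := ha.equiv with hα
  have hαE : α ∈ E.autGroup T := ha.equiv_mem_autGroup
  have hit : ∀ (m : ℕ) (x : T), a^[m] x = (((α ^ m) x : T) : Ω) := by
    intro m x
    rw [pow_apply_iterate]
    induction m with
    | zero => rfl
    | succ m ih => rw [Function.iterate_succ_apply', Function.iterate_succ_apply', ih]; rfl
  have h1 : α ^ p ^ i ∈ D'.autGroup T :=
    (mem_autGroup_iff le_rfl).mpr ⟨_, hpi.iso_of_card (fun x hx => hpi.map_mem hx) le_rfl, hit _⟩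
  obtain ⟨k₀, m, hm, hkm⟩ := Nat.exists_eq_pow_mul_and_not_dvd (orderOf_pos α).ne' p
    (Fact.out : p.Prime).ne_one
  have h2 : α ^ m ∈ D'.autGroup T := by
    have hp1 : (α ^ m) ^ p ^ k₀ = 1 := by rw [← pow_mul, mul_comm, ← hkm, pow_orderOf_eq_one]
    obtain ⟨l, -, hl⟩ := (Nat.dvd_prime_pow (Fact.out : p.Prime)).mp (orderOf_dvd_of_pow_eq_one hp1)
    exact pElem c d le_rfl (pow_mem hαE m) (IsPGroup.of_card (n := l) (by rw [Nat.card_zpowers, hl]))
  have hco : Nat.Coprime (p ^ i) m := ((Fact.out : p.Prime).coprime_iff_not_dvd.mpr hm).pow_left i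
  have h3 : α ∈ D'.autGroup T := by
    have hb := Nat.gcd_eq_gcd_ab (p ^ i) m
    rw [hco.gcd_eq_one] at hb
    have : α = (α ^ p ^ i) ^ (Nat.gcdA (p ^ i) m) * (α ^ m) ^ (Nat.gcdB (p ^ i) m) := by
      rw [← zpow_natCast α (p ^ i), ← zpow_natCast α m, ← zpow_mul, ← zpow_mul, ← zpow_add, ← hb,
        Nat.cast_one, zpow_one]
    rw [this]
    exact mul_mem (zpow_mem h1 _) (zpow_mem h2 _)
  obtain ⟨u, hu, eu⟩ := (mem_autGroup_iff le_rfl).mp h3
  exact hu.mor.congr fun x hx => eu ⟨x, hx⟩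

theorem least_base : ExtBase E p E.IsCentric (fun A f => Mor D' A f) where
  closed := Closed.of_system D'
  pAut := fun {R f} k hR hf hk => pgen_mor c d (PGen.aut hR hf k hk)
  ext := by
    intro P A f hP hPA hf h
    haveI := finite_of_le c.tle
    obtain ⟨b, g₂, hb, hg₂, e₂⟩ := genFactor c.hT c.hEsat A f hf
    have hg₂P := hg₂.restrict hPA
    obtain ⟨k, hk, hkl, -⟩ := hg₂P.mor.toIso.exists_symm
    have hkD : Mor D' hg₂P.mor.img k := pgen_mor c d (hg₂P.inv hg₂P.mor.toIso hk hkl)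
    have hc : D'.IsCentric hg₂P.mor.img :=
      centric_transfer c d (isCentric_conj hP hg₂P.mor.toIso.isConj)
    have hbD := killE c d _ hc b (f ∘ k) hb (hkD.comp h fun y hy => hk.mapsTo hy) fun y hy => by
      obtain ⟨x, hx, rfl⟩ := hg₂P.mor.toIso.surj hy
      show b (g₂ x) = f (k (g₂ x))
      rw [hkl x hx, e₂ x (hPA hx)]
    exact ((pgen_mor c d hg₂).comp hbD fun x hx => hg₂.mor.map_mem hx).congr
      fun x hx => (e₂ x hx).symm

/-- The residual subsystem of `E` lies in `D'`. -/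
theorem residual_le_invariant (hD : E.IsPPrimeResidual p D) : D.IsSubsystemOf D' := by
  intro P φ hφ
  obtain ⟨-, h⟩ := (c.residual_mor_iff hD).mp (mor_of_mem hφ)
  exact mem_iff_mor.mpr
    (h _ (Closed.of_system D') fun Q u hQ _ hc => hc _ (least_base c d))

end Cfsg.Agent.Fusion.WeakResidual
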