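/-
Terminating residual series and models of `p`-solvable groups.
-/
import Cfsg.Agent.Fusion.Solvable
import Cfsg.Agent.Fusion.ResidualLimit
import Cfsg.Agent.Fusion.ResidualLeast
import Cfsg.Agent.Fusion.WeakResidual
import Cfsg.Agent.Fusion.PowerIndex
import Cfsg.Agent.Fusion.ModelNormal
import Cfsg.Agent.Fusion.ModelThm
import Cfsg.Agent.Fusion.ModelUniq
import Cfsg.Agent.Fusion.ModelBasic
import Cfsg.Agent.Fusion.GroupNormal
import Cfsg.Agent.Fusion.SysTransport
import Cfsg.Agent.S5140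
import Cfsg.Agent.Core.PiSeparable
set_option autoImplicit false
set_option linter.unusedSectionVars false
set_option linter.style.haveILetI false

namespace Cfsg.Agent.Fusion.Terminating

open Cfsg Cfsg.FusionSystem IsInducedBy

universe u

/-! ### Group lemmas -/

section GroupLemmas

variable {G : Type*} [Group G] {p : ℕ}

/-- A `p'`-element centralizing `R` and `Q / R` is trivial. -/
theorem pprime_trivial [Finite G] [Fact p.Prime] {Q R : Subgroup G} (hQ : IsPGroup p Q) (hRQ : R ≤ Q)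
    (hC : Subgroup.centralizer (Q : Set G) ≤ Q) {x : G} (hx : (orderOf x).Coprime p)
    (h1 : ∀ r ∈ R, x * r = r * x) (h2 : ∀ q ∈ Q, x * q * x⁻¹ * q⁻¹ ∈ R) : x = 1 := by
  have hxQ : x ∈ Subgroup.centralizer (Q : Set G) := by
    refine Subgroup.mem_centralizer_iff.mpr fun q hq => ?_
    set z := x * q * x⁻¹ * q⁻¹ with hz
    have hzR : z ∈ R := h2 q hq
    have key : ∀ i : ℕ, x ^ i * q * (x ^ i)⁻¹ = z ^ i * q := by
      intro i
      induction i with
      | zero => simp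
      | succ i ih =>
        have hc : x * z ^ i = z ^ i * x := h1 _ (pow_mem hzR i)
        calc x ^ (i + 1) * q * (x ^ (i + 1))⁻¹ = x * (x ^ i * q * (x ^ i)⁻¹) * x⁻¹ := by
              rw [pow_succ']; group
          _ = x * z ^ i * q * x⁻¹ := by rw [ih]; group
          _ = z ^ i * (x * q * x⁻¹ * q⁻¹) * q := by rw [hc]; group
          _ = z ^ (i + 1) * q := by rw [← hz, ← pow_succ]
    have h3 : z ^ orderOf x = 1 := by
      have := key (orderOf x)
      rw [pow_orderOf_eq_one] at this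
      simpa using this
    obtain ⟨k, hk⟩ := hQ ⟨z, hRQ hzR⟩
    have hk' : z ^ p ^ k = 1 := congrArg Subtype.val hk
    have hz1 : z = 1 := by
      have h4 : z ^ Nat.gcd (orderOf x) (p ^ k) = 1 := pow_gcd_eq_one.mpr ⟨h3, hk'⟩
      rwa [(hx.pow_right k : (orderOf x).Coprime (p ^ k)), pow_one] at h4
    rw [hz, mul_inv_eq_one, mul_inv_eq_iff_eq_mul] at hz1
    exact hz1.symm

  obtain ⟨k, hk⟩ := hQ ⟨x, hC hxQ⟩
  have hk' : x ^ p ^ k = 1 := congrArg Subtype.val hk
  have h4 : x ^ Nat.gcd (orderOf x) (p ^ k) = 1 := pow_gcd_eq_one.mpr ⟨pow_orderOf_eq_one x, hk'⟩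
  rwa [(hx.pow_right k : (orderOf x).Coprime (p ^ k)), pow_one] at h4

theorem exists_pprime_pow [Finite G] [Fact p.Prime] (y : G) :
    ∃ a : ℕ, (orderOf (y ^ p ^ a)).Coprime p := by
  obtain ⟨a, m, hm, e⟩ := Nat.exists_eq_pow_mul_and_not_dvd (orderOf_pos y).ne' p (Fact.out : p.Prime).ne_one
  refine ⟨a, Nat.Coprime.coprime_dvd_left (orderOf_dvd_of_pow_eq_one ?_)
    (((Fact.out : p.Prime).coprime_iff_not_dvd).mpr hm).symm⟩
  rw [← pow_mul, ← e, pow_orderOf_eq_one]

/-- A subgroup without nontrivial `p'`-elements is a `p`-group. -/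
theorem isPGroup_of_no_pprime [Finite G] [Fact p.Prime] {C : Subgroup G}
    (h : ∀ x ∈ C, (orderOf x).Coprime p → x = 1) : IsPGroup p C := by
  intro x
  obtain ⟨a, ha⟩ := exists_pprime_pow (p := p) (x : G)
  exact ⟨a, Subtype.ext (h _ (pow_mem x.2 _) ha)⟩

theorem le_pCore_of_normal {Q : Subgroup G} (hn : Q.Normal) (hQ : IsPGroup p Q) : Q ≤ pCore p G :=
  le_sSup ⟨hn, hQ⟩

theorem pCore_pGroup_normal [Finite G] [Fact p.Prime] (T : Sylow p G) :
    (pCore p G).Normal ∧ IsPGroup p (pCore p G) ∧ pCore p G ≤ T := by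
  have hle : pCore p G ≤ T := sSup_le fun N hN => by
    obtain ⟨g, hg⟩ := hN.2.exists_le_sylow
    obtain ⟨c, rfl⟩ := MulAction.exists_smul_eq G g T
    intro x hx
    rw [Sylow.coe_subgroup_smul]
    refine ⟨c⁻¹ * x * c, hg ?_, ?_⟩
    · have := hN.1.conj_mem x hx c⁻¹
      rwa [inv_inv] at this
    · simp [MulAut.conj_apply, mul_assoc]
  refine ⟨?_, T.isPGroup'.to_le hle, hle⟩
  constructor
  intro x hx g
  have : (pCore p G).map (MulAut.conj g).toMonoidHom ≤ pCore p G := by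
    rw [pCore, (Subgroup.gc_map_comap _).l_sSup]
    refine iSup₂_le fun N hN => le_sSup ?_
    have e : N.map (MulAut.conj g).toMonoidHom = N := by
      ext y
      constructor
      · rintro ⟨z, hz, rfl⟩; exact hN.1.conj_mem z hz g
      · intro hy
        refine ⟨g⁻¹ * y * g, ?_, by simp [mul_assoc]⟩
        have := hN.1.conj_mem y hy g⁻¹
        rwa [inv_inv] at this
    rw [e]
    exact hN
  exact this ⟨x, hx, rfl⟩

/-- A normal subgroup of a group of characteristic `p` is of characteristic `p`. -/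
theorem centralizer_pCore_normal [Finite G] [Fact p.Prime]
    (hG : Subgroup.centralizer ((pCore p G : Subgroup G) : Set G) ≤ pCore p G) (H : Subgroup G) [hH : H.Normal] :
    Subgroup.centralizer ((pCore p H : Subgroup H) : Set H) ≤ pCore p H := by
  obtain ⟨T⟩ : Nonempty (Sylow p G) := inferInstance
  obtain ⟨hQn, hQp, -⟩ := pCore_pGroup_normal T
  set Q := pCore p G
  haveI := hQn
  set R : Subgroup G := Q ⊓ H
  have hR : R.subgroupOf H ≤ pCore p H :=
    le_pCore_of_normal inferInstance (hQp.to_le inf_le_left).comap_subtype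
  intro x hx
  set C : Subgroup G := Subgroup.centralizer (R : Set G) ⊓ H
  have hxC : (x : G) ∈ C := ⟨Subgroup.mem_centralizer_iff.mpr fun r hr =>
    congrArg Subtype.val (Subgroup.mem_centralizer_iff.mp hx ⟨r, hr.2⟩ (hR hr)), x.2⟩
  have hCp : IsPGroup p C := isPGroup_of_no_pprime fun c hc hco =>
    pprime_trivial hQp inf_le_left hG hco (fun r hr => (Subgroup.mem_centralizer_iff.mp hc.1 r hr).symm)
      fun q hq => ⟨Q.mul_mem (hQn.conj_mem q hq c) (Q.inv_mem hq), by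
        rw [show c * q * c⁻¹ * q⁻¹ = c * (q * c⁻¹ * q⁻¹) by group]
        exact H.mul_mem hc.2 (hH.conj_mem _ (H.inv_mem hc.2) q)⟩
  exact hR (Subgroup.mem_subgroupOf.mpr ⟨le_pCore_of_normal inferInstance hCp hxC, x.2⟩)

/-- In a `p`-solvable group, a normal subgroup generated by its `p`-elements and also by its `p'`-elements is
trivial. -/
theorem eq_bot_of_generated [Finite G] [Fact p.Prime] (hG : IsPSolvable p G) {M : Subgroup G}
    (h1 : ∀ N : Subgroup G, (∀ x ∈ M, (orderOf x).Coprime p → x ∈ N) → M ≤ N)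
    (h2 : ∀ N : Subgroup G, (∀ x ∈ M, (∃ k : ℕ, orderOf x = p ^ k) → x ∈ N) → M ≤ N) : M = ⊥ := by
  obtain ⟨n, H, h0, hn, -, hnorm, hd⟩ := hG
  suffices key : ∀ i : Fin (n + 1), M ≤ H (Fin.rev i) by
    have := key (Fin.last n)
    rw [Fin.rev_last, h0] at this
    exact eq_bot_iff.mpr this
  intro i
  induction i using Fin.induction with
  | zero => rw [Fin.rev_zero, hn]; exact le_top
  | succ i ih =>
    rw [Fin.rev_castSucc] at ih
    rw [Fin.rev_succ]
    haveI := hnorm (Fin.rev i).castSucc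
    have hpow : ∀ x ∈ M, x ^ (H (Fin.rev i).castSucc).relIndex (H (Fin.rev i).succ) ∈ H (Fin.rev i).castSucc :=
      fun x hx => Subgroup.mem_subgroupOf.mp
        (Subgroup.pow_index_mem ((H (Fin.rev i).castSucc).subgroupOf (H (Fin.rev i).succ)) ⟨x, ih hx⟩)
    have hmem : ∀ x ∈ M, (orderOf x).Coprime ((H (Fin.rev i).castSucc).relIndex (H (Fin.rev i).succ)) →
        x ∈ H (Fin.rev i).castSucc := by
      intro x hx hco
      obtain ⟨m, hm⟩ := exists_pow_eq_self_of_coprime hco.symm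
      rw [← hm]
      exact pow_mem (hpow x hx) m
    rcases hd (Fin.rev i) with ⟨m, hm⟩ | hc
    · exact h1 _ fun x hx hco => hmem x hx (hm ▸ hco.pow_right m)
    · refine h2 _ fun x hx ⟨k, hk⟩ => hmem x hx ?_
      rw [hk]; exact Nat.Coprime.pow_left k hc.symm

end GroupLemmas

variable {Ω : Type u} [Group Ω] {S : Subgroup Ω} {p : ℕ} [Fact p.Prime] {F : FusionSystem S}

/-- A saturated system is normal in itself. -/
theorem self_normal [Finite S] (hS : IsPGroup p S) (hF : F.IsSaturated p) : F.IsNormalIn F p :=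
  pPower_normal hS hF (fun _ hs _ hx => cj_mem hs hx) hF hasPPowerIndex_refl

/-- A subsystem over the hyperfocal subgroup, of `p`-power index, is normal. -/
theorem pResidual_normal [Finite S] (hS : IsPGroup p S) (hF : F.IsSaturated p)
    {D : FusionSystem (F.hyperfocalSubgroup p)} (hD : F.IsPResidual p D) : D.IsNormalIn F p :=
  pPower_normal hS hF (fun _ hs _ hx => hyperfocal_conj hs hx) hD.1 hD.2

/-- A system with trivial hyperfocal subgroup has its Sylow group normal. -/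
theorem isNormal_of_hyperfocal_bot [Finite S] (hS : IsPGroup p S) (hF : F.IsSaturated p)
    (h : F.hyperfocalSubgroup p = ⊥) : F.IsNormal S := by
  have key : ∀ P f, Mor F P f → ∃ s ∈ S, ∀ x ∈ P, f x = cj s x := by
    intro P f hf
    have hT : F.StronglyClosed (⊥ : Subgroup Ω) := stronglyClosed_bot F
    refine mor_induction hS hF (C := fun P f => ∃ s ∈ S, ∀ x ∈ P, f x = cj s x)
      ⟨fun {P s} _ hs => ⟨s, hs, fun _ _ => rfl⟩,
        fun _ e ⟨s, hs, h⟩ => ⟨s, hs, fun x hx => (e x hx).symm.trans (h x hx)⟩,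
        fun {P Q f g} _ _ m ⟨s, hs, e⟩ ⟨t, ht, e'⟩ => ⟨t * s, S.mul_mem ht hs, fun x hx => by
          show g (f x) = cj (t * s) x
          rw [e' _ (m x hx), e x hx, cj_mul]⟩,
        fun {P Q f g} hf _ e ⟨s, hs, e'⟩ => ⟨s⁻¹, S.inv_mem hs, fun y hy => by
          obtain ⟨x, hx, rfl⟩ := hf.surj hy
          rw [e x hx, e' x hx, cj_inv_cancel]⟩⟩ ?_ P f hf
    intro R hR _ f hf
    have hRS := hR.1
    haveI := finite_of_le hRS
    haveI := finite_mulAut (G := R)
    suffices key : ∀ α : F.autGroup R, ∃ s ∈ S, ∀ x : R, (((α : MulAut R) x : R) : Ω) = cj s x by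
      obtain ⟨s, hs, e⟩ := key ⟨hf.equiv, hf.equiv_mem_autGroup⟩
      exact ⟨s, hs, fun x hx => by rw [← e ⟨x, hx⟩]; rfl⟩
    intro α
    have hα : α ∈ pResidual p ↥(F.autGroup R) ⊔ (autInducedBy S R).subgroupOf (F.autGroup R) :=
      (autGroup_generated hS hF hR).symm ▸ Subgroup.mem_top α
    have hle : pResidual p ↥(F.autGroup R) ≤ (autInducedBy S R).subgroupOf (F.autGroup R) := by
      intro β hβ
      refine mem_autInducedBy.mpr ⟨1, S.one_mem, Subgroup.one_mem _, fun x => ?_⟩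
      have hx : (x : Ω)⁻¹ * (((β : MulAut R) x : R) : Ω) ∈ F.hyperfocalSubgroup p :=
        Subgroup.subset_closure ⟨R, β, x, hRS, hβ, rfl⟩
      rw [h, Subgroup.mem_bot, inv_mul_eq_one] at hx
      show (((β : MulAut R) x : R) : Ω) = cj 1 (x : Ω)
      rw [← hx, cj_one]
    rw [sup_eq_right.mpr hle] at hα
    obtain ⟨s, hs, -, e⟩ := mem_autInducedBy.mp hα
    exact ⟨s, hs, fun x => e x⟩
  refine isNormal_of_extStab le_rfl fun P f hf => ?_
  obtain ⟨s, hs, e⟩ := key P f hf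
  exact ⟨cj s, Mor.conj (sup_le hf.dom_le le_rfl) hs, fun x hx => (e x hx).symm,
    fun x hx => cj_mem hs hx⟩

/-- A system whose Sylow group is normal is solvable. -/
theorem solvable_of_normal_self [Finite S] (hS : IsPGroup p S) (hF : F.IsSaturated p)
    (h : F.hyperfocalSubgroup p = ⊥) : F.IsSolvableSystem := by
  intro R hR hRS hn E hE
  intro hcore
  have hSp : IsPGroup p (⊤ : Subgroup (↥S ⧸ R.subgroupOf S)) := (hS.to_quotient _).to_subgroup _
  have hEs := factor_saturated hS hF hR hE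
  have h' : E.hyperfocalSubgroup p = ⊥ := by
    rw [hyperfocal_factor hS hF hR hE, h]
    simp
  have h1 : (⊤ : Subgroup (↥S ⧸ R.subgroupOf S)) ≤ ⊥ :=
    hcore ▸ (le_sSup (isNormal_of_hyperfocal_bot hSp hEs h') :
      (⊤ : Subgroup (↥S ⧸ R.subgroupOf S)) ≤ E.core)
  refine hRS (le_antisymm hR.1 fun x hx => ?_)
  exact (QuotientGroup.eq_one_iff (⟨x, hx⟩ : S)).mp (Subgroup.mem_bot.mp (h1 (Subgroup.mem_top _)))

/-- A system over the trivial group is solvable. -/
theorem solvable_of_bot (hS1 : S = ⊥) : F.IsSolvableSystem :=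
  fun _ hR hne => absurd (le_antisymm hR.1 (hS1.le.trans bot_le)) hne

/-! ### Normal subsystems and normal subgroups of the model -/

theorem normal_sub_model [Finite S] (hS : IsPGroup p S) {G : Type*} [Group G] {ι : S →* G}
    (hM : F.IsModel p G ι) {T : Subgroup Ω} {E : FusionSystem T} (hE : E.IsNormalIn F p) :
    ∃ (H : Subgroup G) (ι' : T →* H), H.Normal ∧ E.IsModel p H ι' ∧
      ∀ (x : T) (hx : (x : Ω) ∈ S), (ι' x : G) = ι ⟨x, hx⟩ := by
  obtain ⟨hfin, hR, ⟨T₀, hT₀⟩, hC⟩ := hM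
  haveI := hfin
  obtain ⟨e, e', h, he⟩ := realized_sysIso hR
  have hrange : IsPGroup p ι.range := hT₀ ▸ T₀.isPGroup'
  rw [← hT₀] at h
  have hsub := hE.1.2.2.1
  have hTS : T ≤ S := tr_subsystem_base_le hsub
  haveI := finite_of_le hTS
  have hi := h.subSys_sysIso E hsub
  haveI : Finite (T₀ : Subgroup G) := inferInstance
  have hE' : (h.subSys E hsub).IsNormalIn (groupFusionSystem (T₀ : Subgroup G)) p :=
    h.transfer_normal hS T₀.isPGroup' hi hE
  obtain ⟨H, ⟨hTH, hHn, ⟨R, hRs⟩, hHom⟩, -⟩ :=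
    ModelNormalSys.exists_unique_normal T₀ (h.img_le T) hE' hC
  haveI := hHn
  have hmemT : ∀ x ∈ T, e x ∈ h.img T := fun x hx => hi.mem x hx
  let ι' : T →* H := MonoidHom.mk' (fun x => ⟨e x, hTH (hmemT x x.2)⟩)
    fun x y => Subtype.ext (h.map_mul x (hTS x.2) y (hTS y.2))
  have hι' : ∀ (x : T) (hx : (x : Ω) ∈ S), (ι' x : G) = ι ⟨x, hx⟩ := fun x hx => he ⟨x, hx⟩
  have hind := fusionOfSubgroup_inducedBy H (h.img T) hTH
  refine ⟨H, ι', hHn, ⟨inferInstance, ⟨?_, ?_⟩, ⟨R, ?_⟩, centralizer_pCore_normal hC H⟩, hι'⟩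
  · intro x y hxy
    have h1 : e x = e y := congrArg (Subtype.val : H → G) hxy
    exact Subtype.ext (by rw [← h.left x (hTS x.2), h1, h.left y (hTS y.2)])
  · intro P hP φ hφ
    have hPS := hP.trans hTS
    have himg : ∀ y, y ∈ h.img P ↔ ∃ x ∈ P, e x = y := fun _ => h.mem_img hPS
    constructor
    · intro hφE
      have hf := hi.push P _ (mor_of_mem hφE) (h.img P) himg
      have hm : Mor (fusionSystemOfSubgroup H (h.img T) hTH) (h.img P) (e ∘ extFun φ ∘ e') :=
        ⟨hf.hom, (hHom _) ▸ hf.hom_mem, fun _ => rfl⟩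
      obtain ⟨-, -, g, hg, eg⟩ := (hind _ _).mp hm
      refine ⟨⟨g, hg⟩, fun x => Subtype.ext ?_⟩
      have h1 := eg (e x) ((himg _).mpr ⟨x, x.2, rfl⟩)
      simp only [Function.comp_apply, h.left _ (hPS x.2), extFun_coe, cj_apply] at h1
      exact h1
    · rintro ⟨⟨g, hg⟩, eg⟩
      have eg' : ∀ x : P, e (φ x) = g * e x * g⁻¹ := fun x => congrArg (Subtype.val : H → G) (eg x)
      have hm : Mor (fusionSystemOfSubgroup H (h.img T) hTH) (h.img P) (cj g) := by
        refine (hind _ _).mpr ⟨fun y hy => ?_, fun y hy => ?_, g, hg, fun _ _ => rfl⟩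
        · obtain ⟨x, hx, rfl⟩ := (himg y).mp hy
          exact hmemT x (hP hx)
        · obtain ⟨x, hx, rfl⟩ := (himg y).mp hy
          rw [cj_apply, ← eg' ⟨x, hx⟩]
          exact hmemT _ (hφ ⟨x, hx⟩)
      have hm' : Mor (h.subSys E hsub) (h.img P) (cj g) := ⟨hm.hom, (hHom _).symm ▸ hm.hom_mem, fun _ => rfl⟩
      refine mem_iff_mor.mpr ((hi.push' (h.img P) _ hm' P fun x => ?_).congr fun x hx => ?_)
      · constructor
        · exact fun hx => ⟨e x, (himg _).mpr ⟨x, hx, rfl⟩, h.left x (hPS hx)⟩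
        · rintro ⟨y, hy, rfl⟩
          obtain ⟨z, hz, rfl⟩ := (himg y).mp hy
          rwa [h.left z (hPS hz)]
      · show e' (cj g (e x)) = extFun φ x
        rw [cj_apply, ← eg' ⟨x, hx⟩, h.left _ (hTS (hφ ⟨x, hx⟩))]
        exact (extFun_coe φ ⟨x, hx⟩).symm
  · rw [hRs]
    ext y
    rw [Subgroup.mem_subgroupOf, h.mem_img hTS]
    exact ⟨fun ⟨x, hx, e1⟩ => ⟨⟨x, hx⟩, Subtype.ext e1⟩, fun ⟨x, e1⟩ => ⟨x, x.2, congrArg Subtype.val e1⟩⟩

/-- The subsystem of a normal subgroup containing the Sylow subgroup, pulled back. -/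
theorem exists_pullback [Finite S] (hS : IsPGroup p S) {G : Type*} [Group G] {ι : S →* G}
    (hM : F.IsModel p G ι) (M : Subgroup G) [M.Normal] (hle : ι.range ≤ M) :
    ∃ D' : FusionSystem S, D'.IsNormalIn F p ∧ ∀ P f, Mor D' P f → ∀ (s : S) (_ : (s : Ω) ∈ P),
      ∃ t : S, (t : Ω) = f s ∧ ∃ m ∈ M, ι t = m * ι s * m⁻¹ ∧
        ∀ (r : S) (_ : (r : Ω) ∈ P), ∃ u : S, (u : Ω) = f r ∧ ι u = m * ι r * m⁻¹ := by
  obtain ⟨hfin, hR, ⟨T₀, hT₀⟩, -⟩ := hM
  haveI := hfin
  obtain ⟨e, e', h, he⟩ := realized_sysIso hR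
  rw [← hT₀] at h
  have hN := subgroup_fusion_normal T₀ M
  set E₀ := fusionSystemOfSubgroup M ((T₀ : Subgroup G) ⊓ M) inf_le_right
  have hsub := hN.1.2.2.1
  have hi := h.symm.subSys_sysIso E₀ hsub
  have hbase : h.symm.img ((T₀ : Subgroup G) ⊓ M) = S := by
    rw [inf_eq_left.mpr (hT₀ ▸ hle)]
    exact h.symm.img_self
  have hD := h.symm.transfer_normal (p := p) T₀.isPGroup' hS hi hN
  have hmor : ∀ P f, Mor (h.symm.subSys E₀ hsub) P f → ∀ (s : S) (_ : (s : Ω) ∈ P),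
      ∃ t : S, (t : Ω) = f s ∧ ∃ m ∈ M, ι t = m * ι s * m⁻¹ ∧
        ∀ (r : S) (_ : (r : Ω) ∈ P), ∃ u : S, (u : Ω) = f r ∧ ι u = m * ι r * m⁻¹ := by
    intro P f hf
    have hPS : P ≤ S := hf.dom_le.trans (h.symm.img_le _)
    have h1 := hi.push' P f hf (h.img P) fun y => h.mem_img hPS
    obtain ⟨-, -, m, hm, em⟩ := (fusionOfSubgroup_inducedBy _ _ _ _ _).mp h1
    have hval : ∀ (r : S) (_ : (r : Ω) ∈ P), ∃ u : S, (u : Ω) = f r ∧ ι u = m * ι r * m⁻¹ := by
      intro r hr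
      have hfr : f r ∈ S := h.symm.img_le _ (hf.map_mem hr)
      refine ⟨⟨f r, hfr⟩, rfl, ?_⟩
      have h2 := em (e r) ((h.mem_img hPS).mpr ⟨r, hr, rfl⟩)
      simp only [Function.comp_apply, h.left _ (hPS hr), cj_apply] at h2
      rw [← he ⟨f r, hfr⟩, h2, he r]
    intro s hs
    obtain ⟨t, ht, et⟩ := hval s hs
    exact ⟨t, ht, m, hm, et, hval⟩
  revert hD hmor
  generalize h.symm.subSys E₀ hsub = D₀
  revert D₀
  rw [hbase]
  exact fun D₀ hD hmor => ⟨D₀, hD, hmor⟩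

theorem hyperfocal_proper [Finite S] (hS : IsPGroup p S) (hF : F.IsSaturated p) {G : Type*} [Group G]
    {ι : S →* G} (hM : F.IsModel p G ι) (hsolv : IsPSolvable p G) (hS1 : S ≠ ⊥) {E : FusionSystem S}
    (hE : F.IsPPrimeResidual p E) : E.hyperfocalSubgroup p ≠ S := by
  intro hh
  haveI := hM.1
  obtain ⟨T₀, hT₀⟩ := hM.2.2.1
  set M : Subgroup G := Subgroup.closure {x | ∃ k : ℕ, orderOf x = p ^ k} with hMdef
  haveI hMn : M.Normal := ⟨fun x hx g => by
    have hle : M ≤ M.comap (MulAut.conj g).toMonoidHom := by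
      refine (Subgroup.closure_le _).mpr fun y hy => Subgroup.subset_closure ?_
      show ∃ k : ℕ, orderOf (MulAut.conj g y) = p ^ k
      rw [MulEquiv.orderOf_eq]; exact hy
    exact hle hx⟩
  have hpel : ∀ x : T₀, (x : G) ∈ M := fun x => Subgroup.subset_closure (by
    obtain ⟨k, hk⟩ := IsPGroup.iff_orderOf.mp T₀.isPGroup' x
    exact ⟨k, by rw [Subgroup.orderOf_coe]; exact hk⟩)
  obtain ⟨D', hD', hmor⟩ := exists_pullback hS hM M (hT₀ ▸ fun x hx => hpel ⟨x, hx⟩)
  have hsub : E.IsSubsystemOf D' :=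
    WeakResidual.residual_le_invariant ⟨hS, hF, (self_normal hS hF).1.1, (self_normal hS hF).1.2.2⟩
      ⟨hS, hF, hD'.1.1, hD'.1.2.2⟩ hE
  set L : Subgroup G := Subgroup.closure {x | x ∈ M ∧ (orderOf x).Coprime p} with hLdef
  haveI hLn : L.Normal := ⟨fun x hx g => by
    have hle : L ≤ L.comap (MulAut.conj g).toMonoidHom := by
      refine (Subgroup.closure_le _).mpr fun y hy => Subgroup.subset_closure ⟨hMn.conj_mem y hy.1 g, ?_⟩
      show (orderOf (MulAut.conj g y)).Coprime p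
      rw [MulEquiv.orderOf_eq]; exact hy.2
    exact hle hx⟩
  have hgen : E.hyperfocalSubgroup p ≤ (L.comap ι).map S.subtype := by
    refine hyperfocal_le_of fun P f k hf hk hfk x hx => ?_
    have hxS : x ∈ S := hf.dom_le hx
    have hfD := subsystem_mor hsub hf.mor
    obtain ⟨t, ht, m, hm, et, hall⟩ := hmor P f hfD ⟨x, hxS⟩ hx
    have hiter : ∀ j : ℕ, ∃ u : S, (u : Ω) = f^[j] x ∧ (u : Ω) ∈ P ∧
        ι u = m ^ j * ι ⟨x, hxS⟩ * (m ^ j)⁻¹ := by
      intro j
      induction j with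
      | zero => exact ⟨⟨x, hxS⟩, rfl, hx, by simp⟩
      | succ j ih =>
        obtain ⟨u, hu, huP, eu⟩ := ih
        obtain ⟨v, hv, ev⟩ := hall u huP
        refine ⟨v, ?_, ?_, ?_⟩
        · rw [Function.iterate_succ_apply', ← hu, hv]
        · rw [hv]; exact hf.mapsTo huP
        · rw [ev, eu, pow_succ']; group
    obtain ⟨a, l, ha, hl, hdvd⟩ := exists_pprime_exponent (Fact.out : p.Prime) hk (orderOf_pos m).ne'
    obtain ⟨u, hu, -, eu⟩ := hiter a
    have hua : (u : Ω) = f x := by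
      have hfix : ∀ i, f^[k * i] x = x := by
        intro i
        induction i with
        | zero => rfl
        | succ i ih => rw [Nat.mul_succ, Function.iterate_add_apply, hfk x hx, ih]
      rw [hu, ← Nat.mod_add_div a k, Function.iterate_add_apply, hfix, ha]
      by_cases hk1 : k = 1
      · subst hk1
        have := hfk x hx
        simpa using this.symm
      · have hk0 : k ≠ 0 := fun e => by
          rw [e, Nat.coprime_zero_left] at hk
          exact (Fact.out : p.Prime).ne_one hk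
        rw [Nat.mod_eq_of_lt (show 1 < k by omega)]
        rfl
    refine ⟨(⟨x, hxS⟩ : S)⁻¹ * u, ?_, by simp [hua]⟩
    have hg : m ^ a ∈ L := Subgroup.subset_closure ⟨pow_mem hm a, Nat.Coprime.coprime_dvd_left
      (orderOf_dvd_of_pow_eq_one (by rw [← pow_mul]; exact orderOf_dvd_iff_pow_eq_one.mp hdvd)) hl⟩
    show ι ((⟨x, hxS⟩ : S)⁻¹ * u) ∈ L
    rw [map_mul, map_inv, eu,
      show (ι ⟨x, hxS⟩)⁻¹ * (m ^ a * ι ⟨x, hxS⟩ * (m ^ a)⁻¹) =
        ((ι ⟨x, hxS⟩)⁻¹ * m ^ a * (ι ⟨x, hxS⟩)⁻¹⁻¹) * (m ^ a)⁻¹ by group]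
    exact L.mul_mem (hLn.conj_mem _ hg _) (L.inv_mem hg)
  have hTL : ∀ x ∈ (T₀ : Subgroup G), x ∈ L := by
    intro x hx
    rw [hT₀] at hx
    obtain ⟨s, rfl⟩ := hx
    obtain ⟨t, ht, et⟩ := hgen (hh.symm ▸ s.2 : (s : Ω) ∈ E.hyperfocalSubgroup p)
    rw [← Subtype.ext et]
    exact ht
  have hMbot : M = ⊥ := by
    refine eq_bot_of_generated hsolv (fun N hN => le_trans (b := L) ?_ ((Subgroup.closure_le N).mpr fun x hx => hN x hx.1 hx.2))
      (fun N hN => (Subgroup.closure_le N).mpr fun x hx => hN x (Subgroup.subset_closure hx) hx)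
    refine (Subgroup.closure_le _).mpr fun x hx => ?_
    obtain ⟨k, hk⟩ := hx
    obtain ⟨Q, hQ⟩ := (IsPGroup.of_card (n := k) (by rw [Nat.card_zpowers, hk]) :
      IsPGroup p (Subgroup.zpowers x)).exists_le_sylow
    obtain ⟨c, rfl⟩ := MulAction.exists_smul_eq G T₀ Q
    have hxQ : x ∈ (T₀ : Subgroup G).map (MulAut.conj c).toMonoidHom := by
      have h1 := hQ (Subgroup.mem_zpowers x)
      rw [Sylow.coe_subgroup_smul] at h1
      exact h1
    obtain ⟨y, hy, e⟩ := Subgroup.mem_map.mp hxQ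
    rw [← e]
    exact hLn.conj_mem y (hTL y hy) c
  refine hS1 ((Subgroup.eq_bot_iff_forall _).mpr fun x hx => ?_)
  have h1 : ι ⟨x, hx⟩ ∈ M := hpel ⟨ι ⟨x, hx⟩, (show ι ⟨x, hx⟩ ∈ (T₀ : Subgroup G) by rw [hT₀]; exact ⟨_, rfl⟩)⟩
  rw [hMbot, Subgroup.mem_bot] at h1
  exact congrArg Subtype.val (hM.2.1.1 (h1.trans (map_one ι).symm))

/-! ### The two implications -/

theorem terminating_of_model : ∀ (n : ℕ) {S : Subgroup Ω} [Finite S], Nat.card S = n → IsPGroup p S →
    ∀ (F : FusionSystem S), F.IsSaturated p → ∀ (G : Type u) [Group G] (ι : S →* G),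
      F.IsModel p G ι → IsPSolvable p G → F.HasTerminatingResidualSeries p := by
  intro n
  induction n using Nat.strong_induction_on with
  | _ n ih =>
  intro S _ hn hS F hF G _ ι hM hsolv
  by_cases hS1 : S = ⊥
  · exact .trivial F p hS1
  haveI := hM.1
  have c : WeakResidual.WCtx F F p := ⟨hS, hF, (self_normal hS hF).1.1, (self_normal hS hF).1.2.2⟩
  obtain ⟨E, hE⟩ := SatCrit.exists_residual hS hF
  have hEn : E.IsNormalIn F p := c.residual_isNormal hE
  obtain ⟨D, hD⟩ := exists_pPower_system (Nat.card S) rfl hS E hE.1 _ hyperfocal_le le_rfl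
  have hDn := pResidual_normal hS hE.1 (D := D) hD
  obtain ⟨H, ι₁, _, hM₁, -⟩ := normal_sub_model hS hM hEn
  obtain ⟨K, ι₂, _, hM₂, -⟩ := normal_sub_model hS hM₁ hDn
  haveI := finite_of_le (hyperfocal_le (F := E) (p := p))
  have hlt : Nat.card (E.hyperfocalSubgroup p) < n := by
    rw [← hn]
    exact lt_of_le_of_ne (card_le_of_le hyperfocal_le) fun e =>
      hyperfocal_proper hS hF hM hsolv hS1 hE (Subgroup.eq_of_le_of_card_ge hyperfocal_le e.ge)
  exact .step F E p D hE hD (ih _ hlt rfl (hS.to_le hyperfocal_le) D hD.1 K ι₂ hM₂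
    (Core.isPSolvable_subgroup (Core.isPSolvable_subgroup hsolv H) K))

theorem isPSolvable_residual_step [Finite S] (hS : IsPGroup p S) {E : FusionSystem S}
    {D : FusionSystem (E.hyperfocalSubgroup p)} (hD : E.IsPResidual p D) {H : Type*} [Group H] {ιE : S →* H}
    (hM : E.IsModel p H ιE) (K : Subgroup H) [hKn : K.Normal] {ιD : E.hyperfocalSubgroup p →* K}
    (hMK : D.IsModel p K ιD)
    (hcomp : ∀ (x : E.hyperfocalSubgroup p) (hx : (x : Ω) ∈ S), (ιD x : H) = ιE ⟨x, hx⟩)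
    (hK : IsPSolvable p K) : IsPSolvable p H := by
  obtain ⟨hfin, hR, ⟨T, hT⟩, hC⟩ := hM
  haveI := hfin
  obtain ⟨hQn, hQp, hQT⟩ := pCore_pGroup_normal T
  set Q := pCore p H
  haveI := hQn
  haveI := finite_of_le (hyperfocal_le (F := E) (p := p))
  obtain ⟨TK, hTK⟩ := hMK.2.2.1
  set R : Subgroup H := Q ⊓ K with hRdef
  set PQ : Subgroup Ω := (Q.comap ιE).map S.subtype with hPQ
  set PR : Subgroup Ω := (R.comap ιE).map S.subtype with hPR
  have hPQS : PQ ≤ S := Subgroup.map_subtype_le _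
  have hmemPQ : ∀ s : S, (s : Ω) ∈ PQ ↔ ιE s ∈ Q := fun s =>
    ⟨fun ⟨t, ht, e⟩ => Subtype.ext e ▸ ht, fun h => ⟨s, h, rfl⟩⟩
  have hRT : ∀ s : S, ιE s ∈ R → (s : Ω) ∈ E.hyperfocalSubgroup p := by
    intro s hs
    have h1 : (⟨ιE s, hs.2⟩ : K) ∈ (TK : Subgroup K) :=
      (pCore_pGroup_normal TK).2.2 (le_pCore_of_normal inferInstance (hQp.to_le inf_le_left).comap_subtype
        (show (⟨ιE s, hs.2⟩ : K) ∈ R.subgroupOf K from hs))
    rw [hTK] at h1
    obtain ⟨x, hx⟩ := h1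
    have h2 := (hcomp x (hyperfocal_le x.2)).symm.trans (congrArg Subtype.val hx)
    rw [← hR.1 h2]
    exact x.2
  have hPRT : PR ≤ E.hyperfocalSubgroup p := by
    rintro _ ⟨s, hs, rfl⟩; exact hRT s hs
  have key : ∀ h : H, (orderOf h).Coprime p → h ∈ K := by
    intro h hco
    -- conjugation by `h` on `PQ`
    have hconj : ∀ s : S, (s : Ω) ∈ PQ → h * ιE s * h⁻¹ ∈ ιE.range := fun s hs => by
      rw [← hT]; exact hQT (hQn.conj_mem _ ((hmemPQ s).mp hs) h)
    obtain ⟨f, hf, ef⟩ := realized_mor_of_conj hR hPQS h hconj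
    have hfQ : ∀ x ∈ PQ, f x ∈ PQ := by
      intro x hx
      obtain ⟨t, ht, et⟩ := ef ⟨x, hPQS hx⟩ hx
      rw [← ht, hmemPQ, et]
      exact hQn.conj_mem _ ((hmemPQ _).mp hx) h
    haveI := finite_of_le hPQS
    have hiso : Iso E f PQ PQ := hf.iso_of_card hfQ le_rfl
    have hit : ∀ (j : ℕ) (s : S), (s : Ω) ∈ PQ →
        ∃ t : S, (t : Ω) = f^[j] s ∧ ιE t = h ^ j * ιE s * (h ^ j)⁻¹ := by
      intro j s hs
      induction j with
      | zero => exact ⟨s, rfl, by simp⟩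
      | succ j ih =>
        obtain ⟨t, ht, et⟩ := ih
        obtain ⟨v, hv, ev⟩ := ef t (by rw [ht]; exact iterate_mapsTo hfQ j _ hs)
        exact ⟨v, by rw [Function.iterate_succ_apply', ← ht, hv], by rw [ev, et, pow_succ']; group⟩
    have hfk : ∀ x ∈ PQ, f^[orderOf h] x = x := by
      intro x hx
      obtain ⟨t, ht, et⟩ := hit (orderOf h) ⟨x, hPQS hx⟩ hx
      rw [pow_orderOf_eq_one] at et
      rw [← ht, hR.1 (show ιE t = ιE ⟨x, hPQS hx⟩ by simpa using et)]
    have hQK : ∀ q ∈ Q, h * q * h⁻¹ * q⁻¹ ∈ K := by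
      intro q hq
      obtain ⟨s, rfl⟩ : q ∈ ιE.range := hT ▸ hQT hq
      have hs : (s : Ω) ∈ PQ := (hmemPQ s).mpr hq
      obtain ⟨t, ht, et⟩ := ef s hs
      have h1 : ((s⁻¹ * t : S) : Ω) ∈ E.hyperfocalSubgroup p := by
        rw [Subgroup.coe_mul, Subgroup.coe_inv, ht]
        exact mem_hyperfocal_gen hiso hco hfk hs
      have h2 : ιE (s⁻¹ * t) ∈ K := by
        rw [← hcomp ⟨_, h1⟩ (s⁻¹ * t).2]; exact SetLike.coe_mem _
      rw [map_mul, map_inv, et] at h2
      have h3 := hKn.conj_mem _ h2 (ιE s)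
      rwa [← mul_assoc, mul_inv_cancel, one_mul] at h3
    have hPR_le : PR ≤ PQ := Subgroup.map_mono (Subgroup.comap_mono inf_le_left)
    haveI := finite_of_le (hPR_le.trans hPQS)
    have hfR : ∀ x ∈ PR, f x ∈ PR := by
      intro x hx
      have hxS := hPQS (hPR_le hx)
      obtain ⟨t, ht, et⟩ := ef ⟨x, hxS⟩ (hPR_le hx)
      refine ⟨t, ?_, ht⟩
      obtain ⟨s, hs, e⟩ := hx
      show ιE t ∈ R
      rw [et, ← (Subtype.ext e : s = ⟨x, hxS⟩)]
      exact ⟨hQn.conj_mem _ hs.1 h, hKn.conj_mem _ hs.2 h⟩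
    have hisoR : Iso E f PR PR := (hiso.mor.restrict hPR_le).iso_of_card hfR le_rfl
    have hfD : Mor D PR f := pPower_coprime_mem hD.2 hisoR hPRT hco fun x hx => hfk x (hPR_le hx)
    obtain ⟨k, hk⟩ := realized_conj_of_mor hMK.2.1 hfD
    -- `k⁻¹ * h` lies in `Q`
    let C : Subgroup H := Subgroup.centralizer (R : Set H) ⊓
      (Subgroup.centralizer ((Q.map (QuotientGroup.mk' R) : Subgroup (H ⧸ R)) : Set (H ⧸ R))).comap
        (QuotientGroup.mk' R)
    have hCn : C.Normal := by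
      haveI : (Q.map (QuotientGroup.mk' R)).Normal := hQn.map _ (QuotientGroup.mk'_surjective R)
      infer_instance
    have hCmem : ∀ x : H, x ∈ C ↔ (∀ r ∈ R, x * r = r * x) ∧ ∀ q ∈ Q, x * q * x⁻¹ * q⁻¹ ∈ R := by
      intro x
      simp only [C, Subgroup.mem_inf, Subgroup.mem_centralizer_iff, Subgroup.mem_comap, SetLike.mem_coe,
        Subgroup.mem_map]
      refine and_congr ⟨fun hh r hr => (hh r hr).symm, fun hh r hr => (hh r hr).symm⟩ ?_
      constructor
      · intro hh q hq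
        rw [← QuotientGroup.eq_one_iff]
        have h1 := hh _ ⟨q, hq, rfl⟩
        simp only [QuotientGroup.mk'_apply] at h1
        simp only [QuotientGroup.mk_mul, QuotientGroup.mk_inv]
        rw [← h1]; group
      · rintro hh _ ⟨q, hq, rfl⟩
        have h1 := (QuotientGroup.eq_one_iff _).mpr (hh q hq)
        simp only [QuotientGroup.mk_mul, QuotientGroup.mk_inv, mul_inv_eq_one, mul_inv_eq_iff_eq_mul] at h1
        rw [one_mul] at h1
        exact h1.symm
    have hCp : IsPGroup p C := isPGroup_of_no_pprime fun x hx hxo =>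
      pprime_trivial hQp inf_le_left hC hxo ((hCmem x).mp hx).1 ((hCmem x).mp hx).2
    have hc : (k : H)⁻¹ * h ∈ C := by
      refine (hCmem _).mpr ⟨fun r hr => ?_, fun q hq => ?_⟩
      · obtain ⟨s, rfl⟩ : r ∈ ιE.range := hT ▸ hQT hr.1
        have hs : (s : Ω) ∈ PR := ⟨s, hr, rfl⟩
        obtain ⟨t, ht, et⟩ := ef s (hPR_le hs)
        have h1 := congrArg (Subtype.val : K → H) (hk ⟨s, hPRT hs⟩ hs)
        simp only [Subgroup.coe_mul, Subgroup.coe_inv] at h1
        rw [hcomp _ (hPQS (hfQ _ (hPR_le hs))), hcomp ⟨s, hPRT hs⟩ s.2] at h1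
        have h2 : ιE t = (k : H) * ιE s * (k : H)⁻¹ := by
          rw [← h1]; exact congrArg ιE (Subtype.ext ht)
        rw [et] at h2
        calc (k : H)⁻¹ * h * ιE s = (k : H)⁻¹ * (h * ιE s * h⁻¹) * h := by group
          _ = ιE s * ((k : H)⁻¹ * h) := by rw [h2]; group
      · refine ⟨Q.mul_mem (hQn.conj_mem q hq _) (Q.inv_mem hq), ?_⟩
        rw [show (k : H)⁻¹ * h * q * ((k : H)⁻¹ * h)⁻¹ * q⁻¹ =
          (k : H)⁻¹ * (h * q * h⁻¹ * q⁻¹) * (q * k * q⁻¹) by group]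
        exact K.mul_mem (K.mul_mem (K.inv_mem k.2) (hQK q hq)) (hKn.conj_mem _ k.2 q)
    have hcQ : (k : H)⁻¹ * h ∈ Q := le_pCore_of_normal hCn hCp hc
    obtain ⟨i, hi⟩ := hQp ⟨_, hcQ⟩
    have hi' : ((k : H)⁻¹ * h) ^ p ^ i = 1 := congrArg Subtype.val hi
    refine (QuotientGroup.eq_one_iff h).mp ?_
    have h1 : (h : H ⧸ K) = (((k : H)⁻¹ * h : H) : H ⧸ K) := by
      rw [QuotientGroup.mk_mul, QuotientGroup.mk_inv, (QuotientGroup.eq_one_iff (k : H)).mpr k.2, inv_one, one_mul]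
    have h2 : (h : H ⧸ K) ^ p ^ i = 1 := by rw [h1, ← QuotientGroup.mk_pow, hi', QuotientGroup.mk_one]
    have h3 : (h : H ⧸ K) ^ orderOf h = 1 := by
      rw [← QuotientGroup.mk_pow, pow_orderOf_eq_one, QuotientGroup.mk_one]
    have h4 : (h : H ⧸ K) ^ Nat.gcd (orderOf h) (p ^ i) = 1 := pow_gcd_eq_one.mpr ⟨h3, h2⟩
    rwa [(hco.pow_right i : (orderOf h).Coprime (p ^ i)), pow_one] at h4
  have hq : IsPGroup p (H ⧸ K) := by
    intro y
    induction y using QuotientGroup.induction_on with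
    | H y =>
      obtain ⟨a, ha⟩ := exists_pprime_pow (p := p) y
      exact ⟨a, (QuotientGroup.eq_one_iff _).mpr (key _ ha)⟩
  haveI : Group.IsNilpotent (H ⧸ K) := hq.isNilpotent
  exact Core.isPSolvable_of_normal K hK Core.isPSolvable_of_isSolvable

theorem solvable_and_model_of_terminating {q : ℕ} {S : Subgroup Ω} {F : FusionSystem S}
    (hterm : F.HasTerminatingResidualSeries q) :
    ∀ [Fact q.Prime] [Finite S], IsPGroup q S → F.IsSaturated q → F.IsSolvableSystem ∧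
      ∀ (G : Type u) [Group G] (ι : S →* G), F.IsModel q G ι → IsPSolvable q G := by
  induction hterm with
  | @trivial S F p hS1 =>
    intro _ _ hS hF
    refine ⟨solvable_of_bot hS1, fun G _ ι hM => ?_⟩
    obtain ⟨hfin, -, ⟨T, hT⟩, hC⟩ := hM
    haveI := hfin
    have hT1 : (T : Subgroup G) = ⊥ := by
      rw [hT]
      refine (Subgroup.eq_bot_iff_forall _).mpr ?_
      rintro _ ⟨s, rfl⟩
      rw [show s = 1 from Subtype.ext (Subgroup.mem_bot.mp (hS1 ▸ s.2 : (s : Ω) ∈ (⊥ : Subgroup Ω)))]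
      exact map_one ι
    have hQ : pCore p G = ⊥ := le_bot_iff.mp (hT1 ▸ (pCore_pGroup_normal T).2.2)
    rw [hQ] at hC
    have htop : (⊤ : Subgroup G) = ⊥ := le_bot_iff.mp fun x _ => hC (Subgroup.mem_centralizer_iff.mpr
      fun y hy => by rw [Subgroup.mem_bot.mp hy, one_mul, mul_one])
    exact ⟨0, fun _ => ⊥, rfl, htop.symm, monotone_const, fun _ => inferInstance, fun i => i.elim0⟩
  | @step S F E p D hE hD _ ih =>
    intro _ _ hS hF
    haveI := finite_of_le (hyperfocal_le (F := E) (p := p))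
    obtain ⟨hDs, hDm⟩ := ih (hS.to_le hyperfocal_le) hD.1
    have hFw : F.IsWeaklyNormalIn F p := (self_normal hS hF).1
    have hEn : E.IsNormalIn F p := WeakResidual.WCtx.residual_isNormal ⟨hS, hF, hFw.1, hFw.2.2⟩ hE
    have hDn := pResidual_normal hS hE.1 hD
    have hT := hDn.1.2.2.2.1
    haveI := stronglyClosed_subgroupOf_normal hT
    obtain ⟨E₁, hE₁⟩ := exists_factorSystem_quotient E (E.hyperfocalSubgroup p) hT
    have hSp : ∀ (U : Subgroup Ω) [(U.subgroupOf S).Normal],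
        IsPGroup p (⊤ : Subgroup (↥S ⧸ U.subgroupOf S)) := fun U _ => (hS.to_quotient _).to_subgroup _
    have hE₁s : E₁.IsSolvableSystem := by
      refine solvable_of_normal_self (hSp _) (factor_saturated hS hE.1 hT hE₁) ?_
      rw [hyperfocal_factor hS hE.1 hT hE₁]
      refine (Subgroup.eq_bot_iff_forall _).mpr ?_
      rintro _ ⟨x, hx, rfl⟩
      exact (hE₁.2.1 x).mpr hx
    have hEs : E.IsSolvableSystem := (solvable_normal_iff hS hE.1 hDn.1 hE₁).mpr ⟨hDs, hE₁s⟩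
    have hTop := hEn.1.2.2.2.1
    haveI := stronglyClosed_subgroupOf_normal hTop
    obtain ⟨F₁, hF₁⟩ := exists_factorSystem_quotient F S hTop
    have hF₁s : F₁.IsSolvableSystem := by
      refine solvable_of_bot ((Subgroup.eq_bot_iff_forall _).mpr fun y _ => ?_)
      induction y using QuotientGroup.induction_on with
      | H s => exact (QuotientGroup.eq_one_iff s).mpr s.2
    refine ⟨(solvable_normal_iff hS hF hEn.1 hF₁).mpr ⟨hEs, hF₁s⟩, fun G _ ι hM => ?_⟩
    haveI := hM.1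
    obtain ⟨H, ι₁, hHn, hM₁, hc₁⟩ := normal_sub_model hS hM hEn
    obtain ⟨K, ι₂, hKn, hM₂, hc₂⟩ := normal_sub_model hS hM₁ hDn
    have hH : IsPSolvable p H :=
      isPSolvable_residual_step hS hD hM₁ K hM₂ hc₂ (hDm K ι₂ hM₂)
    obtain ⟨T₀, hT₀⟩ := hM.2.2.1
    have hle : (T₀ : Subgroup G) ≤ H := by
      rw [hT₀]
      rintro _ ⟨s, rfl⟩
      rw [← hc₁ s s.2]; exact SetLike.coe_mem _
    haveI := hHn
    refine Core.isPSolvable_of_normal H hH ?_
    refine ⟨1, ![⊥, ⊤], rfl, rfl, ?_, fun i => ?_, fun i => Or.inr ?_⟩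
    · intro i j hij
      fin_cases i <;> fin_cases j <;> simp_all
    · fin_cases i <;> simp <;> infer_instance
    · have hi : i = 0 := Subsingleton.elim _ _
      subst hi
      show ((⊥ : Subgroup (G ⧸ H)).relIndex ⊤).Coprime p
      rw [Subgroup.relIndex_bot_left, Nat.card_congr Subgroup.topEquiv.toEquiv, ← Subgroup.index_eq_card]
      exact ((Fact.out : p.Prime).coprime_iff_not_dvd.mpr fun hd =>
        T₀.not_dvd_index (hd.trans (Subgroup.index_dvd_of_le hle))).symm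

theorem terminating_iff [Finite S] (hS : IsPGroup p S) (hF : F.IsSaturated p) :
    F.HasTerminatingResidualSeries p ↔
      (F.IsConstrained p ∧ ∀ (G : Type u) [Group G] (ι : S →* G), F.IsModel p G ι → IsPSolvable p G) := by
  constructor
  · intro h
    obtain ⟨h1, h2⟩ := solvable_and_model_of_terminating h hS hF
    exact ⟨solvable_constrained hS hF h1, h2⟩
  · rintro ⟨hc, h⟩
    obtain ⟨G, _, ι, hM⟩ := exists_model hS hc
    exact terminating_of_model _ rfl hS F hF G ι hM (h G ι hM)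

end Cfsg.Agent.Fusion.Terminating
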