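/-
The envelope of a normal subsystem with `p`-solvable automizer quotient.
-/
import Cfsg.Agent.Fusion.LimitPrime
import Cfsg.Agent.Fusion.CharSys
import Cfsg.Agent.Fusion.StrongInvariant
import Cfsg.Agent.Fusion.TerminatingSeries
import Cfsg.Agent.Fusion.CentFix
set_option autoImplicit false
set_option linter.style.haveILetI false
set_option linter.unusedSectionVars false

namespace Cfsg.Agent.Fusion.Envelope

open Cfsg Cfsg.FusionSystem Cfsg.Agent.Fusion.SatCrit Cfsg.Agent.Fusion.WeakResidual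
open Cfsg.Agent.Fusion.CharSys Cfsg.Agent.Fusion.Limit

universe u

/-! ### Group lemmas -/

/-- The subgroup generated by `B` and the elements of `A` of the orders in `q`. -/
def Gen {G : Type*} [Group G] (A B : Subgroup G) (q : ℕ → Prop) : Subgroup G :=
  Subgroup.closure ((B : Set G) ∪ {x | x ∈ A ∧ q (orderOf x)})

section Gen

variable {G : Type*} [Group G] {A B : Subgroup G} {q : ℕ → Prop}

theorem le_gen : B ≤ Gen A B q := fun _ hx => Subgroup.subset_closure (Or.inl hx)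

theorem mem_gen {x : G} (hx : x ∈ A) (h : q (orderOf x)) : x ∈ Gen A B q :=
  Subgroup.subset_closure (Or.inr ⟨hx, h⟩)

theorem gen_le {N : Subgroup G} (hB : B ≤ N) (h : ∀ x ∈ A, q (orderOf x) → x ∈ N) : Gen A B q ≤ N :=
  (Subgroup.closure_le _).mpr (Set.union_subset hB fun x hx => h x hx.1 hx.2)

theorem gen_map (Φ : G ≃* G) (hA : ∀ x ∈ A, Φ x ∈ A) (hB : ∀ x ∈ B, Φ x ∈ B) {x : G}
    (hx : x ∈ Gen A B q) : Φ x ∈ Gen A B q := by
  have h : Gen A B q ≤ (Gen A B q).comap Φ.toMonoidHom := gen_le (fun y hy => le_gen (hB y hy))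
    fun y hy hq => mem_gen (hA y hy) (show q (orderOf (Φ y)) by rwa [MulEquiv.orderOf_eq])
  exact h hx

theorem gen_conj (hBn : ∀ a ∈ A, ∀ b ∈ B, a * b * a⁻¹ ∈ B) {a x : G} (ha : a ∈ A)
    (hx : x ∈ Gen A B q) : a * x * a⁻¹ ∈ Gen A B q :=
  gen_map (MulAut.conj a) (fun _ hy => A.mul_mem (A.mul_mem ha hy) (A.inv_mem ha)) (hBn a ha) hx

theorem gen_normal (hBn : ∀ a ∈ A, ∀ b ∈ B, a * b * a⁻¹ ∈ B) :
    ((Gen A B q).subgroupOf A).Normal :=
  ⟨fun _ hx a => gen_conj hBn a.2 hx⟩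

end Gen

variable {Ω : Type u} [Group Ω] {S T M U : Subgroup Ω} {F : FusionSystem S} {E : FusionSystem T}
  {p : ℕ} {σ σ' a : Ω → Ω}

/-! ### Elementary lemmas -/

theorem centralizerIn_eq (hU : U ≤ S) (h : centralizerIn S T ≤ U) :
    centralizerIn U T = centralizerIn S T :=
  le_antisymm (inf_le_inf_right _ hU) (le_inf h inf_le_right)

theorem fullyNormalized_of_stronglyClosed [Finite S] (hT : F.StronglyClosed T) :
    F.IsFullyNormalized T := by
  refine ⟨hT.1, fun Q _ => ?_⟩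
  have h1 : normalizerIn S T = S :=
    le_antisymm normalizerIn_le (fun s hs => ⟨hs, stronglyClosed_normalized hT hs⟩)
  rw [h1]
  exact card_le_of_le normalizerIn_le

theorem stronglyClosed_mk (hT : T ≤ S)
    (h : ∀ P f, Mor F P f → ∀ x ∈ P, x ∈ T → f x ∈ T) : F.StronglyClosed T :=
  ⟨hT, fun P hP φ hφ x => extFun_coe φ x ▸ h P _ (mor_of_mem hφ) x x.2 (hP x.2)⟩

theorem isCentric_img {G : FusionSystem S} {P : Subgroup Ω} (h : SysIso G G σ σ') (hP : G.IsCentric P) :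
    G.IsCentric (h.img P) := by
  refine ⟨h.img_le P, fun Q hQ x hx => ?_⟩
  have h1 : G.IsConj P (h.symm.img Q) := by
    have := h.symm.isConj hQ
    rwa [h.img_img hP.1] at this
  have hQS : Q ≤ S := by
    obtain ⟨u, hu⟩ := isConj_iff.mp hQ
    exact hu.cod_le
  exact (h.symm.mem_img_apply hQS hx.1).mp
    (hP.2 _ h1 ⟨h.mem' x hx.1, (h.symm.mem_centralizer_img hQS hx.1).mpr hx.2⟩)

/-- The automorphism of `T` given by a symmetry of `E`. -/
def tEquiv (h : SysIso E E σ σ') : T ≃* T where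
  toFun x := ⟨σ x, h.mem _ x.2⟩
  invFun x := ⟨σ' x, h.mem' _ x.2⟩
  left_inv x := Subtype.ext (h.left _ x.2)
  right_inv x := Subtype.ext (h.right _ x.2)
  map_mul' x y := Subtype.ext (h.map_mul _ x.2 _ y.2)

/-- Its action on the automorphisms of `T`. -/
def tConj (h : SysIso E E σ σ') : MulAut T ≃* MulAut T := MulAut.congr (tEquiv h)

theorem tConj_apply (h : SysIso E E σ σ') (α : MulAut T) (y : T) :
    ((tConj h α y : T) : Ω) = σ (((α ⟨σ' y, h.mem' _ y.2⟩ : T) : Ω)) := rfl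

theorem tConj_af (h : SysIso E E σ σ') (α : MulAut T) {x : Ω} (hx : x ∈ T) :
    af (tConj h α) (σ x) = σ (af α x) := by
  rw [af_apply _ (h.mem x hx), tConj_apply, af_apply α hx]
  congr 3
  exact Subtype.ext (h.left x hx)

theorem tConj_mem [Finite T] (hE : SysIso E E σ σ') {S' : Subgroup Ω} {G : FusionSystem S'}
    (hG : SysIso G G σ σ') (hT : T ≤ S') {α : MulAut T} (hα : α ∈ G.autGroup T) :
    tConj hE α ∈ G.autGroup T := by
  obtain ⟨f, hf, ef⟩ := (mem_autGroup_iff hT).mp hα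
  have hm := hG.push T f hf.mor T fun y =>
    ⟨fun hy => ⟨σ' y, hE.mem' y hy, hE.right y hy⟩, fun ⟨x, hx, e⟩ => e ▸ hE.mem x hx⟩
  refine (mem_autGroup_iff hT).mpr ⟨_, hm.iso_of_card
    (fun y hy => hE.mem _ (hf.mapsTo (hE.mem' y hy))) le_rfl, fun y => ?_⟩
  rw [tConj_apply, ← ef ⟨σ' y, hE.mem' _ y.2⟩]
  rfl

/-- Invariance from symmetries and the Frattini condition. -/
theorem invariant_mk {F₀ : FusionSystem M} (hsub : F₀.IsSubsystemOf F) (hM : F.StronglyClosed M)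
    (hsym : ∀ a, Iso F a M M → ∃ a', SysIso F₀ F₀ a a')
    (hfr : ∀ P f, P ≤ M → Mor F P f → ∃ a g, Iso F a M M ∧ Mor F₀ P g ∧ ∀ x ∈ P, f x = a (g x)) :
    F₀.IsInvariantIn F := by
  refine ⟨hsub, hM, fun P hPM φ hφ α hα => ?_, fun P hPM φ hφ => ?_⟩
  · obtain ⟨a, ha, ea⟩ := (mem_autGroup_iff hM.1).mp hα
    obtain ⟨a', hs⟩ := hsym a ha
    set P' := (P.subgroupOf M).map (M.subtype.comp α.toMonoidHom)
    have hm := hs.push P _ (mor_of_mem hφ) P' fun y => by
      constructor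
      · rintro ⟨x, hx, rfl⟩
        exact ⟨x, hx, ea x⟩
      · rintro ⟨x, hx, rfl⟩
        exact ⟨⟨x, hPM hx⟩, hx, (ea ⟨x, hPM hx⟩).symm⟩
    refine ⟨hm.hom, hm.hom_mem, fun x hφx hαx => ?_⟩
    show a (extFun φ (a' ((α ⟨x, hPM x.2⟩ : M) : Ω))) = _
    rw [← ea ⟨x, hPM x.2⟩, hs.left _ (hPM x.2), extFun_coe]
    exact ea ⟨φ x, hφx⟩
  · obtain ⟨a, g, ha, hg, e⟩ := hfr P _ hPM (mor_of_mem hφ)
    refine ⟨ha.equiv, ha.equiv_mem_autGroup, hg.hom, hg.hom_mem, fun x hx => ?_⟩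
    rw [← extFun_coe φ x, e x x.2]
    rfl

theorem sysIso_comp {G : FusionSystem S} {b b' : Ω → Ω} (h₁ : SysIso G G σ σ') (h₂ : SysIso G G b b') :
    SysIso G G (b ∘ σ) (σ' ∘ b') where
  mem x hx := h₂.mem _ (h₁.mem x hx)
  mem' x hx := h₁.mem' _ (h₂.mem' x hx)
  left x hx := by show σ' (b' (b (σ x))) = x; rw [h₂.left _ (h₁.mem x hx), h₁.left x hx]
  right x hx := by show b (σ (σ' (b' x))) = x; rw [h₁.right _ (h₂.mem' x hx), h₂.right x hx]
  map_mul x hx y hy := by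
    show b (σ (x * y)) = b (σ x) * b (σ y)
    rw [h₁.map_mul x hx y hy, h₂.map_mul _ (h₁.mem x hx) _ (h₁.mem y hy)]
  push P f hf P' hP' := h₂.push _ _ (h₁.mor hf) P' fun y => by
    rw [hP']
    exact ⟨fun ⟨x, hx, e⟩ => ⟨σ x, (h₁.mem_img hf.dom_le).mpr ⟨x, hx, rfl⟩, e⟩, fun ⟨z, hz, e⟩ => by
      obtain ⟨x, hx, rfl⟩ := (h₁.mem_img hf.dom_le).mp hz
      exact ⟨x, hx, e⟩⟩
  push' P' f hf P hP := h₁.push' _ _ (h₂.symm.mor hf) P fun y => by
    rw [hP]
    exact ⟨fun ⟨x, hx, e⟩ => ⟨b' x, (h₂.symm.mem_img hf.dom_le).mpr ⟨x, hx, rfl⟩, e⟩, fun ⟨z, hz, e⟩ => by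
      obtain ⟨x, hx, rfl⟩ := (h₂.symm.mem_img hf.dom_le).mp hz
      exact ⟨x, hx, e⟩⟩

/-- The extension condition, in terms of maps. -/
theorem hf_of_normal (h : E.IsNormalIn F p) (ha : Iso E a T T) : HF F E a := by
  have hTS : T ≤ S := h.1.2.2.2.1.1
  obtain ⟨β, hβ, h1, h2⟩ := h.2 _ ha.equiv_mem_autGroup
  obtain ⟨b, hb, eb⟩ := (mem_autGroup_iff (sup_le hTS centralizerIn_le)).mp hβ
  refine ⟨ha, b, hb, fun x hx => (eb _).trans (h1 ⟨x, hx⟩), fun z hz => ?_⟩
  have := (h2 ⟨z, Subgroup.mem_sup_right hz⟩ hz).1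
  rwa [← eb] at this

theorem normal_of_hf [Finite T] (hw : E.IsWeaklyNormalIn F p)
    (h : ∀ a, Iso E a T T → HF F E a) : E.IsNormalIn F p := by
  refine ⟨hw, fun α hα => ?_⟩
  obtain ⟨a, ha, ea⟩ := (mem_autGroup_iff le_rfl).mp hα
  obtain ⟨-, β, hβ, eβ, hβc⟩ := h a ha
  refine ⟨hβ.equiv, hβ.equiv_mem_autGroup, fun x => (eβ x x.2).trans (ea x), fun z hz => ?_⟩
  refine ⟨hβc _ hz, (Subgroup.centralizer _).mul_mem ((Subgroup.centralizer _).inv_mem hz.2) ?_⟩
  have hTT : Iso F β T T := (hβ.mor.restrict le_sup_left).iso_of_card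
    (fun x hx => by rw [eβ x hx]; exact ha.mapsTo hx) le_rfl
  exact (hTT.map_centralizer hβ.mor le_sup_left (fun _ _ => rfl) z.2 hz).2

variable [Fact p.Prime] [Finite S]

/-- A `p`-element of the automizer of `T` in `E` is inner. -/
theorem inner_of_pElement [Finite T] (hT : IsPGroup p T) (hE : E.IsSaturated p) {α : MulAut T}
    (hα : α ∈ E.autGroup T) (hp : IsPGroup p (Subgroup.zpowers α)) : α ∈ Inn T := by
  haveI := finite_mulAut (G := T)
  have hn : E.IsFullyNormalized T := ⟨le_rfl, fun Q _ => by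
    rw [normalizerIn_self]; exact card_le_of_le normalizerIn_le⟩
  obtain ⟨-, hfa, -⟩ := IsSaturated_fullyNormalized hT hE hn
  obtain ⟨b, hb, hbK⟩ := exists_conj_into hfa hp (Subgroup.zpowers_le.mpr hα)
  have h1 := hbK α (Subgroup.mem_zpowers α)
  rw [← inn_eq_autInducedBy] at h1
  have := (inn_normal_autGroup E T).conj_mem (⟨b, hb⟩ * ⟨α, hα⟩ * ⟨b, hb⟩⁻¹ : E.autGroup T) h1 ⟨b, hb⟩⁻¹
  simpa [mul_assoc] using (show _ ∈ Inn T from this)

/-- A normal subsystem is normal in an intermediate system with enough extensions. -/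
theorem normal_in_sub {D : FusionSystem U} (hS : IsPGroup p S) (hE : E.IsNormalIn F p)
    (hU : U ≤ S) (hTU : T ≤ U) (hD : D.IsSaturated p) (hDF : D.IsSubsystemOf F)
    (hED : E.IsSubsystemOf D) (hext : ∀ a, Iso E a T T → HF D E a) : E.IsNormalIn D p := by
  haveI := finite_of_le hU
  haveI := finite_of_le (hTU.trans hU)
  obtain ⟨⟨hEs, hF, hinv⟩, -⟩ := hE
  have hT : D.StronglyClosed T := stronglyClosed_mk hTU fun P f hf x hx hxT =>
    stronglyClosed_mem hinv.2.1 (subsystem_mor hDF hf) hx hxT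
  have hstr := (StrongInv.invariant_iff_strong hS hF hinv.1 hinv.2.1).mp hinv
  exact normal_of_hf ⟨hEs, hD, (StrongInv.invariant_iff_strong (hS.to_le hU) hD hED hT).mpr
    fun P Q hPQ hQT φ hφ hφQ ψ hψ => hstr P Q hPQ hQT φ hφ hφQ ψ (hDF Q hψ)⟩ hext

theorem centric_sup [Finite S] (hS : IsPGroup p S) (hF : F.IsSaturated p) (hT : F.StronglyClosed T) :
    F.IsCentric (T ⊔ centralizerIn S T) := by
  have hM := stronglyClosed_sup_centralizer hS hF hT
  refine ⟨hM.1, fun Q hQ x hx => ?_⟩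
  obtain ⟨u, hu⟩ := isConj_iff.mp hQ
  haveI := finite_of_le hM.1
  have hQM : Q ≤ T ⊔ centralizerIn S T := fun y hy => by
    obtain ⟨v, hv, rfl⟩ := hu.surj hy
    exact stronglyClosed_mem hM hu.mor hv hv
  have hQe := eq_of_le_of_card hQM hu.card_eq.le
  rw [hQe] at hx ⊢
  exact Subgroup.mem_sup_right ⟨hx.1, fun y hy => hx.2 y (Subgroup.mem_sup_left hy)⟩

/-! ### One step -/

/-- A proper reduction of `F` containing `E`. -/
structure Step (F : FusionSystem S) (E : FusionSystem T) (p : ℕ) (F₁ : FusionSystem U) : Prop where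
  ge : T ⊔ centralizerIn S T ≤ U
  wn : F₁.IsWeaklyNormalIn F p
  en : E.IsNormalIn F₁ p
  lt : ¬ F.autGroup T ≤ F₁.autGroup T
  lim : ∀ {V W : Subgroup Ω} (A : FusionSystem V) (L : FusionSystem W),
    A.IsResidualLimitOf F p → L.IsResidualLimitOf F₁ p → SameSys L A
  push : ∀ σ σ', SysIso F F σ σ' → SysIso E E σ σ' → SysIso F₁ F₁ σ σ'

/-- Invariance of a subsystem of `p`-power index under a symmetry of `F`. -/
theorem pPower_push' {D : FusionSystem U} (hS : IsPGroup p S) (hD : D.IsSaturated p)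
    (hDi : D.HasPPowerIndexIn F p) {a a' : Ω → Ω} (hi₀ : SysIso F F a a')
    (hm₀ : ∀ x ∈ U, a x ∈ U) : ∀ P f, Mor D P f → ∀ P' : Subgroup Ω,
      (∀ y, y ∈ P' ↔ ∃ x ∈ P, a x = y) → Mor D P' (a ∘ f ∘ a') := by
  have hTS : U ≤ S := subsystem_dom_le hDi.1
  have hl : ∀ x ∈ U, a' (a x) = x := fun x hx => hi₀.left x (hTS hx)
  haveI := finite_of_le hTS
  refine alperin (C := fun P f => ∀ P' : Subgroup Ω, (∀ y, y ∈ P' ↔ ∃ x ∈ P, a x = y) → Mor D P' (a ∘ f ∘ a'))
    (hS.to_le hTS) hD ⟨?_, ?_, ?_, ?_⟩ ?_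
  · intro P t hP ht P' hP'
    refine (Mor.conj (s := a t) ?_ (hm₀ t ht)).congr fun y hy => ?_
    · intro y hy
      obtain ⟨x, hx, rfl⟩ := (hP' y).mp hy
      exact hm₀ x (hP hx)
    · obtain ⟨x, hx, rfl⟩ := (hP' y).mp hy
      show cj (a t) (a x) = a (cj t (a' (a x)))
      rw [hl x (hP hx), hi₀.map_cj (hTS ht) (hTS (hP hx))]
  · intro P f g hf e h P' hP'
    refine (h P' hP').congr fun y hy => ?_
    obtain ⟨x, hx, rfl⟩ := (hP' y).mp hy
    show a (f (a' (a x))) = a (g (a' (a x)))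
    rw [hl x (hf.dom_le hx), e x hx]
  · intro P Q f g hf hg m h h' P' hP'
    set Q' := hi₀.img Q
    have hQS := hg.dom_le.trans hTS
    refine ((h P' hP').comp (h' Q' fun y => hi₀.mem_img hQS) fun y hy => ?_).congr fun y hy => ?_
    · obtain ⟨x, hx, rfl⟩ := (hP' y).mp hy
      refine (hi₀.mem_img hQS).mpr ⟨f x, m x hx, ?_⟩
      show a (f x) = a (f (a' (a x)))
      rw [hl x (hf.dom_le hx)]
    · obtain ⟨x, hx, rfl⟩ := (hP' y).mp hy
      show a (g (a' (a (f (a' (a x)))))) = a (g (f (a' (a x))))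
      rw [hl _ (hf.map_mem ((hl x (hf.dom_le hx)).symm ▸ hx))]
  · intro P Q f g hf hg e h Q' hQ'
    set P' := hi₀.img P
    have hPS := hf.dom_le.trans hTS
    have h1 := h P' fun y => hi₀.mem_img hPS
    obtain ⟨g', hg', hgl, -⟩ := h1.toIso.exists_symm
    refine (hg'.mor.restrict fun y hy => h1.mem_img.mpr ?_).congr fun y hy => ?_
    · obtain ⟨z, hz, rfl⟩ := (hQ' y).mp hy
      obtain ⟨x, hx, rfl⟩ := hf.surj hz
      exact ⟨a x, (hi₀.mem_img hPS).mpr ⟨x, hx, rfl⟩,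
        by show a (f (a' (a x))) = a (f x); rw [hl x (hf.dom_le hx)]⟩
    · obtain ⟨z, hz, rfl⟩ := (hQ' y).mp hy
      obtain ⟨x, hx, rfl⟩ := hf.surj hz
      show g' (a (f x)) = a (g (a' (a (f x))))
      rw [hl _ (hf.mor.map_mem hx), e x hx]
      have h2 := hgl (a x) ((hi₀.mem_img hPS).mpr ⟨x, hx, rfl⟩)
      show g' (a (f x)) = a x
      rw [show (a ∘ f ∘ a') (a x) = a (f x) by show a (f (a' (a x))) = _; rw [hl x (hf.dom_le hx)]] at h2
      exact h2
  · intro R _ hR _ f hf P' hP'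
    have hRT := hR.1
    have hRS := hRT.trans hTS
    suffices key : ∀ α : D.autGroup R, ∃ h, (∀ x : R, h (x : Ω) = (((α : MulAut R) x : R) : Ω)) ∧ Iso D (a ∘ h ∘ a') P' P' by
      obtain ⟨h, eh, hh⟩ := key ⟨hf.equiv, hf.equiv_mem_autGroup⟩
      refine hh.mor.congr fun y hy => ?_
      obtain ⟨x, hx, rfl⟩ := (hP' y).mp hy
      show a (h (a' (a x))) = a (f (a' (a x)))
      rw [hl x (hRT hx), eh ⟨x, hx⟩]
      rfl
    have hP'U : P' ≤ U := fun y hy => by
      obtain ⟨x, hx, rfl⟩ := (hP' y).mp hy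
      exact hm₀ x (hRT hx)
    have hbij : ∀ h : Ω → Ω, Set.BijOn h R R → Set.BijOn (a ∘ h ∘ a') P' P' := by
      intro h hh
      refine ⟨fun y hy => ?_, fun y hy z hz e => ?_, fun z hz => ?_⟩
      · obtain ⟨x, hx, rfl⟩ := (hP' y).mp hy
        exact (hP' _).mpr ⟨h x, hh.mapsTo hx, by show a (h x) = a (h (a' (a x))); rw [hl x (hRT hx)]⟩
      · obtain ⟨x, hx, rfl⟩ := (hP' y).mp hy
        obtain ⟨w, hw, rfl⟩ := (hP' z).mp hz
        have e' : a (h (a' (a x))) = a (h (a' (a w))) := e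
        rw [hl x (hRT hx), hl w (hRT hw)] at e'
        rw [hh.injOn hx hw ((hl _ (hRT (hh.mapsTo hx))).symm.trans ((congrArg a' e').trans (hl _ (hRT (hh.mapsTo hw)))))]
      · obtain ⟨w, hw, rfl⟩ := (hP' z).mp hz
        obtain ⟨x, hx, rfl⟩ := hh.surjOn hw
        exact ⟨a x, (hP' _).mpr ⟨x, hx, rfl⟩, by show a (h (a' (a x))) = a (h x); rw [hl x (hRT hx)]⟩
    intro α
    have hα : α ∈ pResidual p ↥(D.autGroup R) ⊔ (autInducedBy U R).subgroupOf (D.autGroup R) :=
      (autGroup_generated (hS.to_le hTS) hD hR).symm ▸ Subgroup.mem_top α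
    haveI := finite_of_le hRS
    haveI := finite_mulAut (G := R)
    rw [pResidual, ← Subgroup.closure_eq ((autInducedBy U R).subgroupOf (D.autGroup R)),
      ← Subgroup.closure_union] at hα
    have hav : ∀ γ : D.autGroup R, ∀ x : R, actFun γ (x : Ω) = (((γ : MulAut R) x : R) : Ω) :=
      fun γ x => extFun_coe _ x
    refine ⟨actFun α, hav α, ?_⟩
    refine ⟨?_, hbij _ (autGroup_iso hRT α.2).bij⟩
    induction hα using Subgroup.closure_induction with
    | mem γ hγ =>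
      rcases hγ with hγ | hγ
      · have hi : Iso F (actFun γ) R R :=
          ⟨subsystem_mor hDi.1 (autGroup_iso hRT γ.2).mor, (autGroup_iso hRT γ.2).bij⟩
        have hb := hbij _ hi.bij
        have hm : Mor F P' (a ∘ actFun γ ∘ a') := hi₀.push _ _ hi.mor P' hP'
        refine pPower_coprime_mem hDi ⟨hm, hb⟩ hP'U (k := orderOf γ) hγ fun y hy => ?_
        obtain ⟨x, hx, rfl⟩ := (hP' y).mp hy
        have key : ∀ n, (a ∘ actFun γ ∘ a')^[n] (a x) = a ((((γ : MulAut R) ^ n) ⟨x, hx⟩ : R) : Ω) := by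
          intro n
          induction n with
          | zero => rfl
          | succ n ih =>
            rw [Function.iterate_succ_apply', ih, pow_succ', MulAut.mul_apply]
            show a (actFun γ (a' (a _))) = _
            rw [hl _ (hRT (SetLike.coe_mem _)), hav γ]
        rw [key, ← SubmonoidClass.coe_pow, pow_orderOf_eq_one]
        rfl
      · obtain ⟨t, ht, -, et⟩ := mem_autInducedBy.mp (show (γ : MulAut R) ∈ autInducedBy U R from hγ)
        refine (Mor.conj (s := a t) hP'U (hm₀ _ ht)).congr fun y hy => ?_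
        obtain ⟨x, hx, rfl⟩ := (hP' y).mp hy
        show cj (a t) (a x) = a (actFun γ (a' (a x)))
        rw [hl x (hRT hx), hav γ ⟨x, hx⟩, et ⟨x, hx⟩, hi₀.map_cj (hTS ht) (hRS hx)]
    | one =>
      refine (Mor.id' hP'U).congr fun y hy => ?_
      obtain ⟨x, hx, rfl⟩ := (hP' y).mp hy
      show a x = a (actFun 1 (a' (a x)))
      rw [hl x (hRT hx), hav 1 ⟨x, hx⟩]
      rfl
    | mul γ δ _ _ hγ hδ =>
      refine (hδ.comp hγ fun y hy => (hbij _ (autGroup_iso hRT δ.2).bij).mapsTo hy).congr fun y hy => ?_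
      obtain ⟨x, hx, rfl⟩ := (hP' y).mp hy
      show a (actFun γ (a' (a (actFun δ (a' (a x)))))) = a (actFun (γ * δ) (a' (a x)))
      rw [hl x (hRT hx), hl _ (hRT (actFun_mem δ hx)), actFun_mul γ δ hx]
    | inv γ _ hγ =>
      have hiγ : Iso D (a ∘ actFun γ ∘ a') P' P' := ⟨hγ, hbij _ (autGroup_iso hRT γ.2).bij⟩
      obtain ⟨g', hg', hgl, -⟩ := hiγ.exists_symm
      refine hg'.mor.congr fun y hy => ?_
      obtain ⟨x, hx, rfl⟩ := (hP' y).mp hy
      show g' (a x) = a (actFun γ⁻¹ (a' (a x)))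
      rw [hl x (hRT hx)]
      have hz : actFun γ⁻¹ x ∈ R := actFun_mem γ⁻¹ hx
      have h2 := hgl _ ((hP' _).mpr ⟨_, hz, rfl⟩)
      have h3 : (a ∘ actFun γ ∘ a') (a (actFun γ⁻¹ x)) = a x := by
        show a (actFun γ (a' (a _))) = a x
        rw [hl _ (hRT hz), ← actFun_mul γ γ⁻¹ hx, mul_inv_cancel, hav 1 ⟨x, hx⟩]
        rfl
      rw [h3] at h2
      exact h2

/-- The reduction of `p`-power index. -/
theorem step_p (hS : IsPGroup p S) (hE : E.IsNormalIn F p)
    (hBn : ∀ a ∈ F.autGroup T, ∀ b ∈ E.autGroup T, a * b * a⁻¹ ∈ E.autGroup T)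
    (hne : ¬ F.autGroup T ≤ Gen (F.autGroup T) (E.autGroup T) fun n => n.Coprime p) :
    ∃ (U : Subgroup Ω) (F₁ : FusionSystem U), Step F E p F₁ := by
  have hF : F.IsSaturated p := hE.1.2.1
  have hinv : E.IsInvariantIn F := hE.1.2.2
  have hTs : F.StronglyClosed T := hinv.2.1
  have hTS := hTs.1
  haveI := finite_of_le hTS
  haveI := finite_mulAut (G := T)
  set N := Gen (F.autGroup T) (E.autGroup T) fun n => n.Coprime p with hN
  set U := (N.comap (actHom S T)).map (S ⊓ Subgroup.normalizer (T : Set Ω)).subtype with hUdef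
  have hmem : ∀ s, s ∈ U ↔ ∃ h : s ∈ S ⊓ Subgroup.normalizer (T : Set Ω), actHom S T ⟨s, h⟩ ∈ N := fun s =>
    ⟨fun ⟨y, hy, e⟩ => by subst e; exact ⟨y.2, hy⟩, fun ⟨h, hs⟩ => ⟨⟨s, h⟩, hs, rfl⟩⟩
  have hn : ∀ {s}, s ∈ S → s ∈ S ⊓ Subgroup.normalizer (T : Set Ω) := fun hs =>
    ⟨hs, stronglyClosed_normalized hTs hs⟩
  have hUS : U ≤ S := fun s hs => ((hmem s).mp hs).1.1
  haveI := finite_of_le hUS
  have hInn : Inn T ≤ N := (inn_le_autGroup le_rfl).trans le_gen
  have hTU : T ≤ U := fun t ht => (hmem t).mpr ⟨hn (hTS ht), hInn (by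
    rw [inn_eq_autInducedBy, mem_autInducedBy]
    exact ⟨t, ht, Subgroup.le_normalizer ht, fun x => actHom_apply S T _ x⟩)⟩
  have hCU : centralizerIn S T ≤ U := fun z hz => (hmem z).mpr ⟨hn hz.1, by
    have : actHom S T ⟨z, hn hz.1⟩ = 1 := MulEquiv.ext fun x => Subtype.ext (by
      rw [actHom_apply]
      show z * (x : Ω) * z⁻¹ = x
      rw [← hz.2 x x.2, mul_inv_cancel_right])
    rw [this]; exact one_mem _⟩
  have hhU : F.hyperfocalSubgroup p ≤ U := fun x hx => by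
    obtain ⟨α, hα, eα⟩ := hyperfocal_action hS hF hTs x hx
    refine (hmem x).mpr ⟨hn (hyperfocal_le hx), ?_⟩
    have : actHom S T ⟨x, hn (hyperfocal_le hx)⟩ = α := MulEquiv.ext fun t => Subtype.ext (by
      rw [actHom_apply, eα t]
      rfl)
    rw [this]
    refine sup_le ?_ hInn hα
    rw [pResidual, MonoidHom.map_closure, Subgroup.closure_le]
    rintro _ ⟨β, hβ, rfl⟩
    exact mem_gen β.2 (show (orderOf (β : MulAut T)).Coprime p by rw [Subgroup.orderOf_coe]; exact hβ)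
  have hUn : ∀ s ∈ S, ∀ x ∈ U, cj s x ∈ U := fun s hs x hx => by
    obtain ⟨h, hxN⟩ := (hmem x).mp hx
    refine (hmem _).mpr ⟨hn (S.mul_mem (S.mul_mem hs h.1) (S.inv_mem hs)), ?_⟩
    have e : (⟨cj s x, hn (S.mul_mem (S.mul_mem hs h.1) (S.inv_mem hs))⟩ :
        ↥(S ⊓ Subgroup.normalizer (T : Set Ω))) = ⟨s, hn hs⟩ * ⟨x, h⟩ * ⟨s, hn hs⟩⁻¹ := rfl
    rw [e, map_mul, map_mul, map_inv]
    exact gen_conj hBn (autInducedBy_le_autGroup hTS ((range_actHom S T).le ⟨_, rfl⟩)) hxN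
  obtain ⟨D, hD, hDi⟩ := exists_pPower_system (Nat.card S) rfl hS F hF U hUS hhU
  have hDn := pPower_normal hS hF hUn hD hDi
  have hCeq := centralizerIn_eq (T := T) hUS hCU
  -- `E` is contained in `D`
  have hUp : IsPGroup p U := hS.to_le hUS
  have hED : E.IsSubsystemOf D := by
    suffices h : ∀ P f, Mor E P f → Mor D P f from fun P φ hφ => mem_iff_mor.mpr (h P _ (mor_of_mem hφ))
    refine mor_induction (hS.to_le hTS) hE.1.1
      { conj := fun hP hs => Mor.conj (hP.trans hTU) (hTU hs)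
        congr := fun _ e h => h.congr e
        comp := fun _ _ m h h' => h.comp h' m
        inv := fun {P Q f g} hf _ e h => by
          obtain ⟨g', hg', hgl, -⟩ := Iso.exists_symm (F := D) (f := f) (P := P) (Q := Q) ⟨h, hf.bij⟩
          refine hg'.mor.congr fun y hy => ?_
          obtain ⟨x, hx, rfl⟩ := hf.surj hy
          rw [hgl x hx, e x hx] }
      fun R hR _ f hf => ?_
    haveI := finite_of_le hR.1
    haveI := finite_mulAut (G := R)
    suffices key : ∀ α : E.autGroup R, ((α : MulAut R)) ∈ D.autGroup R by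
      obtain ⟨g, hg, e⟩ := (mem_autGroup_iff (hR.1.trans hTU)).mp (key ⟨_, hf.equiv_mem_autGroup⟩)
      exact hg.mor.congr fun x hx => (e ⟨x, hx⟩).trans rfl
    intro α
    have hα : α ∈ pResidual p ↥(E.autGroup R) ⊔ (autInducedBy T R).subgroupOf (E.autGroup R) :=
      (autGroup_generated (hS.to_le hTS) hE.1.1 hR).symm ▸ Subgroup.mem_top α
    have hle : pResidual p ↥(E.autGroup R) ⊔ (autInducedBy T R).subgroupOf (E.autGroup R) ≤
        (D.autGroup R).subgroupOf (E.autGroup R) := by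
      refine sup_le ?_ fun β hβ => ((autInducedBy_mono hTU R).trans
        (autInducedBy_le_autGroup (hR.1.trans hTU))) hβ
      rw [pResidual, Subgroup.closure_le]
      intro β hβ
      refine hDi.2.2 R (hR.1.trans hTU) ⟨⟨β, autGroup_mono hinv.1 hR.1 β.2⟩, Subgroup.subset_closure ?_, rfl⟩
      show (orderOf (⟨(β : MulAut R), _⟩ : F.autGroup R)).Coprime p
      rw [Subgroup.orderOf_mk, Subgroup.orderOf_coe]
      exact hβ
    exact hle hα
  have hext : ∀ a, Iso E a T T → HF D E a := by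
    intro a ha
    have hw : E.IsWeaklyNormalIn D p := by
      have hT : D.StronglyClosed T := stronglyClosed_mk hTU fun P f hf x hx hxT =>
        stronglyClosed_mem hTs (subsystem_mor hDi.1 hf) hx hxT
      have hstr := (StrongInv.invariant_iff_strong hS hF hinv.1 hTs).mp hinv
      exact ⟨hE.1.1, hD, (StrongInv.invariant_iff_strong hUp hD hED hT).mpr
        fun P Q hPQ hQT φ hφ hφQ ψ hψ => hstr P Q hPQ hQT φ hφ hφQ ψ (hDi.1 Q hψ)⟩
    let cD : WCtx D E p := ⟨hUp, hD, hE.1.1, hw.2.2⟩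
    have hle : E.autGroup T ≤ cD.hsub := by
      have hn' : E.IsFullyNormalized T := ⟨le_rfl, fun Q _ => by
        rw [normalizerIn_self]; exact card_le_of_le normalizerIn_le⟩
      intro α hα
      have hmem' : (⟨α, hα⟩ : E.autGroup T) ∈ cD.hsub.subgroupOf (E.autGroup T) := by
        have h0 : (⟨α, hα⟩ : E.autGroup T) ∈ pResidual p ↥(E.autGroup T) ⊔
            (autInducedBy T T).subgroupOf (E.autGroup T) :=
          (autGroup_generated (hS.to_le hTS) hE.1.1 hn').symm ▸ Subgroup.mem_top _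
        refine (sup_le ?_ (fun β hβ => cD.hsub_pElement β.2
          ((isPGroup_autInducedBy (hS.to_le hTS) T).to_le (Subgroup.zpowers_le.mpr hβ))) :
          pResidual p ↥(E.autGroup T) ⊔ (autInducedBy T T).subgroupOf (E.autGroup T) ≤
            cD.hsub.subgroupOf (E.autGroup T)) h0
        rw [pResidual, Subgroup.closure_le]
        intro β hβ
        have hb : Iso E (af (β : MulAut T)) T T := autGroup_iso le_rfl β.2
        obtain ⟨-, γ, hγ, eγ, hγc⟩ := hf_of_normal hE hb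
        obtain ⟨m, l, hm, hl, hml⟩ := CentFix.exists_pprime_power hγ (show (orderOf β).Coprime p from hβ)
        have hγm := iso_pow hγ m
        have hTC : T ⊔ centralizerIn S T ≤ U := sup_le hTU hCU
        haveI := finite_of_le hTC
        have hγD : Iso D γ^[m] (T ⊔ centralizerIn S T) (T ⊔ centralizerIn S T) :=
          ⟨pPower_coprime_mem hDi hγm hTC hl hml, hγm.bij⟩
        have hord : ∀ n, ∀ x : T, (af (β : MulAut T))^[n] (x : Ω) = (((((β : MulAut T)) ^ n) x : T) : Ω) := by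
          intro n
          induction n with
          | zero => intro x; rfl
          | succ n ih => intro x; rw [Function.iterate_succ_apply', ih, af_coe, pow_succ', MulAut.mul_apply]
        have hk : ∀ x ∈ T, (af (β : MulAut T))^[orderOf β] x = x := fun x hx => by
          rw [hord _ ⟨x, hx⟩, ← SubmonoidClass.coe_pow, pow_orderOf_eq_one]; rfl
        refine ⟨hb, γ^[m], by rw [hCeq]; exact hγD, fun x hx => ?_, fun z hz => ?_⟩
        · show γ^[m] x = af (β : MulAut T) x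
          rw [CentFix.iterate_agree (fun y hy => hb.mapsTo hy) eγ m x hx, iterate_mod hk m hx, hm,
            ← iterate_mod hk 1 hx, Function.iterate_one]
        · rw [hCeq] at hz
          exact CentFix.iterate_rel hγ hTs (Subgroup.mem_sup_right hz) (hγc z hz) m
      exact hmem'
    exact cD.hf_congr (hle ha.equiv_mem_autGroup) fun x hx => extFun_apply _ hx
  refine ⟨U, D, sup_le hTU hCU, hDn.1, normal_in_sub hS hE hUS hTU hD hDi.1 hED hext, fun hle => hne ?_,
    fun A L hA hL => residualLimit_eq hA hS hF D hDn.1.2.2.2.1 hD hDi L hL, fun σ σ' hσ hσE => ?_⟩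
  · refine hle.trans fun α hα => ?_
    have hT : D.StronglyClosed T := stronglyClosed_mk hTU fun P f hf x hx hxT =>
      stronglyClosed_mem hTs (subsystem_mor hDi.1 hf) hx hxT
    have h0 : (⟨α, hα⟩ : D.autGroup T) ∈ pResidual p ↥(D.autGroup T) ⊔
        (autInducedBy U T).subgroupOf (D.autGroup T) :=
      (autGroup_generated hUp hD (fullyNormalized_of_stronglyClosed hT)).symm ▸ Subgroup.mem_top _
    have hle' : pResidual p ↥(D.autGroup T) ⊔ (autInducedBy U T).subgroupOf (D.autGroup T) ≤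
        N.subgroupOf (D.autGroup T) := by
      refine sup_le ?_ fun β hβ => ?_
      · rw [pResidual, Subgroup.closure_le]
        intro β hβ
        exact mem_gen (q := fun n => n.Coprime p) (autGroup_mono hDi.1 hTU β.2)
          (show (orderOf (β : MulAut T)).Coprime p by rw [Subgroup.orderOf_coe]; exact hβ)
      · obtain ⟨u, hu, -, eu⟩ := mem_autInducedBy.mp (show (β : MulAut T) ∈ autInducedBy U T from hβ)
        obtain ⟨h, huN⟩ := (hmem u).mp hu
        show (β : MulAut T) ∈ N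
        rw [show (β : MulAut T) = actHom S T ⟨u, h⟩ from MulEquiv.ext fun x => Subtype.ext
          ((eu x).trans (actHom_apply S T ⟨u, h⟩ x).symm)]
        exact huN
    exact hle' h0
  · have key : ∀ {σ σ' : Ω → Ω}, SysIso F F σ σ' → SysIso E E σ σ' → ∀ x ∈ U, σ x ∈ U := by
      intro σ σ' hσ hσE x hx
      obtain ⟨h, hxN⟩ := (hmem x).mp hx
      refine (hmem _).mpr ⟨hn (hσ.mem x h.1), ?_⟩
      have e : actHom S T ⟨σ x, hn (hσ.mem x h.1)⟩ = tConj hσE (actHom S T ⟨x, h⟩) := by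
        refine MulEquiv.ext fun y => Subtype.ext ?_
        rw [actHom_apply, tConj_apply, actHom_apply,
          hσ.map_cj h.1 (hTS (hσE.mem' y y.2)), hσE.right y y.2]
      rw [e]
      exact gen_map (tConj hσE) (fun y hy => tConj_mem hσE hσ hTS hy)
        (fun y hy => tConj_mem hσE hσE le_rfl hy) hxN
    exact ⟨key hσ hσE, key hσ.symm hσE.symm, fun x hx => hσ.left x (hUS hx),
      fun x hx => hσ.right x (hUS hx), fun x hx y hy => hσ.map_mul x (hUS hx) y (hUS hy),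
      pPower_push' hS hD hDi hσ (key hσ hσE), pPower_push' hS hD hDi hσ.symm (key hσ.symm hσE.symm)⟩

/-- The reduction of index prime to `p`. -/
theorem step_p' (hS : IsPGroup p S) (hE : E.IsNormalIn F p)
    (hBn : ∀ a ∈ F.autGroup T, ∀ b ∈ E.autGroup T, a * b * a⁻¹ ∈ E.autGroup T)
    (hne : ¬ F.autGroup T ≤ Gen (F.autGroup T) (E.autGroup T) fun n => ∃ k : ℕ, n = p ^ k) :
    ∃ (U : Subgroup Ω) (F₁ : FusionSystem U), Step F E p F₁ := by
  have hF : F.IsSaturated p := hE.1.2.1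
  have hinv : E.IsInvariantIn F := hE.1.2.2
  have hTs : F.StronglyClosed T := hinv.2.1
  have hTS := hTs.1
  haveI := finite_of_le hTS
  haveI := finite_mulAut (G := T)
  set N := Gen (F.autGroup T) (E.autGroup T) fun n => ∃ k : ℕ, n = p ^ k with hN
  haveI : (N.subgroupOf (F.autGroup T)).Normal := gen_normal hBn
  set χ := QuotientGroup.mk' (N.subgroupOf (F.autGroup T))
  have hker : χ.ker = N.subgroupOf (F.autGroup T) := QuotientGroup.ker_mk' _
  have hp : p.Prime := Fact.out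
  have c : CharCtx F E p χ := ⟨hS, hF, hE.1.1, hinv, by
    refine ((hp.coprime_iff_not_dvd).mpr fun hd => ?_).symm
    obtain ⟨q, hq⟩ := exists_prime_orderOf_dvd_card' p hd
    obtain ⟨y, rfl⟩ := QuotientGroup.mk'_surjective _ q
    obtain ⟨e, m, hm, hom⟩ := Nat.exists_eq_pow_mul_and_not_dvd (orderOf_pos y).ne' p hp.ne_one
    have hm0 : m ≠ 0 := fun h => (orderOf_pos y).ne' (by rw [hom, h, mul_zero])
    have hy : orderOf (y ^ m) = p ^ e := by
      rw [orderOf_pow_of_dvd hm0 (hom ▸ Dvd.intro_left _ rfl), hom,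
        Nat.mul_div_cancel _ (Nat.pos_of_ne_zero hm0)]
    have : χ (y ^ m) = 1 := MonoidHom.mem_ker.mp (hker.ge (Subgroup.mem_subgroupOf.mpr (mem_gen (q := fun n => ∃ k : ℕ, n = p ^ k) (y ^ m).2
      (show ∃ k : ℕ, orderOf ((y ^ m : F.autGroup T) : MulAut T) = p ^ k from
        ⟨e, by rw [Subgroup.orderOf_coe, hy]⟩))))
    rw [map_pow, ← orderOf_dvd_iff_pow_eq_one, hq] at this
    exact hm this, fun x hx => hker.ge (Subgroup.mem_subgroupOf.mpr (le_gen (Subgroup.mem_subgroupOf.mp hx)))⟩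
  haveI : Finite (↥(F.autGroup T) ⧸ N.subgroupOf (F.autGroup T)) := inferInstance
  have hsat := sysE_saturated hS hF c.fam c.base c.invar
  have hidx := sysE_primeIndex hS hF c.fam c.base c.invar
  have hTT : E.IsCentric T := isCentric_self
  have hM := centric_sup hS hF hTs
  refine ⟨S, c.sys, sup_le hTS centralizerIn_le, c.sys_isNormal.1,
    normal_in_sub hS hE le_rfl hTS hsat hidx.1 c.sub_sys fun a ha => ?_, fun hle => hne ?_,
    fun A L hA hL => limit_primeIndex hS hF hsat hidx hA hL, fun σ σ' hσ hσE => ?_⟩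
  · obtain ⟨-, β, hβ, eβ, hβc⟩ := hf_of_normal hE ha
    have hMT : (T ⊔ centralizerIn S T) ⊓ T = T := inf_eq_right.mpr le_sup_left
    refine ⟨ha, β, ⟨sysE_mor hβ.mor (hull_of ⟨hM, hMT.symm ▸ hTT⟩ hβ.mor fun _ => ?_), hβ.bij⟩, eβ, hβc⟩
    rw [hMT]
    exact c.val_congr (c.val_mor ha.mor) fun x hx => (eβ x hx).symm
  · refine hle.trans fun α hα => ?_
    have hT : c.sys.StronglyClosed T := stronglyClosed_mk hTS fun P f hf x hx hxT =>
      stronglyClosed_mem hTs (systemOf_mor hull_closed hf).1 hx hxT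
    obtain ⟨-, hfa, hrec⟩ :=
      IsSaturated_fullyNormalized hS hsat (fullyNormalized_of_stronglyClosed hT)
    obtain ⟨-, V, hV⟩ := hfa
    have hA : c.sys.autGroup T ≤ F.autGroup T := autGroup_mono hidx.1 hTS
    haveI : (N.subgroupOf (c.sys.autGroup T)).Normal := ⟨fun x hx a => show ((a * x * a⁻¹ : c.sys.autGroup T) : MulAut T) ∈ N from
      gen_conj hBn (hA a.2) (show (x : MulAut T) ∈ N from hx)⟩
    have hVK : (V : Subgroup (c.sys.autGroup T)) ≤ N.subgroupOf (c.sys.autGroup T) := fun γ hγ => by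
      obtain ⟨k, hk⟩ := IsPGroup.iff_orderOf.mp V.isPGroup' ⟨γ, hγ⟩
      refine mem_gen (q := fun n => ∃ k : ℕ, n = p ^ k) (hA γ.2) ⟨k, ?_⟩
      rw [← hk]
      exact (Subgroup.orderOf_coe γ).trans (Subgroup.orderOf_coe (⟨γ, hγ⟩ : (V : Subgroup _)))
    obtain ⟨n, hn, k, hk, hnk⟩ := Subgroup.mem_sup_of_normal_right.mp
      ((Sylow.normalizer_sup_eq_top' V hVK).ge (Subgroup.mem_top (⟨α, hα⟩ : c.sys.autGroup T)))
    obtain ⟨e, he, ee⟩ := ext_of_conj (X := S) hrec n.2 fun s hs => by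
      have hs' : s ∈ normalizerIn S T := ⟨hs, stronglyClosed_normalized hT hs⟩
      refine Or.inr ⟨hs', ?_⟩
      have hx' : (⟨actHom S T ⟨s, hs'⟩, autInducedBy_le_autGroup hTS
          ((range_actHom S T).le ⟨_, rfl⟩)⟩ : c.sys.autGroup T) ∈ (V : Subgroup (c.sys.autGroup T)) := by
        rw [hV]; exact Subgroup.mem_subgroupOf.mpr ((range_actHom S T).le ⟨_, rfl⟩)
      have h2 := ((Subgroup.mem_normalizer_iff.mp hn) _).mp hx'
      rw [hV] at h2
      exact h2
    have hei : Iso c.sys e S S := he.iso_of_card (fun x hx => he.map_mem hx) le_rfl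
    obtain ⟨-, β, hβ, eβ⟩ := c.mem_aut_sys.mp hei.equiv_mem_autGroup
    have hβn : (β : MulAut T) = (n : MulAut T) := MulEquiv.ext fun t => Subtype.ext
      ((eβ t).trans (ee t (hTS t.2)))
    have hnN : (n : MulAut T) ∈ N := hβn ▸ hker.le (MonoidHom.mem_ker.mpr hβ)
    have := N.mul_mem hnN hk
    have h2 : ((n * k : c.sys.autGroup T) : MulAut T) ∈ N := this
    rwa [hnk] at h2
  · have key : ∀ {σ σ' : Ω → Ω}, SysIso F F σ σ' → SysIso E E σ σ' →
        ∀ P f, Mor c.sys P f → ∀ P' : Subgroup Ω, (∀ y, y ∈ P' ↔ ∃ x ∈ P, σ x = y) →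
          Mor c.sys P' (σ ∘ f ∘ σ') := by
      intro σ σ' hσ hσE P f hf P' hP'
      obtain ⟨hfF, hfh⟩ := systemOf_mor hull_closed hf
      have e : P' = hσ.img P := by ext y; rw [hP', hσ.mem_img hfF.dom_le]
      subst e
      refine sysE_mor (hσ.mor hfF) (hfh (fun P f => hull F (Gd F E) (Cls χ E) (hσ.img P) (σ ∘ f ∘ σ'))
        (closed_pullback hull_closed) fun Q g hQ hg hc => ?_)
      have hQS := hg.dom_le
      have himg : hσ.img Q ⊓ T = hσE.img (Q ⊓ T) := by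
        ext y
        rw [Subgroup.mem_inf, hσ.mem_img hQS, hσE.mem_img inf_le_right]
        constructor
        · rintro ⟨⟨x, hx, rfl⟩, hyT⟩
          have hxT : x ∈ T := hσ.left x (hQS hx) ▸ hσE.mem' _ hyT
          exact ⟨x, ⟨hx, hxT⟩, rfl⟩
        · rintro ⟨x, hx, rfl⟩
          exact ⟨⟨x, hx.1, rfl⟩, hσE.mem x hx.2⟩
      refine hull_of ⟨isCentric_img hσ hQ.1, himg ▸ isCentric_img hσE hQ.2⟩ (hσ.mor hg) fun _ => ?_
      obtain ⟨α, u, hu, hα, eu⟩ := hc hQ.2
      rw [himg]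
      have hΦ := tConj_mem hσE hσ hTS α.2
      refine ⟨⟨_, hΦ⟩, _, hσE.mor hu, ?_, fun y hy => ?_⟩
      · refine MonoidHom.mem_ker.mp (hker.ge ?_)
        show tConj hσE (α : MulAut T) ∈ N
        exact gen_map (tConj hσE) (fun x hx => tConj_mem hσE hσ hTS hx)
          (fun x hx => tConj_mem hσE hσE le_rfl hx) (hker.le (MonoidHom.mem_ker.mpr hα))
      · obtain ⟨x, hx, rfl⟩ := (hσE.mem_img inf_le_right).mp hy
        show σ (g (σ' (σ x))) = af (tConj hσE (α : MulAut T)) (σ (u (σ' (σ x))))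
        rw [hσE.left x hx.2, eu x hx, tConj_af hσE _ (hu.map_mem hx)]
    exact ⟨hσ.mem, hσ.mem', hσ.left, hσ.right, hσ.map_mul, key hσ hσE, key hσ.symm hσE.symm⟩

/-! ### The envelope -/

/-- No section of the automizer quotient is generated both by its `p`-elements and by its `p'`-elements. -/
def Solv {G : Type*} [Group G] (A B : Subgroup G) (p : ℕ) : Prop :=
  ∀ X, B ≤ X → X ≤ A → X ≤ Gen X B (fun n => n.Coprime p) → X ≤ Gen X B (fun n => ∃ k : ℕ, n = p ^ k) → X = B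

theorem solv_of_isPSolvable {G : Type*} [Group G] {A B : Subgroup G} [Finite A]
    [(B.subgroupOf A).Normal] (hBA : B ≤ A) (h : IsPSolvable p (↥A ⧸ B.subgroupOf A)) : Solv A B p := by
  intro X hBX hXA h1 h2
  set π := QuotientGroup.mk' (B.subgroupOf A)
  have key : ∀ (q : ℕ → Prop), (∀ a b : ℕ, a ∣ b → q b → q a) → X ≤ Gen X B q →
      ∀ N : Subgroup (↥A ⧸ B.subgroupOf A),
        (∀ x ∈ (X.subgroupOf A).map π, q (orderOf x) → x ∈ N) → (X.subgroupOf A).map π ≤ N := by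
    rintro q hq hX N hN _ ⟨x, hx, rfl⟩
    have hB : B ≤ (N.comap π).map A.subtype := by
      intro b hb
      refine ⟨⟨b, hBA hb⟩, ?_, rfl⟩
      show π ⟨b, hBA hb⟩ ∈ N
      rw [show π ⟨b, hBA hb⟩ = 1 from (QuotientGroup.eq_one_iff _).mpr hb]
      exact one_mem _
    have hle : Gen X B q ≤ (N.comap π).map A.subtype := gen_le hB
      fun y hy hyq => ⟨⟨y, hXA hy⟩, hN _ ⟨⟨y, hXA hy⟩, hy, rfl⟩
        (hq _ _ ((orderOf_map_dvd π _).trans (by rw [Subgroup.orderOf_mk])) hyq), rfl⟩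
    obtain ⟨z, hz, e⟩ := hle (hX hx)
    rwa [show z = x from Subtype.ext e] at hz
  have hbot := Terminating.eq_bot_of_generated h
    (key _ (fun a b hab hb => Nat.Coprime.coprime_dvd_left hab hb) h1)
    (key _ (fun a b hab ⟨k, hk⟩ => by
      obtain ⟨i, -, hi⟩ := (Nat.dvd_prime_pow (Fact.out : p.Prime)).mp (hk ▸ hab)
      exact ⟨i, hi⟩) h2)
  refine le_antisymm (fun x hx => ?_) hBX
  have : π ⟨x, hXA hx⟩ ∈ (⊥ : Subgroup _) := hbot ▸ ⟨⟨x, hXA hx⟩, hx, rfl⟩
  exact (QuotientGroup.eq_one_iff (⟨x, hXA hx⟩ : A)).mp this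

/-- The envelope. -/
structure Red (F : FusionSystem S) (E : FusionSystem T) (p : ℕ) (F₀ : FusionSystem M) : Prop where
  dom : M = T ⊔ centralizerIn S T
  wn : F₀.IsWeaklyNormalIn F p
  en : E.IsNormalIn F₀ p
  aut : F₀.autGroup T ≤ E.autGroup T
  lim : ∀ {V W : Subgroup Ω} (A : FusionSystem V) (L : FusionSystem W),
    A.IsResidualLimitOf F p → L.IsResidualLimitOf F₀ p → SameSys L A
  push : ∀ σ σ', SysIso F F σ σ' → SysIso E E σ σ' → SysIso F₀ F₀ σ σ'

theorem exists_red : ∀ (n : ℕ) {S : Subgroup Ω} [Finite S], IsPGroup p S → ∀ (F : FusionSystem S),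
    Nat.card (F.autGroup T) = n → E.IsNormalIn F p →
    (∀ a ∈ F.autGroup T, ∀ b ∈ E.autGroup T, a * b * a⁻¹ ∈ E.autGroup T) →
    Solv (F.autGroup T) (E.autGroup T) p →
    ∃ (M : Subgroup Ω) (F₀ : FusionSystem M), Red F E p F₀ := by
  intro n
  induction n using Nat.strong_induction_on with
  | _ n ih =>
  intro S _ hS F hn hE hBn hsolv
  have hF : F.IsSaturated p := hE.1.2.1
  have hinv : E.IsInvariantIn F := hE.1.2.2
  have hTs : F.StronglyClosed T := hinv.2.1
  have hTS := hTs.1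
  haveI := finite_of_le hTS
  haveI := finite_mulAut (G := T)
  have hBA := autGroup_mono hinv.1 (le_refl T)
  by_cases hAB : F.autGroup T ≤ E.autGroup T
  · have hM : S = T ⊔ centralizerIn S T := by
      refine le_antisymm (fun s hs => ?_) (sup_le hTS centralizerIn_le)
      have hs' : s ∈ S ⊓ Subgroup.normalizer (T : Set Ω) := ⟨hs, stronglyClosed_normalized hTs hs⟩
      have hA : actHom S T ⟨s, hs'⟩ ∈ autInducedBy S T := (range_actHom S T).le ⟨_, rfl⟩
      have h := inner_of_pElement (hS.to_le hTS) hE.1.1 (hAB (autInducedBy_le_autGroup hTS hA))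
        ((isPGroup_autInducedBy hS T).to_le (Subgroup.zpowers_le.mpr hA))
      rw [inn_eq_autInducedBy, mem_autInducedBy] at h
      obtain ⟨t, ht, -, et⟩ := h
      have hc : t⁻¹ * s ∈ centralizerIn S T := ⟨S.mul_mem (S.inv_mem (hTS ht)) hs, fun x hx => by
        have e : s * x * s⁻¹ = t * x * t⁻¹ := (actHom_apply S T ⟨s, hs'⟩ ⟨x, hx⟩).symm.trans (et ⟨x, hx⟩)
        calc x * (t⁻¹ * s) = t⁻¹ * (t * x * t⁻¹) * s := by group
          _ = t⁻¹ * (s * x * s⁻¹) * s := by rw [e]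
          _ = t⁻¹ * s * x := by group⟩
      simpa using mul_mem (Subgroup.mem_sup_left (T := centralizerIn S T) ht) (Subgroup.mem_sup_right hc)
    exact ⟨S, F, hM, (Terminating.self_normal hS hF).1, hE, hAB,
      fun A L hA hL => limit_unique hS hF hA hL, fun _ _ h _ => h⟩
  obtain ⟨U, F₁, h⟩ : ∃ (U : Subgroup Ω) (F₁ : FusionSystem U), Step F E p F₁ := by
    by_cases h1 : F.autGroup T ≤ Gen (F.autGroup T) (E.autGroup T) fun n => n.Coprime p
    · exact step_p' hS hE hBn fun h2 => hAB (hsolv _ hBA le_rfl h1 h2).le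
    · exact step_p hS hE hBn h1
  have hinv₁ : F₁.IsInvariantIn F := h.wn.2.2
  have hsub₁ := hinv₁.1
  have hUS : U ≤ S := subsystem_dom_le hsub₁
  haveI := finite_of_le hUS
  have hUp : IsPGroup p U := hS.to_le hUS
  have hA₁ : F₁.autGroup T ≤ F.autGroup T := autGroup_mono hsub₁ (le_sup_left.trans h.ge)
  obtain ⟨M, F₀, h₀⟩ := ih (Nat.card (F₁.autGroup T)) (by
      rw [← hn]
      exact lt_of_le_of_ne (card_le_of_le hA₁) fun e =>
        h.lt (Subgroup.eq_of_le_of_card_ge hA₁ e.ge).ge)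
    hUp F₁ rfl h.en (fun a ha => hBn a (hA₁ ha)) (fun X h1 h2 => hsolv X h1 (h2.trans hA₁))
  have hC := centralizerIn_eq (T := T) hUS (le_sup_right.trans h.ge)
  have hMdom : M = T ⊔ centralizerIn S T := h₀.dom.trans (by rw [hC])
  have hMs : F.StronglyClosed M := hMdom ▸ stronglyClosed_sup_centralizer hS hF hTs
  have hinv₀ : F₀.IsInvariantIn F₁ := h₀.wn.2.2
  have hMU : M ≤ U := subsystem_dom_le hinv₀.1
  haveI := finite_of_le hMU
  -- symmetries of `F₀` from the automorphisms of `M`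
  have hsym : ∀ {b : Ω → Ω}, Iso F b U U → ∃ b', SysIso F₀ F₀ b b' := by
    intro b hb
    obtain ⟨b', hb', hl, hr⟩ := hb.exists_symm
    have hTU : T ≤ U := le_sup_left.trans h.ge
    have hbT : Iso F b T T := (hb.mor.restrict hTU).iso_of_card
      (fun x hx => stronglyClosed_mem hTs hb.mor (hTU hx) hx) le_rfl
    have hb'T : Iso F b' T T := (hb'.mor.restrict hTU).iso_of_card
      (fun x hx => stronglyClosed_mem hTs hb'.mor (hTU hx) hx) le_rfl
    exact ⟨b', h₀.push b b' (invariant_sysIso hinv₁ hb hb' hl hr)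
      (invariant_sysIso hinv hbT hb'T (fun x hx => hl x (hTU hx)) fun x hx => hr x (hTU hx))⟩
  have hfr : ∀ P f, P ≤ M → Mor F P f → ∃ b a g, Iso F b U U ∧ Iso F₁ a M M ∧ Mor F₀ P g ∧
      ∀ x ∈ P, f x = b (a (g x)) := by
    intro P f hP hf
    obtain ⟨b, g₁, hb, hg₁, e⟩ := invariant_frattini hinv₁ hf (hP.trans hMU)
    obtain ⟨a, g, ha, hg, e'⟩ := invariant_frattini hinv₀ hg₁ hP
    exact ⟨b, a, g, hb, ha, hg, fun x hx => by rw [e x hx, e' x hx]⟩
  have hbM : ∀ {b : Ω → Ω}, Iso F b U U → Iso F b M M := fun hb =>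
    (hb.mor.restrict hMU).iso_of_card (fun x hx => stronglyClosed_mem hMs hb.mor (hMU hx) hx) le_rfl
  refine ⟨M, F₀, hMdom, ⟨h₀.wn.1, hF, invariant_mk (fun P φ hφ => hsub₁ P (hinv₀.1 P hφ)) hMs
    (fun a ha => ?_) fun P f hP hf => ?_⟩, h₀.en, h₀.aut, fun A L hA hL => ?_,
    fun σ σ' hσ hσE => h₀.push σ σ' (h.push σ σ' hσ hσE) hσE⟩
  · obtain ⟨b, g₁, hb, hg₁, e⟩ := invariant_frattini hinv₁ ha.mor hMU
    obtain ⟨b', hbs⟩ := hsym hb
    have hg₁i : Iso F₁ g₁ M M := hg₁.iso_of_card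
      (fun x hx => stronglyClosed_mem hinv₀.2.1 hg₁ hx hx) le_rfl
    obtain ⟨g', hgs⟩ := invariant_exists_sysIso hinv₀ hg₁i
    have hc := sysIso_comp hgs hbs
    refine ⟨g' ∘ b', fun x hx => ha.mapsTo hx, hc.mem', fun x hx => ?_, fun x hx => ?_,
      fun x hx y hy => ha.mor.map_mul hx hy, fun P f hf P' hP' => ?_, fun P' f hf P hP => ?_⟩
    · rw [e x hx]; exact hc.left x hx
    · rw [e _ (hc.mem' x hx)]; exact hc.right x hx
    · refine (hc.push P f hf P' fun y => ?_).congr fun y hy => ?_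
      · rw [hP']
        exact exists_congr fun x => and_congr_right fun hx => by rw [e x (hf.dom_le hx)]; rfl
      · obtain ⟨x, hx, rfl⟩ := (hP' y).mp hy
        refine (e _ (hf.map_mem (?_ : (g' ∘ b') (a x) ∈ P))).symm
        rw [e x (hf.dom_le hx)]
        have h1 := hc.left x (hf.dom_le hx)
        rw [Function.comp_apply] at h1 ⊢
        rw [Function.comp_apply] at h1
        rw [h1]
        exact hx
    · refine (hc.push' P' f hf P hP).congr fun y hy => ?_
      obtain ⟨x, hx, rfl⟩ := (hP y).mp hy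
      show g' (b' (f (b (g₁ _)))) = g' (b' (f (a _)))
      rw [e _ (hc.mem' x (hf.dom_le hx))]
  · obtain ⟨b, a, g, hb, ha, hg, e⟩ := hfr P f hP hf
    exact ⟨b ∘ a, g, (⟨subsystem_mor hsub₁ ha.mor, ha.bij⟩ : Iso F a M M).comp (hbM hb), hg, e⟩
  · obtain ⟨V, A₁, hA₁'⟩ := exists_limit hUp h.wn.1
    exact SameSys.trans' (h₀.lim A₁ L hA₁' hL) (h.lim A A₁ hA hA₁')

/-- The envelope is normal. -/
theorem Red.normal {F₀ : FusionSystem M} (h : Red F E p F₀) : F₀.IsNormalIn F p := by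
  have hM : M ≤ S := subsystem_dom_le h.wn.2.2.1
  haveI := finite_of_le hM
  have hC : centralizerIn S M ≤ M := by
    intro x hx
    rw [h.dom]
    exact Subgroup.mem_sup_right ⟨hx.1, fun y hy => hx.2 y (h.dom ▸ Subgroup.mem_sup_left hy)⟩
  refine normal_of_hf h.wn fun a ha => ?_
  have e : M ⊔ centralizerIn S M = M := sup_eq_left.mpr hC
  refine ⟨ha, a, e.symm ▸ ⟨subsystem_mor h.wn.2.2.1 ha.mor, ha.bij⟩, fun _ _ => rfl, fun x hx => ?_⟩
  exact M.mul_mem (M.inv_mem (hC hx)) (ha.mapsTo (hC hx))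

end Cfsg.Agent.Fusion.Envelope
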