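/-
The centralizer subsystem `C_F(E)` of a normal subsystem: the subsystem of `p`-power index of
`C_F(T)` over `C_S(E)` is normal in the whole system.
-/
import Cfsg.Agent.Fusion.CentEStrong
import Cfsg.Agent.Fusion.ConjComponent
import Cfsg.Agent.Fusion.Envelope
set_option autoImplicit false
set_option linter.style.haveILetI false
set_option linter.unusedSectionVars false
set_option maxHeartbeats 1000000

namespace Cfsg.Agent.Fusion.CentESystem

open Cfsg Cfsg.FusionSystem Cfsg.Agent.Fusion Cfsg.Agent.Fusion.SatCrit Cfsg.Agent.Fusion.WeakResidual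
open Cfsg.Agent.Fusion.CharSys (af af_coe)
open Cfsg.Agent.Fusion.CentFix (cent_mor exists_pprime_power iterate_agree)

variable {Ω : Type*} [Group Ω] {S T Y : Subgroup Ω} {F : FusionSystem S}
  {CT : FusionSystem (centralizerIn S T)} {D : FusionSystem Y}
  {p : ℕ} {P : Subgroup Ω} {f β β' : Ω → Ω}

/-- Transporting a map of the centralizer system by a symmetry of `T ⊔ C_S(T)`. -/
theorem cent_push (hCT : F.IsCentralizerSystem T CT) (hT : T ≤ S)
    (hβ : Iso F β (T ⊔ centralizerIn S T) (T ⊔ centralizerIn S T))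
    (hβ' : Iso F β' (T ⊔ centralizerIn S T) (T ⊔ centralizerIn S T))
    (hl : ∀ x ∈ T ⊔ centralizerIn S T, β' (β x) = x) (hr : ∀ x ∈ T ⊔ centralizerIn S T, β (β' x) = x)
    (hβT : ∀ t ∈ T, β' t ∈ T) (hβC : ∀ x ∈ centralizerIn S T, β x ∈ centralizerIn S T)
    (hf : Mor CT P f) {P' : Subgroup Ω} (hP' : ∀ y, y ∈ P' ↔ ∃ x ∈ P, β x = y) :
    Mor CT P' (β ∘ f ∘ β') := by
  obtain ⟨hP, hv, g, hg, eg, gT⟩ := (cent_mor hCT).mp hf
  have hmid : ∀ y ∈ P', β' y ∈ P := fun y hy => by
    obtain ⟨x, hx, rfl⟩ := (hP' y).mp hy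
    rw [hl x (Subgroup.mem_sup_right (hP hx))]
    exact hx
  have hP'C : P' ≤ centralizerIn S T := fun y hy => by
    obtain ⟨x, hx, rfl⟩ := (hP' y).mp hy
    exact hβC x (hP hx)
  refine (cent_mor hCT).mpr ⟨hP'C, fun y hy => hβC _ (hv _ (hmid y hy)), β ∘ g ∘ β', ?_, ?_, ?_⟩
  · have h1 : Mor F (P' ⊔ T) β' :=
      hβ'.mor.restrict (sup_le (hP'C.trans le_sup_right) le_sup_left)
    refine (h1.comp hg fun x hx => h1.map_sup (fun y hy => Subgroup.mem_sup_left (hmid y hy))
      (fun y hy => Subgroup.mem_sup_right (hβT y hy)) x hx).comp hβ.mor fun x hx => ?_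
    have h2 : ∀ z ∈ P ⊔ T, g z ∈ T ⊔ centralizerIn S T := fun z hz => hg.map_sup
      (fun y hy => Subgroup.mem_sup_right (by rw [eg y hy]; exact hv y hy))
      (fun y hy => Subgroup.mem_sup_left (by rw [gT y hy]; exact hy)) z hz
    exact h2 _ (h1.map_sup (fun y hy => Subgroup.mem_sup_left (hmid y hy))
      (fun y hy => Subgroup.mem_sup_right (hβT y hy)) x hx)
  · intro y hy
    show β (g (β' y)) = β (f (β' y))
    rw [eg _ (hmid y hy)]
  · intro t ht
    show β (g (β' t)) = t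
    rw [gT _ (hβT t ht), hr t (Subgroup.mem_sup_left ht)]

variable [Fact p.Prime] [Finite S] {E : FusionSystem T}

/-- A map between subgroups of `C_S(T)` extends over `T`. -/
theorem ext_sup (c : CentE.Ctx F E p) (hf : Mor F P f) (hP : P ≤ centralizerIn S T)
    (hv : ∀ x ∈ P, f x ∈ centralizerIn S T) : ∃ g, Mor F (P ⊔ T) g ∧ ∀ x ∈ P, g x = f x := by
  haveI := finite_of_le c.tle
  obtain ⟨R, hR, hRn⟩ := exists_fullyNormalized (F := F) hf.dom_le
  obtain ⟨h, hh⟩ := isConj_iff.mp hR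
  have hrec := receptive_iff.mp (IsSaturated_fullyNormalized c.hS c.hF hRn).2.2
  obtain ⟨f', hf', el, er⟩ := hf.toIso.exists_symm
  have hQ : hf.img ≤ centralizerIn S T := fun y hy => by
    obtain ⟨x, hx, rfl⟩ := hf.mem_img.mp hy
    exact hv x hx
  have hk : Iso F (h ∘ f') hf.img R := hf'.comp hh
  have key : ∀ {A : Subgroup Ω} {u : Ω → Ω}, A ≤ centralizerIn S T → Iso F u A R →
      ∃ u', Mor F (A ⊔ T) u' ∧ ∀ x ∈ A, u' x = u x := by
    intro A u hA hu
    obtain ⟨u', hu', e⟩ := hrec.2 A u hu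
    refine ⟨u', hu'.restrict (sup_le hu.mor.le_nphi fun t ht => centralizerIn_le_nphi ?_), e⟩
    exact ⟨c.tle ht, fun x hx => ((hA hx).2 t ht).symm⟩
  obtain ⟨h', hh', eh⟩ := key hP hh
  obtain ⟨k', hk', ek⟩ := key hQ hk
  obtain ⟨w, hw, wl, wr⟩ := hk'.toIso.exists_symm
  have hTk : Iso F k' T T := (hk'.restrict le_sup_right).iso_of_card
    (fun x hx => stronglyClosed_mem c.strong hk' (Subgroup.mem_sup_right hx) hx) le_rfl
  have hmem : ∀ x ∈ P ⊔ T, h' x ∈ hk'.img := fun x hx => hh'.map_sup (fun y hy => ?_) (fun y hy => ?_) x hx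
  rotate_left
  · refine hk'.mem_img.mpr ⟨f y, Subgroup.mem_sup_left (hf.mem_img.mpr ⟨y, hy, rfl⟩), ?_⟩
    rw [ek _ (hf.mem_img.mpr ⟨y, hy, rfl⟩), eh y hy]
    show h (f' (f y)) = h y
    rw [el y hy]
  · obtain ⟨z, hz, e⟩ := hTk.surj (stronglyClosed_mem c.strong hh' (Subgroup.mem_sup_right hy) hy)
    exact hk'.mem_img.mpr ⟨z, Subgroup.mem_sup_right hz, e⟩
  refine ⟨w ∘ h', hh'.comp hw.mor hmem, fun x hx => ?_⟩
  have hfx : f x ∈ hf.img := hf.mem_img.mpr ⟨x, hx, rfl⟩
  show w (h' x) = f x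
  rw [← wl (f x) (Subgroup.mem_sup_left hfx), ek _ hfx, eh x hx]
  show w (h x) = w (h (f' (f x)))
  rw [el x hx]

/-- The structure around `Y = C_S(E)`. -/
theorem frattini (c : CentE.Ctx F E p) (hCT : F.IsCentralizerSystem T CT)
    (hf : Mor F P f) (hP : P ≤ centralizerIn S T) (hv : ∀ x ∈ P, f x ∈ centralizerIn S T) :
    ∃ b u, Iso F b (T ⊔ centralizerIn S T) (T ⊔ centralizerIn S T) ∧ (∀ t ∈ T, b t ∈ T) ∧
      Mor CT P u ∧ ∀ x ∈ P, f x = b (u x) := by
  haveI := finite_of_le c.tle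
  obtain ⟨g, hg, eg⟩ := ext_sup c hf hP hv
  have hgT : ∀ x ∈ T, g x ∈ T := fun x hx =>
    stronglyClosed_mem c.strong hg (Subgroup.mem_sup_right hx) hx
  have hgi : Iso F g T T := (hg.restrict le_sup_right).iso_of_card hgT le_rfl
  obtain ⟨b, hb, eb⟩ := c.ext_aut hgi
  obtain ⟨b', hb', hl, hr⟩ := hb.exists_symm
  have hbT : ∀ t ∈ T, b t ∈ T := fun t ht => by rw [eb t ht]; exact hgT t ht
  have hb'T : ∀ t ∈ T, b' t ∈ T := fun t ht =>
    stronglyClosed_mem c.strong hb'.mor (Subgroup.mem_sup_left ht) ht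
  have hgM : ∀ x ∈ P ⊔ T, g x ∈ T ⊔ centralizerIn S T := fun x hx => hg.map_sup
    (fun y hy => Subgroup.mem_sup_right (by rw [eg y hy]; exact hv y hy))
    (fun y hy => Subgroup.mem_sup_left (hgT y hy)) x hx
  refine ⟨b, b' ∘ g, hb, hbT, (cent_mor hCT).mpr ⟨hP, fun x hx => ?_, b' ∘ g, hg.comp hb'.mor hgM,
    fun _ _ => rfl, fun t ht => ?_⟩, fun x hx => ?_⟩
  · show b' (g x) ∈ centralizerIn S T
    rw [eg x hx]
    exact c.sym_mapsC hb' hb'T (hv x hx)
  · show b' (g t) = t
    rw [← eb t ht, hl t (Subgroup.mem_sup_left ht)]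
  · show f x = b (b' (g x))
    rw [hr _ (hgM x (Subgroup.mem_sup_left hx)), eg x hx]

theorem normal (c : CentE.Ctx F E p) (hCT : F.IsCentralizerSystem T CT) (hD : D.IsSaturated p)
    (hDi : D.HasPPowerIndexIn CT p) (hYC : Y ≤ centralizerIn S T) (hYs : F.StronglyClosed Y) :
    D.IsNormalIn F p := by
  have hS := c.hS
  have hYS : Y ≤ S := hYs.1
  haveI := finite_of_le hYS
  haveI := finite_of_le c.tle
  have hCp : IsPGroup p ↥(centralizerIn S T) := hS.to_le centralizerIn_le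
  haveI := finite_of_le (centralizerIn_le : centralizerIn S T ≤ S)
  have hCsat : CT.IsSaturated p := centralizerSystem_saturated hS c.hF c.fullyCentralizedT hCT
  have hCF : CT.IsSubsystemOf F := fun P φ hφ => by rw [hCT P] at hφ; exact hφ.1
  have hDF : D.IsSubsystemOf F := fun P φ hφ => hCF P (hDi.1 P hφ)
  have hYn : ∀ s ∈ S, ∀ x ∈ Y, cj s x ∈ Y := fun s hs x hx =>
    stronglyClosed_mem hYs (Mor.conj hYS hs) hx hx
  have hYsC : CT.StronglyClosed Y := Envelope.stronglyClosed_mk hYC fun P f hf x hx hxY =>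
    stronglyClosed_mem hYs (subsystem_mor hCF hf) hx hxY
  have hfr : ∀ P f, P ≤ Y → Mor F P f → ∃ b u, Iso F b (T ⊔ centralizerIn S T) (T ⊔ centralizerIn S T) ∧
      (∀ t ∈ T, b t ∈ T) ∧ Mor D P u ∧ ∀ x ∈ P, f x = b (u x) := by
    intro P f hP hf
    have hv : ∀ x ∈ P, f x ∈ centralizerIn S T := fun x hx =>
      hYC (stronglyClosed_mem hYs hf hx (hP hx))
    obtain ⟨b, u, hb, hbT, hu, e⟩ := frattini c hCT hf (hP.trans hYC) hv
    obtain ⟨s, hs, hd⟩ := pPower_frattini hCp hCsat hYsC (fun s hs => hYn s hs.1) hD hDi P u hu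
    rw [inf_eq_left.mpr hP] at hd
    have hi : Iso F (cj s⁻¹) (T ⊔ centralizerIn S T) (T ⊔ centralizerIn S T) :=
      Iso.conj_self (sup_le c.tle centralizerIn_le) (S.inv_mem hs.1)
        (Subgroup.le_normalizer (Subgroup.mem_sup_right (inv_mem hs)))
    refine ⟨b ∘ cj s⁻¹, fun x => cj s (u x), hi.comp hb, fun t ht => ?_, hd, fun x hx => ?_⟩
    · refine hbT _ ?_
      show s⁻¹ * t * s⁻¹⁻¹ ∈ T
      rw [← (inv_mem hs : s⁻¹ ∈ centralizerIn S T).2 t ht, mul_inv_cancel_right]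
      exact ht
    · show f x = b (cj s⁻¹ (cj s (u x)))
      rw [cj_inv_cancel, e x hx]
  have hsys : ∀ b, Iso F b (T ⊔ centralizerIn S T) (T ⊔ centralizerIn S T) → (∀ t ∈ T, b t ∈ T) →
      ∃ b', SysIso D D b b' := by
    intro b hb hbT
    obtain ⟨b', hb', hl, hr⟩ := hb.exists_symm
    have hb'T : ∀ t ∈ T, b' t ∈ T := fun t ht =>
      stronglyClosed_mem c.strong hb'.mor (Subgroup.mem_sup_left ht) ht
    have hi : SysIso CT CT b b' :=
      ⟨fun x hx => c.sym_mapsC hb hbT hx, fun x hx => c.sym_mapsC hb' hb'T hx,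
        fun x hx => hl x (Subgroup.mem_sup_right hx), fun x hx => hr x (Subgroup.mem_sup_right hx),
        fun x hx y hy => hb.mor.map_mul (Subgroup.mem_sup_right hx) (Subgroup.mem_sup_right hy),
        fun P f hf P' hP' => cent_push hCT c.tle hb hb' hl hr hb'T
          (fun x hx => c.sym_mapsC hb hbT hx) hf hP',
        fun P f hf P' hP' => cent_push hCT c.tle hb' hb hr hl hbT
          (fun x hx => c.sym_mapsC hb' hb'T hx) hf hP'⟩
    have hm : ∀ x ∈ Y, b x ∈ Y := fun x hx =>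
      stronglyClosed_mem hYs hb.mor (Subgroup.mem_sup_right (hYC hx)) hx
    have hm' : ∀ x ∈ Y, b' x ∈ Y := fun x hx =>
      stronglyClosed_mem hYs hb'.mor (Subgroup.mem_sup_right (hYC hx)) hx
    exact ⟨b', hm, hm', fun x hx => hi.left x (hYC hx), fun x hx => hi.right x (hYC hx),
      fun x hx y hy => hi.map_mul x (hYC hx) y (hYC hy),
      fun P f hf => Envelope.pPower_push' hCp hD hDi hi hm P f hf,
      fun P f hf => Envelope.pPower_push' hCp hD hDi hi.symm hm' P f hf⟩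
  have hDp : IsPGroup p Y := hS.to_le hYS
  have hinv : D.IsInvariantIn F := by
    refine Envelope.invariant_mk hDF hYs (fun a ha => ?_) fun P f hP hf => ?_
    · obtain ⟨b, u, hb, hbT, hu, e⟩ := hfr Y a le_rfl ha.mor
      have hui : Iso D u Y Y := hu.iso_of_card (fun x hx => hu.map_mem hx) le_rfl
      obtain ⟨u', hus⟩ := invariant_exists_sysIso (Terminating.self_normal hDp hD).1.2.2 hui
      obtain ⟨b', hbs⟩ := hsys b hb hbT
      exact ⟨_, (Envelope.sysIso_comp hus hbs).congr fun x hx => e x hx⟩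
    · obtain ⟨b, u, hb, hbT, hu, e⟩ := hfr P f hP hf
      exact ⟨b, u, (hb.mor.restrict (hYC.trans le_sup_right)).iso_of_card
        (fun x hx => stronglyClosed_mem hYs hb.mor (Subgroup.mem_sup_right (hYC hx)) hx) le_rfl, hu, e⟩
  let cD : WCtx F D p := ⟨hS, c.hF, hD, hinv⟩
  refine Envelope.normal_of_hf ⟨hD, c.hF, hinv⟩ fun a ha => ?_
  -- automorphisms of order prime to `p` extend
  have main : ∀ (a : Ω → Ω) (k : ℕ), Iso D a Y Y → k.Coprime p → (∀ x ∈ Y, a^[k] x = x) → HF F D a := by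
    intro a k ha hk hak
    refine ⟨ha, ?_⟩
    obtain ⟨-, -, g, hg, eg, gT⟩ := (cent_mor hCT).mp (subsystem_mor hDi.1 ha.mor)
    haveI := finite_of_le hg.dom_le
    have hgi : Iso F g (Y ⊔ T) (Y ⊔ T) := hg.iso_of_card (fun x hx => hg.map_sup
      (fun y hy => Subgroup.mem_sup_left (by rw [eg y hy]; exact ha.mapsTo hy))
      (fun y hy => Subgroup.mem_sup_right (by rw [gT y hy]; exact hy)) x hx) le_rfl
    have hfc : F.IsFullyCentralized (Y ⊔ T) := by
      refine ⟨hg.dom_le, fun Q hQ => ?_⟩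
      obtain ⟨u, hu⟩ := isConj_iff.mp hQ
      have hui : Iso F u (Y ⊔ T) (Y ⊔ T) := hu.mor.iso_of_card (fun x hx => hu.mor.map_sup
        (fun y hy => Subgroup.mem_sup_left (stronglyClosed_mem hYs hu.mor (Subgroup.mem_sup_left hy) hy))
        (fun y hy => Subgroup.mem_sup_right
          (stronglyClosed_mem c.strong hu.mor (Subgroup.mem_sup_right hy) hy)) x hx) le_rfl
      have : Q = Y ⊔ T := by
        ext y
        exact ⟨fun hy => by obtain ⟨x, hx, rfl⟩ := hu.surj hy; exact hui.mapsTo hx,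
          fun hy => by obtain ⟨x, hx, rfl⟩ := hui.surj hy; exact hu.mapsTo hx⟩
      rw [this]
    obtain ⟨γ, hγ, eγ⟩ := (receptive_iff.mp (IsSaturated_fullyCentralized_receptive hS c.hF hfc)).2 _ g hgi
    have hnYT : ∀ x ∈ S, x ∈ Subgroup.normalizer ((Y ⊔ T : Subgroup Ω) : Set Ω) := by
      have hn : ∀ x ∈ S, ∀ z ∈ Y ⊔ T, cj x z ∈ Y ⊔ T := by
        intro x hx z hz
        exact (Mor.conj (F := F) hg.dom_le hx).map_sup (fun y hy => Subgroup.mem_sup_left (hYn x hx y hy))
          (fun y hy => Subgroup.mem_sup_right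
            (stronglyClosed_mem c.strong (Mor.conj c.tle hx) hy hy)) z hz
      intro x hx
      refine Subgroup.mem_normalizer_iff.mpr fun z => ⟨hn x hx z, fun hz => ?_⟩
      have h := hn x⁻¹ (S.inv_mem hx) _ hz
      rwa [show cj x⁻¹ (x * z * x⁻¹) = z from cj_inv_cancel x z] at h
    have hTC : T ≤ centralizerIn S Y := fun t ht => ⟨c.tle ht, fun y hy => ((hYC hy).2 t ht).symm⟩
    have hW : Y ⊔ centralizerIn S Y ≤ nphi S (Y ⊔ T) g := by
      refine sup_le (le_sup_left.trans hg.le_nphi) fun x hx => ?_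
      have hxn := hnYT x hx.1
      refine mem_nphi.mpr ⟨hx.1, hxn, x, hx.1, fun z hz => ?_⟩
      have hcm : ∀ {y z : Ω}, y ∈ Y ⊔ T → z ∈ Y ⊔ T → g (cj x y) = cj x (g y) → g (cj x z) = cj x (g z) →
          g (cj x (y * z)) = cj x (g (y * z)) := by
        intro y z hy hz h1 h2
        rw [cj_map_mul, hg.map_mul ((cj_mem_iff hxn y).mpr hy) ((cj_mem_iff hxn z).mpr hz), h1, h2,
          ← cj_map_mul, hg.map_mul hy hz]
      let K : Subgroup Ω :=
        { carrier := {z | z ∈ Y ⊔ T ∧ g (cj x z) = cj x (g z)}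
          one_mem' := ⟨one_mem _, by simp [cj, hg.map_one]⟩
          mul_mem' := fun {y z} hy hz => ⟨mul_mem hy.1 hz.1, hcm hy.1 hz.1 hy.2 hz.2⟩
          inv_mem' := fun {y} hy => by
            refine ⟨inv_mem hy.1, ?_⟩
            have e : cj x y⁻¹ = (cj x y)⁻¹ := by simp [cj, mul_assoc]
            rw [e, hg.map_inv ((cj_mem_iff hxn y).mpr hy.1), hy.2, hg.map_inv hy.1]
            simp [cj, mul_assoc] }
      have hle : Y ⊔ T ≤ K := sup_le (fun y hy => ⟨Subgroup.mem_sup_left hy, by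
          have h1 : cj x y = y := by rw [cj_apply, ← hx.2 y hy, mul_inv_cancel_right]
          have h2 : cj x (g y) = g y := by
            rw [cj_apply, ← hx.2 (g y) (by rw [eg y hy]; exact ha.mapsTo hy), mul_inv_cancel_right]
          rw [h1, h2]⟩) fun t ht => ⟨Subgroup.mem_sup_right ht, by
          rw [gT t ht, gT _ (stronglyClosed_mem c.strong (Mor.conj c.tle hx.1) ht ht)]⟩
      exact (hle hz).2
    have hγW : Mor F (Y ⊔ centralizerIn S Y) γ := hγ.restrict hW
    have hYT : Y ≤ Y ⊔ T := le_sup_left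
    have hγY : ∀ y ∈ Y, γ y = a y := fun y hy => (eγ y (hYT hy)).trans (eg y hy)
    have haF : Iso F a Y Y := ⟨subsystem_mor hDF ha.mor, ha.bij⟩
    haveI := finite_of_le hγW.dom_le
    have hγi : Iso F γ (Y ⊔ centralizerIn S Y) (Y ⊔ centralizerIn S Y) :=
      hγW.iso_of_card (fun x hx => hγW.map_sup
        (fun y hy => Subgroup.mem_sup_left (by rw [hγY y hy]; exact ha.mapsTo hy))
        (fun y hy => Subgroup.mem_sup_right
          (haF.map_centralizer hγW le_sup_left hγY (Subgroup.mem_sup_right hy) hy)) x hx) le_rfl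
    obtain ⟨m, l, hm, hl, hml⟩ := exists_pprime_power hγi hk
    set δ := γ^[m] with hδdef
    have hδ : Iso F δ (Y ⊔ centralizerIn S Y) (Y ⊔ centralizerIn S Y) := iso_pow hγi m
    have hTW : T ≤ Y ⊔ centralizerIn S Y := hTC.trans le_sup_right
    have hδY : ∀ y ∈ Y, δ y = a y := fun y hy => by
      rw [hδdef, iterate_agree (fun z hz => ha.mapsTo hz) hγY m y hy, iterate_mod hak m hy, hm,
        ← iterate_mod hak 1 hy, Function.iterate_one]
    have hδT : ∀ t ∈ T, δ t = t := fun t ht => by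
      rw [hδdef, iterate_agree (f := id) (fun z hz => hz) (fun z hz => (eγ z (Subgroup.mem_sup_right hz)).trans (gT z hz)) m t ht]
      exact congrFun (Function.iterate_id m) t
    refine ⟨δ, hδ, hδY, ?_⟩
    -- the part inside `C_S(T)`
    have hδC : ∀ x ∈ centralizerIn S Y, δ x ∈ centralizerIn S Y := fun x hx =>
      haF.map_centralizer hδ.mor le_sup_left hδY (Subgroup.mem_sup_right hx) hx
    have hR0 : ∀ x ∈ centralizerIn S Y, x⁻¹ * δ x ∈ centralizerIn S T := fun x hx => by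
      refine ⟨S.mul_mem (S.inv_mem hx.1) (hδC x hx).1, fun t ht => ?_⟩
      have hxt : cj x t ∈ T := stronglyClosed_mem c.strong (Mor.conj c.tle hx.1) ht ht
      have e : δ (x * t * x⁻¹) = δ x * δ t * (δ x)⁻¹ :=
        hδ.mor.map_conj (Subgroup.mem_sup_right hx) (hTW ht)
      rw [hδT t ht, show x * t * x⁻¹ = cj x t from rfl, hδT _ hxt, cj_apply] at e
      calc t * (x⁻¹ * δ x) = x⁻¹ * (x * t * x⁻¹) * δ x := by group
        _ = x⁻¹ * (δ x * t * (δ x)⁻¹) * δ x := by rw [e]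
        _ = x⁻¹ * δ x * t := by group
    set A := Y ⊔ (centralizerIn S T ⊓ centralizerIn S Y) with hAdef
    have hAC : A ≤ centralizerIn S T := sup_le hYC inf_le_left
    have hAW : A ≤ Y ⊔ centralizerIn S Y := sup_le_sup le_rfl inf_le_right
    haveI := finite_of_le (hAC.trans (centralizerIn_le : centralizerIn S T ≤ S))
    have hA1 : ∀ x ∈ centralizerIn S T ⊓ centralizerIn S Y, δ x ∈ centralizerIn S T := fun x hx => by
      have := (centralizerIn S T).mul_mem hx.1 (hR0 x hx.2)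
      rwa [mul_inv_cancel_left] at this
    have hδA : Mor CT A δ := (cent_mor hCT).mpr ⟨hAC, fun x hx => (hδ.mor.restrict hAW).map_sup
      (fun y hy => hYC (by rw [hδY y hy]; exact ha.mapsTo hy)) hA1 x hx, δ,
      hδ.mor.restrict (sup_le hAW hTW), fun _ _ => rfl, hδT⟩
    have hδAi : Iso CT δ A A := hδA.iso_of_card (fun x hx => hδA.map_sup (T := A)
      (fun y hy => Subgroup.mem_sup_left (by rw [hδY y hy]; exact ha.mapsTo hy))
      (fun y hy => Subgroup.mem_sup_right (Subgroup.mem_inf.mpr ⟨hA1 y hy, hδC y hy.2⟩)) x hx) le_rfl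
    intro x hx
    set u := x⁻¹ * δ x with hudef
    have hu : u ∈ centralizerIn S T ⊓ centralizerIn S Y :=
      ⟨hR0 x hx, (centralizerIn S Y).mul_mem ((centralizerIn S Y).inv_mem hx) (hδC x hx)⟩
    set v := u⁻¹ * δ u with hvdef
    have hvY : v ∈ Y := hDi.2.1 (mem_hyperfocal_gen hδAi hl (fun z hz => hml z (hAW hz))
      (Subgroup.mem_sup_right hu))
    have huv : Commute u v := (hu.2.2 v hvY).symm
    have hW' : ∀ n : ℕ, u ^ n ∈ Y ⊔ centralizerIn S Y := fun n =>
      Subgroup.mem_sup_right (pow_mem hu.2 n)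
    have hit : ∀ n : ℕ, ∃ z ∈ Y, δ^[n] x = x * u ^ n * z := by
      intro n
      induction n with
      | zero => exact ⟨1, Y.one_mem, by simp⟩
      | succ n ih =>
        obtain ⟨z, hz, e⟩ := ih
        refine ⟨v ^ n * δ z, Y.mul_mem (Y.pow_mem hvY n) (by rw [hδY z hz]; exact ha.mapsTo hz), ?_⟩
        rw [Function.iterate_succ_apply', e, hδ.mor.map_mul (mul_mem (Subgroup.mem_sup_right hx) (hW' n))
          (Subgroup.mem_sup_left hz), hδ.mor.map_mul (Subgroup.mem_sup_right hx) (hW' n),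
          hδ.mor.map_pow (Subgroup.mem_sup_right hu.2) n, show δ x = x * u by rw [hudef, mul_inv_cancel_left],
          show δ u = u * v by rw [hvdef, mul_inv_cancel_left], huv.mul_pow, pow_succ']
        simp only [mul_assoc]
    obtain ⟨z, hz, e⟩ := hit l
    rw [hml x (Subgroup.mem_sup_right hx), mul_assoc] at e
    have hul : u ^ l ∈ Y := by
      have : u ^ l * z = 1 := by
        have h := e
        nth_rw 1 [← mul_one x] at h
        exact (mul_left_cancel h).symm
      rw [eq_inv_of_mul_eq_one_left this]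
      exact inv_mem hz
    obtain ⟨j, hj⟩ := hS ⟨u, hu.2.1⟩
    have hord : (orderOf u).Coprime l := by
      have hdvd : orderOf u ∣ p ^ j := orderOf_dvd_of_pow_eq_one (by simpa using congrArg Subtype.val hj)
      exact Nat.Coprime.coprime_dvd_left hdvd (hl.symm.pow_left j)
    obtain ⟨i, hi⟩ := exists_pow_eq_self_of_coprime hord.symm
    show u ∈ Y
    rw [← hi]
    exact pow_mem hul i
  -- the automorphisms of `Y` in `D` are generated by those and by inner ones
  have hle : D.autGroup Y ≤ cD.hsub := by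
    have hn' : D.IsFullyNormalized Y := ⟨le_rfl, fun Q _ => by
      rw [normalizerIn_self]; exact card_le_of_le normalizerIn_le⟩
    intro α hα
    have h0 : (⟨α, hα⟩ : D.autGroup Y) ∈ pResidual p ↥(D.autGroup Y) ⊔
        (autInducedBy Y Y).subgroupOf (D.autGroup Y) :=
      (autGroup_generated hDp hD hn').symm ▸ Subgroup.mem_top _
    refine (sup_le ?_ (fun β hβ => cD.hsub_pElement β.2
      ((isPGroup_autInducedBy hDp Y).to_le (Subgroup.zpowers_le.mpr hβ))) :
        pResidual p ↥(D.autGroup Y) ⊔ (autInducedBy Y Y).subgroupOf (D.autGroup Y) ≤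
          cD.hsub.subgroupOf (D.autGroup Y)) h0
    rw [pResidual, Subgroup.closure_le]
    intro β hβ
    have hb : Iso D (af (β : MulAut Y)) Y Y := autGroup_iso le_rfl β.2
    refine main _ (orderOf β) hb hβ fun x hx => ?_
    have hord : ∀ n, ∀ x : Y, (af (β : MulAut Y))^[n] (x : Ω) = (((((β : MulAut Y)) ^ n) x : Y) : Ω) := by
      intro n
      induction n with
      | zero => intro x; rfl
      | succ n ih => intro x; rw [Function.iterate_succ_apply', ih x, af_coe, pow_succ', MulAut.mul_apply]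
    show (af (β : MulAut Y))^[orderOf β] x = x
    rw [hord _ ⟨x, hx⟩, ← SubmonoidClass.coe_pow, pow_orderOf_eq_one]
    rfl
  exact cD.hf_congr (hle ha.equiv_mem_autGroup) fun x hx => extFun_apply _ hx

end Cfsg.Agent.Fusion.CentESystem
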