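/-
Lifting a normal subsystem through a central subgroup, the automorphism groups: on a subgroup
lying over a centric subgroup of the normal subsystem, the automorphisms lying over it contain a
subgroup meeting the kernel of the reduction in inner automorphisms only.
-/
import Cfsg.Agent.Fusion.CentEStrong
import Cfsg.Agent.Fusion.ComponentTransport
import Cfsg.Agent.Fusion.FactorSat
import Cfsg.Agent.Fusion.SatKey
import Cfsg.Agent.Fusion.HypFocal
import Cfsg.Agent.Fusion.TerminatingSeries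
import Mathlib.GroupTheory.Transfer
set_option autoImplicit false
set_option linter.style.haveILetI false
set_option linter.unusedSectionVars false
set_option maxHeartbeats 1000000

namespace Cfsg.Agent.Fusion.CentralLift

open Cfsg Cfsg.FusionSystem Cfsg.Agent.Fusion Cfsg.Agent.Fusion.SatCrit Cfsg.Agent.Fusion.WeakResidual
open Cfsg.Agent.Fusion.CharSys (af af_coe)
open Cfsg.Agent.Fusion.CentFix (exists_pprime_power iterate_agree)

/-! ### Group theory -/

/-- An element is a product of powers of itself of order a power of `p` and of order prime to `p`. -/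
theorem split {G : Type*} [Group G] [Finite G] {p : ℕ} [Fact p.Prime] (g : G) :
    ∃ a b, g = a * b ∧ a ∈ Subgroup.zpowers g ∧ b ∈ Subgroup.zpowers g ∧
      (∃ k, orderOf a = p ^ k) ∧ (orderOf b).Coprime p := by
  obtain ⟨e, m, hm, h⟩ := Nat.exists_eq_pow_mul_and_not_dvd (orderOf_pos g).ne' p
    (Fact.out : p.Prime).ne_one
  have hco : IsCoprime ((p ^ e : ℕ) : ℤ) (m : ℤ) := Int.isCoprime_iff_nat_coprime.mpr
    (by simpa using (((Fact.out : p.Prime).coprime_iff_not_dvd).mpr hm).pow_left e)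
  obtain ⟨x, y, hxy⟩ := hco
  have h1 : g ^ (p ^ e * m) = 1 := h ▸ pow_orderOf_eq_one g
  have h1' : g ^ (((p ^ e : ℕ) : ℤ) * (m : ℤ)) = 1 := by exact_mod_cast h1
  have hz : ∀ u : ℤ, g ^ ((((p ^ e : ℕ) : ℤ) * (m : ℤ)) * u) = 1 := fun u => by
    rw [zpow_mul, h1', one_zpow]
  refine ⟨g ^ (y * (m : ℤ)), g ^ (x * ((p ^ e : ℕ) : ℤ)), ?_,
    zpow_mem (Subgroup.mem_zpowers g) _, zpow_mem (Subgroup.mem_zpowers g) _, ?_, ?_⟩
  · rw [← zpow_add, add_comm, hxy, zpow_one]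
  · have ha : (g ^ (y * (m : ℤ))) ^ (p ^ e) = 1 := by
      rw [← zpow_natCast, ← zpow_mul]
      have := hz y
      convert this using 2
      push_cast
      ring
    obtain ⟨k, -, hk⟩ := (Nat.dvd_prime_pow (Fact.out : p.Prime)).mp (orderOf_dvd_of_pow_eq_one ha)
    exact ⟨k, hk⟩
  · have hb : (g ^ (x * ((p ^ e : ℕ) : ℤ))) ^ m = 1 := by
      rw [← zpow_natCast, ← zpow_mul]
      have := hz x
      convert this using 2
      push_cast
      ring
    exact Nat.Coprime.coprime_dvd_left (orderOf_dvd_of_pow_eq_one hb)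
      ((((Fact.out : p.Prime).coprime_iff_not_dvd).mpr hm).symm)

/-- The transfer argument: a strongly closed subgroup `A` of a Sylow subgroup `U` with abelian quotient,
and an element `k` of `U` that is central modulo `A`. -/
theorem transfer_mem {G : Type*} [Group G] [Finite G] {p : ℕ} [Fact p.Prime] {U A : Subgroup G}
    (hU : IsPGroup p U) (hidx : ¬ p ∣ U.index) (hAU : A ≤ U)
    (hAn : ∀ u ∈ U, ∀ a ∈ A, u * a * u⁻¹ ∈ A)
    (hcomm : ∀ u ∈ U, ∀ v ∈ U, u * v * u⁻¹ * v⁻¹ ∈ A)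
    (hsc : ∀ g : G, ∀ a ∈ A, g * a * g⁻¹ ∈ U → g * a * g⁻¹ ∈ A)
    {k : G} (hk : k ∈ U) (hkc : ∀ g : G, g * k * g⁻¹ * k⁻¹ ∈ A) {s : Set G}
    (hs : ∀ x ∈ s, (orderOf x).Coprime p ∨ ∃ g : G, ∃ a ∈ A, x = g * a * g⁻¹)
    (hkB : k ∈ Subgroup.closure s) : k ∈ A := by
  classical
  haveI : (A.subgroupOf U).Normal := ⟨fun a ha u => hAn u u.2 a ha⟩
  letI : CommGroup (↥U ⧸ A.subgroupOf U) :=
    { (inferInstance : Group (↥U ⧸ A.subgroupOf U)) with
      mul_comm := by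
        intro a b
        induction a using QuotientGroup.induction_on with
        | _ a =>
        induction b using QuotientGroup.induction_on with
        | _ b =>
        rw [← QuotientGroup.mk_mul, ← QuotientGroup.mk_mul, QuotientGroup.eq]
        show ((a * b)⁻¹ * (b * a) : G) ∈ A
        have := hcomm _ (U.inv_mem b.2) _ (U.inv_mem a.2)
        simpa [mul_assoc] using this }
  let φ := QuotientGroup.mk' (A.subgroupOf U)
  let τ : G →* ↥U ⧸ A.subgroupOf U := φ.transfer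
  have hφ1 : ∀ u : U, (u : G) ∈ A → φ u = 1 := fun u hu => (QuotientGroup.eq_one_iff u).mpr hu
  have hA : ∀ a ∈ A, τ a = 1 := fun a ha => by
    letI := U.fintypeQuotientOfFiniteIndex
    show φ.transfer a = 1
    rw [MonoidHom.transfer_eq_prod_quotient_orbitRel_zpowers_quot]
    refine Finset.prod_eq_one fun q _ => hφ1 _ ?_
    have h := QuotientGroup.out_conj_pow_minimalPeriod_mem U a q.out
    have h2 := hsc (q.out.out)⁻¹ _ (pow_mem ha (Function.minimalPeriod (a • ·) q.out))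
      (by rw [inv_inv]; exact h)
    rwa [inv_inv] at h2
  have hp : IsPGroup p (↥U ⧸ A.subgroupOf U) := hU.to_quotient _
  have hB : Subgroup.closure s ≤ τ.ker := by
    refine (Subgroup.closure_le _).mpr fun x hx => MonoidHom.mem_ker.mpr ?_
    rcases hs x hx with h | ⟨g, a, ha, rfl⟩
    · obtain ⟨n, hn⟩ := hp (τ x)
      exact orderOf_eq_one_iff.mp (Nat.eq_one_of_dvd_coprimes (h.pow_right n)
        (orderOf_map_dvd τ x) (orderOf_dvd_of_pow_eq_one hn))
    · rw [map_mul, map_mul, hA a ha, mul_one, map_inv, mul_inv_cancel]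
  have hpow : ∀ n : ℕ, ∀ g : G, g * k ^ n * g⁻¹ * (k ^ n)⁻¹ ∈ A := by
    intro n
    induction n with
    | zero => intro g; simp
    | succ n ih =>
      intro g
      have e : g * k ^ (n + 1) * g⁻¹ * (k ^ (n + 1))⁻¹ =
          (g * k ^ n * g⁻¹ * (k ^ n)⁻¹) * (k ^ n * (g * k * g⁻¹ * k⁻¹) * (k ^ n)⁻¹) := by
        rw [pow_succ]; group
      rw [e]
      exact A.mul_mem (ih g) (hAn _ (pow_mem hk n) _ (hkc g))
  have hτk : τ k = φ ⟨k, hk⟩ ^ U.index := by
    letI := U.fintypeQuotientOfFiniteIndex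
    show φ.transfer k = _
    rw [MonoidHom.transfer_eq_prod_quotient_orbitRel_zpowers_quot, Subgroup.index_eq_sum_minimalPeriod U k,
      ← Finset.prod_pow_eq_pow_sum]
    refine Finset.prod_congr rfl fun q _ => ?_
    rw [← map_pow]
    refine (QuotientGroup.eq.mpr ?_).symm
    show ((k ^ Function.minimalPeriod (k • ·) q.out)⁻¹ *
      ((q.out.out)⁻¹ * k ^ Function.minimalPeriod (k • ·) q.out * q.out.out) : G) ∈ A
    set n := Function.minimalPeriod (k • ·) q.out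
    have h := hAn _ (U.inv_mem (pow_mem hk n)) _ (hpow n (q.out.out)⁻¹)
    simpa [mul_assoc] using h
  have h1 : φ ⟨k, hk⟩ ^ U.index = 1 := hτk ▸ MonoidHom.mem_ker.mp (hB hkB)
  obtain ⟨n, hn⟩ := hp (φ ⟨k, hk⟩)
  have h2 : φ ⟨k, hk⟩ = 1 := orderOf_eq_one_iff.mp (Nat.eq_one_of_dvd_coprimes
    ((((Fact.out : p.Prime).coprime_iff_not_dvd).mpr hidx).symm.pow_right n)
    (orderOf_dvd_of_pow_eq_one h1) (orderOf_dvd_of_pow_eq_one hn))
  exact (QuotientGroup.eq_one_iff (⟨k, hk⟩ : U)).mp h2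

theorem indIff {G : Type*} [Group G] {K P : Subgroup G} {α : MulAut P} :
    α ∈ autInducedBy K P ↔
      ∃ g ∈ K, g ∈ Subgroup.normalizer (P : Set G) ∧ ∀ x : P, cj g x = ((α x : P) : G) := by
  rw [mem_autInducedBy]
  simp only [eq_comm]

/-! ### The setting -/

variable {Ω Ω' : Type*} [Group Ω] [Group Ω'] {S Z : Subgroup Ω} {S' R' : Subgroup Ω'}
  {F : FusionSystem S} {F' : FusionSystem S'} {N : FusionSystem R'} {θ : S →* Ω'} {p : ℕ}
  {P Q M : Subgroup Ω} {f g : Ω → Ω}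

/-- The data: a central subgroup, the factor system, and a normal subsystem of the factor system. -/
structure CL (F : FusionSystem S) (Z : Subgroup Ω) (θ : S →* Ω') (F' : FusionSystem S')
    (N : FusionSystem R') (p : ℕ) : Prop where
  hS : IsPGroup p S
  hF : F.IsSaturated p
  hZ : F.IsCentral Z
  hE : F.IsFactorSystem Z θ F'
  hN : N.IsNormalIn F' p

/-- `n` is induced by `f` on the image of `P`. -/
def Img (θ : S →* Ω') (P : Subgroup Ω) (f : Ω → Ω) (n : Ω' → Ω') : Prop :=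
  ∀ x ∈ P, n (extHom θ x) = extHom θ (f x)

/-- The subgroups between `Z` and the preimage of `R'` whose image is `N`-centric. -/
def Mem (Z : Subgroup Ω) (θ : S →* Ω') (N : FusionSystem R') (P : Subgroup Ω) : Prop :=
  Z ≤ P ∧ P ≤ preimageAlong θ R' ∧ N.IsCentric (imageAlong θ P)

namespace CL

variable (c : CL F Z θ F' N p) [Fact p.Prime] [Finite S]
include c

theorem hk : ∀ s : S, θ s = 1 ↔ (s : Ω) ∈ Z := c.hE.2.1

theorem zle : Z ≤ S := c.hE.1

theorem zsc : F.StronglyClosed Z := isNormal_stronglyClosed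
  (isNormal_of_extStab c.zle fun P f hf => by
    obtain ⟨g, hg, eg, mg⟩ := mor_central_ext c.hZ hf
    exact ⟨g, hg, eg, fun x hx => (mg x hx).symm ▸ hx⟩)

theorem wctx : WCtx F' N p := by
  refine ⟨?_, c.hN.1.2.1, c.hN.1.1, c.hN.1.2.2⟩
  rw [← c.hE.2.2.1]
  exact c.hS.of_surjective θ.rangeRestrict θ.rangeRestrict_surjective

theorem finS' : Finite S' := by
  rw [← c.hE.2.2.1]
  exact Finite.of_surjective θ.rangeRestrict θ.rangeRestrict_surjective

theorem r'le : R' ≤ S' := c.wctx.tle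

theorem rle : preimageAlong θ R' ≤ S := preimageAlong_le θ

theorem mem_R {x : Ω} : x ∈ preimageAlong θ R' ↔ x ∈ S ∧ extHom θ x ∈ R' := mem_preimage_iff

theorem mem_S' {x : Ω} (hx : x ∈ S) : extHom θ x ∈ S' := by
  rw [extHom_apply θ hx, ← c.hE.2.2.1]; exact ⟨_, rfl⟩

theorem zR : Z ≤ preimageAlong θ R' := le_preimageAlong θ c.hk c.zle R'

theorem fixZ (hf : Mor F P f) (hZP : Z ≤ P) {z : Ω} (hz : z ∈ Z) : f z = z := by
  obtain ⟨g, -, eg, mg⟩ := mor_central_ext c.hZ hf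
  rw [← eg z (hZP hz), mg z hz]

theorem zcomm {z x : Ω} (hz : z ∈ Z) (hx : x ∈ S) : x * z = z * x :=
  F.center_le_centralizer ((le_sSup c.hZ : Z ≤ F.center) hz) x hx

theorem pre_img (hZP : Z ≤ P) (hP : P ≤ S) : preimageAlong θ (imageAlong θ P) = P :=
  preimage_image_eq c.hk c.zle hZP hP

theorem img_pre {P' : Subgroup Ω'} (hP' : P' ≤ S') : imageAlong θ (preimageAlong θ P') = P' := by
  ext y
  rw [mem_imageAlong (hP := preimageAlong_le θ)]
  refine ⟨?_, fun hy => exists_preimage c.hE hP' hy⟩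
  rintro ⟨x, hx, rfl⟩
  exact (mem_preimage_iff.mp hx).2

theorem mem_img (hP : P ≤ S) {x : Ω} (hx : x ∈ P) : extHom θ x ∈ imageAlong θ P :=
  (mem_imageAlong (hP := hP)).mpr ⟨x, hx, rfl⟩

theorem mem_of_img (hZP : Z ≤ P) (hP : P ≤ S) {x : Ω} (hx : x ∈ S)
    (h : extHom θ x ∈ imageAlong θ P) : x ∈ P := by
  rw [← c.pre_img hZP hP]
  exact mem_preimage_iff.mpr ⟨hx, h⟩

theorem img_le (hP : P ≤ preimageAlong θ R') : imageAlong θ P ≤ R' := fun y hy => by
  obtain ⟨x, hx, rfl⟩ := (mem_imageAlong (hP := hP.trans c.rle)).mp hy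
  exact (c.mem_R.mp (hP hx)).2

theorem img_mono (h : P ≤ Q) (hQ : Q ≤ S) : imageAlong θ P ≤ imageAlong θ Q := fun y hy => by
  obtain ⟨x, hx, rfl⟩ := (mem_imageAlong (hP := h.trans hQ)).mp hy
  exact c.mem_img hQ (h hx)

theorem img_lt (hZP : Z ≤ P) (h : P < Q) (hQ : Q ≤ S) : imageAlong θ P < imageAlong θ Q := by
  refine lt_of_le_of_ne (c.img_mono h.le hQ) fun e => h.ne ?_
  rw [← c.pre_img hZP (h.le.trans hQ), e, c.pre_img (hZP.trans h.le) hQ]

theorem pre_mono {P' Q' : Subgroup Ω'} (h : P' ≤ Q') : preimageAlong θ P' ≤ preimageAlong θ Q' :=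
  fun _ hx => mem_preimage_iff.mpr ⟨(mem_preimage_iff.mp hx).1, h (mem_preimage_iff.mp hx).2⟩

theorem rsc : F.StronglyClosed (preimageAlong θ R') := by
  refine stronglyClosed_of_mor c.rle fun P f hf x hxP hxR => ?_
  obtain ⟨g, hg, eg, -⟩ := mor_central_ext c.hZ hf
  obtain ⟨n, hn, en⟩ := factor_push c.zsc c.hE hg le_sup_right
  refine c.mem_R.mpr ⟨hf.map_mem hxP, ?_⟩
  rw [← eg x hxP, ← en x (Subgroup.mem_sup_left hxP)]
  exact stronglyClosed_mem c.wctx.strong hn (c.mem_img hg.dom_le (Subgroup.mem_sup_left hxP))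
    (c.mem_R.mp hxR).2

theorem push_iso (hf : Iso F f P Q) (hZP : Z ≤ P) :
    ∃ n, Iso F' n (imageAlong θ P) (imageAlong θ Q) ∧ Img θ P f n :=
  factor_push_iso c.zsc c.hE hf hZP

theorem mem_conj (hP : Mem Z θ N P) (hf : Iso F f P Q) : Mem Z θ N Q := by
  refine ⟨fun z hz => c.fixZ hf.mor hP.1 hz ▸ hf.mapsTo (hP.1 hz), fun y hy => ?_, ?_⟩
  · obtain ⟨x, hx, rfl⟩ := hf.surj hy
    exact stronglyClosed_mem c.rsc hf.mor hx (hP.2.1 hx)
  · obtain ⟨n, hn, -⟩ := c.push_iso hf hP.1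
    exact c.wctx.ec_conj hP.2.2 hn

theorem mem_mono (hP : Mem Z θ N P) (h : P ≤ Q) (hQ : Q ≤ preimageAlong θ R') : Mem Z θ N Q :=
  ⟨hP.1.trans h, hQ, isCentric_mono hP.2.2 (c.img_mono h (hQ.trans c.rle)) (c.img_le hQ)⟩

theorem img_iter {n : Ω' → Ω'} (hf : ∀ x ∈ P, f x ∈ P) (h : Img θ P f n) :
    ∀ i : ℕ, Img θ P f^[i] n^[i] := by
  intro i
  induction i with
  | zero => exact fun x _ => rfl
  | succ i ih =>
    intro x hx
    rw [Function.iterate_succ_apply', ih x hx, Function.iterate_succ_apply',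
      h _ (iterate_mapsTo hf i x hx)]

/-- An automorphism of order prime to `p` of the image lifts to one of order prime to `p`. -/
theorem lift_pprime {M' : Subgroup Ω'} {n : Ω' → Ω'} (hn : Iso F' n M' M') {k : ℕ} (hk : k.Coprime p)
    (hnk : ∀ y ∈ M', n^[k] y = y) :
    ∃ f l, Iso F f (preimageAlong θ M') (preimageAlong θ M') ∧ l.Coprime p ∧
      (∀ x ∈ preimageAlong θ M', f^[l] x = x) ∧ Img θ (preimageAlong θ M') f n := by
  haveI := c.finS'
  obtain ⟨f, hf, ef⟩ := factor_lift_iso c.zsc c.hE hn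
  haveI := finite_of_le hf.dom_le
  obtain ⟨m, l, hm, hl, hml⟩ := exists_pprime_power hf hk
  refine ⟨f^[m], l, iso_pow hf m, hl, hml, fun x hx => ?_⟩
  have hy : extHom θ x ∈ M' := (mem_preimage_iff.mp hx).2
  rw [← c.img_iter (fun z hz => hf.mapsTo hz) ef m x hx, iterate_mod hnk m hy, hm,
    ← iterate_mod hnk 1 hy, Function.iterate_one]

end CL

/-- The automorphisms of `P` lying over those of `N`. -/
def X (F : FusionSystem S) (θ : S →* Ω') (N : FusionSystem R') (P : Subgroup Ω) :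
    Set (MulAut P) :=
  {α | α ∈ F.autGroup P ∧ ∃ n, Iso N n (imageAlong θ P) (imageAlong θ P) ∧
    ∀ x : P, n (extHom θ x) = extHom θ ((α x : P) : Ω)}

/-- The automorphisms of `P` trivial modulo `Z`. -/
def K (F : FusionSystem S) (θ : S →* Ω') (P : Subgroup Ω) : Set (MulAut P) :=
  {α | α ∈ F.autGroup P ∧ ∀ x : P, extHom θ ((α x : P) : Ω) = extHom θ (x : Ω)}

/-- The commutators with `K` are inner. -/
def FixK (F : FusionSystem S) (θ : S →* Ω') (P : Subgroup Ω) (α : MulAut P) : Prop :=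
  ∀ k ∈ K F θ P, α * k * α⁻¹ * k⁻¹ ∈ Inn P

/-- The generators of the group `A`. -/
def AGen (F : FusionSystem S) (θ : S →* Ω') (N : FusionSystem R') (p : ℕ) (P : Subgroup Ω) :
    Set (MulAut P) :=
  {α | α ∈ X F θ N P ∧ ((orderOf α).Coprime p ∨ ∃ (Q : Subgroup Ω) (u : Ω → Ω) (hu : Iso F u P Q),
    hu.transport α ∈ autInducedBy (preimageAlong θ R') Q)}

/-- The group `A`. -/
def A (F : FusionSystem S) (θ : S →* Ω') (N : FusionSystem R') (p : ℕ) (P : Subgroup Ω) :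
    Subgroup (MulAut P) :=
  Subgroup.closure (AGen F θ N p P)

namespace CL

variable (c : CL F Z θ F' N p) [Fact p.Prime] [Finite S]
include c

theorem x_one (hP : P ≤ preimageAlong θ R') : (1 : MulAut P) ∈ X F θ N P :=
  ⟨one_mem _, id, Iso.refl (c.img_le hP), fun _ => rfl⟩

theorem x_mul (hP : P ≤ preimageAlong θ R') {α β : MulAut P} (hα : α ∈ X F θ N P)
    (hβ : β ∈ X F θ N P) : α * β ∈ X F θ N P := by
  obtain ⟨hα1, n, hn, en⟩ := hα
  obtain ⟨hβ1, m, hm, em⟩ := hβ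
  refine ⟨mul_mem hα1 hβ1, n ∘ m, hm.comp hn, fun x => ?_⟩
  show n (m (extHom θ x)) = _
  rw [em x, en (β x), MulAut.mul_apply]

theorem x_inv (hP : P ≤ preimageAlong θ R') {α : MulAut P} (hα : α ∈ X F θ N P) :
    α⁻¹ ∈ X F θ N P := by
  obtain ⟨hα1, n, hn, en⟩ := hα
  obtain ⟨m, hm, hml, -⟩ := hn.exists_symm
  refine ⟨inv_mem hα1, m, hm, fun x => ?_⟩
  have h := en (α⁻¹ x)
  rw [MulAut.apply_inv_self] at h
  rw [← h, hml _ (c.mem_img (hP.trans c.rle) (SetLike.coe_mem _))]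

theorem k_le_x (hP : P ≤ preimageAlong θ R') {α : MulAut P} (h : α ∈ K F θ P) : α ∈ X F θ N P :=
  ⟨h.1, id, Iso.refl (c.img_le hP), fun x => (h.2 x).symm⟩

theorem k_mul {α β : MulAut P} (hα : α ∈ K F θ P) (hβ : β ∈ K F θ P) : α * β ∈ K F θ P :=
  ⟨mul_mem hα.1 hβ.1, fun x => by rw [MulAut.mul_apply, hα.2, hβ.2]⟩

theorem k_inv {α : MulAut P} (hα : α ∈ K F θ P) : α⁻¹ ∈ K F θ P :=
  ⟨inv_mem hα.1, fun x => by
    have h := hα.2 (α⁻¹ x)
    rw [MulAut.apply_inv_self] at h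
    exact h.symm⟩

theorem k_conj (hZP : Z ≤ P) (hP : P ≤ S) {α k : MulAut P} (hα : α ∈ F.autGroup P)
    (hk : k ∈ K F θ P) : α * k * α⁻¹ ∈ K F θ P := by
  refine ⟨mul_mem (mul_mem hα hk.1) (inv_mem hα), fun x => ?_⟩
  obtain ⟨f, hf, ef⟩ := (mem_autGroup_iff hP).mp hα
  obtain ⟨n, -, en⟩ := c.push_iso hf hZP
  have h1 : ∀ w : P, extHom θ ((α w : P) : Ω) = n (extHom θ (w : Ω)) := fun w => by
    rw [en w w.2, ef w]
  rw [MulAut.mul_apply, MulAut.mul_apply, h1, hk.2, ← h1, MulAut.apply_inv_self]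

theorem k_comm (hZP : Z ≤ P) (hP : P ≤ S) {α β : MulAut P} (hα : α ∈ K F θ P) (hβ : β ∈ K F θ P) :
    α * β = β * α := by
  have hz : ∀ {γ : MulAut P}, γ ∈ K F θ P → ∀ x : P, (x : Ω)⁻¹ * ((γ x : P) : Ω) ∈ Z :=
    fun {γ} hγ x => (extHom_eq_iff c.hk (hP x.2) (hP (γ x).2)).mp (hγ.2 x).symm
  have hfix : ∀ {γ : MulAut P}, γ ∈ K F θ P → ∀ z : P, (z : Ω) ∈ Z → γ z = z := fun {γ} hγ z hz' => by
    obtain ⟨f, hf, ef⟩ := (mem_autGroup_iff hP).mp hγ.1
    exact Subtype.ext (by rw [← ef z, c.fixZ hf.mor hZP hz'])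
  have hval : ∀ {γ δ : MulAut P}, γ ∈ K F θ P → δ ∈ K F θ P → ∀ x : P,
      ((γ (δ x) : P) : Ω) = ((γ x : P) : Ω) * ((x : Ω)⁻¹ * ((δ x : P) : Ω)) := by
    intro γ δ hγ hδ x
    have e : δ x = x * ⟨_, hZP (hz hδ x)⟩ := Subtype.ext (mul_inv_cancel_left _ _).symm
    conv_lhs => rw [e, map_mul, hfix hγ ⟨_, hZP (hz hδ x)⟩ (hz hδ x)]
    rfl
  refine MulEquiv.ext fun x => Subtype.ext ?_
  rw [MulAut.mul_apply, MulAut.mul_apply, hval hα hβ x, hval hβ hα x]
  set a := (x : Ω)⁻¹ * ((α x : P) : Ω) with ha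
  set b := (x : Ω)⁻¹ * ((β x : P) : Ω) with hb
  have ea : ((α x : P) : Ω) = x * a := (mul_inv_cancel_left _ _).symm
  have eb : ((β x : P) : Ω) = x * b := (mul_inv_cancel_left _ _).symm
  rw [ea, eb, mul_assoc (x : Ω) a b, mul_assoc (x : Ω) b a, c.zcomm (hz hβ x) (c.zle (hz hα x))]

theorem k_pElement (hZP : Z ≤ P) (hP : P ≤ S) {α : MulAut P} (hα : α ∈ K F θ P) :
    ∃ n, α ^ p ^ n = 1 := by
  haveI := finite_of_le c.zle
  obtain ⟨n, hn⟩ := IsPGroup.iff_card.mp (c.hS.to_le c.zle)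
  refine ⟨n, MulEquiv.ext fun x => Subtype.ext ?_⟩
  have hz : (x : Ω)⁻¹ * ((α x : P) : Ω) ∈ Z :=
    (extHom_eq_iff c.hk (hP x.2) (hP (α x).2)).mp (hα.2 x).symm
  obtain ⟨f, hf, ef⟩ := (mem_autGroup_iff hP).mp hα.1
  have hit : ∀ i : ℕ, (((α ^ i) x : P) : Ω) = (x : Ω) * ((x : Ω)⁻¹ * ((α x : P) : Ω)) ^ i := by
    intro i
    induction i with
    | zero => simp
    | succ i ih =>
      rw [pow_succ', MulAut.mul_apply, ← ef, ih, hf.mor.map_mul x.2 (pow_mem (hZP hz) i), ef x,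
        c.fixZ hf.mor hZP (pow_mem hz i), pow_succ', ← mul_assoc, mul_inv_cancel_left]
  have h1 : ((x : Ω)⁻¹ * ((α x : P) : Ω)) ^ (p ^ n) = 1 := by
    have h := pow_card_eq_one' (x := (⟨_, hz⟩ : Z))
    rw [hn] at h
    exact congrArg Subtype.val h
  rw [hit, h1, mul_one, MulAut.one_apply]

/-- Conjugation by an element of the preimage lies over `N`. -/
theorem conj_x (hP : P ≤ preimageAlong θ R') {r : Ω} (hr : r ∈ preimageAlong θ R')
    (hn : r ∈ Subgroup.normalizer (P : Set Ω)) {α : MulAut P}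
    (e : ∀ x : P, ((α x : P) : Ω) = cj r x) : α ∈ X F θ N P := by
  have hPS := hP.trans c.rle
  have hrS := c.rle hr
  refine ⟨autInducedBy_le_autGroup hPS (indIff.mpr ⟨r, hrS, hn, fun x => (e x).symm⟩),
    cj (extHom θ r), ?_, fun x => ?_⟩
  · refine Iso.conj_self (c.img_le hP) (c.mem_R.mp hr).2 (Subgroup.mem_normalizer_iff.mpr fun y => ?_)
    constructor
    · intro hy
      obtain ⟨x, hx, rfl⟩ := (mem_imageAlong (hP := hPS)).mp hy
      rw [← cj_apply, ← extHom_cj θ hrS (hPS hx)]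
      exact c.mem_img hPS ((cj_mem_iff hn x).mpr hx)
    · intro hy
      obtain ⟨x, hx, hxy⟩ := (mem_imageAlong (hP := hPS)).mp hy
      refine (mem_imageAlong (hP := hPS)).mpr ⟨cj r⁻¹ x, (cj_mem_iff (inv_mem hn) x).mpr hx, ?_⟩
      rw [extHom_cj θ (inv_mem hrS) (hPS hx), extHom_inv θ hrS, hxy]
      exact cj_inv_cancel _ _
  · rw [e x, extHom_cj θ hrS (hPS x.2)]

theorem inn_x (hP : P ≤ preimageAlong θ R') {α : MulAut P} (h : α ∈ Inn P) : α ∈ X F θ N P := by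
  rw [inn_eq_autInducedBy, indIff] at h
  obtain ⟨x, hx, hn, e⟩ := h
  exact c.conj_x hP (hP hx) hn fun y => (e y).symm

theorem inn_conj (hP : P ≤ S) {α β : MulAut P} (hα : α ∈ F.autGroup P) (hβ : β ∈ Inn P) :
    α * β * α⁻¹ ∈ Inn P :=
  (inn_normal_autGroup F P).conj_mem ⟨β, inn_le_autGroup hP hβ⟩ hβ ⟨α, hα⟩

theorem inn_transport (h : Iso F f P Q) {α : MulAut P} (hα : α ∈ Inn P) : h.transport α ∈ Inn Q := by
  rw [inn_eq_autInducedBy, indIff] at hα ⊢
  obtain ⟨x, hx, -, e⟩ := hα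
  refine ⟨f x, h.mapsTo hx, Subgroup.le_normalizer (h.mapsTo hx), fun y => ?_⟩
  obtain ⟨v, hv, hvy⟩ := h.surj y.2
  rw [show y = ⟨f v, h.mapsTo hv⟩ from Subtype.ext hvy.symm, h.transport_val α hv, ← e ⟨v, hv⟩]
  exact (h.mor.map_conj hx hv).symm

theorem x_transport (hP : Mem Z θ N P) (hu : Iso F f P Q) {α : MulAut P} (hα : α ∈ X F θ N P) :
    hu.transport α ∈ X F θ N Q := by
  obtain ⟨hα1, n, hn, en⟩ := hα
  obtain ⟨a, ha, ea⟩ := c.push_iso hu hP.1
  obtain ⟨a', ha', hl, -⟩ := ha.exists_symm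
  have hm := c.wctx.conj_mor (c.img_le hP.2.1) ha ha' hl hn
  haveI := c.finS'
  haveI := finite_of_le ha.cod_le
  refine ⟨hu.transport_mem hα1, a ∘ n ∘ a',
    hm, fun y => ?_⟩
  obtain ⟨v, hv, hvy⟩ := hu.surj y.2
  rw [show y = ⟨f v, hu.mapsTo hv⟩ from Subtype.ext hvy.symm, hu.transport_val α hv]
  show a (n (a' (extHom θ (f v)))) = _
  rw [← ea v hv, hl _ (c.mem_img hu.dom_le hv), en ⟨v, hv⟩, ea _ (α ⟨v, hv⟩).2]

theorem k_transport (hP : Mem Z θ N P) (hu : Iso F f P Q) {α : MulAut P} (hα : α ∈ K F θ P) :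
    hu.transport α ∈ K F θ Q := by
  obtain ⟨a, -, ea⟩ := c.push_iso hu hP.1
  refine ⟨hu.transport_mem hα.1, fun y => ?_⟩
  obtain ⟨v, hv, hvy⟩ := hu.surj y.2
  rw [show y = ⟨f v, hu.mapsTo hv⟩ from Subtype.ext hvy.symm, hu.transport_val α hv]
  show extHom θ (f _) = extHom θ (f v)
  rw [← ea _ (α ⟨v, hv⟩).2, hα.2, ea v hv]

/-- The elements realising `K` at a fully normalized subgroup. -/
theorem k_realized (hZP : Z ≤ P) (hn : F.IsFullyNormalized P) {k : MulAut P} (hk : k ∈ K F θ P) :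
    ∃ s ∈ S, s ∈ Subgroup.normalizer (P : Set Ω) ∧ (∀ x : P, cj s x = ((k x : P) : Ω)) ∧
      ∀ y ∈ imageAlong θ P, y * extHom θ s = extHom θ s * y := by
  have hPS := hn.1
  haveI := finite_of_le hPS
  haveI := finite_mulAut (G := P)
  let Kg : Subgroup (F.autGroup P) :=
    { carrier := {α | (α : MulAut P) ∈ K F θ P}
      one_mem' := ⟨one_mem _, fun _ => rfl⟩
      mul_mem' := fun ha hb => c.k_mul ha hb
      inv_mem' := fun ha => c.k_inv ha }
  haveI : Kg.Normal := ⟨fun a ha b => c.k_conj hZP hPS b.2 ha⟩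
  have hKp : IsPGroup p Kg := fun a => by
    obtain ⟨n, hn'⟩ := c.k_pElement hZP hPS a.2
    exact ⟨n, Subtype.ext (Subtype.ext hn')⟩
  have hfa := (IsSaturated_fullyNormalized c.hS c.hF hn).2.1
  obtain ⟨-, T, hT⟩ := hfa
  have hle : Kg ≤ (T : Subgroup _) := le_sup_left.trans (T.is_maximal' (hKp.to_sup_of_normal_left T.isPGroup') le_sup_right).le
  have h : k ∈ autInducedBy S P := by
    have h1 : (⟨k, hk.1⟩ : F.autGroup P) ∈ (T : Subgroup _) := hle hk
    rw [hT] at h1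
    exact h1
  obtain ⟨s, hs, hsn, es⟩ := indIff.mp h
  refine ⟨s, hs, hsn, es, fun y hy => ?_⟩
  obtain ⟨x, hx, rfl⟩ := (mem_imageAlong (hP := hPS)).mp hy
  have h2 := hk.2 ⟨x, hx⟩
  rw [← es ⟨x, hx⟩, extHom_cj θ hs (hPS hx)] at h2
  rw [← mul_inv_eq_iff_eq_mul.mp (show extHom θ s * extHom θ x * (extHom θ s)⁻¹ = extHom θ x from h2)]

theorem fixK_one : FixK F θ P 1 := fun k _ => by simp [one_mem]

theorem fixK_mul (hP : P ≤ S) {α β : MulAut P} (hα : α ∈ F.autGroup P) (h : FixK F θ P α)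
    (h' : FixK F θ P β) : FixK F θ P (α * β) := fun k hk => by
  have e : α * β * k * (α * β)⁻¹ * k⁻¹ =
      α * (β * k * β⁻¹ * k⁻¹) * α⁻¹ * (α * k * α⁻¹ * k⁻¹) := by group
  rw [e]
  exact mul_mem (c.inn_conj hP hα (h' k hk)) (h k hk)

theorem fixK_inv (hP : P ≤ S) {α : MulAut P} (hα : α ∈ F.autGroup P) (h : FixK F θ P α) :
    FixK F θ P α⁻¹ := fun k hk => by
  have e : α⁻¹ * k * α⁻¹⁻¹ * k⁻¹ = α⁻¹ * (α * k * α⁻¹ * k⁻¹)⁻¹ * α⁻¹⁻¹ := by group
  rw [e]
  exact c.inn_conj hP (inv_mem hα) (inv_mem (h k hk))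

theorem fixK_k (hZP : Z ≤ P) (hP : P ≤ S) {α : MulAut P} (h : α ∈ K F θ P) : FixK F θ P α :=
  fun k hk => by rw [c.k_comm hZP hP h hk]; simp [one_mem]

theorem fixK_transport (hP : Mem Z θ N P) (hu : Iso F f P Q) {α : MulAut P} (h : FixK F θ P α) :
    FixK F θ Q (hu.transport α) := fun k hk => by
  obtain ⟨u', hu', hl, hr⟩ := hu.exists_symm
  have hk' := c.k_transport (c.mem_conj hP hu) hu' hk
  have e : hu.transport (hu'.transport k) = k := MulEquiv.ext fun y => Subtype.ext (by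
    obtain ⟨v, hv, hvy⟩ := hu.surj y.2
    rw [show y = ⟨f v, hu.mapsTo hv⟩ from Subtype.ext hvy.symm, hu.transport_val _ hv]
    have h1 := hu'.transport_val k (hu.mapsTo hv)
    simp only [hl v hv] at h1
    rw [show (⟨v, hv⟩ : P) = ⟨v, hl v hv ▸ hu'.mapsTo (hu.mapsTo hv)⟩ from rfl, h1,
      hr _ (SetLike.coe_mem _)])
  have := c.inn_transport hu (h _ hk')
  rwa [map_mul, map_mul, map_mul, map_inv, map_inv, e] at this

/-- A map of `N` with a relative extension has all its lifts fixing `K`. -/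
theorem rel_fixK (hP : Mem Z θ N P) (hn : F.IsFullyNormalized P) {φ : Ω' → Ω'}
    (hφ : CentE.Rel F' R' (imageAlong θ P) φ) {α : MulAut P} (hα : α ∈ F.autGroup P)
    (e : ∀ x : P, φ (extHom θ x) = extHom θ ((α x : P) : Ω)) : FixK F θ P α := by
  have hPS := hn.1
  haveI := finite_of_le hPS
  obtain ⟨g, hg, eg⟩ := factor_lift_iso c.zsc c.hE hφ.1
  have hPW : P ≤ preimageAlong θ (imageAlong θ P ⊔ centralizerIn S' (imageAlong θ P)) := fun x hx =>
    mem_preimage_iff.mpr ⟨hPS hx, Subgroup.mem_sup_left (c.mem_img hPS hx)⟩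
  have hgP : ∀ x ∈ P, g x ∈ P := fun x hx => by
    refine c.mem_of_img hP.1 hPS (hg.mor.map_mem (hPW hx)) ?_
    rw [← eg x (hPW hx)]
    exact hφ.2.1 _ (c.mem_img hPS hx)
  have hgi : Iso F g P P := (hg.mor.restrict hPW).iso_of_card hgP le_rfl
  set α₀ : MulAut P := hgi.equiv with hα₀
  have hα₀m : α₀ ∈ F.autGroup P := hgi.equiv_mem_autGroup
  have hv : ∀ x : P, ((α₀ x : P) : Ω) = g x := fun _ => rfl
  have hk0 : α₀⁻¹ * α ∈ K F θ P := by
    refine ⟨mul_mem (inv_mem hα₀m) hα, fun x => ?_⟩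
    have h1 : φ (extHom θ (((α₀⁻¹ * α) x : P) : Ω)) = φ (extHom θ (x : Ω)) := by
      rw [MulAut.mul_apply, eg _ (hPW (SetLike.coe_mem _)), ← hv, MulAut.apply_inv_self, e x]
    exact hφ.1.mor.injOn (Subgroup.mem_sup_left (c.mem_img hPS (SetLike.coe_mem _)))
      (Subgroup.mem_sup_left (c.mem_img hPS x.2)) h1
  have h0 : FixK F θ P α₀ := by
    intro k hk
    obtain ⟨s, hs, hsn, es, hsc⟩ := c.k_realized hP.1 hn hk
    have hsC : extHom θ s ∈ centralizerIn S' (imageAlong θ P) := ⟨c.mem_S' hs, hsc⟩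
    have hsW : s ∈ preimageAlong θ (imageAlong θ P ⊔ centralizerIn S' (imageAlong θ P)) :=
      mem_preimage_iff.mpr ⟨hs, Subgroup.mem_sup_right hsC⟩
    have hgs : g s ∈ S := hg.mor.map_mem hsW
    have hq : s⁻¹ * g s ∈ P := by
      refine c.mem_of_img hP.1 hPS (S.mul_mem (S.inv_mem hs) hgs) ?_
      rw [extHom_mul θ (S.inv_mem hs) hgs, extHom_inv θ hs, ← eg s hsW]
      exact hP.2.2.2 _ (isConj_refl hP.2.2.1) (hφ.2.2 _ hsC)
    have hgn : g s ∈ Subgroup.normalizer (P : Set Ω) := by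
      have := mul_mem hsn (Subgroup.le_normalizer (H := P) hq)
      rwa [mul_inv_cancel_left] at this
    rw [inn_eq_autInducedBy, indIff]
    refine ⟨cj s (s⁻¹ * g s), (cj_mem_iff hsn _).mpr hq,
      Subgroup.le_normalizer ((cj_mem_iff hsn _).mpr hq), fun x => ?_⟩
    have h1 : ∀ w : P, ((k⁻¹ w : P) : Ω) = cj s⁻¹ w := fun w => by
      have h := es (k⁻¹ w)
      rw [MulAut.apply_inv_self] at h
      rw [← h, cj_inv_cancel]
    obtain ⟨v, hv', hvx⟩ := hgi.surj (k⁻¹ x).2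
    have hv0 : α₀⁻¹ (k⁻¹ x) = ⟨v, hv'⟩ := by
      apply α₀.injective
      rw [MulAut.apply_inv_self]
      exact Subtype.ext hvx.symm
    rw [MulAut.mul_apply, MulAut.mul_apply, MulAut.mul_apply, hv0, hv, ← es]
    show cj (cj s (s⁻¹ * g s)) x = g (cj s v)
    rw [cj_apply s v, hg.mor.map_conj hsW (hPW hv'), hvx, h1]
    simp [cj, mul_assoc]
  have := c.fixK_mul hPS hα₀m h0 (c.fixK_k hP.1 hPS hk0)
  rwa [mul_inv_cancel_left] at this

/-- The image of a fully normalized subgroup is fully normalized. -/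
theorem img_fullyNormalized (hZP : Z ≤ P) (hn : F.IsFullyNormalized P) :
    F'.IsFullyNormalized (imageAlong θ P) := by
  haveI := c.finS'
  have hPS := hn.1
  refine ⟨fun y hy => ?_, fun Q' hQ' => ?_⟩
  · obtain ⟨x, hx, rfl⟩ := (mem_imageAlong (hP := hPS)).mp hy
    exact c.mem_S' (hPS hx)
  obtain ⟨b, hb⟩ := isConj_iff.mp (isConj_symm hQ')
  obtain ⟨u, hu, -⟩ := factor_lift_iso c.zsc c.hE hb
  rw [c.pre_img hZP hPS] at hu
  obtain ⟨-, a, -, ha, -, -, haP⟩ := exists_map_to_fullyNormalized c.hS c.hF hu hn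
  set Q := preimageAlong θ Q'
  have hQS : Q ≤ S := preimageAlong_le θ
  have hZQ : Z ≤ Q := le_preimageAlong θ c.hk c.zle Q'
  have hQQ : imageAlong θ Q = Q' := c.img_pre hb.dom_le
  obtain ⟨n, hn', en⟩ := factor_push c.zsc c.hE ha (hZQ.trans (le_normalizerIn hQS))
  have hle : normalizerIn S' Q' ≤ imageAlong θ (normalizerIn S Q) := by
    intro y hy
    obtain ⟨x, hx, rfl⟩ := exists_preimage c.hE (le_refl S') hy.1
    have hxS := (mem_preimage_iff.mp hx).1
    refine c.mem_img normalizerIn_le ⟨hxS, ?_⟩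
    refine (normalizer_image c.hk c.zle hZQ hQS hxS).mp ?_
    rw [hQQ]
    exact hy.2
  haveI := finite_of_le (normalizerIn_le : normalizerIn S' (imageAlong θ P) ≤ S')
  refine (hn'.restrict hle).card_le fun y hy => ?_
  obtain ⟨x, hx, rfl⟩ := (mem_imageAlong (hP := normalizerIn_le)).mp (hle hy)
  rw [en x hx]
  have hax : a x ∈ normalizerIn S P :=
    haP.map_normalizer ha (le_normalizerIn hQS) (fun _ _ => rfl) hx hx.2
  exact ⟨c.mem_S' hax.1, (normalizer_image c.hk c.zle hZP hPS hax.1).mpr hax.2⟩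

theorem nFull (hP : Mem Z θ N P) (hn : F.IsFullyNormalized P) :
    N.IsFullyNormalized (imageAlong θ P) := by
  haveI := c.finS'
  have w := c.wctx
  exact subsystem_fullyNormalized w.hS w.hF w.strong w.hinv.1 (c.img_le hP.2.1)
    (c.img_fullyNormalized hP.1 hn)

/-- A `p`-element of `X` at a fully normalized subgroup induced by `S` is induced by the preimage of `R'`
up to `K`. -/
theorem sylow_split (hP : Mem Z θ N P) (hn : F.IsFullyNormalized P) {α : MulAut P}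
    (hα : α ∈ X F θ N P) (hαS : α ∈ autInducedBy S P) :
    ∃ β ∈ autInducedBy (preimageAlong θ R') P, β⁻¹ * α ∈ K F θ P := by
  haveI := c.finS'
  have w := c.wctx
  have hPS := hn.1
  obtain ⟨s, hs, hsn, es⟩ := indIff.mp hαS
  obtain ⟨hα1, n, hn', en⟩ := hα
  set P' := imageAlong θ P
  haveI := finite_of_le w.tle
  haveI := finite_of_le (c.img_le hP.2.1)
  haveI := finite_mulAut (G := P')
  have hP'S : P' ≤ S' := (c.img_le hP.2.1).trans w.tle
  have hNn := c.nFull hP hn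
  obtain ⟨-, hfa, -⟩ := IsSaturated_fullyNormalized w.hT w.hEsat hNn
  obtain ⟨-, T, hT⟩ := hfa
  set ν : N.autGroup P' := ⟨hn'.equiv, hn'.equiv_mem_autGroup⟩
  have hν : (ν : MulAut P') ∈ autInducedBy S' P' := by
    refine indIff.mpr ⟨extHom θ s, c.mem_S' hs,
      (normalizer_image c.hk c.zle hP.1 hPS hs).mpr hsn, fun y => ?_⟩
    obtain ⟨x, hx, hxy⟩ := (mem_imageAlong (hP := hPS)).mp y.2
    show cj (extHom θ s) y = n y
    rw [← hxy, ← extHom_cj θ hs (hPS hx), en ⟨x, hx⟩, ← es ⟨x, hx⟩]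
  have hle : (autInducedBy S' P').subgroupOf (N.autGroup P') ≤ (T : Subgroup _) := by
    refine le_of_eq (T.is_maximal' ((isPGroup_autInducedBy w.hS P').comap_subtype) ?_)
    rw [hT]
    exact Subgroup.comap_mono (autInducedBy_mono w.tle P')
  have h1 : ν ∈ (T : Subgroup _) := hle hν
  rw [hT] at h1
  obtain ⟨r', hr', hrn', er'⟩ := indIff.mp (show (ν : MulAut P') ∈ autInducedBy R' P' from h1)
  obtain ⟨r, hr, rfl⟩ := exists_preimage c.hE w.tle hr'
  have hrS := (mem_preimage_iff.mp hr).1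
  have hrn : r ∈ Subgroup.normalizer (P : Set Ω) :=
    (normalizer_image c.hk c.zle hP.1 hPS hrS).mp hrn'
  set β := actHom (preimageAlong θ R') P ⟨r, hr, hrn⟩
  have hβ : β ∈ autInducedBy (preimageAlong θ R') P := (range_actHom _ _).le ⟨_, rfl⟩
  have hβF : β ∈ F.autGroup P :=
    autInducedBy_le_autGroup hPS (autInducedBy_mono c.rle P hβ)
  refine ⟨β, hβ, mul_mem (inv_mem hβF) hα1, fun x => ?_⟩
  obtain ⟨v, rfl⟩ : ∃ v : P, α⁻¹ (β v) = x := ⟨β⁻¹ (α x), by rw [MulAut.apply_inv_self, MulAut.inv_apply_self]⟩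
  rw [MulAut.mul_apply, MulAut.apply_inv_self, MulAut.inv_apply_self]
  have h2 := er' ⟨extHom θ ((α⁻¹ (β v) : P) : Ω), c.mem_img hPS (SetLike.coe_mem _)⟩
  have h3 : cj (extHom θ r) (extHom θ ((α⁻¹ (β v) : P) : Ω)) = n (extHom θ ((α⁻¹ (β v) : P) : Ω)) := h2
  rw [en, MulAut.apply_inv_self, ← extHom_cj θ hrS (hPS (SetLike.coe_mem _))] at h3
  have h4 : extHom θ (cj r ((α⁻¹ (β v) : P) : Ω)) = extHom θ (cj r (v : Ω)) := h3
  rw [extHom_cj θ hrS (hPS (SetLike.coe_mem _)), extHom_cj θ hrS (hPS v.2)] at h4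
  exact ((cj_injective _) h4).symm

/-- Automorphisms of `P` lying over `N` commute with `K` modulo the inner automorphisms. -/
theorem fixK_all : ∀ P, Mem Z θ N P → ∀ α ∈ X F θ N P, FixK F θ P α := by
  haveI := c.finS'
  have w := c.wctx
  haveI := finite_of_le w.tle
  intro P
  induction hd : Nat.card S - Nat.card P using Nat.strong_induction_on generalizing P with
  | _ d IH =>
  intro hP₀ α₀ hα₀
  have hP₀S := hP₀.2.1.trans c.rle
  -- reduce to a fully normalized conjugate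
  obtain ⟨P', hconj, hn⟩ := exists_fullyNormalized (F := F) hP₀S
  obtain ⟨u, hu⟩ := isConj_iff.mp hconj
  have hP : Mem Z θ N P' := c.mem_conj hP₀ hu
  suffices main : ∀ α ∈ X F θ N P', FixK F θ P' α by
    obtain ⟨u', hu', hl, hr⟩ := hu.exists_symm
    have := c.fixK_transport hP hu' (main _ (c.x_transport hP₀ hu hα₀))
    have e : hu'.transport (hu.transport α₀) = α₀ := MulEquiv.ext fun y => Subtype.ext (by
      have h1 := hu'.transport_val (hu.transport α₀) (hu.mapsTo y.2)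
      simp only [hl _ y.2] at h1
      refine h1.trans ?_
      rw [hu.transport_val α₀ y.2, hl _ (SetLike.coe_mem _)])
    rwa [e] at this
  rw [hu.card_eq] at hd
  clear hα₀ hP₀ hconj hu hP₀S α₀
  clear P u
  rename' P' => P
  intro α hα
  obtain ⟨hα1, n, hn', en⟩ := hα
  set P' := imageAlong θ P with hP'def
  have hPS := hn.1
  haveI := finite_of_le hPS
  have hP'R : P' ≤ R' := c.img_le hP.2.1
  haveI := finite_of_le hP'R
  haveI := finite_mulAut (G := P')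
  have cc := CentE.Ctx.of_normal w.hS c.hN
  have hFn' := c.img_fullyNormalized hP.1 hn
  have hNn := c.nFull hP hn
  -- the subgroup of automorphisms all whose lifts fix `K`
  let G : Subgroup (MulAut P') :=
    { carrier := {ν | ∀ β ∈ F.autGroup P,
        (∀ x : P, ((ν ⟨extHom θ x, c.mem_img hPS x.2⟩ : P') : Ω') = extHom θ ((β x : P) : Ω)) →
          (∃ β₀ ∈ F.autGroup P, ∀ x : P, ((ν ⟨extHom θ x, c.mem_img hPS x.2⟩ : P') : Ω') =
            extHom θ ((β₀ x : P) : Ω)) ∧ FixK F θ P β} ∩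
        {ν | ∃ β₀ ∈ F.autGroup P, ∀ x : P, ((ν ⟨extHom θ x, c.mem_img hPS x.2⟩ : P') : Ω') =
            extHom θ ((β₀ x : P) : Ω)}
      one_mem' := ⟨fun β hβ eβ => ⟨⟨1, one_mem _, fun _ => rfl⟩,
        c.fixK_k hP.1 hPS ⟨hβ, fun x => (eβ x).symm⟩⟩, 1, one_mem _, fun _ => rfl⟩
      mul_mem' := by
        rintro ν μ ⟨hν, β₁, hβ₁, e₁⟩ ⟨hμ, β₂, hβ₂, e₂⟩
        have e12 : ∀ x : P, (((ν * μ) ⟨extHom θ x, c.mem_img hPS x.2⟩ : P') : Ω') =
            extHom θ (((β₁ * β₂) x : P) : Ω) := fun x => by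
          rw [MulAut.mul_apply, MulAut.mul_apply, ← e₁,
            show μ ⟨extHom θ x, c.mem_img hPS x.2⟩ =
              ⟨extHom θ ((β₂ x : P) : Ω), c.mem_img hPS (β₂ x).2⟩ from Subtype.ext (e₂ x)]
        refine ⟨fun β hβ eβ => ⟨⟨_, mul_mem hβ₁ hβ₂, e12⟩, ?_⟩, _, mul_mem hβ₁ hβ₂, e12⟩
        have hk : (β₁ * β₂)⁻¹ * β ∈ K F θ P := by
          refine ⟨mul_mem (inv_mem (mul_mem hβ₁ hβ₂)) hβ, fun x => ?_⟩
          have h := e12 (((β₁ * β₂)⁻¹ * β) x)
          rw [show (β₁ * β₂) (((β₁ * β₂)⁻¹ * β) x) = β x by rw [← MulAut.mul_apply, mul_inv_cancel_left], ← eβ x] at h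
          exact congrArg Subtype.val ((ν * μ).injective (Subtype.ext h))
        have := c.fixK_mul hPS (mul_mem hβ₁ hβ₂) (c.fixK_mul hPS hβ₁ ((hν β₁ hβ₁ e₁).2)
          ((hμ β₂ hβ₂ e₂).2)) (c.fixK_k hP.1 hPS hk)
        rwa [mul_inv_cancel_left] at this
      inv_mem' := by
        rintro ν ⟨hν, β₁, hβ₁, e₁⟩
        have e' : ∀ x : P, ((ν⁻¹ ⟨extHom θ x, c.mem_img hPS x.2⟩ : P') : Ω') =
            extHom θ ((β₁⁻¹ x : P) : Ω) := fun x => by
          have h := e₁ (β₁⁻¹ x)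
          rw [MulAut.apply_inv_self] at h
          rw [show (⟨extHom θ x, c.mem_img hPS x.2⟩ : P') =
              ν ⟨extHom θ ((β₁⁻¹ x : P) : Ω), c.mem_img hPS (β₁⁻¹ x).2⟩ from Subtype.ext h.symm,
            MulAut.inv_apply_self]
        refine ⟨fun β hβ eβ => ⟨⟨_, inv_mem hβ₁, e'⟩, ?_⟩, _, inv_mem hβ₁, e'⟩
        have hk : β₁ * β ∈ K F θ P := by
          refine ⟨mul_mem hβ₁ hβ, fun x => ?_⟩
          rw [MulAut.mul_apply, ← e₁, show (⟨extHom θ ((β x : P) : Ω), c.mem_img hPS (β x).2⟩ : P') =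
            ν⁻¹ ⟨extHom θ x, c.mem_img hPS x.2⟩ from Subtype.ext (eβ x).symm, MulAut.apply_inv_self]
        have := c.fixK_mul hPS (inv_mem hβ₁) (c.fixK_inv hPS hβ₁ ((hν β₁ hβ₁ e₁).2))
          (c.fixK_k hP.1 hPS hk)
        rwa [inv_mul_cancel_left] at this }
  suffices hG : N.autGroup P' ≤ G by
    exact ((hG hn'.equiv_mem_autGroup).1 α hα1 fun x => en x).2
  -- automorphisms with relative extensions
  have rel : ∀ ν ∈ N.autGroup P', (∃ φ, CentE.Rel F' R' P' φ ∧ ∀ y : P', φ y = ((ν y : P') : Ω')) →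
      ν ∈ G := by
    rintro ν hν ⟨φ, hφ, eφ⟩
    obtain ⟨g, hg, eg⟩ := (mem_autGroup_iff hP'R).mp hν
    obtain ⟨f, hf, ef⟩ := factor_lift_iso c.zsc c.hE (w.subIso hg)
    rw [c.pre_img hP.1 hPS] at hf ef
    have hex : ∃ β₀ ∈ F.autGroup P, ∀ x : P, ((ν ⟨extHom θ x, c.mem_img hPS x.2⟩ : P') : Ω') =
        extHom θ ((β₀ x : P) : Ω) :=
      ⟨hf.equiv, hf.equiv_mem_autGroup, fun x => by rw [← eg]; exact ef x x.2⟩
    exact ⟨fun β hβ eβ => ⟨hex, c.rel_fixK hP hn hφ hβ fun x => (eφ _).trans (eβ x)⟩, hex⟩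
  rcases hP'R.eq_or_lt with hPR | hlt
  · -- the extension condition of a normal subsystem
    intro ν hν
    refine rel ν hν ?_
    have key : ∀ {M' : Subgroup Ω'} (ν : MulAut M'), ν ∈ N.autGroup M' → M' = R' →
        ∃ φ, CentE.Rel F' R' M' φ ∧ ∀ y : M', φ y = ((ν y : M') : Ω') := by
      rintro M' ν hν rfl
      obtain ⟨β, hβ, h1, h2⟩ := c.hN.2 ν hν
      obtain ⟨b, hb, eb⟩ := (mem_autGroup_iff (sup_le w.tle centralizerIn_le)).mp hβ
      refine ⟨b, ⟨hb, fun x hx => ?_, fun x hx => ?_⟩, fun y => (eb _).trans (h1 y)⟩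
      · rw [show b x = _ from (eb _).trans (h1 ⟨x, hx⟩)]; exact SetLike.coe_mem _
      · have := h2 ⟨x, Subgroup.mem_sup_right hx⟩ hx
        rw [← eb] at this
        exact this
    exact key ν hν hPR
  have hpG : CentE.pGenAut N p P' ≤ G := fun ν hν =>
    rel ν (CentE.pGenAut_le hν) (cc.exists_rel hFn' hP.2.2 hν)
  -- elements of order prime to `p` normalizing the Sylow subgroup
  set T' := (autInducedBy R' P').subgroupOf (N.autGroup P') with hT'
  set N₁' := normalizerIn R' P' with hN₁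
  have hP'N₁ : P' ≤ N₁' := le_normalizerIn hP'R
  obtain ⟨-, hfa, hrec⟩ := IsSaturated_fullyNormalized w.hT w.hEsat hNn
  have step : ∀ ν : N.autGroup P', (orderOf ν).Coprime p → ν ∈ Subgroup.normalizer (T' : Set _) →
      (ν : MulAut P') ∈ G := by
    intro ν hν hνn
    obtain ⟨e₁, he₁, ee₁⟩ := ext_of_conj (X := N₁') hrec ν.2 fun x hx => Or.inr ⟨hx, by
      have h1 : (⟨actHom R' P' ⟨x, hx⟩, autInducedBy_le_autGroup hP'R ((range_actHom R' P').le ⟨_, rfl⟩)⟩ :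
          N.autGroup P') ∈ T' := (range_actHom R' P').le ⟨_, rfl⟩
      exact (Subgroup.mem_normalizer_iff.mp hνn _).mp h1⟩
    haveI := finite_of_le he₁.dom_le
    have hνf : ∀ y : P', e₁ y = (((ν : MulAut P') y : P') : Ω') := fun y => ee₁ y (hP'N₁ y.2)
    have hP'e : Iso N e₁ P' P' := (he₁.restrict hP'N₁).iso_of_card
      (fun y hy => by rw [hνf ⟨y, hy⟩]; exact SetLike.coe_mem _) le_rfl
    have he₁i : Iso N e₁ N₁' N₁' := he₁.iso_of_card
      (fun y hy => hP'e.map_normalizer he₁ hP'N₁ (fun _ _ => rfl) hy hy.2) le_rfl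
    have hνk : ∀ y ∈ P', e₁^[orderOf ν] y = y := fun y hy => by
      have h := equiv_pow_apply hP'e (orderOf ν) ⟨y, hy⟩
      rw [← h, show (hP'e.equiv : MulAut P') = (ν : MulAut P') from
        MulEquiv.ext fun z => Subtype.ext (hνf z), ← SubmonoidClass.coe_pow, pow_orderOf_eq_one]
      rfl
    obtain ⟨m, l, hm, hl, hml⟩ := exists_pprime_power (w.subIso he₁i) hν
    have he₂ : Iso N e₁^[m] N₁' N₁' := iso_pow he₁i m
    have he₂P : ∀ y ∈ P', e₁^[m] y = e₁ y := fun y hy => by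
      rw [iterate_mod (P := P') hνk m hy, hm, ← iterate_mod (P := P') hνk 1 hy, Function.iterate_one]
    obtain ⟨f, l', hf, hl', hfl, hfi⟩ := c.lift_pprime (w.subIso he₂) hl hml
    set M := preimageAlong θ N₁' with hM
    have hMR : M ≤ preimageAlong θ R' := c.pre_mono normalizerIn_le
    have hPM : P ≤ M := fun x hx => mem_preimage_iff.mpr ⟨hPS hx, hP'N₁ (c.mem_img hPS hx)⟩
    have hMm : Mem Z θ N M := c.mem_mono hP hPM hMR
    have hMimg : imageAlong θ M = N₁' := c.img_pre (normalizerIn_le.trans w.tle)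
    haveI := finite_of_le hf.dom_le
    haveI := finite_mulAut (G := M)
    haveI := finite_mulAut (G := P)
    have hlt' : Nat.card P < Nat.card M := by
      refine card_lt_of_lt (lt_of_le_of_ne hPM fun e => ?_)
      have h2 := lt_normalizerIn w.hT hlt
      change P' < N₁' at h2
      rw [← hMimg, ← e] at h2
      exact lt_irrefl _ h2
    have hfP : ∀ x ∈ P, f x ∈ P := fun x hx => by
      refine c.mem_of_img hP.1 hPS (hf.mor.map_mem (hPM hx)) ?_
      rw [← hfi x (hPM hx), he₂P _ (c.mem_img hPS hx)]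
      exact hP'e.mapsTo (c.mem_img hPS hx)
    have hfPi : Iso F f P P := (hf.mor.restrict hPM).iso_of_card hfP le_rfl
    have hex : ∀ x : P, (((ν : MulAut P') ⟨extHom θ x, c.mem_img hPS x.2⟩ : P') : Ω') =
        extHom θ (((hfPi.equiv : MulAut P) x : P) : Ω) := fun x => by
      rw [← hνf]
      show e₁ (extHom θ x) = extHom θ (f x)
      rw [← hfi x (hPM x.2), he₂P _ (c.mem_img hPS x.2)]
    refine ⟨fun β hβ eβ => ⟨⟨_, hfPi.equiv_mem_autGroup, hex⟩, ?_⟩,
      _, hfPi.equiv_mem_autGroup, hex⟩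
    have hk0 : (hfPi.equiv : MulAut P)⁻¹ * β ∈ K F θ P := by
      refine ⟨mul_mem (inv_mem hfPi.equiv_mem_autGroup) hβ, fun x => ?_⟩
      have h := hex (((hfPi.equiv : MulAut P)⁻¹ * β) x)
      rw [← MulAut.mul_apply, mul_inv_cancel_left, ← eβ x] at h
      exact congrArg Subtype.val ((ν : MulAut P').injective (Subtype.ext h))
    suffices h0 : FixK F θ P (hfPi.equiv : MulAut P) by
      have := c.fixK_mul hPS hfPi.equiv_mem_autGroup h0 (c.fixK_k hP.1 hPS hk0)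
      rwa [mul_inv_cancel_left] at this
    set a := (hfPi.equiv : MulAut P) with ha
    set b := (hf.equiv : MulAut M) with hb
    have hbX : b ∈ X F θ N M := by
      refine ⟨hf.equiv_mem_autGroup, e₁^[m], ?_, fun x => hfi x x.2⟩
      rw [hMimg]; exact he₂
    have hIH : FixK F θ M b := IH (Nat.card S - Nat.card M) (by
      have := card_le_of_le (hMR.trans c.rle)
      omega) M rfl hMm b hbX
    have hal : a ^ l' = 1 := MulEquiv.ext fun x => Subtype.ext (by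
      rw [equiv_pow_apply hfPi l' x, hfl x (hPM x.2)]; rfl)
    intro k hk
    obtain ⟨s, hs, hsn, es, hsc⟩ := c.k_realized hP.1 hn hk
    -- `s` normalizes `M`
    have hsM : s ∈ Subgroup.normalizer (M : Set Ω) := Subgroup.mem_normalizer_fintype fun v hv => by
      obtain ⟨hvS, hv1⟩ := mem_preimage_iff.mp hv
      refine mem_preimage_iff.mpr ⟨S.mul_mem (S.mul_mem hs hvS) (S.inv_mem hs),
        (c.mem_R.mp (stronglyClosed_mem c.rsc (Mor.conj c.rle hs) (hMR hv) (hMR hv))).2, ?_⟩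
      rw [← cj_apply]
      refine (normalizer_image c.hk c.zle hP.1 hPS (cj_mem hs hvS)).mpr ?_
      rw [cj_apply]
      exact mul_mem (mul_mem hsn ((normalizer_image c.hk c.zle hP.1 hPS hvS).mp hv1.2)) (inv_mem hsn)
    set σ := actHom S M ⟨s, hs, hsM⟩ with hσ
    have hσF : σ ∈ F.autGroup M :=
      autInducedBy_le_autGroup (hMR.trans c.rle) ((range_actHom S M).le ⟨_, rfl⟩)
    set y := b * σ * b⁻¹ * σ⁻¹ with hy
    have hyF : y ∈ F.autGroup M :=
      mul_mem (mul_mem (mul_mem hf.equiv_mem_autGroup hσF) (inv_mem hf.equiv_mem_autGroup)) (inv_mem hσF)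
    have hyX : y ∈ X F θ N M := by
      have hσi := autGroup_iso (hMR.trans c.rle) hσF
      have h1 := c.x_transport hMm hσi (c.x_inv hMR hbX)
      have e : hσi.transport b⁻¹ = σ * b⁻¹ * σ⁻¹ := MulEquiv.ext fun v => Subtype.ext (by
        obtain ⟨w', hw', hwv⟩ := hσi.surj v.2
        have hv : v = σ ⟨w', hw'⟩ := Subtype.ext (hwv.symm.trans (extFun_apply _ hw'))
        rw [show v = ⟨_, hσi.mapsTo hw'⟩ from Subtype.ext hwv.symm, hσi.transport_val _ hw']
        rw [show (⟨_, hσi.mapsTo hw'⟩ : M) = σ ⟨w', hw'⟩ from Subtype.ext (extFun_apply _ hw'),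
          MulAut.mul_apply, MulAut.mul_apply, MulAut.inv_apply_self]
        exact extFun_apply _ (SetLike.coe_mem _))
      rw [e] at h1
      have := c.x_mul hMR hbX h1
      rw [hy, show b * σ * b⁻¹ * σ⁻¹ = b * (σ * b⁻¹ * σ⁻¹) by group]
      exact this
    -- the image of `y` fixes the image of `P`
    have hsP : ∀ v : M, (v : Ω) ∈ P → ((σ v : M) : Ω) ∈ P ∧
        extHom θ ((σ v : M) : Ω) = extHom θ (v : Ω) := fun v hv => by
      refine ⟨(cj_mem_iff hsn _).mpr hv, ?_⟩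
      show extHom θ (cj s v) = _
      rw [es ⟨v, hv⟩]; exact hk.2 ⟨v, hv⟩
    obtain ⟨-, ny, hny, eny⟩ := hyX
    rw [hMimg] at hny
    have hyP : ∀ x : P, extHom θ ((y ⟨x, hPM x.2⟩ : M) : Ω) = extHom θ (x : Ω) ∧
        ((y ⟨x, hPM x.2⟩ : M) : Ω) = (((a * k * a⁻¹ * k⁻¹) x : P) : Ω) := by
      intro x
      have hσv : ∀ v : P, ((σ ⟨v, hPM v.2⟩ : M) : Ω) = ((k v : P) : Ω) := fun v => es v
      have hbv : ∀ v : P, ((b ⟨v, hPM v.2⟩ : M) : Ω) = ((a v : P) : Ω) := fun v => rfl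
      have hσi : ∀ v : P, ((σ⁻¹ ⟨v, hPM v.2⟩ : M) : Ω) = ((k⁻¹ v : P) : Ω) := fun v => by
        have h := hσv (k⁻¹ v)
        rw [MulAut.apply_inv_self] at h
        rw [show (⟨(v : Ω), hPM v.2⟩ : M) = σ ⟨((k⁻¹ v : P) : Ω), hPM (k⁻¹ v).2⟩ from
          Subtype.ext h.symm, MulAut.inv_apply_self]
      have hbi : ∀ v : P, ((b⁻¹ ⟨v, hPM v.2⟩ : M) : Ω) = ((a⁻¹ v : P) : Ω) := fun v => by
        have h := hbv (a⁻¹ v)
        rw [MulAut.apply_inv_self] at h
        rw [show (⟨(v : Ω), hPM v.2⟩ : M) = b ⟨((a⁻¹ v : P) : Ω), hPM (a⁻¹ v).2⟩ from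
          Subtype.ext h.symm, MulAut.inv_apply_self]
      have e : ((y ⟨x, hPM x.2⟩ : M) : Ω) = (((a * k * a⁻¹ * k⁻¹) x : P) : Ω) := by
        simp only [hy, MulAut.mul_apply]
        rw [show σ⁻¹ ⟨(x : Ω), hPM x.2⟩ = ⟨((k⁻¹ x : P) : Ω), hPM (k⁻¹ x).2⟩ from Subtype.ext (hσi x),
          show b⁻¹ ⟨((k⁻¹ x : P) : Ω), hPM (k⁻¹ x).2⟩ = ⟨((a⁻¹ (k⁻¹ x) : P) : Ω), hPM (a⁻¹ (k⁻¹ x)).2⟩
            from Subtype.ext (hbi _),
          show σ ⟨((a⁻¹ (k⁻¹ x) : P) : Ω), hPM (a⁻¹ (k⁻¹ x)).2⟩ =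
            ⟨((k (a⁻¹ (k⁻¹ x)) : P) : Ω), hPM (k (a⁻¹ (k⁻¹ x))).2⟩ from Subtype.ext (hσv _)]
        exact hbv _
      refine ⟨?_, e⟩
      rw [e]
      exact (c.k_mul (c.k_conj hP.1 hPS hfPi.equiv_mem_autGroup hk) (c.k_inv hk)).2 x
    have hagree : ∀ z ∈ P', id z = ny z := fun z hz => by
      obtain ⟨x, hx, rfl⟩ := (mem_imageAlong (hP := hPS)).mp hz
      rw [eny ⟨x, hPM hx⟩, (hyP ⟨x, hx⟩).1]; rfl
    obtain ⟨z', hz', hzc', ez'⟩ := centric_agree w.hT w.hEsat hP.2.2 hP'N₁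
      (Mor.id' normalizerIn_le) hny.mor hagree
    obtain ⟨z, hz, rfl⟩ := (mem_imageAlong (hP := hPS)).mp hz'
    set ζ := actHom S M ⟨z, hPS hz, Subgroup.le_normalizer (hPM hz)⟩ with hζ
    have hζF : ζ ∈ F.autGroup M :=
      autInducedBy_le_autGroup (hMR.trans c.rle) ((range_actHom S M).le ⟨_, rfl⟩)
    have hm : y * ζ⁻¹ ∈ K F θ M := by
      refine ⟨mul_mem hyF (inv_mem hζF), fun v => ?_⟩
      obtain ⟨v', rfl⟩ : ∃ v', ζ v' = v := ⟨ζ⁻¹ v, MulAut.apply_inv_self _ _ _⟩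
      rw [MulAut.mul_apply, MulAut.inv_apply_self, ← eny]
      have hv' : extHom θ (v' : Ω) ∈ N₁' := (mem_preimage_iff.mp v'.2).2
      rw [ez' _ hv']
      show cj (extHom θ z) (extHom θ (v' : Ω)) = extHom θ (cj z v')
      rw [extHom_cj θ (hPS hz) ((mem_preimage_iff.mp v'.2).1)]
    have hIm := hIH _ hm
    -- restrict to `P`
    set ζP := actHom S P ⟨z, hPS hz, Subgroup.le_normalizer hz⟩ with hζP
    have hζI : ζP ∈ Inn P := by
      rw [inn_eq_autInducedBy]; exact indIff.mpr ⟨z, hz, Subgroup.le_normalizer hz, fun _ => rfl⟩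
    set d := a * k * a⁻¹ * k⁻¹ with hd'
    -- `d` is fixed by `a` modulo the inner automorphisms
    have hda : a * (d * ζP⁻¹) * a⁻¹ * (d * ζP⁻¹)⁻¹ ∈ Inn P := by
      rw [inn_eq_autInducedBy] at hIm ⊢
      obtain ⟨q, hq, -, eq⟩ := indIff.mp hIm
      have hres : ∀ x : P, (((b * (y * ζ⁻¹) * b⁻¹ * (y * ζ⁻¹)⁻¹) ⟨x, hPM x.2⟩ : M) : Ω) =
          (((a * (d * ζP⁻¹) * a⁻¹ * (d * ζP⁻¹)⁻¹) x : P) : Ω) := by
        let stab : Subgroup (MulAut M) :=
          { carrier := {t | ∃ t' : MulAut P, ∀ x : P, ((t ⟨x, hPM x.2⟩ : M) : Ω) = ((t' x : P) : Ω)}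
            one_mem' := ⟨1, fun _ => rfl⟩
            mul_mem' := by
              rintro t u ⟨t', et⟩ ⟨u', eu⟩
              refine ⟨t' * u', fun x => ?_⟩
              rw [MulAut.mul_apply, MulAut.mul_apply,
                show u ⟨x, hPM x.2⟩ = ⟨((u' x : P) : Ω), hPM (u' x).2⟩ from Subtype.ext (eu x), et]
            inv_mem' := by
              rintro t ⟨t', et⟩
              refine ⟨t'⁻¹, fun x => ?_⟩
              have h := et (t'⁻¹ x)
              rw [MulAut.apply_inv_self] at h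
              rw [show (⟨(x : Ω), hPM x.2⟩ : M) = t ⟨((t'⁻¹ x : P) : Ω), hPM (t'⁻¹ x).2⟩ from
                Subtype.ext h.symm, MulAut.inv_apply_self] }
        have rm : ∀ {t u : MulAut M} {t' u' : MulAut P},
            (∀ x : P, ((t ⟨x, hPM x.2⟩ : M) : Ω) = ((t' x : P) : Ω)) →
            (∀ x : P, ((u ⟨x, hPM x.2⟩ : M) : Ω) = ((u' x : P) : Ω)) →
            ∀ x : P, (((t * u) ⟨x, hPM x.2⟩ : M) : Ω) = (((t' * u') x : P) : Ω) := by
          intro t u t' u' et eu x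
          rw [MulAut.mul_apply, MulAut.mul_apply,
            show u ⟨x, hPM x.2⟩ = ⟨((u' x : P) : Ω), hPM (u' x).2⟩ from Subtype.ext (eu x), et]
        have ri : ∀ {t : MulAut M} {t' : MulAut P},
            (∀ x : P, ((t ⟨x, hPM x.2⟩ : M) : Ω) = ((t' x : P) : Ω)) →
            ∀ x : P, ((t⁻¹ ⟨x, hPM x.2⟩ : M) : Ω) = ((t'⁻¹ x : P) : Ω) := by
          intro t t' et x
          have h := et (t'⁻¹ x)
          rw [MulAut.apply_inv_self] at h
          rw [show (⟨(x : Ω), hPM x.2⟩ : M) = t ⟨((t'⁻¹ x : P) : Ω), hPM (t'⁻¹ x).2⟩ from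
            Subtype.ext h.symm, MulAut.inv_apply_self]
        have hb' : ∀ x : P, ((b ⟨x, hPM x.2⟩ : M) : Ω) = ((a x : P) : Ω) := fun _ => rfl
        have hyζ := rm (fun x => (hyP x).2) (ri (t := ζ) (t' := ζP) fun _ => rfl)
        exact rm (rm (rm hb' hyζ) (ri hb')) (ri hyζ)
      have hqN : q ∈ Subgroup.normalizer (P : Set Ω) := Subgroup.mem_normalizer_fintype fun v hv => by
        have h := (eq ⟨v, hPM hv⟩).trans (hres ⟨v, hv⟩)
        show cj q v ∈ P
        rw [h]; exact SetLike.coe_mem _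
      have hqP : q ∈ P := by
        refine c.mem_of_img hP.1 hPS ((hMR.trans c.rle) hq) ?_
        refine hP.2.2.2 _ (isConj_refl hP'R) ⟨(c.mem_R.mp (hMR hq)).2, fun v hv => ?_⟩
        obtain ⟨x, hx, rfl⟩ := (mem_imageAlong (hP := hPS)).mp hv
        have h := (eq ⟨x, hPM hx⟩).trans (hres ⟨x, hx⟩)
        have hKd : d * ζP⁻¹ ∈ K F θ P := by
          refine c.k_mul (c.k_mul (c.k_conj hP.1 hPS hfPi.equiv_mem_autGroup hk) (c.k_inv hk))
            (c.k_inv ⟨inn_le_autGroup hPS hζI, fun x => ?_⟩)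
          show extHom θ (cj z x) = extHom θ x
          rw [extHom_cj θ (hPS hz) (hPS x.2)]
          show extHom θ z * extHom θ x * (extHom θ z)⁻¹ = _
          rw [← hzc' _ (c.mem_img hPS x.2), mul_inv_cancel_right]
        have hKq := (c.k_mul (c.k_conj hP.1 hPS hfPi.equiv_mem_autGroup hKd) (c.k_inv hKd)).2 ⟨x, hx⟩
        rw [← h] at hKq
        change extHom θ (cj q x) = extHom θ x at hKq
        rw [extHom_cj θ ((hMR.trans c.rle) hq) (hPS hx)] at hKq
        exact (mul_inv_eq_iff_eq_mul.mp hKq).symm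
      exact indIff.mpr ⟨q, hqP, hqN, fun x => (eq ⟨x, hPM x.2⟩).trans (hres x)⟩
    have hdda : a * d * a⁻¹ * d⁻¹ ∈ Inn P := by
      have h2 : a * ζP * a⁻¹ ∈ Inn P := c.inn_conj hPS hfPi.equiv_mem_autGroup hζI
      have h3 : (d * ζP⁻¹) * ζP * (d * ζP⁻¹)⁻¹ ∈ Inn P := c.inn_conj hPS
        (mul_mem (c.k_mul (c.k_conj hP.1 hPS hfPi.equiv_mem_autGroup hk) (c.k_inv hk)).1
          (inv_mem (inn_le_autGroup hPS hζI))) hζI
      have e : a * d * a⁻¹ * d⁻¹ = (a * (d * ζP⁻¹) * a⁻¹ * (d * ζP⁻¹)⁻¹) *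
          ((d * ζP⁻¹) * (a * ζP * a⁻¹) * (d * ζP⁻¹)⁻¹) *
          ((d * ζP⁻¹) * ζP * (d * ζP⁻¹)⁻¹)⁻¹ := by group
      rw [e]
      exact mul_mem (mul_mem hda (c.inn_conj hPS
        (mul_mem (c.k_mul (c.k_conj hP.1 hPS hfPi.equiv_mem_autGroup hk) (c.k_inv hk)).1
          (inv_mem (inn_le_autGroup hPS hζI))) h2)) (inv_mem h3)
    haveI := inn_normal_autGroup F P
    set π := QuotientGroup.mk' ((Inn P).subgroupOf (F.autGroup P)) with hπ
    set A₁ : F.autGroup P := ⟨a, hfPi.equiv_mem_autGroup⟩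
    set K₁ : F.autGroup P := ⟨k, hk.1⟩
    set D₁ := A₁ * K₁ * A₁⁻¹ * K₁⁻¹ with hD₁
    have hD : Commute (π A₁) (π D₁) := by
      have : π (A₁ * D₁ * A₁⁻¹ * D₁⁻¹) = 1 := (QuotientGroup.eq_one_iff _).mpr hdda
      rw [map_mul, map_mul, map_mul, map_inv, map_inv, mul_inv_eq_one, mul_inv_eq_iff_eq_mul] at this
      exact this
    have hit : ∀ i : ℕ, π (A₁ ^ i * K₁ * (A₁ ^ i)⁻¹) = (π D₁) ^ i * π K₁ := by
      intro i
      induction i with
      | zero => simp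
      | succ i ih =>
        rw [show A₁ ^ (i + 1) * K₁ * (A₁ ^ (i + 1))⁻¹ = A₁ * (A₁ ^ i * K₁ * (A₁ ^ i)⁻¹) * A₁⁻¹ by
          rw [pow_succ']; group, map_mul, map_mul, ih, map_inv, ← mul_assoc, (hD.pow_right i).eq,
          pow_succ, mul_assoc, mul_assoc, mul_assoc]
        congr 1
        rw [← mul_assoc, hD₁, map_mul, map_mul, map_mul, map_inv, map_inv]
        group
    have hAl : A₁ ^ l' = 1 := Subtype.ext hal
    have h1 : (π D₁) ^ l' = 1 := by
      have := hit l'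
      rw [hAl, one_mul, inv_one, mul_one] at this
      exact mul_eq_right.mp this.symm
    obtain ⟨i, hi⟩ := c.k_pElement hP.1 hPS (c.k_mul (c.k_conj hP.1 hPS hfPi.equiv_mem_autGroup hk) (c.k_inv hk))
    have h2 : (π D₁) ^ p ^ i = 1 := by
      rw [← map_pow, show D₁ ^ p ^ i = 1 from Subtype.ext hi, map_one]
    exact (QuotientGroup.eq_one_iff D₁).mp (orderOf_eq_one_iff.mp (Nat.eq_one_of_dvd_coprimes
      (hl'.pow_right i) (orderOf_dvd_of_pow_eq_one h1) (orderOf_dvd_of_pow_eq_one h2)))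
  -- Frattini
  let H : Subgroup (N.autGroup P') := G.subgroupOf _
  let Pg : Subgroup (N.autGroup P') := (CentE.pGenAut N p P').subgroupOf _
  haveI : Pg.Normal := by
    refine ⟨fun x hx g => ?_⟩
    have hgi := autGroup_iso hP'R g.2
    have := cc.transport_mem hP'R (w.subIso hgi) hx
    show ((g * x * g⁻¹ : N.autGroup P') : MulAut P') ∈ CentE.pGenAut N p P'
    convert this using 1
    refine MulEquiv.ext fun v => Subtype.ext ?_
    obtain ⟨v0, rfl⟩ : ∃ v0, (g : MulAut P') v0 = v := ⟨_, MulAut.apply_inv_self _ _ v⟩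
    show (((g : MulAut P') ((x : MulAut P') ((g : MulAut P')⁻¹ ((g : MulAut P') v0))) : P') : Ω') = _
    rw [MulAut.inv_apply_self]
    have h := (w.subIso hgi).transport_val (x : MulAut P') v0.2
    rw [show (⟨_, (w.subIso hgi).mapsTo v0.2⟩ : P') = (g : MulAut P') v0 from
      Subtype.ext (extFun_coe _ _)] at h
    exact (extFun_coe _ _).symm.trans h.symm
  have hTP : T' ≤ Pg := fun t ht => by
    obtain ⟨k, hk⟩ := (isPGroup_autInducedBy w.hT P') ⟨_, ht⟩
    obtain ⟨j, -, hj⟩ := (Nat.dvd_prime_pow (Fact.out : p.Prime)).mp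
      (orderOf_dvd_of_pow_eq_one (congrArg Subtype.val hk : (t : MulAut P') ^ p ^ k = 1))
    exact Subgroup.subset_closure ⟨t.2, j, hj⟩
  have hidx : ¬ p ∣ T'.index := ((fullyAutomized_iff w.hT).mp hfa).2
  let TS : Sylow p Pg := IsPGroup.toSylow
    (((isPGroup_autInducedBy w.hT P').comap_subtype).comap_subtype : IsPGroup p (T'.subgroupOf Pg))
    (fun hd => hidx (hd.trans (Dvd.intro _ (Subgroup.relIndex_mul_index hTP))))
  intro ν hν
  obtain ⟨t, ht, q, hq, htq⟩ := Subgroup.mem_sup_of_normal_right.mp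
    ((Sylow.normalizer_sup_eq_top TS).ge (Subgroup.mem_top (⟨ν, hν⟩ : N.autGroup P')))
  rw [show (TS : Subgroup Pg).map Pg.subtype = T' from by
    rw [show (TS : Subgroup Pg) = T'.subgroupOf Pg from IsPGroup.toSylow_coe _ _,
      Subgroup.subgroupOf_map_subtype, inf_eq_left.mpr hTP]] at ht
  obtain ⟨x, y, hxy, hx, hy, ⟨kx, hkx⟩, hyo⟩ := split (p := p) t
  have hx' : (x : MulAut P') ∈ G :=
    hpG (Subgroup.subset_closure ⟨x.2, kx, (Subgroup.orderOf_coe x).trans hkx⟩)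
  have hy' : (y : MulAut P') ∈ G := step y hyo ((Subgroup.zpowers_le.mpr ht) hy)
  have hq' : (q : MulAut P') ∈ G := hpG hq
  rw [show ν = (x : MulAut P') * (y : MulAut P') * (q : MulAut P') by
    rw [← Subgroup.coe_mul, ← hxy, ← Subgroup.coe_mul, htq]]
  exact mul_mem (mul_mem hx' hy') hq'

/-- The generators of `A` are carried to generators. -/
theorem agen_transport (hP : Mem Z θ N P) (hu : Iso F f P Q) {α : MulAut P}
    (hα : α ∈ AGen F θ N p P) : hu.transport α ∈ AGen F θ N p Q := by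
  refine ⟨c.x_transport hP hu hα.1, ?_⟩
  rcases hα.2 with h | ⟨W, v, hv, hvα⟩
  · exact Or.inl (by rwa [MulEquiv.orderOf_eq])
  · obtain ⟨u', hu', hl, hr⟩ := hu.exists_symm
    refine Or.inr ⟨W, v ∘ u', hu'.comp hv, ?_⟩
    convert hvα using 1
    refine MulEquiv.ext fun y => Subtype.ext ?_
    obtain ⟨x, hx, hxy⟩ := hv.surj y.2
    have h1 : (v ∘ u') (f x) = (y : Ω) := by show v (u' (f x)) = _; rw [hl x hx, hxy]
    rw [show y = ⟨(v ∘ u') (f x), (hu'.comp hv).mapsTo (hu.mapsTo hx)⟩ from Subtype.ext h1.symm,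
      (hu'.comp hv).transport_val _ (hu.mapsTo hx), hu.transport_val α hx]
    rw [show (⟨(v ∘ u') (f x), (hu'.comp hv).mapsTo (hu.mapsTo hx)⟩ : W) = ⟨v x, hv.mapsTo hx⟩ from
      Subtype.ext (by show v (u' (f x)) = v x; rw [hl x hx]), hv.transport_val α hx]
    show v (u' (f _)) = v _
    rw [hl _ (SetLike.coe_mem _)]

theorem a_transport (hP : Mem Z θ N P) (hu : Iso F f P Q) {α : MulAut P}
    (hα : α ∈ A F θ N p P) : hu.transport α ∈ A F θ N p Q := by
  have hle : A F θ N p P ≤ (A F θ N p Q).comap hu.transport.toMonoidHom :=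
    (Subgroup.closure_le _).mpr fun β hβ => Subgroup.subset_closure (c.agen_transport hP hu hβ)
  exact hle hα

theorem a_le_x (hP : P ≤ preimageAlong θ R') {α : MulAut P} (hα : α ∈ A F θ N p P) :
    α ∈ X F θ N P := by
  induction hα using Subgroup.closure_induction with
  | mem α h => exact h.1
  | one => exact c.x_one hP
  | mul α β _ _ ha hb => exact c.x_mul hP ha hb
  | inv α _ ha => exact c.x_inv hP ha

theorem a_le_aut (hP : P ≤ preimageAlong θ R') : A F θ N p P ≤ F.autGroup P :=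
  fun _ hα => (c.a_le_x hP hα).1

theorem induced_mem_a (hP : P ≤ preimageAlong θ R') {α : MulAut P}
    (hα : α ∈ autInducedBy (preimageAlong θ R') P) : α ∈ A F θ N p P := by
  obtain ⟨r, hr, hn, e⟩ := indIff.mp hα
  refine Subgroup.subset_closure ⟨c.conj_x hP hr hn fun x => (e x).symm,
    Or.inr ⟨P, id, Iso.refl (hP.trans c.rle), ?_⟩⟩
  convert hα using 1
  refine MulEquiv.ext fun y => Subtype.ext ?_
  exact (Iso.refl (F := F) (hP.trans c.rle)).transport_val α y.2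

theorem pprime_mem_a {α : MulAut P} (hα : α ∈ X F θ N P) (ho : (orderOf α).Coprime p) :
    α ∈ A F θ N p P := Subgroup.subset_closure ⟨hα, Or.inl ho⟩

/-- `A` meets `K` in inner automorphisms only. -/
theorem a_inter_k (hP : Mem Z θ N P) {α : MulAut P} (hα : α ∈ A F θ N p P) (hαK : α ∈ K F θ P) :
    α ∈ Inn P := by
  have hP₀S := hP.2.1.trans c.rle
  obtain ⟨P', hconj, hn⟩ := exists_fullyNormalized (F := F) hP₀S
  obtain ⟨u, hu⟩ := isConj_iff.mp hconj
  suffices main : ∀ Q, Mem Z θ N Q → F.IsFullyNormalized Q →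
      ∀ β ∈ A F θ N p Q, β ∈ K F θ Q → β ∈ Inn Q by
    obtain ⟨u', hu', hl, -⟩ := hu.exists_symm
    have := c.inn_transport hu'
      (main _ (c.mem_conj hP hu) hn _ (c.a_transport hP hu hα) (c.k_transport hP hu hαK))
    have e : hu'.transport (hu.transport α) = α := MulEquiv.ext fun y => Subtype.ext (by
      have h1 := hu'.transport_val (hu.transport α) (hu.mapsTo y.2)
      simp only [hl _ y.2] at h1
      refine h1.trans ?_
      rw [hu.transport_val α y.2, hl _ (SetLike.coe_mem _)])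
    rwa [e] at this
  intro P hP hn β hβ hβK
  haveI := c.finS'
  haveI := finite_of_le hn.1
  haveI := finite_mulAut (G := P)
  have hPS := hn.1
  have hPR := hP.2.1
  have hfix := c.fixK_all P hP
  let Xg : Subgroup (MulAut P) :=
    { carrier := X F θ N P
      one_mem' := c.x_one hPR
      mul_mem' := fun ha hb => c.x_mul hPR ha hb
      inv_mem' := fun ha => c.x_inv hPR ha }
  haveI hXn : (Xg.subgroupOf (F.autGroup P)).Normal := ⟨fun x hx g => by
    have hgi := autGroup_iso hPS g.2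
    have h := c.x_transport hP hgi (show (x : MulAut P) ∈ X F θ N P from hx)
    show ((g * x * g⁻¹ : F.autGroup P) : MulAut P) ∈ X F θ N P
    convert h using 1
    refine MulEquiv.ext fun v => Subtype.ext ?_
    obtain ⟨v0, rfl⟩ : ∃ v0, (g : MulAut P) v0 = v := ⟨_, MulAut.apply_inv_self _ _ v⟩
    show (((g : MulAut P) ((x : MulAut P) ((g : MulAut P)⁻¹ ((g : MulAut P) v0))) : P) : Ω) = _
    rw [MulAut.inv_apply_self]
    have h2 := hgi.transport_val (x : MulAut P) v0.2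
    rw [show (⟨_, hgi.mapsTo v0.2⟩ : P) = (g : MulAut P) v0 from Subtype.ext (extFun_coe _ _)] at h2
    exact ((extFun_coe _ _).symm.trans h2.symm)⟩
  obtain ⟨-, hfa, hrec⟩ := IsSaturated_fullyNormalized c.hS c.hF hn
  set U := (autInducedBy S P).subgroupOf Xg with hU
  set Ar := (autInducedBy (preimageAlong θ R') P).subgroupOf Xg with hAr
  have hArU : Ar ≤ U := Subgroup.comap_mono (autInducedBy_mono c.rle P)
  have hXF : Xg ≤ F.autGroup P := fun x hx => hx.1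
  have hidx : ¬ p ∣ U.index := by
    have h := ((fullyAutomized_iff c.hS).mp hfa).2
    have h2 := not_dvd_relIndex _ (Xg.subgroupOf (F.autGroup P)) h
    rwa [Subgroup.relIndex_subgroupOf hXF] at h2
  have hInn : ∀ x : Xg, (x : MulAut P) ∈ Inn P → x ∈ Ar := fun x hx =>
    autInducedBy_mono hPR P ((inn_eq_autInducedBy P).le hx)
  have hAn : ∀ u ∈ U, ∀ a ∈ Ar, u * a * u⁻¹ ∈ Ar := by
    intro u hu a ha
    obtain ⟨s, hs, hsn, es⟩ := indIff.mp (show (u : MulAut P) ∈ autInducedBy S P from hu)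
    obtain ⟨r, hr, hrn, er⟩ := indIff.mp
      (show (a : MulAut P) ∈ autInducedBy (preimageAlong θ R') P from ha)
    refine indIff.mpr ⟨cj s r, stronglyClosed_mem c.rsc (Mor.conj c.rle hs) hr hr,
      mul_mem (mul_mem hsn hrn) (inv_mem hsn), fun x => ?_⟩
    obtain ⟨v, rfl⟩ : ∃ v, (u : MulAut P) v = x := ⟨_, MulAut.apply_inv_self _ _ x⟩
    show cj (cj s r) _ = (((u : MulAut P) ((a : MulAut P) ((u : MulAut P)⁻¹ ((u : MulAut P) v))) : P) : Ω)
    rw [MulAut.inv_apply_self, ← es, ← es ((a : MulAut P) v), ← er v]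
    simp [cj, mul_assoc]
  have hsplit : ∀ u ∈ U, ∃ a ∈ Ar, ((a⁻¹ * u : Xg) : MulAut P) ∈ K F θ P := fun u hu => by
    obtain ⟨b, hb, hbK⟩ := c.sylow_split hP hn u.2 hu
    exact ⟨⟨b, c.a_le_x hPR (c.induced_mem_a hPR hb)⟩, hb, hbK⟩
  have hKc : ∀ x k : Xg, (k : MulAut P) ∈ K F θ P → x * k * x⁻¹ * k⁻¹ ∈ Ar := fun x k hk =>
    hInn _ (hfix x x.2 k hk)
  have hKc' : ∀ x k : Xg, (k : MulAut P) ∈ K F θ P → k * x * k⁻¹ * x⁻¹ ∈ Ar := fun x k hk => by
    rw [show k * x * k⁻¹ * x⁻¹ = (x * k * x⁻¹ * k⁻¹)⁻¹ by group]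
    exact inv_mem (hKc x k hk)
  refine (?_ : β ∈ Inn P)
  have hcomm : ∀ u ∈ U, ∀ v ∈ U, u * v * u⁻¹ * v⁻¹ ∈ Ar := by
    intro u hu v hv
    obtain ⟨a, ha, hk⟩ := hsplit u hu
    have h1 := hKc' v _ hk
    have h2 : v * a⁻¹ * v⁻¹ ∈ Ar := hAn v hv _ (inv_mem ha)
    have e : u * v * u⁻¹ * v⁻¹ =
        a * ((a⁻¹ * u) * v * (a⁻¹ * u)⁻¹ * v⁻¹) * (v * a⁻¹ * v⁻¹) := by group
    rw [e]
    exact mul_mem (mul_mem ha h1) h2
  have hsc : ∀ g : Xg, ∀ a ∈ Ar, ∀ q ∈ F.autGroup P,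
      q * (a : MulAut P) * q⁻¹ ∈ autInducedBy S P →
        q * (a : MulAut P) * q⁻¹ ∈ autInducedBy (preimageAlong θ R') P := by
    intro _ a ha q hq hqa
    obtain ⟨r, hr, hrn, er⟩ := indIff.mp
      (show (a : MulAut P) ∈ autInducedBy (preimageAlong θ R') P from ha)
    have hrN : r ∈ normalizerIn S P := ⟨c.rle hr, hrn⟩
    have ea : actHom S P ⟨r, hrN⟩ = (a : MulAut P) := MulEquiv.ext fun v => Subtype.ext (er v)
    have hW : P ⊔ Subgroup.zpowers r ≤ normalizerIn S P :=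
      sup_le (le_normalizerIn hPS) (Subgroup.zpowers_le.mpr hrN)
    obtain ⟨e, he, ee⟩ := ext_of_conj (X := P ⊔ Subgroup.zpowers r) hrec hq fun x hx => by
      refine Or.inr ⟨hW hx, ?_⟩
      have hle : P ⊔ Subgroup.zpowers r ≤ (((autInducedBy S P).comap
          (MulAut.conj q).toMonoidHom).comap (actHom S P)).map
            (S ⊓ Subgroup.normalizer (P : Set Ω)).subtype := by
        refine sup_le (fun v hv => ⟨⟨v, hPS hv, Subgroup.le_normalizer hv⟩, ?_, rfl⟩)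
          (Subgroup.zpowers_le.mpr ⟨⟨r, hrN⟩, ?_, rfl⟩)
        · show q * _ * q⁻¹ ∈ autInducedBy S P
          refine inn_le_autInducedBy hPS (c.inn_conj hPS hq ?_)
          rw [inn_eq_autInducedBy, indIff]
          exact ⟨v, hv, Subgroup.le_normalizer hv, fun _ => rfl⟩
        · show q * _ * q⁻¹ ∈ autInducedBy S P
          rw [ea]; exact hqa
      obtain ⟨⟨x', hx'⟩, hm, rfl⟩ := hle hx
      exact hm
    have heP : Iso F e P P := (he.restrict le_sup_left).iso_of_card (fun v hv => by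
      rw [ee ⟨v, hv⟩ (Subgroup.mem_sup_left hv)]; exact SetLike.coe_mem _) le_rfl
    have hrW : r ∈ P ⊔ Subgroup.zpowers r := Subgroup.mem_sup_right (Subgroup.mem_zpowers r)
    refine indIff.mpr ⟨e r, stronglyClosed_mem c.rsc he hrW hr,
      (heP.map_normalizer he le_sup_left (fun _ _ => rfl) hrW hrn).2, fun x => ?_⟩
    obtain ⟨v, rfl⟩ : ∃ v, q v = x := ⟨_, MulAut.apply_inv_self _ _ x⟩
    rw [MulAut.mul_apply, MulAut.mul_apply, MulAut.inv_apply_self, ← ee v (Subgroup.mem_sup_left v.2),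
      cj_apply, ← he.map_conj hrW (Subgroup.mem_sup_left v.2), ← ee _ (Subgroup.mem_sup_left (SetLike.coe_mem _))]
    exact congrArg e (er v)
  have hsc' : ∀ g : Xg, ∀ a ∈ Ar, g * a * g⁻¹ ∈ U → g * a * g⁻¹ ∈ Ar := fun g a ha h =>
    hsc g a ha g g.2.1 h
  have hUp : IsPGroup p U := (isPGroup_autInducedBy c.hS P).comap_subtype
  let TU : Sylow p Xg := IsPGroup.toSylow hUp hidx
  have hβX : β ∈ Xg := c.a_le_x hPR hβ
  have hcl : (⟨β, hβX⟩ : Xg) ∈ Subgroup.closure {x : Xg | (x : MulAut P) ∈ AGen F θ N p P} := by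
    have : A F θ N p P ≤ (Subgroup.closure {x : Xg | (x : MulAut P) ∈ AGen F θ N p P}).map Xg.subtype := by
      rw [MonoidHom.map_closure]
      refine Subgroup.closure_mono fun x hx => ⟨⟨x, hx.1⟩, hx, rfl⟩
    obtain ⟨x, hx, hxβ⟩ := this hβ
    rwa [show (⟨β, hβX⟩ : Xg) = x from Subtype.ext hxβ.symm]
  have hgen : ∀ x : Xg, (x : MulAut P) ∈ AGen F θ N p P →
      (orderOf x).Coprime p ∨ ∃ g : Xg, ∃ a ∈ Ar, x = g * a * g⁻¹ := by
    rintro x ⟨-, h | ⟨Q, v, hv, hvx⟩⟩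
    · exact Or.inl (by rwa [← Subgroup.orderOf_coe])
    refine Or.inr ?_
    obtain ⟨r, hr, hrn, er⟩ := indIff.mp hvx
    obtain ⟨v', hv', hl, hrr⟩ := hv.exists_symm
    have hrN : r ∈ normalizerIn S Q := ⟨c.rle hr, hrn⟩
    obtain ⟨-, a, -, ha, -, -, haP⟩ := exists_map_to_fullyNormalized c.hS c.hF hv' hn
    have har : a r ∈ normalizerIn S P := haP.map_normalizer ha (le_normalizerIn hv'.dom_le) (fun _ _ => rfl) hrN hrn
    have hav : Iso F (a ∘ v) P P := hv.comp haP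
    set q : MulAut P := hav.equiv
    set t := actHom (preimageAlong θ R') P
      ⟨a r, stronglyClosed_mem c.rsc ha hrN hr, har.2⟩ with ht
    have htA : t ∈ autInducedBy (preimageAlong θ R') P := (range_actHom _ _).le ⟨_, rfl⟩
    have hqx : q * (x : MulAut P) * q⁻¹ = t := MulEquiv.ext fun w => Subtype.ext (by
      obtain ⟨w0, hw0⟩ : ∃ w0, q w0 = w := ⟨_, MulAut.apply_inv_self _ _ w⟩
      rw [← hw0, MulAut.mul_apply, MulAut.mul_apply, MulAut.inv_apply_self]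
      show a (v (((x : MulAut P) w0 : P) : Ω)) = cj (a r) (a (v w0))
      rw [cj_apply, ← ha.map_conj hrN (le_normalizerIn hv'.dom_le (hv.mapsTo w0.2))]
      refine congrArg a ?_
      have := er ⟨v w0, hv.mapsTo w0.2⟩
      rw [hv.transport_val _ w0.2] at this
      exact this.symm)
    obtain ⟨n, hn'⟩ := (isPGroup_autInducedBy c.hS P) ⟨t, autInducedBy_mono c.rle P htA⟩
    have hxp : IsPGroup p (Subgroup.zpowers x) := by
      obtain ⟨j, -, hj⟩ := (Nat.dvd_prime_pow (Fact.out : p.Prime)).mp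
        (orderOf_dvd_of_pow_eq_one (congrArg Subtype.val hn' : t ^ p ^ n = 1))
      refine IsPGroup.of_card (n := j) ?_
      rw [Nat.card_zpowers, ← Subgroup.orderOf_coe, ← hj]
      exact (MulEquiv.orderOf_eq (MulAut.conj q) (x : MulAut P)).symm.trans (congrArg orderOf hqx)
    obtain ⟨T₂, hT₂⟩ := hxp.exists_le_sylow
    obtain ⟨σ, hσ⟩ := MulAction.exists_smul_eq Xg T₂ TU
    have hσx : σ * x * σ⁻¹ ∈ U := by
      have : MulAut.conj σ x ∈ (TU : Subgroup Xg) := by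
        rw [← hσ, Sylow.coe_subgroup_smul]
        exact Subgroup.smul_mem_pointwise_smul _ _ _ (hT₂ (Subgroup.mem_zpowers x))
      simpa [TU] using this
    refine ⟨σ⁻¹, σ * x * σ⁻¹, ?_, by group⟩
    have hq : q ∈ F.autGroup P := hav.equiv_mem_autGroup
    have h := hsc σ ⟨t, c.a_le_x hPR (c.induced_mem_a hPR htA)⟩ htA ((σ : MulAut P) * q⁻¹)
      (mul_mem σ.2.1 (inv_mem hq))
    have e : (σ : MulAut P) * q⁻¹ * t * ((σ : MulAut P) * q⁻¹)⁻¹ = ((σ * x * σ⁻¹ : Xg) : MulAut P) := by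
      rw [← hqx]
      show _ = (σ : MulAut P) * (x : MulAut P) * (σ : MulAut P)⁻¹
      group
    rw [e] at h
    exact h hσx
  have hβU : (⟨β, hβX⟩ : Xg) ∈ U := by
    obtain ⟨s, hs, hsn, es, -⟩ := c.k_realized hP.1 hn hβK
    exact indIff.mpr ⟨s, hs, hsn, es⟩
  have hres := transfer_mem (p := p) hUp hidx hArU hAn hcomm hsc' hβU
    (fun g => hKc g ⟨β, hβX⟩ hβK) hgen hcl
  obtain ⟨r, hr, hrn, er⟩ := indIff.mp
    (show β ∈ autInducedBy (preimageAlong θ R') P from hres)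
  rw [inn_eq_autInducedBy, indIff]
  refine ⟨r, c.mem_of_img hP.1 hPS (c.rle hr) ?_, hrn, er⟩
  refine hP.2.2.2 _ (isConj_refl (c.img_le hPR)) ⟨(c.mem_R.mp hr).2, fun y hy => ?_⟩
  obtain ⟨x, hx, rfl⟩ := (mem_imageAlong (hP := hPS)).mp hy
  have h := hβK.2 ⟨x, hx⟩
  rw [← er ⟨x, hx⟩, extHom_cj θ (c.rle hr) (hPS hx)] at h
  exact (mul_inv_eq_iff_eq_mul.mp h).symm

end CL

end Cfsg.Agent.Fusion.CentralLift
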