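/-
A normal subsystem of a factor system modulo a central subgroup lifts to a weakly normal subsystem.
-/
import Cfsg.Agent.Fusion.CentralLiftBase
import Cfsg.Agent.Fusion.NormalizerSat
import Cfsg.Agent.Fusion.Envelope
import Cfsg.Agent.Fusion.SatMain
import Cfsg.Agent.Fusion.TateMore
set_option autoImplicit false
set_option linter.style.haveILetI false
set_option linter.unusedSectionVars false
set_option maxHeartbeats 1000000

namespace Cfsg.Agent.Fusion.CentralLift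

open Cfsg Cfsg.FusionSystem Cfsg.Agent.Fusion Cfsg.Agent.Fusion.SatCrit Cfsg.Agent.Fusion.WeakResidual
open Cfsg.Agent.Fusion.CharSys (af af_coe af_apply)

variable {Ω Ω' : Type*} [Group Ω] [Group Ω'] {S Z : Subgroup Ω} {S' R' : Subgroup Ω'}
  {F : FusionSystem S} {F' : FusionSystem S'} {N : FusionSystem R'} {θ : S →* Ω'} {p : ℕ}
  {P Q M W : Subgroup Ω} {f g : Ω → Ω}

/-- All maps between the subgroups of a strongly closed subgroup. -/
def resSys {T : Subgroup Ω} (hT : F.StronglyClosed T) : FusionSystem T where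
  Hom P := {φ | φ ∈ F.Hom P ∧ P ≤ T}
  le_of_mem {P φ} h := ⟨h.2, fun x => by
    rw [← extFun_coe φ x]
    exact stronglyClosed_mem hT (mor_of_mem h.1) x.2 (h.2 x.2)⟩
  injective_of_mem h := F.injective_of_mem h.1
  conj_mem {P g} hP hg := ⟨F.conj_mem (hP.trans hT.1) (hT.1 hg), hP⟩
  comp_mem {P Q φ ψ} h h' m := ⟨F.comp_mem h.1 h'.1 m, h.2⟩
  inv_mem {P φ} h := by
    obtain ⟨ψ, hψ, e⟩ := F.inv_mem h.1
    refine ⟨ψ, ⟨hψ, ?_⟩, e⟩
    rintro _ ⟨x, rfl⟩
    rw [← extFun_coe φ x]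
    exact stronglyClosed_mem hT (mor_of_mem h.1) x.2 (h.2 x.2)

theorem resSys_mor {T : Subgroup Ω} (hT : F.StronglyClosed T) :
    Mor (resSys hT) P f ↔ Mor F P f ∧ P ≤ T :=
  ⟨fun ⟨φ, hφ, e⟩ => ⟨⟨φ, hφ.1, e⟩, hφ.2⟩, fun ⟨⟨φ, hφ, e⟩, h⟩ => ⟨φ, ⟨hφ, h⟩, e⟩⟩

theorem rstr_order {A Q : Subgroup Ω} (hQA : Q ≤ A) (α : stabG F A Q) :
    orderOf (rstr hQA α) ∣ orderOf (α : MulAut A) := by
  rw [Subgroup.orderOf_coe]; exact orderOf_map_dvd _ _

namespace CL

variable (c : CL F Z θ F' N p) [Fact p.Prime] [Finite S]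
include c

/-- The class generated by the groups `A`. -/
def DC (P : Subgroup Ω) (f : Ω → Ω) : Prop :=
  ∀ C, Closed (resSys c.rsc) C →
    (∀ (Q : Subgroup Ω) (α : MulAut Q), Mem Z θ N Q → α ∈ A F θ N p Q → C Q (af α)) → C P f

theorem dc_closed : Closed (resSys c.rsc) c.DC where
  conj := fun hP hs _ hC _ => hC.conj hP hs
  congr := fun hf e h C hC hb => hC.congr hf e (h C hC hb)
  comp := fun hf hg m h h' C hC hb => hC.comp hf hg m (h C hC hb) (h' C hC hb)
  inv := fun hf hg e h C hC hb => hC.inv hf hg e (h C hC hb)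

/-- The lifted system. -/
def sys : FusionSystem (preimageAlong θ R') := systemOf c.dc_closed

theorem sys_sub : c.sys.IsSubsystemOf F := fun _ _ hφ => hφ.1.1

theorem sys_mk (hf : Mor F P f) (hP : P ≤ preimageAlong θ R') (h : c.DC P f) : Mor c.sys P f := by
  have hm : Mor (resSys c.rsc) P f := (resSys_mor c.rsc).mpr ⟨hf, hP⟩
  exact ⟨hm.hom, ⟨hm.hom_mem, c.dc_closed.congr hm (fun x hx => (extFun_apply hm.hom hx).symm) h⟩,
    fun _ => rfl⟩

theorem sys_ind {C : Subgroup Ω → (Ω → Ω) → Prop} (hC : Closed (resSys c.rsc) C)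
    (hb : ∀ (Q : Subgroup Ω) (α : MulAut Q), Mem Z θ N Q → α ∈ A F θ N p Q → C Q (af α))
    (hf : Mor c.sys P f) : C P f :=
  (systemOf_mor c.dc_closed hf).2 C hC hb

theorem sysF (hf : Mor c.sys P f) : Mor F P f :=
  ((resSys_mor c.rsc).mp (systemOf_mor c.dc_closed hf).1).1

theorem sysFi {f : Ω → Ω} (hf : Iso c.sys f P Q) : Iso F f P Q := ⟨c.sysF hf.mor, hf.bij⟩

theorem sys_gen (hQ : Mem Z θ N Q) {α : MulAut Q} (hα : α ∈ A F θ N p Q) :
    Iso c.sys (af α) Q Q := by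
  have h := autGroup_iso (hQ.2.1.trans c.rle) (c.a_le_aut hQ.2.1 hα)
  exact ⟨c.sys_mk h.mor hQ.2.1 fun C _ hb => hb Q α hQ hα, h.bij⟩

theorem finR : Finite ↥(preimageAlong θ R') := finite_of_le c.rle

theorem finR' : Finite R' := by haveI := c.finS'; exact finite_of_le c.r'le

/-- A map inducing an isomorphism of images of subgroups containing `Z` is an isomorphism. -/
theorem iso_of_img {H : Subgroup Ω} {E : FusionSystem H} (hf : Mor E P f) (hfF : Mor F P f)
    (hZP : Z ≤ P) (hZQ : Z ≤ Q) (hQ : Q ≤ S) {n : Ω' → Ω'} (hn : Img θ P f n)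
    (hnb : Set.BijOn n (imageAlong θ P) (imageAlong θ Q)) : Iso E f P Q := by
  refine ⟨hf, fun x hx => ?_, hf.injOn, fun y hy => ?_⟩
  · refine c.mem_of_img hZQ hQ (hfF.map_mem hx) ?_
    rw [← hn x hx]
    exact hnb.mapsTo (c.mem_img hfF.dom_le hx)
  · obtain ⟨v, hv, hve⟩ := hnb.surjOn (c.mem_img hQ hy)
    obtain ⟨x, hx, rfl⟩ := (mem_imageAlong (hP := hfF.dom_le)).mp hv
    rw [hn x hx] at hve
    have h1 := (extHom_eq_iff c.hk (hfF.map_mem hx) (hQ hy)).mp hve
    refine ⟨x * ((f x)⁻¹ * y), P.mul_mem hx (hZP h1), ?_⟩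
    rw [hfF.map_mul hx (hZP h1), c.fixZ hfF hZP h1, mul_inv_cancel_left]

/-- The maps of the lifted system induce maps of `N`. -/
theorem sys_img (hf : Mor c.sys P f) : ∃ n, Mor N (imageAlong θ P) n ∧ Img θ P f n := by
  have hR := c.rle
  refine c.sys_ind (C := fun P f => ∃ n, Mor N (imageAlong θ P) n ∧ Img θ P f n)
    ⟨fun {P s} hP hs => ?_, fun {P f g} _ e ⟨n, hn, en⟩ => ⟨n, hn, fun x hx => (en x hx).trans
      (congrArg _ (e x hx))⟩, ?_, ?_⟩ (fun Q α hQ hα => ?_) hf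
  · refine ⟨cj (extHom θ s), Mor.conj (c.img_le hP) (c.mem_R.mp hs).2, fun x hx => ?_⟩
    rw [extHom_cj θ (hR hs) (hR (hP hx))]
  · rintro P Q f g hf hg m ⟨n, hn, en⟩ ⟨n', hn', en'⟩
    have hfF := ((resSys_mor c.rsc).mp hf).1
    refine ⟨n' ∘ n, hn.comp hn' fun y hy => ?_, fun x hx => ?_⟩
    · obtain ⟨x, hx, rfl⟩ := (mem_imageAlong (hP := hfF.dom_le)).mp hy
      rw [en x hx]
      exact c.mem_img ((resSys_mor c.rsc).mp hg).1.dom_le (m x hx)
    · show n' (n _) = _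
      rw [en x hx, en' _ (m x hx)]; rfl
  · rintro P Q f g hf hg e ⟨n, hn, en⟩
    have hPS := hf.dom_le.trans hR
    have hQS := hf.cod_le.trans hR
    obtain ⟨k, hk, hkl, -⟩ := hn.toIso.exists_symm
    have hQn : imageAlong θ Q ≤ hn.img := fun y hy => by
      obtain ⟨v, hv, rfl⟩ := (mem_imageAlong (hP := hQS)).mp hy
      obtain ⟨x, hx, rfl⟩ := hf.surj hv
      exact hn.mem_img.mpr ⟨_, c.mem_img hPS hx, en x hx⟩
    refine ⟨k, hk.mor.restrict hQn, fun v hv => ?_⟩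
    obtain ⟨x, hx, rfl⟩ := hf.surj hv
    rw [e x hx, ← en x hx, hkl _ (c.mem_img hPS hx)]
  · obtain ⟨-, n, hn, en⟩ := c.a_le_x hQ.2.1 hα
    exact ⟨n, hn.mor, fun x hx => (en ⟨x, hx⟩).trans (congrArg _ (af_coe α ⟨x, hx⟩).symm)⟩

/-- Every map of `N` lifts to a map of the lifted system. -/
theorem liftN {P' : Subgroup Ω'} {n : Ω' → Ω'} (hn : Mor N P' n) :
    ∃ d, Mor c.sys (preimageAlong θ P') d ∧ Img θ (preimageAlong θ P') d n := by
  haveI := c.finR'
  have w := c.wctx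
  have key : ∀ {A' : Subgroup Ω'}, A' ≤ R' → preimageAlong θ A' ≤ preimageAlong θ R' :=
    fun h => c.pre_mono h
  refine mor_induction (C := fun P' n => ∃ d, Mor c.sys (preimageAlong θ P') d ∧
    Img θ (preimageAlong θ P') d n) w.hT w.hEsat
    ⟨fun {P' s} hP hs => ?_, fun {P' f g} _ e ⟨d, hd, ed⟩ => ⟨d, hd, fun x hx =>
      (e _ (mem_preimage_iff.mp hx).2).symm.trans (ed x hx)⟩, ?_, ?_⟩ ?_ P' n hn
  · obtain ⟨r, hr, rfl⟩ := exists_preimage c.hE c.r'le hs
    exact ⟨cj r, Mor.conj (key hP) hr, fun x hx =>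
      (extHom_cj θ (c.rle hr) ((mem_preimage_iff.mp hx).1)).symm⟩
  · rintro P' Q' f g hf hg m ⟨d, hd, ed⟩ ⟨d', hd', ed'⟩
    have m' : ∀ x ∈ preimageAlong θ P', d x ∈ preimageAlong θ Q' := fun x hx =>
      mem_preimage_iff.mpr ⟨(c.sysF hd).map_mem hx, by rw [← ed x hx]; exact m _ (mem_preimage_iff.mp hx).2⟩
    refine ⟨d' ∘ d, hd.comp hd' m', fun x hx => ?_⟩
    show g (f _) = _
    rw [ed x hx, ed' _ (m' x hx)]; rfl
  · rintro P' Q' f g hf hg e ⟨d, hd, ed⟩
    have hP'S := hf.dom_le.trans c.r'le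
    have hQ'S := hf.cod_le.trans c.r'le
    have hdi : Iso c.sys d (preimageAlong θ P') (preimageAlong θ Q') :=
      c.iso_of_img hd (c.sysF hd) (le_preimageAlong θ c.hk c.zle P') (le_preimageAlong θ c.hk c.zle Q')
        (preimageAlong_le θ) ed (by rw [c.img_pre hP'S, c.img_pre hQ'S]; exact hf.bij)
    obtain ⟨k, hk, hkl, -⟩ := hdi.exists_symm
    refine ⟨k, hk.mor, fun v hv => ?_⟩
    obtain ⟨x, hx, rfl⟩ := hdi.surj hv
    rw [hkl x hx, ← ed x hx, e _ (mem_preimage_iff.mp hx).2]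
  · intro R₀ hR₀ IH f hf
    haveI := finite_of_le hR₀.1
    haveI := finite_mulAut (G := R₀)
    have hR₀S := hR₀.1.trans c.r'le
    obtain ⟨hfc, -, hrec⟩ := IsSaturated_fullyNormalized w.hT w.hEsat hR₀
    by_cases hc : centralizerIn R' R₀ ≤ R₀
    swap
    · obtain ⟨z, hz, hzR⟩ := SetLike.not_le_iff_exists.mp hc
      obtain ⟨e, he, ee⟩ := (receptive_iff.mp hrec).2 R₀ f hf
      have hlt : R₀ < nphi R' R₀ f := lt_of_le_of_ne hf.mor.le_nphi fun h =>
        hzR (h ▸ centralizerIn_le_nphi hz)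
      haveI := finite_of_le he.dom_le
      obtain ⟨d, hd, ed⟩ := IH _ e he (card_lt_of_lt hlt)
      refine ⟨d, hd.restrict (c.pre_mono hlt.le), fun x hx => ?_⟩
      rw [← ee _ (mem_preimage_iff.mp hx).2]
      exact ed x (c.pre_mono hlt.le hx)
    have hcen : N.IsCentric R₀ := isCentric_of_fullyCentralized w.hT w.hEsat hfc hc
    set P := preimageAlong θ R₀
    have hPimg : imageAlong θ P = R₀ := c.img_pre hR₀S
    have hP : Mem Z θ N P := ⟨le_preimageAlong θ c.hk c.zle R₀, key hR₀.1, by rw [hPimg]; exact hcen⟩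
    haveI := finite_of_le (preimageAlong_le θ : P ≤ S)
    haveI := finite_mulAut (G := P)
    let G : Subgroup (N.autGroup R₀) :=
      { carrier := {ν | ∃ α ∈ A F θ N p P, ∀ (x : Ω) (hx : x ∈ P),
          ((((ν : MulAut R₀)) ⟨extHom θ x, (mem_preimage_iff.mp hx).2⟩ : R₀) : Ω') =
            extHom θ ((α ⟨x, hx⟩ : P) : Ω)}
        one_mem' := ⟨1, one_mem _, fun _ _ => rfl⟩
        mul_mem' := by
          rintro ν μ ⟨α, hα, eα⟩ ⟨β, hβ, eβ⟩
          refine ⟨α * β, mul_mem hα hβ, fun x hx => ?_⟩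
          rw [Subgroup.coe_mul, MulAut.mul_apply, MulAut.mul_apply]
          rw [show (μ : MulAut R₀) ⟨extHom θ x, (mem_preimage_iff.mp hx).2⟩ =
            ⟨extHom θ ((β ⟨x, hx⟩ : P) : Ω), (mem_preimage_iff.mp (β ⟨x, hx⟩).2).2⟩ from
              Subtype.ext (eβ x hx)]
          exact eα _ (β ⟨x, hx⟩).2
        inv_mem' := by
          rintro ν ⟨α, hα, eα⟩
          refine ⟨α⁻¹, inv_mem hα, fun x hx => ?_⟩
          have h := eα _ (α⁻¹ ⟨x, hx⟩).2
          rw [Subtype.coe_eta, MulAut.apply_inv_self] at h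
          rw [InvMemClass.coe_inv, show (⟨extHom θ x, (mem_preimage_iff.mp hx).2⟩ : R₀) =
            (ν : MulAut R₀) ⟨extHom θ ((α⁻¹ ⟨x, hx⟩ : P) : Ω),
              (mem_preimage_iff.mp (α⁻¹ ⟨x, hx⟩).2).2⟩ from Subtype.ext h.symm,
            MulAut.inv_apply_self] }
    have hG : G = ⊤ := by
      refine top_le_iff.mp ((autGroup_generated w.hT w.hEsat hR₀).symm.le.trans (sup_le ?_ ?_))
      · refine (Subgroup.closure_le _).mpr fun ν hν => ?_
        have hνi := autGroup_iso hR₀.1 ν.2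
        obtain ⟨d, l, hd, hl, hdl, ed⟩ := c.lift_pprime (w.subIso hνi) hν fun y hy => by
          have key : ∀ i, (extFun (R₀.subtype.comp (ν : MulAut R₀).toMonoidHom))^[i] y =
              (((((ν : MulAut R₀)) ^ i) ⟨y, hy⟩ : R₀) : Ω') := by
            intro i
            induction i with
            | zero => rfl
            | succ i ih => rw [Function.iterate_succ_apply', ih, pow_succ', MulAut.mul_apply]; exact extFun_coe _ _
          refine (key _).trans ?_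
          rw [← SubmonoidClass.coe_pow, pow_orderOf_eq_one]; rfl
        refine ⟨hd.equiv, c.pprime_mem_a ⟨hd.equiv_mem_autGroup, _, hPimg.symm ▸ hνi,
          fun x => ed x x.2⟩ (Nat.Coprime.coprime_dvd_left (orderOf_dvd_of_pow_eq_one
            (MulEquiv.ext fun x => Subtype.ext (by rw [equiv_pow_apply hd l x, hdl x x.2]; rfl))) hl),
          fun x hx => ?_⟩
        exact (extFun_coe _ ⟨extHom θ x, _⟩).symm.trans (ed x hx)
      · intro ν hν
        obtain ⟨r', hr', hrn', er⟩ := indIff.mp (show (ν : MulAut R₀) ∈ autInducedBy R' R₀ from hν)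
        obtain ⟨r, hr, rfl⟩ := exists_preimage c.hE c.r'le hr'
        have hrS := c.rle hr
        have hrn : r ∈ Subgroup.normalizer (P : Set Ω) := by
          refine (normalizer_image c.hk c.zle hP.1 (preimageAlong_le θ) hrS).mp ?_
          rw [hPimg]; exact hrn'
        refine ⟨actHom (preimageAlong θ R') P ⟨r, hr, hrn⟩,
          c.induced_mem_a hP.2.1 ((range_actHom _ _).le ⟨_, rfl⟩), fun x hx => ?_⟩
        rw [← er]
        show cj (extHom θ r) (extHom θ x) = extHom θ (cj r x)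
        rw [extHom_cj θ hrS (preimageAlong_le θ hx)]
    obtain ⟨α, hα, eα⟩ : (⟨hf.equiv, hf.equiv_mem_autGroup⟩ : N.autGroup R₀) ∈ G := hG ▸ Subgroup.mem_top _
    refine ⟨af α, (c.sys_gen hP hα).mor, fun x hx => ?_⟩
    rw [af_apply α hx]
    exact eα x hx

/-- An automorphism in `A` stabilising a smaller member restricts into `A`. -/
theorem a_restrict (hM : Mem Z θ N M) (hP : Mem Z θ N P) (hPM : P ≤ M) {α : MulAut M}
    (hα : α ∈ A F θ N p M) (hs : ∀ x : M, (x : Ω) ∈ P → ((α x : M) : Ω) ∈ P) :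
    ∃ β ∈ A F θ N p P, ∀ x : P, ((β x : P) : Ω) = ((α ⟨x, hPM x.2⟩ : M) : Ω) := by
  have hMS := hM.2.1.trans c.rle
  haveI := finite_of_le hMS
  haveI := finite_of_le (hPM.trans hMS)
  haveI := finite_mulAut (G := M)
  haveI := finite_mulAut (G := P)
  have hαG : α ∈ stabG F M P := by
    obtain ⟨f, hf, ef⟩ := (mem_autGroup_iff hMS).mp (c.a_le_aut hM.2.1 hα)
    exact mem_stabG_of_iso hf hPM (fun x hx => by rw [ef ⟨x, hPM hx⟩]; exact hs _ hx) |> fun h => by
      rwa [show (hf.equiv : MulAut M) = α from MulEquiv.ext fun z => Subtype.ext (ef z)] at h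
  suffices h : rstr hPM ⟨α, hαG⟩ ∈ A F θ N p P from ⟨_, h, fun x => rstr_val hPM ⟨α, hαG⟩ x⟩
  have hX : ∀ a : stabG F M P, (a : MulAut M) ∈ X F θ N M → rstr hPM a ∈ X F θ N P := by
    rintro a ⟨-, n, hn, en⟩
    haveI := c.finR'
    haveI := finite_of_le (c.img_le hP.2.1)
    refine ⟨rstr_mem hMS hPM a, n,
      (hn.mor.restrict (c.img_mono hPM hMS)).iso_of_card (fun y hy => ?_) le_rfl, fun x => ?_⟩
    · obtain ⟨x, hx, rfl⟩ := (mem_imageAlong (hP := hPM.trans hMS)).mp hy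
      rw [en ⟨x, hPM hx⟩, ← rstr_val hPM a ⟨x, hx⟩]
      exact c.mem_img (hPM.trans hMS) (SetLike.coe_mem _)
    · rw [rstr_val]; exact en ⟨x, hPM x.2⟩
  set G : Subgroup (stabG F M P) := (A F θ N p M).subgroupOf (stabG F M P)
  obtain ⟨a, b, hab, ha, hb, ⟨k, hk⟩, hbo⟩ := split (p := p) (⟨α, hαG⟩ : stabG F M P)
  have haA : (a : MulAut M) ∈ A F θ N p M :=
    (Subgroup.zpowers_le.mpr (show (⟨α, hαG⟩ : stabG F M P) ∈ G from hα) ha : a ∈ G)
  have hbA : (b : MulAut M) ∈ A F θ N p M :=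
    (Subgroup.zpowers_le.mpr (show (⟨α, hαG⟩ : stabG F M P) ∈ G from hα) hb : b ∈ G)
  rw [hab, map_mul]
  refine mul_mem ?_ (c.pprime_mem_a (hX b (c.a_le_x hM.2.1 hbA))
    (Nat.Coprime.coprime_dvd_left (orderOf_map_dvd _ b) hbo))
  -- the `p`-part
  obtain ⟨M₁, hconj, hn⟩ := exists_fullyNormalized (F := F) hMS
  obtain ⟨u, hu⟩ := isConj_iff.mp hconj
  haveI := finite_of_le hn.1
  haveI := finite_mulAut (G := M₁)
  set t := hu.transport (a : MulAut M)
  have htp : IsPGroup p (Subgroup.zpowers t) := by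
    refine IsPGroup.of_card (n := k) ?_
    rw [Nat.card_zpowers, MulEquiv.orderOf_eq, Subgroup.orderOf_coe, hk]
  obtain ⟨q, hq, hqS⟩ := exists_conj_into (IsSaturated_fullyNormalized c.hS c.hF hn).2.1 htp
    (Subgroup.zpowers_le.mpr (hu.transport_mem a.2.1))
  obtain ⟨qf, hqf, eq⟩ := (mem_autGroup_iff hn.1).mp hq
  set v := qf ∘ u
  have hv : Iso F v M M₁ := hu.comp hqf
  have hvt : hv.transport (a : MulAut M) = q * t * q⁻¹ := MulEquiv.ext fun y => Subtype.ext (by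
    obtain ⟨x, hx, hxy⟩ := hv.surj y.2
    rw [show y = ⟨v x, hv.mapsTo hx⟩ from Subtype.ext hxy.symm, hv.transport_val _ hx,
      show (⟨v x, hv.mapsTo hx⟩ : M₁) = q ⟨u x, hu.mapsTo hx⟩ from Subtype.ext (eq ⟨u x, hu.mapsTo hx⟩),
      MulAut.mul_apply, MulAut.mul_apply, MulAut.inv_apply_self, ← eq, hu.transport_val _ hx]
    rfl)
  have htA : hv.transport (a : MulAut M) ∈ A F θ N p M₁ := c.a_transport hM hv haA
  have htS : hv.transport (a : MulAut M) ∈ autInducedBy S M₁ := by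
    rw [hvt]; exact hqS t (Subgroup.mem_zpowers t)
  have hM₁ : Mem Z θ N M₁ := c.mem_conj hM hv
  obtain ⟨β, hβ, hβK⟩ := c.sylow_split hM₁ hn (c.a_le_x hM₁.2.1 htA) htS
  have hI := c.a_inter_k hM₁ (mul_mem (inv_mem (c.induced_mem_a hM₁.2.1 hβ)) htA) hβK
  have htR : hv.transport (a : MulAut M) ∈ autInducedBy (preimageAlong θ R') M₁ := by
    have := mul_mem hβ (autInducedBy_mono hM₁.2.1 M₁ ((inn_eq_autInducedBy M₁).le hI))
    rwa [mul_inv_cancel_left] at this
  obtain ⟨r, hr, -, er⟩ := indIff.mp htR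
  refine Subgroup.subset_closure ⟨hX a (c.a_le_x hM.2.1 haA), Or.inr ⟨_, v, hv.restrict hPM, ?_⟩⟩
  set hW := hv.restrict hPM
  have hval : ∀ x (hx : x ∈ P), cj r (v x) = v ((rstr hPM a ⟨x, hx⟩ : P) : Ω) := fun x hx => by
    have h := er ⟨v x, hv.mapsTo (hPM hx)⟩
    rw [hv.transport_val _ (hPM hx)] at h
    rw [rstr_val]; exact h
  haveI := finite_of_le hW.cod_le
  refine indIff.mpr ⟨r, hr, Subgroup.mem_normalizer_fintype fun y hy => ?_, fun y => ?_⟩
  · obtain ⟨x, hx, rfl⟩ := hW.surj hy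
    show cj r (v x) ∈ _
    rw [hval x hx]; exact hW.mapsTo (SetLike.coe_mem _)
  · obtain ⟨x, hx, hxy⟩ := hW.surj y.2
    rw [show y = ⟨v x, hW.mapsTo hx⟩ from Subtype.ext hxy.symm, hW.transport_val _ hx, hval x hx]

/-- An inner automorphism of a member lying over the identity. -/
theorem k_center (hP : Mem Z θ N P) (hPW : P ≤ W) (hW : W ≤ preimageAlong θ R') {w : Ω} (hw : w ∈ W)
    (h : ∀ x ∈ P, extHom θ (cj w x) = extHom θ x) : w ∈ P := by
  have hPS := hP.2.1.trans c.rle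
  have hwS := c.rle (hW hw)
  refine c.mem_of_img hP.1 hPS hwS (hP.2.2.2 _ (isConj_refl (c.img_le hP.2.1))
    ⟨(c.mem_R.mp (hW hw)).2, fun y hy => ?_⟩)
  obtain ⟨x, hx, rfl⟩ := (mem_imageAlong (hP := hPS)).mp hy
  have h1 := h x hx
  rw [extHom_cj θ hwS (hPS hx)] at h1
  exact (mul_inv_eq_iff_eq_mul.mp h1).symm

/-- Automorphisms of members in the lifted system lie in `A`. -/
theorem sys_aut : ∀ P, Mem Z θ N P → ∀ f, Iso c.sys f P P →
    ∃ α ∈ A F θ N p P, ∀ x : P, ((α x : P) : Ω) = f x := by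
  haveI := c.finR'
  haveI := c.finR
  haveI := c.finS'
  have w := c.wctx
  have hR := c.rle
  have hRp : IsPGroup p ↥(preimageAlong θ R') := c.hS.to_le hR
  intro P
  induction hd : Nat.card S - Nat.card P using Nat.strong_induction_on generalizing P with
  | _ d IH =>
  intro hP₀ f₀ hf₀
  obtain ⟨P₁', hconj', hn'⟩ := exists_fullyNormalized (F := N) (c.img_le hP₀.2.1)
  obtain ⟨b, hb⟩ := isConj_iff.mp hconj'
  obtain ⟨u, hu0, eu⟩ := c.liftN hb.mor
  rw [c.pre_img hP₀.1 (hP₀.2.1.trans hR)] at hu0 eu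
  set P₁ := preimageAlong θ P₁'
  have hP₁img : imageAlong θ P₁ = P₁' := c.img_pre (hn'.1.trans c.r'le)
  have hu : Iso c.sys u P P₁ := c.iso_of_img hu0 (c.sysF hu0) hP₀.1
    (le_preimageAlong θ c.hk c.zle P₁') (preimageAlong_le θ) eu (by rw [hP₁img]; exact hb.bij)
  suffices main : ∀ f, Iso c.sys f P₁ P₁ → ∃ α ∈ A F θ N p P₁, ∀ x : P₁, ((α x : P₁) : Ω) = f x by
    obtain ⟨u', hu', hl, -⟩ := hu.exists_symm
    obtain ⟨α, hα, eα⟩ := main _ ((hu'.comp hf₀).comp hu)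
    have huF := c.sysFi hu'
    refine ⟨_, c.a_transport (c.mem_conj hP₀ (c.sysFi hu)) huF hα, fun x => ?_⟩
    have h := huF.transport_val α (hu.mapsTo x.2)
    simp only [hl _ x.2] at h
    refine h.trans ?_
    rw [eα ⟨u x, hu.mapsTo x.2⟩]
    show u' (u (f₀ (u' (u x)))) = f₀ x
    rw [hl x x.2, hl _ (hf₀.mapsTo x.2)]
  rw [(c.sysFi hu).card_eq] at hd
  have hP : Mem Z θ N P₁ := c.mem_conj hP₀ (c.sysFi hu)
  have hn : N.IsFullyNormalized (imageAlong θ P₁) := hP₁img.symm ▸ hn'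
  clear hu hu0 eu hb hconj' hf₀ f₀ hP₀ hP₁img hn'
  clear_value P₁
  clear u b P₁' P
  rename' P₁ => P
  have hPR := hP.2.1
  have hPS := hPR.trans hR
  haveI := finite_of_le hPS
  set P' := imageAlong θ P with hP'
  have hP'R : P' ≤ R' := c.img_le hPR
  rcases hPR.eq_or_lt with htop | hlt
  · intro f hf
    refine c.sys_ind (C := fun A' f => A' = P → ∃ α ∈ A F θ N p P, ∀ x : P, ((α x : P) : Ω) = f x)
      ⟨fun {A' s} _ hs hA => ?_, fun {A' f g} _ e h hA => ?_, ?_, ?_⟩ ?_ hf.mor rfl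
    · have hsP : s ∈ P := by rw [htop]; exact hs
      exact ⟨actHom (preimageAlong θ R') P ⟨s, hs, Subgroup.le_normalizer hsP⟩,
        c.induced_mem_a hPR ((range_actHom _ _).le ⟨_, rfl⟩), fun _ => rfl⟩
    · obtain ⟨α, hα, eα⟩ := h hA
      exact ⟨α, hα, fun x => (eα x).trans (e x (hA ▸ x.2))⟩
    · intro A' B f g hf hg m h h' hA
      subst hA
      obtain ⟨α, hα, eα⟩ := h rfl
      have hB : B = A' := by
        refine le_antisymm (hg.dom_le.trans htop.ge) fun x hx => ?_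
        obtain ⟨v, hv⟩ := α.surjective ⟨x, hx⟩
        have := m v v.2
        rwa [← eα v, hv] at this
      obtain ⟨β, hβ, eβ⟩ := h' hB
      refine ⟨β * α, mul_mem hβ hα, fun x => ?_⟩
      rw [MulAut.mul_apply, eβ, eα]; rfl
    · intro A' B f g hf₁ hg₁ e h hB
      subst hB
      have hA : A' = B := eq_of_le_of_card (hf₁.mor.dom_le.trans htop.ge) hf₁.card_eq.ge
      subst hA
      obtain ⟨α, hα, eα⟩ := h rfl
      refine ⟨α⁻¹, inv_mem hα, fun x => ?_⟩
      obtain ⟨v, rfl⟩ : ∃ v, α v = x := ⟨_, MulAut.apply_inv_self _ _ x⟩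
      rw [MulAut.inv_apply_self, eα v, e v v.2]
    · intro Q α hQ hα hQP
      subst hQP
      exact ⟨α, hα, fun x => (af_coe α x).symm⟩
  -- below the top: automorphisms of strictly larger members
  have big : ∀ M, Mem Z θ N M → Nat.card P < Nat.card M → ∀ f, Iso c.sys f M M →
      ∃ α ∈ A F θ N p M, ∀ x : M, ((α x : M) : Ω) = f x := fun M hM hc => by
    refine IH _ ?_ M rfl hM
    have := card_le_of_le (hM.2.1.trans hR)
    omega
  -- maps of larger subgroups of the normalizer stabilising `P`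
  have key : ∀ W, P < W → W ≤ normalizerIn (preimageAlong θ R') P → ∀ h, Mor c.sys W h →
      (∀ x ∈ P, h x ∈ P) → ∃ γ ∈ A F θ N p P, ∀ x : P, ((γ x : P) : Ω) = h x := by
    intro W hPW hWN h hh hhP
    have hWR : W ≤ preimageAlong θ R' := hWN.trans normalizerIn_le
    have hWS := hWR.trans hR
    haveI := finite_of_le hWS
    have hWm : Mem Z θ N W := c.mem_mono hP hPW.le hWR
    obtain ⟨NP, hNP⟩ := exists_normalizerSystem N P' hP'R
    have hNPs := normalizerSystem_saturated w.hT w.hEsat hn hNP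
    have hstab : ∀ {A' : Subgroup Ω'} {n : Ω' → Ω'}, Mor NP A' n → P' ≤ A' → n '' (P' : Set Ω') = P' := by
      intro A' n ⟨φ, hφ, e⟩ hle
      rw [hNP A'] at hφ
      obtain ⟨-, -, -, hst⟩ := hφ
      obtain ⟨g, -, eg, mg⟩ := (stabExt_iff (φ := φ)).mp hst
      refine Eq.trans (Set.image_congr fun y hy => ?_) mg
      rw [eg ⟨y, hle hy⟩, e ⟨y, hle hy⟩]
    have hNT : IsPGroup p ↥(normalizerIn R' P') := w.hT.to_le normalizerIn_le
    haveI := finite_of_le (normalizerIn_le : normalizerIn R' P' ≤ R')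
    haveI := finite_of_le hP'R
    have c3 : ∀ A' n, Mor NP A' n → P' < A' → ∃ d, Mor c.sys (preimageAlong θ A') d ∧
        Img θ (preimageAlong θ A') d n ∧ ∃ γ ∈ A F θ N p P, ∀ x : P, ((γ x : P) : Ω) = d x := by
      have hsub : ∀ {A' : Subgroup Ω'}, P' ≤ A' → P ≤ preimageAlong θ A' := fun h x hx =>
        mem_preimage_iff.mpr ⟨hPS hx, h (c.mem_img hPS hx)⟩
      refine mor_induction hNT hNPs ⟨fun {A' s} hA hs _ => ?_,
        fun {A' f g} _ e h hlt => ?_, ?_, ?_⟩ ?_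
      · obtain ⟨r, hr, rfl⟩ := exists_preimage c.hE c.r'le hs.1
        have hrn : r ∈ Subgroup.normalizer (P : Set Ω) :=
          (normalizer_image c.hk c.zle hP.1 hPS (hR hr)).mp hs.2
        exact ⟨cj r, Mor.conj (c.pre_mono (hA.trans normalizerIn_le)) hr,
          fun x hx => (extHom_cj θ (hR hr) ((mem_preimage_iff.mp hx).1)).symm,
          actHom (preimageAlong θ R') P ⟨r, hr, hrn⟩,
          c.induced_mem_a hPR ((range_actHom _ _).le ⟨_, rfl⟩), fun _ => rfl⟩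
      · obtain ⟨d, hd, ed, hγ⟩ := h hlt
        exact ⟨d, hd, fun x hx => (e _ (mem_preimage_iff.mp hx).2).symm.trans (ed x hx), hγ⟩
      · intro A' B f g hf hg m h h' hlt
        obtain ⟨d, hd, ed, α, hα, eα⟩ := h hlt
        haveI := finite_of_le hg.dom_le
        have hPB : P' ≤ B := fun y hy => by
          obtain ⟨v, hv, rfl⟩ := (hstab hf hlt.le).ge hy
          exact m v (hlt.le hv)
        have hlt' : P' < B := lt_of_le_of_ne hPB fun eB => by
          haveI := finite_of_le hf.dom_le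
          have := card_lt_of_lt hlt
          have h2 := hf.card_le (Q := B) m
          rw [← eB] at h2
          omega
        obtain ⟨d', hd', ed', β, hβ, eβ⟩ := h' hlt'
        have m' : ∀ x ∈ preimageAlong θ A', d x ∈ preimageAlong θ B := fun x hx =>
          mem_preimage_iff.mpr ⟨(c.sysF hd).map_mem hx, by
            rw [← ed x hx]; exact m _ (mem_preimage_iff.mp hx).2⟩
        refine ⟨d' ∘ d, hd.comp hd' m', fun x hx => ?_, β * α, mul_mem hβ hα, fun x => ?_⟩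
        · show g (f _) = _
          rw [ed x hx, ed' _ (m' x hx)]; rfl
        · rw [MulAut.mul_apply, eβ, eα]; rfl
      · intro A' B f g hf hg e h hltB
        haveI := finite_of_le hf.dom_le
        have hPA : P' ≤ A' := fun y hy => by
          obtain ⟨v, hv, rfl⟩ := (hstab hg.mor hltB.le).ge hy
          exact hg.mapsTo (hltB.le hv)
        have hlt : P' < A' := lt_of_le_of_ne hPA fun eA => by
          haveI := finite_of_le hf.cod_le
          have := card_lt_of_lt hltB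
          rw [← hf.card_eq, ← eA] at this
          exact lt_irrefl _ this
        obtain ⟨d, hd, ed, α, hα, eα⟩ := h hlt
        have hA'S := hf.dom_le.trans (normalizerIn_le.trans c.r'le)
        have hBS := hf.cod_le.trans (normalizerIn_le.trans c.r'le)
        have hdi : Iso c.sys d (preimageAlong θ A') (preimageAlong θ B) :=
          c.iso_of_img hd (c.sysF hd) (le_preimageAlong θ c.hk c.zle A') (le_preimageAlong θ c.hk c.zle B)
            (preimageAlong_le θ) ed (by rw [c.img_pre hA'S, c.img_pre hBS]; exact hf.bij)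
        obtain ⟨k, hk, hkl, -⟩ := hdi.exists_symm
        refine ⟨k, hk.mor, fun v hv => ?_, α⁻¹, inv_mem hα, fun x => ?_⟩
        · obtain ⟨x, hx, rfl⟩ := hdi.surj hv
          rw [hkl x hx, ← ed x hx, e _ (mem_preimage_iff.mp hx).2]
        · obtain ⟨v, rfl⟩ : ∃ v, α v = x := ⟨_, MulAut.apply_inv_self _ _ x⟩
          rw [MulAut.inv_apply_self, eα v, hkl v (hsub hPA v.2)]
      · intro R₀ _ _ f hf hlt
        have hNP' := normalizerSystem_mor hNP hf.mor
        have hR₀R : R₀ ≤ R' := hNP'.2.1.trans normalizerIn_le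
        have hR₀S := hR₀R.trans c.r'le
        obtain ⟨d, hd, ed⟩ := c.liftN hNP'.1
        set M := preimageAlong θ R₀
        have hMimg : imageAlong θ M = R₀ := c.img_pre hR₀S
        have hdi : Iso c.sys d M M := c.iso_of_img hd (c.sysF hd)
          (le_preimageAlong θ c.hk c.zle R₀) (le_preimageAlong θ c.hk c.zle R₀) (preimageAlong_le θ) ed
          (by rw [hMimg]; exact hf.bij)
        have hPM : P ≤ M := hsub hlt.le
        have hMm : Mem Z θ N M := c.mem_mono hP hPM (c.pre_mono hR₀R)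
        have hPM' : P < M := lt_of_le_of_ne hPM fun e => by
          apply hlt.ne
          rw [hP', e, hMimg]
        haveI := finite_of_le (preimageAlong_le θ : M ≤ S)
        obtain ⟨α, hα, eα⟩ := big M hMm (card_lt_of_lt hPM') d hdi
        obtain ⟨β, hβ, eβ⟩ := c.a_restrict hMm hP hPM hα fun x hx => by
          rw [eα x]
          refine c.mem_of_img hP.1 hPS ((c.sysF hd).map_mem x.2) ?_
          rw [← ed x x.2]
          exact (hstab hf.mor hlt.le).le ⟨_, c.mem_img hPS hx, rfl⟩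
        exact ⟨d, hd, ed, β, hβ, fun x => (eβ x).trans (eα _)⟩
    obtain ⟨n, hn0, en⟩ := c.sys_img hh
    set W' := imageAlong θ W
    have hPW' : P' < W' := c.img_lt hP.1 hPW hWS
    have hW'N : W' ≤ normalizerIn R' P' := fun y hy => by
      obtain ⟨x, hx, rfl⟩ := (mem_imageAlong (hP := hWS)).mp hy
      exact ⟨c.img_le hWR (c.mem_img hWS hx),
        (normalizer_image c.hk c.zle hP.1 hPS (hWS hx)).mpr (hWN hx).2⟩
    haveI := finite_of_le hn0.dom_le
    have hnP : Iso N n P' P' := (hn0.restrict hPW'.le).iso_of_card (fun y hy => by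
      obtain ⟨x, hx, rfl⟩ := (mem_imageAlong (hP := hPS)).mp hy
      rw [en x (hPW.le hx)]
      exact c.mem_img hPS (hhP x hx)) le_rfl
    have hnNP : Mor NP W' n := by
      refine ⟨hn0.hom, ?_, fun _ => rfl⟩
      rw [hNP W']
      exact ⟨hn0.hom_mem, hW'N, fun x => hnP.map_normalizer hn0 hPW'.le (fun _ _ => rfl) x.2 (hW'N x.2).2,
        (stabExt_iff (φ := hn0.hom)).mpr
          ⟨n, hn0.restrict (sup_le le_rfl hPW'.le), fun x => rfl, hnP.bij.image_eq⟩⟩
    obtain ⟨d, hd, ed, α, hα, eα⟩ := c3 W' n hnNP hPW'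
    rw [c.pre_img hWm.1 hWS] at hd ed
    set V := preimageAlong θ hn0.img
    have hVimg : imageAlong θ V = hn0.img := c.img_pre (hn0.toIso.cod_le.trans c.r'le)
    have hV : Z ≤ V := le_preimageAlong θ c.hk c.zle _
    have hdi : Iso c.sys d W V := c.iso_of_img hd (c.sysF hd) hWm.1 hV (preimageAlong_le θ) ed
      (by rw [hVimg]; exact hn0.toIso.bij)
    have hhi : Iso c.sys h W V := c.iso_of_img hh (c.sysF hh) hWm.1 hV (preimageAlong_le θ) en
      (by rw [hVimg]; exact hn0.toIso.bij)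
    obtain ⟨k, hk, hkl, hkr⟩ := hdi.exists_symm
    obtain ⟨ω, hω, eω⟩ := big W hWm (card_lt_of_lt hPW) _ (hhi.comp hk)
    have hωK : ω ∈ K F θ W := by
      refine ⟨c.a_le_aut hWR hω, fun x => ?_⟩
      have hm : k (h x) ∈ W := hk.mapsTo (hhi.mapsTo x.2)
      have h1 : n (extHom θ (k (h x))) = n (extHom θ (x : Ω)) := by
        rw [ed _ hm, hkr _ (hhi.mapsTo x.2), en x x.2]
      rw [eω]
      exact hn0.injOn (c.mem_img hWS hm) (c.mem_img hWS x.2) h1
    have hωI := c.a_inter_k hWm hω hωK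
    rw [inn_eq_autInducedBy, indIff] at hωI
    obtain ⟨z, hz, -, ez⟩ := hωI
    have hzP : z ∈ P := c.k_center hP hPW.le hWR hz fun x hx => by
      rw [ez ⟨x, hPW.le hx⟩]; exact hωK.2 ⟨x, hPW.le hx⟩
    refine ⟨α * actHom (preimageAlong θ R') P ⟨z, hPR hzP, Subgroup.le_normalizer hzP⟩,
      mul_mem hα (c.induced_mem_a hPR ((range_actHom _ _).le ⟨_, rfl⟩)), fun x => ?_⟩
    rw [MulAut.mul_apply, eα]
    show d (cj z x) = h x
    rw [ez ⟨x, hPW.le x.2⟩, eω]
    exact hkr _ (hhi.mapsTo (hPW.le x.2))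
  -- the class of `P`
  let InC : Subgroup Ω → Prop := fun M => Mem Z θ N M ∧ ∃ b, Iso N b (imageAlong θ M) P'
  let RM : Subgroup Ω → (Ω → Ω) → Prop := fun M e =>
    Mor c.sys (normalizerIn (preimageAlong θ R') M) e ∧ Iso F e M P
  have hcls : ∀ {M M' : Subgroup Ω} {f : Ω → Ω}, InC M → Mor c.sys M f → Iso F f M M' → InC M' := by
    rintro M M' f ⟨hM, b, hb⟩ hf hfi
    refine ⟨c.mem_conj hM hfi, ?_⟩
    obtain ⟨n, hn0, en⟩ := c.sys_img hf
    have hni : Iso N n (imageAlong θ M) (imageAlong θ M') := by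
      refine ⟨hn0, fun y hy => ?_, hn0.injOn, fun y hy => ?_⟩
      · obtain ⟨x, hx, rfl⟩ := (mem_imageAlong (hP := hfi.dom_le)).mp hy
        rw [en x hx]; exact c.mem_img hfi.cod_le (hfi.mapsTo hx)
      · obtain ⟨v, hv, rfl⟩ := (mem_imageAlong (hP := hfi.cod_le)).mp hy
        obtain ⟨x, hx, rfl⟩ := hfi.surj hv
        exact ⟨_, c.mem_img hfi.dom_le hx, en x hx⟩
    obtain ⟨n', hn', -⟩ := hni.exists_symm
    exact ⟨_, hn'.comp hb⟩
  have hex : ∀ {M : Subgroup Ω}, InC M → ∃ e, RM M e := by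
    rintro M ⟨hM, b, hb⟩
    have hMS := hM.2.1.trans hR
    obtain ⟨-, a, -, ha, -, -, haP⟩ := exists_map_to_fullyNormalized w.hT w.hEsat hb hn
    obtain ⟨e, he, ee⟩ := c.liftN ha
    have hle : normalizerIn (preimageAlong θ R') M ≤ preimageAlong θ (normalizerIn R' (imageAlong θ M)) :=
      fun x hx => mem_preimage_iff.mpr ⟨hR hx.1, (c.mem_R.mp hx.1).2,
        (normalizer_image c.hk c.zle hM.1 hMS (hR hx.1)).mpr hx.2⟩
    have he' := he.restrict hle
    exact ⟨e, he', c.iso_of_img (c.sysF (he'.restrict (le_normalizerIn hM.2.1)))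
      (c.sysF (he'.restrict (le_normalizerIn hM.2.1))) hM.1 hP.1 hPS
      (fun x hx => ee x (hle (le_normalizerIn hM.2.1 hx))) haP.bij⟩
  have step : ∀ {A' : Subgroup Ω} {f : Ω → Ω} {M M' : Subgroup Ω} {e e' : Ω → Ω}, Mor c.sys A' f →
      M < A' → Iso F f M M' → RM M e → RM M' e' →
      ∃ γ ∈ A F θ N p P, ∀ x ∈ M, af γ (e x) = e' (f x) := by
    intro A' f M M' e e' hf hlt hfi he he'
    have hA'R := hf.dom_le
    haveI := finite_of_le hA'R
    have hMW0 : M < normalizerIn A' M := lt_normalizerIn (hRp.to_le hA'R) hlt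
    have hW0 : normalizerIn A' M ≤ normalizerIn (preimageAlong θ R') M := fun x hx => ⟨hA'R hx.1, hx.2⟩
    have he0 := he.1.restrict hW0
    set W := he0.img with hWdef
    obtain ⟨k, hk, hkl, -⟩ := he0.toIso.exists_symm
    have hPW : P ≤ W := fun y hy => by
      obtain ⟨x, hx, rfl⟩ := he.2.surj hy
      exact he0.mem_img.mpr ⟨x, hMW0.le hx, rfl⟩
    have hWR : W ≤ preimageAlong θ R' := he0.toIso.cod_le
    haveI := finite_of_le hWR
    have hPW' : P < W := lt_of_le_of_ne hPW fun eq => by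
      haveI := finite_of_le (normalizerIn_le.trans hA'R : normalizerIn A' M ≤ _)
      have := card_lt_of_lt hMW0
      rw [he.2.card_eq, he0.toIso.card_eq, ← hWdef, ← eq] at this
      exact lt_irrefl _ this
    have hWN : W ≤ normalizerIn (preimageAlong θ R') P := fun y hy => by
      obtain ⟨x, hx, rfl⟩ := he0.mem_img.mp hy
      exact ⟨hWR hy, (he.2.map_normalizer (c.sysF he.1) (le_normalizerIn (he.2.dom_le |> fun _ =>
        (hMW0.le.trans hW0).trans normalizerIn_le)) (fun _ _ => rfl) (hW0 hx) hx.2).2⟩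
    have hfm : ∀ x ∈ normalizerIn A' M, f x ∈ normalizerIn (preimageAlong θ R') M' := fun x hx =>
      ⟨hf.map_mem hx.1, (hfi.map_normalizer (c.sysF hf) hlt.le (fun _ _ => rfl) hx.1 hx.2).2⟩
    have hh : Mor c.sys W (e' ∘ f ∘ k) := (hk.mor.comp ((hf.restrict inf_le_left).comp he'.1 hfm)
      fun y hy => hk.mapsTo hy).congr fun _ _ => rfl
    obtain ⟨γ, hγ, eγ⟩ := key W hPW' hWN _ hh fun y hy => by
      obtain ⟨x, hx, rfl⟩ := he.2.surj hy
      show e' (f (k (e x))) ∈ P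
      rw [hkl x (hMW0.le hx)]
      exact he'.2.mapsTo (hfi.mapsTo hx)
    refine ⟨γ, hγ, fun x hx => ?_⟩
    rw [af_apply γ (he.2.mapsTo hx), eγ ⟨e x, he.2.mapsTo hx⟩]
    show e' (f (k (e x))) = _
    rw [hkl x (hMW0.le hx)]
  have hltR : ∀ {M : Subgroup Ω} {e : Ω → Ω}, InC M → RM M e → M < preimageAlong θ R' := by
    intro M e hM he
    refine lt_of_le_of_ne hM.1.2.1 fun eq => ?_
    have := card_lt_of_lt hlt
    rw [← he.2.card_eq, eq] at this
    exact lt_irrefl _ this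
  intro f hf
  let C4 : Subgroup Ω → (Ω → Ω) → Prop := fun A' f => ∀ M M', M ≤ A' → InC M → Mor c.sys M f →
    Iso F f M M' → ∀ e e', RM M e → RM M' e' → ∃ γ ∈ A F θ N p P, ∀ x ∈ M, af γ (e x) = e' (f x)
  have hC4 : Closed (resSys c.rsc) (fun A' f => Mor c.sys A' f ∧ C4 A' f) := by
    refine ⟨fun {A' s} hA hs => ⟨Mor.conj hA hs, ?_⟩, fun {A' f g} _ e h => ⟨h.1.congr e, ?_⟩, ?_, ?_⟩
    · intro M M' hMA hM _ hi e e' he he'
      exact step (Mor.conj le_rfl hs) (hltR hM he) hi he he'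
    · intro M M' hMA hM hm hi e₁ e' he he'
      obtain ⟨γ, hγ, eγ⟩ := h.2 M M' hMA hM (hm.congr fun x hx => (e x (hMA hx)).symm)
        (hi.congr fun x hx => (e x (hMA hx)).symm) e₁ e' he he'
      exact ⟨γ, hγ, fun x hx => by rw [eγ x hx, e x (hMA hx)]⟩
    · intro A' B f g hf hg m h h'
      refine ⟨h.1.comp h'.1 m, fun M M' hMA hM hm hi e e' he he' => ?_⟩
      have hfM := (c.sysF (h.1.restrict hMA)).toIso
      set M₂ := (c.sysF (h.1.restrict hMA)).img
      have hle : M₂ ≤ B := fun y hy => by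
        obtain ⟨x, hx, rfl⟩ := hfM.surj hy; exact m x (hMA hx)
      have hM₂ := hcls hM (h.1.restrict hMA) hfM
      haveI := finite_of_le hfM.cod_le
      haveI := finite_of_le hi.cod_le
      have hgi : Iso F g M₂ M' := (c.sysF (h'.1.restrict hle)).iso_of_card (fun y hy => by
        obtain ⟨x, hx, rfl⟩ := hfM.surj hy; exact hi.mapsTo hx) (hi.card_eq.symm.trans hfM.card_eq).le
      obtain ⟨e₂, he₂⟩ := hex hM₂
      obtain ⟨γ, hγ, eγ⟩ := h.2 M M₂ hMA hM (h.1.restrict hMA) hfM e e₂ he he₂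
      obtain ⟨δ, hδ, eδ⟩ := h'.2 M₂ M' hle hM₂ (h'.1.restrict hle) hgi e₂ e' he₂ he'
      refine ⟨δ * γ, mul_mem hδ hγ, fun x hx => ?_⟩
      rw [CharSys.af_mul δ γ (he.2.mapsTo hx), eγ x hx, eδ _ (hfM.mapsTo hx)]; rfl
    · intro A' B f g hf hg e h
      obtain ⟨k, hk, hkl, -⟩ := (⟨h.1, hf.bij⟩ : Iso c.sys f A' B).exists_symm
      have hgm : Mor c.sys B g := hk.mor.congr fun y hy => by
        obtain ⟨x, hx, rfl⟩ := hf.surj hy
        rw [hkl x hx, e x hx]
      refine ⟨hgm, fun M M' hMB hM hm hi e₁ e' he he' => ?_⟩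
      have hle : M' ≤ A' := fun y hy => by
        obtain ⟨x, hx, rfl⟩ := hi.surj hy; exact hg.mapsTo (hMB hx)
      haveI := finite_of_le hi.dom_le
      have hfg : ∀ x ∈ M, f (g x) = x := fun x hx => by
        obtain ⟨a, ha, rfl⟩ := hf.surj (hMB hx)
        rw [e a ha]
      have hfi : Iso F f M' M := (c.sysF (h.1.restrict hle)).iso_of_card (fun y hy => by
        obtain ⟨x, hx, rfl⟩ := hi.surj hy
        rw [hfg x hx]; exact hx) hi.card_eq.le
      obtain ⟨γ, hγ, eγ⟩ := h.2 M' M hle (hcls hM hm hi) (h.1.restrict hle) hfi e' e₁ he' he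
      refine ⟨γ⁻¹, inv_mem hγ, fun x hx => ?_⟩
      have h3 := eγ (g x) (hi.mapsTo hx)
      rw [hfg x hx] at h3
      rw [← h3, CharSys.af_inv_self γ (he'.2.mapsTo (hi.mapsTo hx))]
  have hmain := (c.sys_ind hC4 (fun Q α hQ hα => ⟨(c.sys_gen hQ hα).mor, ?_⟩) hf.mor).2 P P le_rfl
    ⟨hP, id, Iso.refl hP'R⟩ hf.mor (c.sysFi hf) id id
    ⟨Mor.id' normalizerIn_le, Iso.refl hPS⟩ ⟨Mor.id' normalizerIn_le, Iso.refl hPS⟩
  · obtain ⟨γ, hγ, eγ⟩ := hmain
    exact ⟨γ, hγ, fun x => (af_coe γ x).symm.trans (eγ x x.2)⟩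
  intro M M' hMQ hM hm hi e e' he he'
  rcases hMQ.eq_or_lt with rfl | hlt'
  swap
  · exact step (c.sys_gen hQ hα).mor hlt' hi he he'
  haveI := finite_of_le hi.cod_le
  have hMM' : M' = M := le_antisymm (fun y hy => by
    obtain ⟨x, hx, rfl⟩ := hi.surj hy
    rw [af_apply α hx]; exact SetLike.coe_mem _) (fun y hy => by
    obtain ⟨x, hx⟩ := α.surjective ⟨y, hy⟩
    have := hi.mapsTo x.2
    rwa [af_coe α x, hx] at this)
  subst hMM'
  obtain ⟨γ₁, hγ₁, e₁⟩ := step (A' := preimageAlong θ R') (Mor.id' le_rfl) (hltR hM he)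
    (Iso.refl (hM.1.2.1.trans hR)) he he'
  refine ⟨γ₁ * he.2.transport α, mul_mem hγ₁ (c.a_transport hQ he.2 hα), fun x hx => ?_⟩
  rw [CharSys.af_mul _ _ (he.2.mapsTo hx), af_apply _ (he.2.mapsTo hx), he.2.transport_val α hx,
    e₁ _ (SetLike.coe_mem _), af_apply α hx]
  rfl

/-- The lifted system is saturated. -/
theorem sys_saturated : c.sys.IsSaturated p := by
  haveI := c.finR'
  haveI := c.finR
  haveI := c.finS'
  have w := c.wctx
  have hR := c.rle
  have hRp : IsPGroup p ↥(preimageAlong θ R') := c.hS.to_le hR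
  refine saturated_of_family (ℋ := {P | Mem Z θ N P}) hRp ?_ ?_ ?_ ?_
  · intro P hP Q hQ
    obtain ⟨u, hu⟩ := isConj_iff.mp hQ
    exact c.mem_conj hP (c.sysFi hu)
  · intro P₀ hP₀
    obtain ⟨P₁', hconj', hn'⟩ := exists_fullyNormalized (F := N) (c.img_le hP₀.2.1)
    obtain ⟨b, hb⟩ := isConj_iff.mp hconj'
    obtain ⟨u, hu0, eu⟩ := c.liftN hb.mor
    rw [c.pre_img hP₀.1 (hP₀.2.1.trans hR)] at hu0 eu
    set P := preimageAlong θ P₁'
    have hPimg : imageAlong θ P = P₁' := c.img_pre (hn'.1.trans c.r'le)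
    have hu : Iso c.sys u P₀ P := c.iso_of_img hu0 (c.sysF hu0) hP₀.1
      (le_preimageAlong θ c.hk c.zle P₁') (preimageAlong_le θ) eu (by rw [hPimg]; exact hb.bij)
    have hP : Mem Z θ N P := c.mem_conj hP₀ (c.sysFi hu)
    have hn : N.IsFullyNormalized (imageAlong θ P) := hPimg.symm ▸ hn'
    have hPR := hP.2.1
    have hPS := hPR.trans hR
    set P' := imageAlong θ P with hP'
    have hP'R : P' ≤ R' := c.img_le hPR
    haveI := finite_of_le hPS
    haveI := finite_mulAut (G := P)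
    haveI := finite_of_le hP'R
    haveI := finite_mulAut (G := P')
    obtain ⟨-, hfa, hrec⟩ := IsSaturated_fullyNormalized w.hT w.hEsat hn
    -- kernel
    have hker : ∀ f, Iso c.sys f P P → (∀ x ∈ P, extHom θ (f x) = extHom θ x) →
        ∃ z ∈ P, ∀ x ∈ P, f x = cj z x := by
      intro f hf hfK
      obtain ⟨α, hα, eα⟩ := c.sys_aut P hP f hf
      have hI := c.a_inter_k hP hα ⟨c.a_le_aut hPR hα, fun x => by rw [eα]; exact hfK x x.2⟩
      rw [inn_eq_autInducedBy, indIff] at hI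
      obtain ⟨z, hz, -, ez⟩ := hI
      exact ⟨z, hz, fun x hx => (eα ⟨x, hx⟩).symm.trans (ez ⟨x, hx⟩).symm⟩
    refine ⟨P, hu.isConj, (fullyAutomized_iff hRp).mpr ⟨hPR, ?_⟩, receptive_iff.mpr ⟨hPR, ?_⟩⟩
    · have hi : ∀ β : c.sys.autGroup P, ∃ ν : N.autGroup P', ∀ x : P,
          (((ν : MulAut P') ⟨extHom θ x, c.mem_img hPS x.2⟩ : P') : Ω') =
            extHom θ (((β : MulAut P) x : P) : Ω) := fun β => by
        have hβ := autGroup_iso hPR β.2
        obtain ⟨n, hn0, en⟩ := c.sys_img hβ.mor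
        have hni : Iso N n P' P' := hn0.iso_of_card (fun y hy => by
          obtain ⟨x, hx, rfl⟩ := (mem_imageAlong (hP := hPS)).mp hy
          rw [en x hx]; exact c.mem_img hPS (hβ.mapsTo hx)) le_rfl
        exact ⟨⟨hni.equiv, hni.equiv_mem_autGroup⟩, fun x => (en x x.2).trans
          (congrArg _ (extFun_coe _ x))⟩
      choose ρ hρ using hi
      have uniq : ∀ {ν μ : N.autGroup P'}, (∀ x : P, (ν : MulAut P') ⟨extHom θ x, c.mem_img hPS x.2⟩ =
          (μ : MulAut P') ⟨extHom θ x, c.mem_img hPS x.2⟩) → ν = μ := fun h =>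
        Subtype.ext (MulEquiv.ext fun y => by
          obtain ⟨x, hx, hxy⟩ := (mem_imageAlong (hP := hPS)).mp y.2
          have := h ⟨x, hx⟩
          rwa [show (⟨extHom θ x, c.mem_img hPS hx⟩ : P') = y from Subtype.ext hxy] at this)
      let ρ' : c.sys.autGroup P →* N.autGroup P' := MonoidHom.mk' ρ fun β γ => uniq fun x => by
        refine Subtype.ext ((hρ (β * γ) x).trans ?_)
        rw [Subgroup.coe_mul (N.autGroup P'), MulAut.mul_apply,
          show (ρ γ : MulAut P') ⟨extHom θ x, c.mem_img hPS x.2⟩ =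
            ⟨extHom θ (((γ : MulAut P) x : P) : Ω), c.mem_img hPS (SetLike.coe_mem _)⟩ from
            Subtype.ext (hρ γ x)]
        exact (hρ β _).symm
      have hsurj : Function.Surjective ρ' := fun ν => by
        have hνi := autGroup_iso hP'R ν.2
        obtain ⟨d, hd, ed⟩ := c.liftN hνi.mor
        rw [c.pre_img hP.1 hPS] at hd ed
        have hdi : Iso c.sys d P P := c.iso_of_img hd (c.sysF hd) hP.1 hP.1 hPS ed hνi.bij
        refine ⟨⟨hdi.equiv, hdi.equiv_mem_autGroup⟩, uniq fun x => Subtype.ext ?_⟩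
        refine (hρ _ x).trans ?_
        exact ((extFun_coe _ ⟨extHom θ x, _⟩).symm.trans (ed x x.2)).symm
      have hd := ((fullyAutomized_iff w.hT).mp hfa).2
      rw [← Subgroup.index_comap_of_surjective (f := ρ') _ hsurj] at hd
      refine fun h => hd (h.trans (Subgroup.index_dvd_of_le fun β hβ => ?_))
      obtain ⟨r', hr', hrn', er⟩ := indIff.mp (show ((ρ' β : N.autGroup P') : MulAut P') ∈ autInducedBy R' P' from hβ)
      obtain ⟨r, hr, rfl⟩ := exists_preimage c.hE c.r'le hr'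
      have hrn : r ∈ Subgroup.normalizer (P : Set Ω) :=
        (normalizer_image c.hk c.zle hP.1 hPS (hR hr)).mp hrn'
      have hβi := autGroup_iso hPR β.2
      have hri : Iso c.sys (cj r) P P := Iso.conj_self hPR hr hrn
      obtain ⟨ri, hri', hrl, hrr⟩ := hri.exists_symm
      obtain ⟨z, hz, ez⟩ := hker _ (hβi.comp hri') fun x hx => by
        have hm := hβi.mapsTo hx
        have h1 : extHom θ (cj r (ri (af (β : MulAut P) x))) = extHom θ (cj r x) := by
          rw [show cj r (ri (af (β : MulAut P) x)) = af (β : MulAut P) x from hrr _ hm,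
            extHom_cj θ (hR hr) (hPS hx)]
          have := hρ β ⟨x, hx⟩
          rw [show ρ β = ρ' β from rfl, ← er] at this
          exact (congrArg _ (af_apply _ hx)).trans this.symm
        rw [extHom_cj θ (hR hr) (show ri (af (β : MulAut P) x) ∈ S from hPS (hri'.mapsTo hm)),
          extHom_cj θ (hR hr) (hPS hx)] at h1
        exact cj_injective _ h1
      show (β : MulAut P) ∈ autInducedBy (preimageAlong θ R') P
      refine indIff.mpr ⟨r * z, mul_mem hr (hPR hz), mul_mem hrn (Subgroup.le_normalizer hz), fun x => ?_⟩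
      rw [cj_mul, ← ez x x.2]
      show cj r (ri (af (β : MulAut P) x)) = _
      rw [show cj r (ri (af (β : MulAut P) x)) = af (β : MulAut P) x from hrr _ (hβi.mapsTo x.2), af_coe]
    · intro Q φ hφ
      have hQm : Mem Z θ N Q := by
        obtain ⟨k, hk, -⟩ := hφ.exists_symm
        exact c.mem_conj hP (c.sysFi hk)
      have hQS := hQm.2.1.trans hR
      obtain ⟨n, hn0, en⟩ := c.sys_img hφ.mor
      have hni : Iso N n (imageAlong θ Q) P' := by
        refine ⟨hn0, fun y hy => ?_, hn0.injOn, fun y hy => ?_⟩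
        · obtain ⟨x, hx, rfl⟩ := (mem_imageAlong (hP := hQS)).mp hy
          rw [en x hx]; exact c.mem_img hPS (hφ.mapsTo hx)
        · obtain ⟨v, hv, rfl⟩ := (mem_imageAlong (hP := hPS)).mp hy
          obtain ⟨x, hx, rfl⟩ := hφ.surj hv
          exact ⟨_, c.mem_img hQS hx, en x hx⟩
      obtain ⟨ne, hne, ene⟩ := (receptive_iff.mp hrec).2 _ n hni
      obtain ⟨d, hd, ed⟩ := c.liftN hne
      have hle : nphi (preimageAlong θ R') Q φ ≤ preimageAlong θ (nphi R' (imageAlong θ Q) n) := by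
        intro x hx
        obtain ⟨hxR, hxn, s, hs, es⟩ := mem_nphi.mp hx
        refine mem_preimage_iff.mpr ⟨hR hxR, mem_nphi.mpr ⟨(c.mem_R.mp hxR).2,
          (normalizer_image c.hk c.zle hQm.1 hQS (hR hxR)).mpr hxn, extHom θ s, (c.mem_R.mp hs).2,
          fun y hy => ?_⟩⟩
        obtain ⟨v, hv, rfl⟩ := (mem_imageAlong (hP := hQS)).mp hy
        have hcv : cj x v ∈ Q := (cj_mem_iff hxn v).mpr hv
        rw [← extHom_cj θ (hR hxR) (hQS hv), en _ hcv, es v hv, extHom_cj θ (hR hs) (hPS (hφ.mapsTo hv)),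
          en v hv]
      have hQle : Q ≤ nphi (preimageAlong θ R') Q φ := hφ.mor.le_nphi
      have hdQ : Iso c.sys d Q P := c.iso_of_img ((hd.restrict hle).restrict hQle)
        (c.sysF ((hd.restrict hle).restrict hQle)) hQm.1 hP.1 hPS (n := n) (fun x hx => by
          rw [← ed x (hle (hQle hx)), ene _ (c.mem_img hQS hx)]) hni.bij
      obtain ⟨k, hk, hkl, -⟩ := hdQ.exists_symm
      obtain ⟨z, hz, ez⟩ := hker _ (hk.comp hφ) fun y hy => by
        obtain ⟨x, hx, rfl⟩ := hdQ.surj hy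
        show extHom θ (φ (k (d x))) = _
        rw [hkl x hx, ← en x hx, ← ed x (hle (hQle hx)), ene _ (c.mem_img hQS hx)]
      refine ⟨cj z ∘ d, (hd.restrict hle).comp (Mor.conj le_rfl (hPR hz))
        fun x hx => (hd.restrict hle).map_mem hx, fun x hx => ?_⟩
      show cj z (d x) = φ x
      rw [← ez _ (hdQ.mapsTo hx)]
      show φ (k (d x)) = φ x
      rw [hkl x hx]
  · intro E hE
    refine le_of_mor fun P f hf => ?_
    refine c.sys_ind (C := fun P f => Mor E P f) ⟨fun hP hs => Mor.conj hP hs,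
      fun _ e h => h.congr e, fun _ _ m h h' => h.comp h' m, ?_⟩
      (fun Q α hQ hα => ?_) hf
    · intro P Q f g hf hg e h
      obtain ⟨k, hk, hkl, -⟩ := (⟨h, hf.bij⟩ : Iso E f P Q).exists_symm
      refine hk.mor.congr fun y hy => ?_
      obtain ⟨x, hx, rfl⟩ := hf.surj hy
      rw [hkl x hx, e x hx]
    · have h := (c.sys_gen hQ hα).mor
      exact ⟨h.hom, hE Q hQ h.hom_mem, fun _ => rfl⟩
  · intro P hPc hP
    have hPR := hPc.1
    have hPS := hPR.trans hR
    have hZP : Z ≤ P := fun z hz => hPc.2 P (isConj_refl hPR)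
      ⟨c.zR hz, fun x hx => c.zcomm hz (hPS hx)⟩
    set P' := imageAlong θ P
    have hP'R : P' ≤ R' := c.img_le hPR
    obtain ⟨Q', hQ', hnc⟩ : ∃ Q', N.IsConj P' Q' ∧ ¬ centralizerIn R' Q' ≤ Q' := by
      by_contra h
      exact hP ⟨hZP, hPR, hP'R, fun Q' hQ' => not_not.mp fun hh => h ⟨Q', hQ', hh⟩⟩
    obtain ⟨b, hb⟩ := isConj_iff.mp hQ'
    obtain ⟨d, hd, ed⟩ := c.liftN hb.mor
    rw [c.pre_img hZP hPS] at hd ed
    set Q := preimageAlong θ Q'
    have hQimg : imageAlong θ Q = Q' := c.img_pre (hb.cod_le.trans c.r'le)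
    have hdi : Iso c.sys d P Q := c.iso_of_img hd (c.sysF hd) hZP
      (le_preimageAlong θ c.hk c.zle Q') (preimageAlong_le θ) ed (by rw [hQimg]; exact hb.bij)
    refine ⟨Q, hdi.isConj, fun hle => ?_⟩
    obtain ⟨r', hr', hrQ⟩ := SetLike.not_le_iff_exists.mp hnc
    obtain ⟨r, hr, rfl⟩ := exists_preimage c.hE c.r'le hr'.1
    have hQR : Q ≤ preimageAlong θ R' := hdi.cod_le
    have hQS := hQR.trans hR
    have hrn : r ∈ Subgroup.normalizer (Q : Set Ω) := by
      refine (normalizer_image c.hk c.zle (le_preimageAlong θ c.hk c.zle Q') hQS (hR hr)).mp ?_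
      rw [hQimg]; exact Subgroup.centralizer_le_normalizer _ hr'.2
    set σ := actHom (preimageAlong θ R') Q ⟨r, hr, hrn⟩
    have hσS : σ ∈ autInducedBy (preimageAlong θ R') Q := (range_actHom _ _).le ⟨_, rfl⟩
    have hσ : σ ∈ coreO c.sys p Q := by
      haveI := finite_of_le hQS
      haveI := finite_mulAut (G := Q)
      let Kd : Subgroup (c.sys.autGroup Q) :=
        { carrier := {α | (α : MulAut Q) ∈ K F θ Q}
          one_mem' := ⟨one_mem _, fun _ => rfl⟩
          mul_mem' := fun ha hb => c.k_mul ha hb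
          inv_mem' := fun ha => c.k_inv ha }
      have hn : Kd.Normal := ⟨fun a ha b => c.k_conj (le_preimageAlong θ c.hk c.zle Q') hQS
        (Limit.autGroup_mono c.sys_sub hQR b.2) ha⟩
      have hKp : IsPGroup p Kd := fun a => by
        obtain ⟨n, hn'⟩ := c.k_pElement (le_preimageAlong θ c.hk c.zle Q') hQS a.2
        exact ⟨n, Subtype.ext (Subtype.ext hn')⟩
      refine ⟨⟨σ, autInducedBy_le_autGroup hQR hσS⟩, Core.le_pCore hn hKp
        ⟨autInducedBy_le_autGroup hQS (autInducedBy_mono hR Q hσS), fun x => ?_⟩, rfl⟩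
      show extHom θ (cj r x) = extHom θ x
      rw [extHom_cj θ (hR hr) (hQS x.2)]
      show extHom θ r * extHom θ x * (extHom θ r)⁻¹ = _
      rw [← hr'.2 _ (mem_preimage_iff.mp x.2).2, mul_inv_cancel_right]
    have hI := hle ⟨hσS, hσ⟩
    rw [inn_eq_autInducedBy, indIff] at hI
    obtain ⟨q, hq, -, eq⟩ := hI
    apply hrQ
    have hrq : q⁻¹ * r ∈ Q := by
      refine hPc.2 Q hdi.isConj ⟨(preimageAlong θ R').mul_mem ((preimageAlong θ R').inv_mem (hQR hq)) hr, fun y hy => ?_⟩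
      have h : q * y * q⁻¹ = r * y * r⁻¹ := eq ⟨y, hy⟩
      calc y * (q⁻¹ * r) = q⁻¹ * (q * y * q⁻¹) * r := by group
        _ = q⁻¹ * r * y := by rw [h]; group
    have : r ∈ Q := by simpa using mul_mem hq hrq
    exact (mem_preimage_iff.mp this).2

theorem push_sys {a a' : Ω → Ω} (ha : Iso F a (preimageAlong θ R') (preimageAlong θ R'))
    (hl : ∀ x ∈ preimageAlong θ R', a' (a x) = x) :
    ∀ P f, Mor c.sys P f → ∀ P' : Subgroup Ω, (∀ y, y ∈ P' ↔ ∃ x ∈ P, a x = y) →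
      Mor c.sys P' (a ∘ f ∘ a') := by
  haveI := c.finR
  intro P f hf
  refine (c.sys_ind (C := fun P f => Mor c.sys P f ∧ ∀ P' : Subgroup Ω,
    (∀ y, y ∈ P' ↔ ∃ x ∈ P, a x = y) → Mor c.sys P' (a ∘ f ∘ a'))
    ⟨fun {P s} hP hs => ⟨Mor.conj hP hs, fun P' hP' => ?_⟩,
      fun {P f g} _ e h => ⟨h.1.congr e, fun P' hP' => ?_⟩, ?_, ?_⟩ (fun Q α hQ hα => ?_) hf).2
  · have hsub : P' ≤ preimageAlong θ R' := fun y hy => by
      obtain ⟨x, hx, rfl⟩ := (hP' y).mp hy
      exact ha.mapsTo (hP hx)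
    refine (Mor.conj hsub (ha.mapsTo hs)).congr fun y hy => ?_
    obtain ⟨x, hx, rfl⟩ := (hP' y).mp hy
    show cj (a s) (a x) = a (cj s (a' (a x)))
    rw [hl x (hP hx), cj_apply, cj_apply, ha.mor.map_conj hs (hP hx)]
  · refine (h.2 P' hP').congr fun y hy => ?_
    obtain ⟨x, hx, rfl⟩ := (hP' y).mp hy
    show a (f (a' (a x))) = a (g (a' (a x)))
    rw [hl x (h.1.dom_le hx), e x hx]
  · intro P Q f g hf hg m h h'
    refine ⟨h.1.comp h'.1 m, fun P' hP' => ?_⟩
    have hQR := h'.1.dom_le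
    have haQ : Iso F a Q (ha.mor.restrict hQR).img := ha.restrict hQR
    refine ((h.2 P' hP').comp (h'.2 _ fun y => (ha.mor.restrict hQR).mem_img) fun y hy => ?_).congr
      fun y hy => ?_
    · obtain ⟨x, hx, rfl⟩ := (hP' y).mp hy
      show a (f (a' (a x))) ∈ _
      rw [hl x (h.1.dom_le hx)]
      exact haQ.mapsTo (m x hx)
    · obtain ⟨x, hx, rfl⟩ := (hP' y).mp hy
      show a (g (a' (a (f (a' (a x)))))) = a (g (f (a' (a x))))
      rw [hl x (h.1.dom_le hx), hl _ (h.1.map_mem hx)]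
  · intro P Q f g hf hg e h
    obtain ⟨k, hk, hkl, -⟩ := (⟨h.1, hf.bij⟩ : Iso c.sys f P Q).exists_symm
    have hgm : Mor c.sys Q g := hk.mor.congr fun y hy => by
      obtain ⟨x, hx, rfl⟩ := hf.surj hy
      rw [hkl x hx, e x hx]
    refine ⟨hgm, fun Q' hQ' => ?_⟩
    have hPR := h.1.dom_le
    set P' := (ha.mor.restrict hPR).img
    have h1 := h.2 P' fun y => (ha.mor.restrict hPR).mem_img
    obtain ⟨k', hk', hkl', -⟩ := h1.toIso.exists_symm
    refine (hk'.mor.restrict fun y hy => ?_).congr fun y hy => ?_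
    · obtain ⟨z, hz, rfl⟩ := (hQ' y).mp hy
      obtain ⟨x, hx, rfl⟩ := hf.surj hz
      refine h1.mem_img.mpr ⟨a x, (ha.mor.restrict hPR).mem_img.mpr ⟨x, hx, rfl⟩, ?_⟩
      show a (f (a' (a x))) = a (f x)
      rw [hl x (hPR hx)]
    · obtain ⟨z, hz, rfl⟩ := (hQ' y).mp hy
      obtain ⟨x, hx, rfl⟩ := hf.surj hz
      show k' (a (f x)) = a (g (a' (a (f x))))
      rw [hl _ (h.1.map_mem hx), e x hx]
      have := hkl' (a x) ((ha.mor.restrict hPR).mem_img.mpr ⟨x, hx, rfl⟩)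
      rwa [show (a ∘ f ∘ a') (a x) = a (f x) from congrArg (fun v => a (f v)) (hl x (hPR hx))] at this
  · refine ⟨(c.sys_gen hQ hα).mor, fun P' hP' => ?_⟩
    have haQ : Iso F a Q P' := ⟨ha.mor.restrict hQ.2.1, fun x hx => (hP' _).mpr ⟨x, hx, rfl⟩,
      (ha.mor.restrict hQ.2.1).injOn, fun y hy => (hP' y).mp hy⟩
    refine (c.sys_gen (c.mem_conj hQ haQ) (c.a_transport hQ haQ hα)).mor.congr fun y hy => ?_
    obtain ⟨x, hx, rfl⟩ := (hP' y).mp hy
    show _ = a (af α (a' (a x)))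
    rw [hl x (hQ.2.1 hx), af_apply _ hy, af_apply α hx]
    exact haQ.transport_val α hx

/-- The lifted system is weakly normal. -/
theorem sys_weaklyNormal : c.sys.IsWeaklyNormalIn F p := by
  haveI := c.finR
  haveI := c.finR'
  haveI := c.finS'
  have w := c.wctx
  have hR := c.rle
  refine ⟨c.sys_saturated, c.hF, Envelope.invariant_mk c.sys_sub c.rsc (fun a ha => ?_) fun P f hP hf => ?_⟩
  · obtain ⟨a', ha', hl, hr⟩ := ha.exists_symm
    exact ⟨a', fun x hx => ha.mapsTo hx, fun y hy => ha'.mapsTo hy, hl, hr,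
      fun x hx y hy => ha.mor.map_mul hx hy, c.push_sys ha hl,
      fun P' f hf P hP => c.push_sys ha' hr P' f hf P hP⟩
  obtain ⟨g, hg, eg, -⟩ := mor_central_ext c.hZ hf
  have hPZ : P ⊔ Z ≤ preimageAlong θ R' := sup_le hP c.zR
  suffices key : ∀ P f, Z ≤ P → P ≤ preimageAlong θ R' → Mor F P f →
      ∃ a d, Iso F a (preimageAlong θ R') (preimageAlong θ R') ∧ Mor c.sys P d ∧
        ∀ x ∈ P, f x = a (d x) by
    obtain ⟨a, d, ha, hd, e⟩ := key _ g le_sup_right hPZ hg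
    exact ⟨a, d, ha, hd.restrict le_sup_left, fun x hx =>
      (eg x hx).symm.trans (e x (Subgroup.mem_sup_left hx))⟩
  have liftA : ∀ {b : Ω' → Ω'}, Iso F' b R' R' → ∃ a, Iso F a (preimageAlong θ R') (preimageAlong θ R') ∧
      Img θ (preimageAlong θ R') a b := fun {b} hb => by
    obtain ⟨a, ha, ea⟩ := factor_lift_iso c.zsc c.hE hb
    exact ⟨a, ha, ea⟩
  -- a first approximation
  have approx : ∀ P Q f, Z ≤ P → P ≤ preimageAlong θ R' → Iso F f P Q →
      ∃ a d, Iso F a (preimageAlong θ R') (preimageAlong θ R') ∧ Mor c.sys P d ∧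
        Iso F (a ∘ d) P Q ∧ ∀ x ∈ P, extHom θ (a (d x)) = extHom θ (f x) := by
    intro P Q f hZP hPR hf
    have hPS := hPR.trans hR
    obtain ⟨n, hn, en⟩ := c.push_iso hf hZP
    obtain ⟨b, m, hb, hm, e⟩ := invariant_frattini w.hinv hn.mor (c.img_le hPR)
    obtain ⟨a, ha, ea⟩ := liftA hb
    obtain ⟨d, hd, ed⟩ := c.liftN hm
    rw [c.pre_img hZP hPS] at hd ed
    have hdm : ∀ x ∈ P, d x ∈ preimageAlong θ R' := fun x hx => hd.map_mem hx
    have hcomp : ∀ x ∈ P, n (extHom θ x) = extHom θ (a (d x)) := fun x hx => by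
      rw [e _ (c.mem_img hPS hx), ed x hx, ea _ (hdm x hx)]
    refine ⟨a, d, ha, hd, c.iso_of_img ((c.sysF hd).comp ha.mor hdm) ((c.sysF hd).comp ha.mor hdm) hZP
      (fun z hz => c.fixZ hf.mor hZP hz ▸ hf.mapsTo (hZP hz)) hf.cod_le hcomp hn.bij, fun x hx =>
      (hcomp x hx).symm.trans (en x hx)⟩
  intro P f hZP hPR hf
  have hPS := hPR.trans hR
  obtain ⟨a, d, ha, hd, hadi, ead⟩ := approx P _ f hZP hPR hf.toIso
  obtain ⟨k, hk, hkl, hkr⟩ := hadi.exists_symm
  set Q := hf.img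
  have hQR : Q ≤ preimageAlong θ R' := fun y hy => by
    obtain ⟨x, hx, rfl⟩ := hadi.surj hy
    exact ha.mapsTo (hd.map_mem hx)
  have hZQ : Z ≤ Q := fun z hz => c.fixZ hf hZP hz ▸ hf.toIso.mapsTo (hZP hz)
  haveI := finite_of_le hadi.cod_le
  haveI := finite_mulAut (G := Q)
  -- the difference on the image
  have hκ : Iso F (f ∘ k) Q Q := hk.comp hf.toIso
  have hκK : ∀ y ∈ Q, extHom θ (f (k y)) = extHom θ y := fun y hy => by
    rw [← ead _ (hk.mapsTo hy)]
    exact congrArg _ (hkr y hy)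
  obtain ⟨Q₁, hconj, hn⟩ := exists_fullyNormalized (F := F) hadi.cod_le
  obtain ⟨u₀, hu₀⟩ := isConj_iff.mp hconj
  obtain ⟨a₁, d₁, ha₁, hd₁, hu, -⟩ := approx Q Q₁ u₀ hZQ hQR hu₀
  set u := a₁ ∘ d₁
  have hkap : (hκ.equiv : MulAut Q) ∈ K F θ Q := ⟨hκ.equiv_mem_autGroup, fun x => hκK x x.2⟩
  have hZQ₁ : Z ≤ Q₁ := fun z hz => c.fixZ hu.mor hZQ hz ▸ hu.mapsTo (hZQ hz)
  have hk1 : hu.transport hκ.equiv ∈ K F θ Q₁ := by
    obtain ⟨n, -, en⟩ := c.push_iso hu hZQ
    refine ⟨hu.transport_mem hkap.1, fun y => ?_⟩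
    obtain ⟨v, hv, hvy⟩ := hu.surj y.2
    rw [show y = ⟨u v, hu.mapsTo hv⟩ from Subtype.ext hvy.symm, hu.transport_val _ hv]
    show extHom θ (u _) = extHom θ (u v)
    rw [← en _ (SetLike.coe_mem _), hkap.2, en v hv]
  obtain ⟨s, hs, hsn, es, -⟩ := c.k_realized hZQ₁ hn hk1
  -- `f ∘ k = d₁⁻¹ a₁⁻¹ c_s a₁ d₁`
  obtain ⟨a₁', ha₁', hl₁, hr₁⟩ := ha₁.exists_symm
  have hRn : Iso F (cj s) (preimageAlong θ R') (preimageAlong θ R') :=
    Iso.conj_self hR hs (stronglyClosed_normalized c.rsc hs)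
  have hd₁i := hd₁.toIso
  obtain ⟨d₁', hd₁', hld, hrd⟩ := hd₁i.exists_symm
  set b := a₁' ∘ cj s ∘ a₁
  have hb : Iso F b (preimageAlong θ R') (preimageAlong θ R') := (ha₁.comp hRn).comp ha₁'
  obtain ⟨b', hb', hlb, hrb⟩ := hb.exists_symm
  -- `a⁻¹ ∘ b`-conjugates
  set V := hd₁.img
  have hVb : ∀ y ∈ Q, b (d₁ y) = d₁ (f (k y)) := fun y hy => by
    have h := es ⟨u y, hu.mapsTo hy⟩
    rw [hu.transport_val _ hy] at h
    change cj s (u y) = u (f (k y)) at h
    show a₁' (cj s (a₁ (d₁ y))) = _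
    rw [show a₁ (d₁ y) = u y from rfl, h]
    exact hl₁ _ (hd₁.map_mem (hκ.mapsTo hy))
  -- commute `d₁'` past `b`
  set W := (hb'.mor.restrict hd₁i.cod_le).img
  have hW : ∀ y, y ∈ W ↔ ∃ x ∈ V, b' x = y := fun y => (hb'.mor.restrict hd₁i.cod_le).mem_img
  have hd₂ : Mor c.sys W (b' ∘ d₁' ∘ b) := c.push_sys hb' hrb V _ hd₁'.mor W hW
  have hmid : ∀ y ∈ Q, d₁ y ∈ W := fun y hy => (hW _).mpr
    ⟨b (d₁ y), by rw [hVb y hy]; exact hd₁i.mapsTo (hκ.mapsTo hy), hlb _ (hd₁.map_mem hy)⟩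
  have hd₃ : Mor c.sys Q ((b' ∘ d₁' ∘ b) ∘ d₁) := hd₁.comp hd₂ hmid
  set d₃ := (b' ∘ d₁' ∘ b) ∘ d₁
  have hκeq : ∀ y ∈ Q, f (k y) = b (d₃ y) := fun y hy => by
    show _ = b (b' (d₁' (b (d₁ y))))
    rw [hVb y hy, hld (f (k y)) (hκ.mapsTo hy), hrb (f (k y)) (hQR (hκ.mapsTo hy))]
  -- move `a` to the left
  obtain ⟨a', ha', hla, hra⟩ := ha.exists_symm
  set Q₀ := (ha'.mor.restrict hQR).img
  have hd₄ : Mor c.sys Q₀ (a' ∘ d₃ ∘ a) := c.push_sys ha' hra Q _ hd₃ Q₀ fun y =>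
    (ha'.mor.restrict hQR).mem_img
  have hdQ₀ : ∀ x ∈ P, d x ∈ Q₀ := fun x hx => (ha'.mor.restrict hQR).mem_img.mpr
    ⟨a (d x), hadi.mapsTo hx, hla _ (hd.map_mem hx)⟩
  refine ⟨b ∘ a, (a' ∘ d₃ ∘ a) ∘ d, ha.comp hb, hd.comp hd₄ hdQ₀, fun x hx => ?_⟩
  show f x = b (a (a' (d₃ (a (d x)))))
  have hke : f (k (a (d x))) = b (d₃ (a (d x))) := hκeq _ (hadi.mapsTo hx)
  rw [hra (d₃ (a (d x))) (hd₃.map_mem (hadi.mapsTo hx)), ← hke]
  exact congrArg f (hkl x hx).symm

end CL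

end Cfsg.Agent.Fusion.CentralLift
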