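/-
A normal subgroup `Q` of a saturated system and a normal subsystem over `T`: every map of the
subsystem extends over `Q`, trivially modulo `Q ⊓ T`.
-/
import Cfsg.Agent.Fusion.CentEStrong
import Cfsg.Agent.Fusion.NormalMore
set_option autoImplicit false
set_option linter.style.haveILetI false
set_option linter.unusedSectionVars false
set_option maxHeartbeats 1000000

namespace Cfsg.Agent.Fusion.CoreCent

open Cfsg Cfsg.FusionSystem Cfsg.Agent.Fusion Cfsg.Agent.Fusion.SatCrit Cfsg.Agent.Fusion.WeakResidual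
open Cfsg.Agent.Fusion.CharSys (af af_coe)
open Cfsg.Agent.Fusion.CentFix (exists_pprime_power iterate_agree)

variable {Ω : Type*} [Group Ω] {S T Q P R : Subgroup Ω} {F : FusionSystem S} {E : FusionSystem T}
  {p : ℕ} {f g φ : Ω → Ω}

/-- An extension over `Q`, trivial modulo `T`. -/
def Ext (F : FusionSystem S) (T Q P : Subgroup Ω) (f : Ω → Ω) : Prop :=
  ∃ g, Mor F (P ⊔ Q) g ∧ (∀ x ∈ P, g x = f x) ∧ (∀ q ∈ Q, g q ∈ Q) ∧ ∀ q ∈ Q, q⁻¹ * g q ∈ T

variable [Fact p.Prime] [Finite S] (c : CentE.Ctx F E p) (hQ : F.IsNormal Q)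
include c hQ

/-- `Q ⊓ T` lies in every centric radical subgroup of the subsystem. -/
theorem inf_le_radical (hc : E.IsCentric R) (hr : E.IsRadical p R) : Q ⊓ T ≤ R := by
  by_contra hQR
  haveI := finite_of_le c.tle
  haveI := finite_of_le (sup_le hc.1 (inf_le_right : Q ⊓ T ≤ T))
  haveI := finite_of_le hc.1
  haveI := finite_mulAut (G := R)
  have hTp := c.hS.to_le c.tle
  have hlt : R < R ⊔ (Q ⊓ T) := lt_of_le_of_ne le_sup_left fun e => hQR (e ▸ le_sup_right)
  obtain ⟨a, haT, haR, han⟩ := exists_mem_normalizer_of_lt (hTp.to_le (sup_le hc.1 inf_le_right)) hlt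
  refine haR (mem_of_mem_normal_pGroup hc hr ⟨sup_le hc.1 inf_le_right haT, han⟩
    ((autInducedBy (R ⊔ (Q ⊓ T)) R).subgroupOf (E.autGroup R)) ⟨fun α hα γ => ?_⟩
    (isPGroup_autInducedBy (hTp.to_le (sup_le hc.1 inf_le_right)) R).comap_subtype
    (mem_autInducedBy.mpr ⟨a, haT, han, fun x => rfl⟩))
  obtain ⟨b, hb, hbn, eb⟩ := mem_autInducedBy.mp
    (show (α : MulAut R) ∈ autInducedBy (R ⊔ (Q ⊓ T)) R from hα)
  obtain ⟨h, hh, eh⟩ := (mem_autGroup_iff hc.1).mp γ.2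
  have hhF : Iso F h R R := c.toWCtx.subIso hh
  obtain ⟨g, hg, eg, mg⟩ := ExtStab.of_isNormal hQ hhF.mor
  have hle : R ⊔ (Q ⊓ T) ≤ R ⊔ Q := sup_le_sup le_rfl inf_le_left
  have hg' := hg.restrict hle
  have hgb : g b ∈ R ⊔ (Q ⊓ T) := hg'.map_sup (T := R ⊔ (Q ⊓ T))
    (fun x hx => Subgroup.mem_sup_left (eg x hx ▸ hhF.mapsTo hx))
    (fun x hx => Subgroup.mem_sup_right
      (Subgroup.mem_inf.mpr ⟨mg x hx.1, stronglyClosed_mem c.strong hg' (Subgroup.mem_sup_right hx) hx.2⟩)) b hb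
  refine mem_autInducedBy.mpr ⟨g b, hgb, (hhF.map_normalizer hg (le_sup_left) eg (hle hb) hbn).2,
    fun z => ?_⟩
  have e1 : ∀ y : R, g y = (((γ : MulAut R) y : R) : Ω) := fun y => (eg y y.2).trans (eh y)
  show ((((γ : MulAut R) * (α : MulAut R) * (γ : MulAut R)⁻¹) z : R) : Ω) = _
  rw [MulAut.mul_apply, MulAut.mul_apply, ← e1, eb, cj_apply, hg.map_conj (hle hb)
    (Subgroup.mem_sup_left ((γ : MulAut R)⁻¹ z).2), e1, MulAut.apply_inv_self]
  rfl

/-- An automorphism of order prime to `p` of a centric radical subgroup, with an extension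
trivial modulo `R` on the centralizer of `R`, is trivial on `Q` modulo `T`. -/
theorem step (hc : E.IsCentric R) (hr : E.IsRadical p R) (hφ : Iso E φ R R) {k : ℕ} (hk : k.Coprime p)
    (hφk : ∀ x ∈ R, φ^[k] x = x)
    (hg : ∃ g, Mor F (R ⊔ Q) g ∧ (∀ x ∈ R, g x = φ x) ∧ (∀ q ∈ Q, g q ∈ Q) ∧
      ∀ z ∈ (R ⊔ Q) ⊓ centralizerIn S R, z⁻¹ * g z ∈ R) :
    Ext F T Q R φ := by
  have hS := c.hS
  have hTS := c.tle
  have hRT : R ≤ T := hc.1
  haveI := finite_of_le hTS
  haveI := finite_of_le (hRT.trans hTS)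
  haveI := finite_mulAut (G := R)
  have hQ0 := inf_le_radical c hQ hc hr
  have hQS : Q ≤ S := hQ.1
  haveI := finite_of_le hQS
  have hnT : ∀ s ∈ S, ∀ x ∈ T, cj s x ∈ T := fun s hs x hx =>
    stronglyClosed_mem c.strong (Mor.conj hTS hs) hx hx
  have hQs := isNormal_stronglyClosed hQ
  have hnR : ∀ q ∈ Q, ∀ r ∈ R, cj q r ∈ R := by
    intro q hq r hr'
    have h2 : q * (r * q⁻¹ * r⁻¹) ∈ Q := Q.mul_mem hq
      (stronglyClosed_mem hQs (Mor.conj hQS (hTS (hRT hr'))) (Q.inv_mem hq) (Q.inv_mem hq))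
    have h1 : q * (r * q⁻¹ * r⁻¹) ∈ T := by
      have := T.mul_mem (hnT q (hQS hq) r (hRT hr')) (T.inv_mem (hRT hr'))
      simpa [cj, mul_assoc] using this
    have := R.mul_mem (hQ0 ⟨h2, h1⟩) hr'
    simpa [cj, mul_assoc] using this
  have hQn : Q ≤ Subgroup.normalizer (R : Set Ω) := fun q hq =>
    Subgroup.mem_normalizer_iff.mpr fun r => ⟨hnR q hq r, fun h => by
      have := hnR q⁻¹ (Q.inv_mem hq) _ h
      simpa [cj, mul_assoc] using this⟩
  obtain ⟨g, hg, eg, gQ, gC⟩ := hg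
  haveI := finite_of_le hg.dom_le
  have hgi : Iso F g (R ⊔ Q) (R ⊔ Q) := hg.iso_of_card (fun x hx => hg.map_sup
    (fun y hy => Subgroup.mem_sup_left (by rw [eg y hy]; exact hφ.mapsTo hy))
    (fun y hy => Subgroup.mem_sup_right (gQ y hy)) x hx) le_rfl
  obtain ⟨m, l, hm, hl, hml⟩ := exists_pprime_power hgi hk
  set δ := g^[m] with hδdef
  have hδ : Iso F δ (R ⊔ Q) (R ⊔ Q) := iso_pow hgi m
  have hφR : ∀ x ∈ R, φ x ∈ R := fun x hx => hφ.mapsTo hx
  have hδR : ∀ x ∈ R, δ x = φ x := fun x hx => by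
    rw [hδdef, iterate_agree hφR eg m x hx, iterate_mod hφk m hx, hm,
      ← iterate_mod hφk 1 hx, Function.iterate_one]
  have hδQ : ∀ q ∈ Q, δ q ∈ Q := fun q hq => iterate_mapsTo gQ m q hq
  have hδC : ∀ z ∈ (R ⊔ Q) ⊓ centralizerIn S R, z⁻¹ * δ z ∈ R := by
    intro z hz
    rw [hδdef]
    clear hδdef hδ hδR hδQ hml hm δ
    induction m with
    | zero => simp
    | succ n ih =>
      rw [Function.iterate_succ_apply']
      have hy : z⁻¹ * g^[n] z ∈ R := ih
      have hgn : g^[n] z = z * (z⁻¹ * g^[n] z) := (mul_inv_cancel_left _ _).symm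
      rw [hgn, hg.map_mul hz.1 (Subgroup.mem_sup_left hy), eg _ hy, ← mul_assoc]
      exact R.mul_mem (gC z hz) (hφR _ hy)
  have hRn : ∀ w ∈ R ⊔ Q, ∀ r ∈ R, w⁻¹ * r * w ∈ R := fun w hw r hr' => by
    have h : w⁻¹ ∈ Subgroup.normalizer (R : Set Ω) :=
      Subgroup.inv_mem _ (sup_le Subgroup.le_normalizer hQn hw)
    have := (Subgroup.mem_normalizer_iff.mp h r).mp hr'
    rwa [inv_inv] at this
  refine ⟨δ, hδ.mor, hδR, hδQ, fun x hx => ?_⟩
  set u := x⁻¹ * δ x with hudef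
  have hu : u ∈ Q := Q.mul_mem (Q.inv_mem hx) (hδQ x hx)
  -- the action of `u` on `R` lies in the largest normal `p`-subgroup of the automizer
  obtain ⟨φ', hφ', hl', -⟩ := hφ.exists_symm
  have hcx : Iso F (cj x⁻¹) R R :=
    Iso.conj_self (hRT.trans hTS) (S.inv_mem (hQS hx)) (inv_mem (hQn hx))
  have hcon : Mor E R (cj x⁻¹ ∘ φ ∘ cj x) :=
    (c.toWCtx.conj_mor hRT hcx (Iso.conj_self (hRT.trans hTS) (hQS hx) (hQn hx))
      (fun r _ => cj_cancel_inv x r) hφ).mor
  have hcu : Iso E (cj u) R R := by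
    refine ((hφ'.mor.comp hcon fun r hr' => hφ'.mapsTo hr').congr fun r hr' => ?_).iso_of_card
      (fun r hr' => (cj_mem_iff (hQn hu) r).mpr hr') le_rfl
    obtain ⟨s, hs, rfl⟩ := hφ.surj hr'
    show cj x⁻¹ (φ (cj x (φ' (φ s)))) = cj u (φ s)
    rw [hl' s hs, hudef, cj_mul, ← hδR s hs, ← hδR _ (hnR x hx s hs)]
    congr 1
    exact hδ.mor.map_conj (Subgroup.mem_sup_right hx) (Subgroup.mem_sup_left hs)
  have hmem : (hcu.equiv : MulAut R) ∈ Inn R := by
    have hK : ((autInducedBy Q R).subgroupOf (E.autGroup R)).Normal := by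
      refine ⟨fun α hα γ => ?_⟩
      obtain ⟨b, hb, hbn, eb⟩ := mem_autInducedBy.mp (show (α : MulAut R) ∈ autInducedBy Q R from hα)
      obtain ⟨h, hh, eh⟩ := (mem_autGroup_iff hRT).mp γ.2
      have hhF : Iso F h R R := c.toWCtx.subIso hh
      obtain ⟨w, hw, ew, mw⟩ := ExtStab.of_isNormal hQ hhF.mor
      refine mem_autInducedBy.mpr ⟨w b, mw b hb, hQn (mw b hb), fun z => ?_⟩
      have e1 : ∀ y : R, w y = (((γ : MulAut R) y : R) : Ω) := fun y => (ew y y.2).trans (eh y)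
      show ((((γ : MulAut R) * (α : MulAut R) * (γ : MulAut R)⁻¹) z : R) : Ω) = _
      rw [MulAut.mul_apply, MulAut.mul_apply, ← e1, eb, cj_apply, hw.map_conj (Subgroup.mem_sup_right hb)
        (Subgroup.mem_sup_left ((γ : MulAut R)⁻¹ z).2), e1, MulAut.apply_inv_self]
      rfl
    have h1 : (⟨_, hcu.equiv_mem_autGroup⟩ : E.autGroup R) ∈ (autInducedBy Q R).subgroupOf (E.autGroup R) :=
      mem_autInducedBy.mpr ⟨u, hu, hQn hu, fun _ => rfl⟩
    exact hr.2 ▸ ⟨_, Core.le_pCore hK (isPGroup_autInducedBy (hS.to_le hQS) R).comap_subtype h1, rfl⟩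
  obtain ⟨d, hd⟩ := hmem
  have hdc : (d : Ω)⁻¹ * u ∈ (R ⊔ Q) ⊓ centralizerIn S R := by
    refine ⟨(R ⊔ Q).mul_mem ((R ⊔ Q).inv_mem (Subgroup.mem_sup_left d.2)) (Subgroup.mem_sup_right hu),
      S.mul_mem (S.inv_mem (hTS (hRT d.2))) (hQS hu), fun r hr' => ?_⟩
    have h : (d : Ω) * r * (d : Ω)⁻¹ = u * r * u⁻¹ :=
      (congrArg Subtype.val (DFunLike.congr_fun hd (⟨r, hr'⟩ : R)) :)
    calc r * ((d : Ω)⁻¹ * u) = (d : Ω)⁻¹ * ((d : Ω) * r * (d : Ω)⁻¹) * u := by group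
      _ = (d : Ω)⁻¹ * (u * r * u⁻¹) * u := by rw [h]
      _ = (d : Ω)⁻¹ * u * r := by group
  have hRW : R ≤ R ⊔ Q := le_sup_left
  have huW : u ∈ R ⊔ Q := Subgroup.mem_sup_right hu
  have hv : u⁻¹ * δ u ∈ R := by
    set z := (d : Ω)⁻¹ * u with hz
    have e1 : δ u = δ d * δ z := by
      rw [← hδ.mor.map_mul (hRW d.2) hdc.1, hz, mul_inv_cancel_left]
    have e2 : u⁻¹ * δ u = (z⁻¹ * ((d : Ω)⁻¹ * φ d) * z) * (z⁻¹ * δ z) := by
      rw [e1, ← hδR d d.2, hz]; group
    rw [e2]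
    exact R.mul_mem (hRn z hdc.1 _ (R.mul_mem (R.inv_mem d.2) (hφR d d.2))) (hδC z hdc)
  set v := u⁻¹ * δ u with hvdef
  have hpow : ∀ n : ℕ, (u ^ n)⁻¹ * δ (u ^ n) ∈ R := by
    intro n
    induction n with
    | zero => simp [hδ.mor.map_one]
    | succ n ih =>
      rw [pow_succ, hδ.mor.map_mul (pow_mem huW n) huW, show δ u = u * v by rw [hvdef, mul_inv_cancel_left]]
      have e : (u ^ n * u)⁻¹ * (δ (u ^ n) * (u * v)) = (u⁻¹ * ((u ^ n)⁻¹ * δ (u ^ n)) * u) * v := by group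
      rw [e]
      exact R.mul_mem (hRn u huW _ ih) hv
  have hit : ∀ n : ℕ, (x * u ^ n)⁻¹ * δ^[n] x ∈ R := by
    intro n
    induction n with
    | zero => simp
    | succ n ih =>
      set z := (x * u ^ n)⁻¹ * δ^[n] x with hz
      rw [Function.iterate_succ_apply', show δ^[n] x = x * u ^ n * z by rw [hz, mul_inv_cancel_left],
        hδ.mor.map_mul (mul_mem (Subgroup.mem_sup_right hx) (pow_mem huW n)) (hRW ih),
        hδ.mor.map_mul (Subgroup.mem_sup_right hx) (pow_mem huW n), hδR z ih,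
        show δ x = x * u by rw [hudef, mul_inv_cancel_left], pow_succ']
      have e : (x * (u * u ^ n))⁻¹ * (x * u * δ (u ^ n) * φ z) = ((u ^ n)⁻¹ * δ (u ^ n)) * φ z := by group
      rw [e]
      exact R.mul_mem (hpow n) (hφR z ih)
  have hul : u ^ l ∈ R := by
    have := hit l
    rw [hml x (Subgroup.mem_sup_right hx), mul_inv_rev, mul_assoc, inv_mul_cancel, mul_one] at this
    exact (inv_mem_iff).mp this
  obtain ⟨j, hj⟩ := hS ⟨u, hQS hu⟩
  have hord : (orderOf u).Coprime l := by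
    have hdvd : orderOf u ∣ p ^ j := orderOf_dvd_of_pow_eq_one (by simpa using congrArg Subtype.val hj)
    exact Nat.Coprime.coprime_dvd_left hdvd (hl.symm.pow_left j)
  obtain ⟨i, hi⟩ := exists_pow_eq_self_of_coprime hord.symm
  exact hRT (hi ▸ pow_mem hul i)

/-- The extension data over a centric subgroup, for an automorphism generated by `p`-elements. -/
theorem pgen_data (hc : E.IsCentric R) {α : MulAut R} (hα : α ∈ CentE.pGenAut E p R) {k : ℕ}
    (hk : k.Coprime p) (hαk : α ^ k = 1) :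
    ∃ g, Mor F (R ⊔ Q) g ∧ (∀ x ∈ R, g x = af α x) ∧ (∀ q ∈ Q, g q ∈ Q) ∧
      ∀ z ∈ (R ⊔ Q) ⊓ centralizerIn S R, z⁻¹ * g z ∈ R := by
  haveI := finite_of_le c.tle
  have hRS : R ≤ S := hc.1.trans c.tle
  obtain ⟨R', hR', hn⟩ := exists_fullyNormalized (F := F) hRS
  obtain ⟨h, hh⟩ := isConj_iff.mp hR'
  have hR'c : E.IsCentric R' := c.toWCtx.ec_conj hc hh
  obtain ⟨ψ, -, hψ, -, -, eψ⟩ := c.exists_rel_pprime hn hR'c (c.transport_mem hc.1 hh hα) hk
    (by rw [← map_pow, hαk, map_one])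
  obtain ⟨h1, hh1, eh1, mh1⟩ := ExtStab.of_isNormal hQ hh.mor
  haveI := finite_of_le (sup_le hh.cod_le hQ.1)
  haveI := finite_of_le (sup_le hRS hQ.1)
  have hh1Q : Iso F h1 Q Q := by
    haveI := finite_of_le hQ.1
    exact (hh1.restrict le_sup_right).iso_of_card mh1 le_rfl
  have hmap : ∀ x ∈ R ⊔ Q, h1 x ∈ R' ⊔ Q := hh1.map_sup
    (fun y hy => Subgroup.mem_sup_left (by rw [eh1 y hy]; exact hh.mapsTo hy))
    (fun y hy => Subgroup.mem_sup_right (mh1 y hy))
  have hh1i : Iso F h1 (R ⊔ Q) (R' ⊔ Q) := by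
    refine ⟨hh1, fun x hx => hmap x hx, hh1.injOn, fun y hy => ?_⟩
    have hle : R' ⊔ Q ≤ hh1.img := sup_le
      (fun y hy => by
        obtain ⟨x, hx, rfl⟩ := hh.surj hy
        exact hh1.mem_img.mpr ⟨x, Subgroup.mem_sup_left hx, eh1 x hx⟩)
      (fun y hy => by
        obtain ⟨x, hx, rfl⟩ := hh1Q.surj hy
        exact hh1.mem_img.mpr ⟨x, Subgroup.mem_sup_right hx, rfl⟩)
    obtain ⟨x, hx, e⟩ := hh1.mem_img.mp (hle hy)
    exact ⟨x, hx, e⟩
  obtain ⟨h2, hh2, hl, hr'⟩ := hh1i.exists_symm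
  set A := R' ⊔ ((R' ⊔ Q) ⊓ centralizerIn S R') with hA
  have hψA : Mor F A ψ := hψ.1.mor.restrict (sup_le_sup le_rfl inf_le_right)
  obtain ⟨g, hg, eg, mg⟩ := ExtStab.of_isNormal hQ hψA
  have hgR : ∀ x ∈ R', g x ∈ R' := fun x hx => by
    rw [eg x (Subgroup.mem_sup_left hx)]; exact hψ.2.1 x hx
  have hW : R' ⊔ Q ≤ A ⊔ Q := sup_le_sup le_sup_left le_rfl
  have hgW : ∀ x ∈ R' ⊔ Q, g x ∈ R' ⊔ Q := (hg.restrict hW).map_sup
    (fun y hy => Subgroup.mem_sup_left (hgR y hy)) (fun y hy => Subgroup.mem_sup_right (mg y hy))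
  refine ⟨h2 ∘ g ∘ h1, (hh1.comp (hg.restrict hW) hmap).comp hh2.mor fun x hx => hgW _ (hmap x hx),
    fun x hx => ?_, fun q hq => ?_, fun z hz => ?_⟩
  · have hx' : h x ∈ R' := hh.mapsTo hx
    show h2 (g (h1 x)) = af α x
    rw [eh1 x hx, eg _ (Subgroup.mem_sup_left hx'), eψ ⟨h x, hx'⟩, hh.transport_val α hx,
      show af α x = ((α ⟨x, hx⟩ : R) : Ω) from af_coe α ⟨x, hx⟩,
      ← eh1 _ (SetLike.coe_mem _), hl _ (Subgroup.mem_sup_left (SetLike.coe_mem _))]
  · obtain ⟨q', hq', e⟩ := hh1Q.surj (mg _ (mh1 q hq))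
    show h2 (g (h1 q)) ∈ Q
    rw [← e, hl q' (Subgroup.mem_sup_right hq')]
    exact hq'
  · have hz1 : h1 z ∈ (R' ⊔ Q) ⊓ centralizerIn S R' :=
      ⟨hmap z hz.1, hh.map_centralizer hh1 le_sup_left eh1 hz.1 hz.2⟩
    have hd : (h1 z)⁻¹ * g (h1 z) ∈ R' := by
      rw [eg _ (Subgroup.mem_sup_right hz1)]
      exact hR'c.2 R' (isConj_refl hR'c.1) (hψ.2.2 _ hz1.2) |> fun h => h
    obtain ⟨r, hr0, e⟩ := hh.surj hd
    show z⁻¹ * h2 (g (h1 z)) ∈ R
    have e1 : g (h1 z) = h1 z * h1 r := by rw [eh1 r hr0, e, mul_inv_cancel_left]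
    rw [e1, ← hh1.map_mul hz.1 (Subgroup.mem_sup_left hr0),
      hl _ (mul_mem hz.1 (Subgroup.mem_sup_left hr0)), inv_mul_cancel_left]
    exact hr0

theorem closed : Closed E (Ext F T Q) where
  conj := fun {P t} hP ht => by
    have hnT : ∀ s ∈ S, ∀ x ∈ T, cj s x ∈ T := fun s hs x hx =>
      stronglyClosed_mem c.strong (Mor.conj c.tle hs) hx hx
    refine ⟨cj t, Mor.conj (sup_le (hP.trans c.tle) hQ.1) (c.tle ht), fun _ _ => rfl,
      fun q hq => stronglyClosed_mem (isNormal_stronglyClosed hQ) (Mor.conj hQ.1 (c.tle ht)) hq hq,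
      fun q hq => ?_⟩
    have := T.mul_mem (hnT q⁻¹ (S.inv_mem (hQ.1 hq)) t ht) (T.inv_mem ht)
    simpa [cj, mul_assoc] using this
  congr := fun _ e ⟨g, hg, eg, gQ, gT⟩ => ⟨g, hg, fun x hx => (eg x hx).trans (e x hx), gQ, gT⟩
  comp := fun {P P' f f'} _ _ m ⟨g, hg, eg, gQ, gT⟩ ⟨g', hg', eg', gQ', gT'⟩ => by
    refine ⟨g' ∘ g, hg.comp hg' (hg.map_sup (fun x hx => Subgroup.mem_sup_left (eg x hx ▸ m x hx))
      fun x hx => Subgroup.mem_sup_right (gQ x hx)), fun x hx => ?_, fun q hq => gQ' _ (gQ q hq),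
      fun q hq => ?_⟩
    · show g' (g x) = f' (f x)
      rw [eg x hx, eg' _ (m x hx)]
    · have := T.mul_mem (gT q hq) (gT' _ (gQ q hq))
      rwa [mul_assoc, mul_inv_cancel_left] at this
  inv := fun {P P' f f'} hf _ e ⟨g, hg, eg, gQ, gT⟩ => by
    haveI := finite_of_le hQ.1
    have hgQ : Iso F g Q Q := (hg.restrict le_sup_right).iso_of_card gQ le_rfl
    obtain ⟨k', hk', ek', -⟩ := hg.toIso.exists_symm
    have hsub : P' ⊔ Q ≤ hg.img := sup_le
      (fun y hy => by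
        obtain ⟨x, hx, rfl⟩ := hf.surj hy
        exact hg.mem_img.mpr ⟨x, Subgroup.mem_sup_left hx, eg x hx⟩)
      (fun y hy => by
        obtain ⟨x, hx, rfl⟩ := hgQ.surj hy
        exact hg.mem_img.mpr ⟨x, Subgroup.mem_sup_right hx, rfl⟩)
    refine ⟨k', hk'.mor.restrict hsub, fun y hy => ?_, fun y hy => ?_, fun y hy => ?_⟩
    · obtain ⟨x, hx, rfl⟩ := hf.surj hy
      rw [e x hx, ← eg x hx, ek' x (Subgroup.mem_sup_left hx)]
    · obtain ⟨x, hx, rfl⟩ := hgQ.surj hy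
      rw [ek' x (Subgroup.mem_sup_right hx)]; exact hx
    · obtain ⟨x, hx, rfl⟩ := hgQ.surj hy
      rw [ek' x (Subgroup.mem_sup_right hx), show (g x)⁻¹ * x = (x⁻¹ * g x)⁻¹ by group]
      exact T.inv_mem (gT x hx)

/-- Every map of the normal subsystem extends over `Q`, trivially modulo `T`. -/
theorem ext_all : ∀ P f, Mor E P f → Ext F T Q P f := by
  have hC := closed c hQ
  haveI := finite_of_le c.tle
  have hTp := c.hS.to_le c.tle
  refine alperin hTp c.hEsat hC fun R hR hRn IH f hf => ?_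
  haveI := finite_of_le hRn.1
  haveI := finite_mulAut (G := R)
  let Sg : Subgroup (E.autGroup R) :=
    { carrier := {α | Ext F T Q R (af (α : MulAut R))}
      one_mem' := hC.congr (Mor.conj hRn.1 T.one_mem)
        (fun x hx => (cj_one x).trans (af_coe (1 : MulAut R) ⟨x, hx⟩).symm) (hC.conj hRn.1 T.one_mem)
      mul_mem' := fun {α β} ha hb => by
        have hα : Iso E (af (α : MulAut R)) R R := autGroup_iso hRn.1 α.2
        have hβ : Iso E (af (β : MulAut R)) R R := autGroup_iso hRn.1 β.2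
        refine hC.congr (hβ.comp hα).mor (fun x hx => ?_)
          (hC.comp hβ.mor hα.mor (fun x hx => hβ.mapsTo hx) hb ha)
        show af (α : MulAut R) (af (β : MulAut R) x) = af ((α * β : E.autGroup R) : MulAut R) x
        rw [af_coe (β : MulAut R) ⟨x, hx⟩, af_coe (α : MulAut R),
          af_coe ((α * β : E.autGroup R) : MulAut R) ⟨x, hx⟩]
        rfl
      inv_mem' := fun {α} ha => by
        have hα : Iso E (af (α : MulAut R)) R R := autGroup_iso hRn.1 α.2
        have hα' : Iso E (af ((α⁻¹ : E.autGroup R) : MulAut R)) R R := autGroup_iso hRn.1 (α⁻¹).2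
        refine hC.inv hα hα' (fun x hx => ?_) ha
        rw [af_coe (α : MulAut R) ⟨x, hx⟩, af_coe]
        exact congrArg Subtype.val (MulAut.inv_apply_self _ _ _) }
  suffices h : Sg = ⊤ by
    have hm : (⟨_, hf.equiv_mem_autGroup⟩ : E.autGroup R) ∈ Sg := h ▸ Subgroup.mem_top _
    exact hC.congr (autGroup_iso hRn.1 hf.equiv_mem_autGroup).mor
      (fun x hx => af_coe _ ⟨x, hx⟩) hm
  have hI : (autInducedBy T R).subgroupOf (E.autGroup R) ≤ Sg := fun α hα => by
    obtain ⟨t, ht, -, et⟩ := mem_autInducedBy.mp (show (α : MulAut R) ∈ autInducedBy T R from hα)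
    exact hC.congr (Mor.conj hRn.1 ht) (fun x hx => (et ⟨x, hx⟩).symm.trans (af_coe _ ⟨x, hx⟩).symm)
      (hC.conj hRn.1 ht)
  have horder : ∀ (β : MulAut R) (n : ℕ) (x : R),
      (af β)^[n] (x : Ω) = (((β ^ n) x : R) : Ω) := by
    intro β n
    induction n with
    | zero => intro x; rfl
    | succ n ih => intro x; rw [Function.iterate_succ_apply', ih x, af_coe, pow_succ', MulAut.mul_apply]
  by_cases hRT' : R = T
  · -- the subgroup `T`
    subst hRT'
    refine top_le_iff.mp ((autGroup_generated hTp c.hEsat hRn).ge.trans (sup_le ?_ hI))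
    rw [pResidual, Subgroup.closure_le]
    intro β hβ
    have hb : Iso E (af (β : MulAut R)) R R := autGroup_iso le_rfl β.2
    refine step c hQ isCentric_self (isRadical_self hTp c.hEsat) hb hβ (fun x hx => ?_) ?_
    · rw [horder _ _ ⟨x, hx⟩, ← SubmonoidClass.coe_pow, pow_orderOf_eq_one]; rfl
    · obtain ⟨-, γ, hγ, eγ, hγc⟩ := c.hext _ hb
      have hA : Mor F (R ⊔ ((R ⊔ Q) ⊓ centralizerIn S R)) γ :=
        hγ.mor.restrict (sup_le_sup le_rfl inf_le_right)
      obtain ⟨g, hg, eg, mg⟩ := ExtStab.of_isNormal hQ hA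
      exact ⟨g, hg.restrict (sup_le_sup le_sup_left le_rfl),
        fun x hx => (eg x (Subgroup.mem_sup_left hx)).trans (eγ x hx), mg,
        fun z hz => by rw [eg z (Subgroup.mem_sup_right hz)]; exact hγc z hz.2⟩
  · have hess := hR.resolve_left hRT'
    have hess' := hess
    obtain ⟨hc, -, -⟩ := hess'
    have hrad := essential_radical hTp hess
    -- the automorphisms generated by `p`-elements
    set N := (CentE.pGenAut E p R).subgroupOf (E.autGroup R) with hNdef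
    have hNn : N.Normal := by
      refine ⟨fun α hα γ => ?_⟩
      have hle : CentE.pGenAut E p R ≤
          (CentE.pGenAut E p R).comap (MulAut.conj (γ : MulAut R)).toMonoidHom :=
        (Subgroup.closure_le _).mpr fun π hπ => Subgroup.subset_closure
          ⟨mul_mem (mul_mem γ.2 hπ.1) (inv_mem γ.2), hπ.2.imp fun j hj => by
            rw [MulEquiv.coe_toMonoidHom, MulEquiv.orderOf_eq, hj]⟩
      exact hle hα
    haveI := hNn
    set P0 := (autInducedBy T R).subgroupOf (E.autGroup R) with hP0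
    have hPp : IsPGroup p P0 := (isPGroup_autInducedBy hTp R).comap_subtype
    have hPN : P0 ≤ N := fun α hα => by
      obtain ⟨j, hj⟩ := hPp ⟨α, hα⟩
      obtain ⟨i, -, hi⟩ := (Nat.dvd_prime_pow (Fact.out : p.Prime)).mp
        (orderOf_dvd_of_pow_eq_one (show α ^ p ^ j = 1 by simpa using congrArg Subtype.val hj))
      exact Subgroup.subset_closure ⟨α.2, i, (Subgroup.orderOf_coe α).trans hi⟩
    have hidx : ¬ p ∣ P0.index :=
      ((fullyAutomized_iff hTp).mp (IsSaturated_fullyNormalized hTp c.hEsat hRn).2.1).2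
    have hidx' : ¬ p ∣ (P0.subgroupOf N).index := fun h => hidx
      (h.trans (Subgroup.relIndex_dvd_index_of_le hPN))
    -- the normalizer of the Sylow subgroup extends
    have hNS : Subgroup.normalizer (P0 : Set ↥(E.autGroup R)) ≤ Sg := by
      intro α hα
      have hi : Iso E (af (α : MulAut R)) R R := autGroup_iso hRn.1 α.2
      obtain ⟨f', hf', ef'⟩ := (receptive_iff.mp
        (IsSaturated_fullyNormalized hTp c.hEsat hRn).2.2).2 R _ hi
      have hnphi : normalizerIn T R ≤ nphi T R (af (α : MulAut R)) := by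
        intro a ha
        have hmem : (⟨actHom T R ⟨a, ha⟩, autInducedBy_le_autGroup hRn.1
            ((range_actHom T R).le ⟨_, rfl⟩)⟩ : E.autGroup R) ∈ P0 := (range_actHom T R).le ⟨_, rfl⟩
        obtain ⟨b, hb, -, eb⟩ := mem_autInducedBy.mp
          (show _ ∈ autInducedBy T R from (Subgroup.mem_normalizer_iff.mp hα _).mp hmem)
        refine mem_nphi.mpr ⟨ha.1, ha.2, b, hb, fun x hx => ?_⟩
        have hcx : cj a x ∈ R := (cj_mem_iff ha.2 x).mpr hx
        have h := eb ((α : MulAut R) ⟨x, hx⟩)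
        rw [af_coe (α : MulAut R) ⟨x, hx⟩, af_coe (α : MulAut R) ⟨cj a x, hcx⟩]
        refine Eq.trans ?_ h
        show _ = (((α : MulAut R) * actHom T R ⟨a, ha⟩ * (α : MulAut R)⁻¹) ((α : MulAut R) ⟨x, hx⟩) : Ω)
        rw [MulAut.mul_apply, MulAut.mul_apply, MulAut.inv_apply_self]
        congr 2
      have hRT : R < T := lt_of_le_of_ne hRn.1 hRT'
      have hbig : Nat.card R < Nat.card ↥(normalizerIn T R) := by
        haveI := finite_of_le (normalizerIn_le : normalizerIn T R ≤ T)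
        exact card_lt_of_lt (lt_normalizerIn hTp hRT)
      have hm := hf'.restrict hnphi
      exact hC.congr (hm.restrict (le_normalizerIn hRn.1)) ef'
        (hC.restrict hm (le_normalizerIn hRn.1) (IH _ _ hm hbig))
    -- the elements of order prime to `p`
    have hN : N ≤ Sg := by
      have hK : Sg.subgroupOf N = ⊤ := eq_top_of_pResidual_le (p := p) (by
        rw [pResidual, Subgroup.closure_le]
        intro β hβ
        have hb : Iso E (af ((β : E.autGroup R) : MulAut R)) R R := autGroup_iso hRn.1 (β : E.autGroup R).2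
        have hpow : ((β : E.autGroup R) : MulAut R) ^ orderOf β = 1 := by
          rw [← SubmonoidClass.coe_pow, ← SubmonoidClass.coe_pow, pow_orderOf_eq_one]; rfl
        refine step c hQ hc hrad hb hβ (fun x hx => ?_) (pgen_data c hQ hc β.2 hβ hpow)
        refine (horder _ _ ⟨x, hx⟩).trans ?_
        show (((((β : E.autGroup R) : MulAut R) ^ orderOf β) ⟨x, hx⟩ : R) : Ω) = x
        rw [hpow]; rfl)
        fun h => hidx' (h.trans (Subgroup.index_dvd_of_le (Subgroup.comap_mono hI)))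
      exact Subgroup.subgroupOf_eq_top.mp hK
    let P1 : Sylow p N := (hPp.comap_subtype).toSylow hidx'
    have hfr := Sylow.normalizer_sup_eq_top P1
    rw [show (P1 : Subgroup N).map N.subtype = P0 by
      rw [show (P1 : Subgroup N) = P0.subgroupOf N from IsPGroup.toSylow_coe _ _,
        Subgroup.subgroupOf_map_subtype, inf_eq_left.mpr hPN]] at hfr
    exact top_le_iff.mp (hfr ▸ sup_le hNS hN)

end Cfsg.Agent.Fusion.CoreCent
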