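/-
Components centralise the normal subgroups of a saturated system.
-/
import Cfsg.Agent.Fusion.CoreCent
import Cfsg.Agent.Fusion.CentESystem
import Cfsg.Agent.Fusion.Envelope
set_option autoImplicit false
set_option linter.style.haveILetI false
set_option linter.unusedSectionVars false
set_option maxHeartbeats 1000000

namespace Cfsg.Agent.Fusion.ComponentCore

open Cfsg Cfsg.FusionSystem Cfsg.Agent.Fusion Cfsg.Agent.Fusion.SatCrit Cfsg.Agent.Fusion.WeakResidual
open Cfsg.Agent.Fusion.CharSys (af af_coe)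
open Cfsg.Agent.Fusion.CentFix (exists_pprime_power iterate_agree cent_mor)

variable {Ω : Type*} [Group Ω] {S T Q U : Subgroup Ω} {F : FusionSystem S} {p : ℕ}
  {P : Subgroup Ω} {f : Ω → Ω}

/-- An extension over `Q` fixing `Q`. -/
def Fx (F : FusionSystem S) (Q P : Subgroup Ω) (f : Ω → Ω) : Prop :=
  ∃ g, Mor F (P ⊔ Q) g ∧ (∀ x ∈ P, g x = f x) ∧ ∀ q ∈ Q, g q = q

theorem inner_normalIn [Fact p.Prime] [Finite S] (hS : IsPGroup p S) (hF : F.IsSaturated p)
    (hQ : F.IsNormal Q) : (innerFusionSystem Q).IsNormalIn F p := by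
  haveI := finite_of_le hQ.1
  refine Envelope.normal_of_hf ((isNormal_iff_inner_weaklyNormal hS hF hQ.1).mp hQ) fun a ha => ⟨ha, ?_⟩
  obtain ⟨-, -, s, hs, es⟩ := (innerFusion_inducedBy Q _ _).mp ha.mor
  refine ⟨cj s, Iso.conj_self (sup_le hQ.1 centralizerIn_le) (hQ.1 hs)
    (Subgroup.le_normalizer (Subgroup.mem_sup_left hs)), fun x hx => (es x hx).symm, fun z hz => ?_⟩
  rw [cj_apply, hz.2 s hs, mul_inv_cancel_right, inv_mul_cancel]
  exact Q.one_mem

/-- A normal subgroup of a quasisimple system is central. -/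
theorem quasisimple_fix [Fact p.Prime] [Finite S] (hS : IsPGroup p S) (hqs : F.Quasisimple p)
    (hQ : F.IsNormal Q) : Q ≤ F.center := by
  obtain ⟨hF, hhyp, hsimple⟩ := hqs
  have hZc : F.IsCentral F.center := center_isCentral
  have hZn : F.IsNormal F.center := isNormal_of_extStab hZc.1 fun P f hf => by
    obtain ⟨g, hg, eg, mg⟩ := mor_central_ext hZc hf
    exact ⟨g, hg, eg, fun x hx => (mg x hx).symm ▸ hx⟩
  have hZs := isNormal_stronglyClosed hZn
  obtain ⟨E, hE⟩ := exists_factorSystem_quotient F F.center hZs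
  have hEs := hsimple E hE
  set θ := QuotientGroup.mk' ((F.center).subgroupOf S) with hθ
  have hk := hE.2.1
  haveI : Finite ↥(⊤ : Subgroup (↥S ⧸ (F.center).subgroupOf S)) := inferInstance
  have hp' : IsPGroup p ↥(⊤ : Subgroup (↥S ⧸ (F.center).subgroupOf S)) :=
    (hS.to_quotient _).to_subgroup _
  have hQ' : E.IsNormal (imageAlong θ Q) := by
    refine isNormal_of_extStab le_top fun P' g hg => ?_
    obtain ⟨f, hf, ef⟩ := factor_lift hE hg
    obtain ⟨h, hh, eh, mh⟩ := ExtStab.of_isNormal hQ hf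
    obtain ⟨g', hg', eg'⟩ := factor_push hZs hE hh
      ((le_preimageAlong θ hk hE.1 P').trans le_sup_left)
    have hle : P' ⊔ imageAlong θ Q ≤ imageAlong θ (preimageAlong θ P' ⊔ Q) := by
      refine sup_le (fun y hy => ?_) (Subgroup.map_mono (Subgroup.comap_mono le_sup_right))
      obtain ⟨x, hx, rfl⟩ := exists_preimage hE le_top hy
      exact (mem_imageAlong (hP := hh.dom_le)).mpr ⟨x, Subgroup.mem_sup_left hx, rfl⟩
    refine ⟨g', hg'.restrict hle, fun y hy => ?_, fun y hy => ?_⟩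
    · obtain ⟨x, hx, rfl⟩ := exists_preimage hE le_top hy
      rw [eg' x (Subgroup.mem_sup_left hx), eh x hx, ef x hx]
    · obtain ⟨x, hx, rfl⟩ := (mem_imageAlong (hP := hQ.1)).mp hy
      rw [eg' x (Subgroup.mem_sup_right hx)]
      exact (mem_imageAlong (hP := hQ.1)).mpr ⟨h x, mh x hx, rfl⟩
  rcases hEs.2.2 _ _ (inner_normalIn hp' hEs.1 hQ') with hbot | ⟨htop, heq⟩
  · intro x hx
    have h1 : extHom θ x = 1 := by
      have : extHom θ x ∈ imageAlong θ Q := (mem_imageAlong (hP := hQ.1)).mpr ⟨x, hx, rfl⟩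
      rwa [hbot, Subgroup.mem_bot] at this
    exact (extHom_eq_one hk (hQ.1 hx)).mp h1
  · -- every map of the factor system is a conjugation
    exfalso
    have hZS := hZs.1
    have key : F.hyperfocalSubgroup p ≤ F.center := by
      refine hyperfocal_le_of fun P f k hf hk' hfk x hx => ?_
      obtain ⟨ψ, l, hψ, hl, hψl, eψ⟩ := exists_pprime_lift hS hF hZs hf hk' hfk
      obtain ⟨g, hg, eg⟩ := factor_push hZs hE hψ.mor le_sup_right
      obtain ⟨φ, hφ, eφ⟩ : Mor (innerFusionSystem (imageAlong θ Q)) (imageAlong θ (P ⊔ F.center)) g := by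
        obtain ⟨φ, hφ, eφ⟩ := hg
        exact ⟨φ, (heq _).symm ▸ hφ, eφ⟩
      obtain ⟨-, -, w, -, ew⟩ := (innerFusion_inducedBy (imageAlong θ Q) _ _).mp
        (⟨φ, hφ, eφ⟩ : Mor (innerFusionSystem (imageAlong θ Q)) _ g)
      have hit : ∀ n : ℕ, ∀ y ∈ P ⊔ F.center, cj (w ^ n) (extHom θ y) = extHom θ (ψ^[n] y) := by
        intro n
        induction n with
        | zero => intro y _; simp
        | succ n ih =>
          intro y hy
          have hy' := iterate_mapsTo (fun z hz => hψ.mapsTo hz) n y hy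
          rw [Function.iterate_succ_apply', pow_succ', cj_mul, ih y hy, ← eg _ hy',
            ew _ ((mem_imageAlong (hP := hψ.dom_le)).mpr ⟨_, hy', rfl⟩)]
      obtain ⟨i, hi⟩ : ∃ i : ℕ, (w ^ l) ^ i = w := by
        obtain ⟨j, hj⟩ := (hS.to_quotient ((F.center).subgroupOf S)) w
        refine exists_pow_eq_self_of_coprime (Nat.Coprime.coprime_dvd_right
          (orderOf_dvd_of_pow_eq_one hj) (hl.pow_right j))
      have hwl : ∀ (i : ℕ), ∀ y ∈ P ⊔ F.center, cj ((w ^ l) ^ i) (extHom θ y) = extHom θ y := by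
        intro i y hy
        induction i with
        | zero => simp
        | succ i ih => rw [pow_succ, cj_mul, hit l y hy, hψl y hy, ih]
      have hfix : ∀ y ∈ P ⊔ F.center, y⁻¹ * ψ y ∈ F.center := fun y hy => by
        have h1 : extHom θ (ψ y) = extHom θ y := by
          rw [← eg y hy, ew _ ((mem_imageAlong (hP := hψ.dom_le)).mpr ⟨y, hy, rfl⟩), ← hi, hwl i y hy]
        exact (extHom_eq_iff hk (hψ.dom_le hy) (hψ.mor.map_mem hy)).mp h1.symm
      have hψZ : ∀ z ∈ F.center, ψ z = z := fun z hz => by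
        obtain ⟨g2, -, e2, m2⟩ := mor_central_ext hZc hψ.mor
        rw [← e2 z (Subgroup.mem_sup_right hz), m2 z hz]
      have hx' : x ∈ P ⊔ F.center := Subgroup.mem_sup_left hx
      have hpow := iterate_fix hψ.mor (le_sup_right : F.center ≤ P ⊔ F.center) hψZ hfix l x hx'
      rw [hψl x hx'] at hpow
      have hz1 : (x⁻¹ * ψ x) ^ l = 1 := by
        nth_rw 1 [← mul_one x] at hpow
        exact (mul_left_cancel hpow).symm
      have hu : x⁻¹ * ψ x = 1 := by
        obtain ⟨j, hj⟩ := hS ⟨x⁻¹ * ψ x, hZS (hfix x hx')⟩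
        have hd : orderOf (x⁻¹ * ψ x) ∣ p ^ j := orderOf_dvd_of_pow_eq_one (by simpa using congrArg Subtype.val hj)
        have := Nat.eq_one_of_dvd_coprimes (hl.symm.pow_left j) hd (orderOf_dvd_of_pow_eq_one hz1)
        exact orderOf_eq_one_iff.mp this
      have := F.center.inv_mem (eψ x hx)
      rw [mul_inv_rev, inv_inv, show ψ x = x from (inv_mul_eq_one.mp hu).symm] at this
      exact this
    rw [hhyp] at key
    refine hEs.2.1 (eq_bot_iff.mpr fun y _ => ?_)
    obtain ⟨s, rfl⟩ := QuotientGroup.mk'_surjective _ y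
    exact Subgroup.mem_bot.mpr ((hk s).mpr (key s.2))

theorem closed_fx [Finite S] {C : FusionSystem U} (hQ : F.IsNormal Q) (hU : U ≤ centralizerIn S Q) :
    Closed C (Fx F Q) where
  conj := fun {P t} hP ht => by
    refine ⟨cj t, Mor.conj (sup_le ((hP.trans hU).trans centralizerIn_le) hQ.1) (hU ht).1,
      fun _ _ => rfl, fun q hq => ?_⟩
    rw [cj_apply, ← (hU ht).2 q hq, mul_inv_cancel_right]
  congr := fun _ e ⟨g, hg, eg, gQ⟩ => ⟨g, hg, fun x hx => (eg x hx).trans (e x hx), gQ⟩
  comp := fun {P P' f f'} _ _ m ⟨g, hg, eg, gQ⟩ ⟨g', hg', eg', gQ'⟩ => by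
    refine ⟨g' ∘ g, hg.comp hg' (hg.map_sup (fun x hx => Subgroup.mem_sup_left (eg x hx ▸ m x hx))
      fun x hx => Subgroup.mem_sup_right ((gQ x hx).symm ▸ hx)), fun x hx => ?_, fun q hq => ?_⟩
    · show g' (g x) = f' (f x)
      rw [eg x hx, eg' _ (m x hx)]
    · show g' (g q) = q
      rw [gQ q hq, gQ' q hq]
  inv := fun {P P' f f'} hf _ e ⟨g, hg, eg, gQ⟩ => by
    obtain ⟨k', hk', ek', -⟩ := hg.toIso.exists_symm
    have hsub : P' ⊔ Q ≤ hg.img := sup_le
      (fun y hy => by
        obtain ⟨x, hx, rfl⟩ := hf.surj hy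
        exact hg.mem_img.mpr ⟨x, Subgroup.mem_sup_left hx, eg x hx⟩)
      (fun y hy => hg.mem_img.mpr ⟨y, Subgroup.mem_sup_right hy, gQ y hy⟩)
    refine ⟨k', hk'.mor.restrict hsub, fun y hy => ?_, fun y hy => ?_⟩
    · obtain ⟨x, hx, rfl⟩ := hf.surj hy
      rw [e x hx, ← eg x hx, ek' x (Subgroup.mem_sup_left hx)]
    · conv_lhs => rw [← gQ y hy]
      exact ek' y (Subgroup.mem_sup_right hy)

/-- A component fixes every normal subgroup. -/
theorem component_fix {U S : Subgroup Ω} {C : FusionSystem U} {F : FusionSystem S} {p : ℕ}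
    (hsub : C.IsSubnormalIn F p) : ∀ [Finite S] [Fact p.Prime], IsPGroup p S → F.IsSaturated p →
      C.Quasisimple p → ∀ Q : Subgroup Ω, F.IsNormal Q →
        U ≤ centralizerIn S Q ∧ ∀ P f, Mor C P f → Fx F Q P f := by
  induction hsub with
  | @refl F p =>
    intro _ _ hS hF hqs Q hQ
    have hQZ := quasisimple_fix hS hqs hQ
    refine ⟨fun s hs => ⟨hs, fun q hq => ((F.center_le_centralizer (hQZ hq)) s hs).symm⟩,
      fun P f hf => ?_⟩
    obtain ⟨g, hg, eg, mg⟩ := mor_central_ext center_isCentral hf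
    exact ⟨g, hg.restrict (sup_le_sup le_rfl hQZ), eg, fun q hq => mg q (hQZ hq)⟩
  | @step V S C D F p _ hDF ih =>
    intro _ _ hS hF hqs Q hQ
    have c := CentE.Ctx.of_normal hS hDF
    have hVS : V ≤ S := c.tle
    haveI := finite_of_le hVS
    have hD : D.IsSaturated p := hDF.1.1
    have hVp := hS.to_le hVS
    have hQ0 : D.IsNormal (Q ⊓ V) := (isNormal_iff_centricRadical hVp hD).mpr
      ⟨Envelope.stronglyClosed_mk inf_le_right fun P f hf x hx hxI =>
        ⟨stronglyClosed_mem (isNormal_stronglyClosed hQ) (c.toWCtx.sub hf) hx hxI.1, hf.map_mem hx⟩,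
       fun R hc hr => CoreCent.inf_le_radical c hQ hc hr⟩
    obtain ⟨hUQ0, hfx⟩ := ih hVp hD hqs _ hQ0
    have hUV : U ≤ V := hUQ0.trans centralizerIn_le
    haveI := finite_of_le hUV
    have hUp := hVp.to_le hUV
    have hQs := isNormal_stronglyClosed hQ
    haveI := finite_of_le hQ.1
    -- automorphisms of order prime to `p`
    have main : ∀ (P : Subgroup Ω) (f : Ω → Ω) (k : ℕ), Iso C f P P → k.Coprime p →
        (∀ x ∈ P, f^[k] x = x) → Fx F Q P f := by
      intro P f k hf hk hfk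
      obtain ⟨h, hh, eh, mh⟩ := hfx P f hf.mor
      obtain ⟨g, hg, eg, gQ, gT⟩ := CoreCent.ext_all c hQ _ _ hh
      have hPS : P ≤ S := (hf.dom_le.trans hUV).trans hVS
      have hle : P ⊔ Q ≤ (P ⊔ (Q ⊓ V)) ⊔ Q := sup_le_sup le_sup_left le_rfl
      have hg' := hg.restrict hle
      haveI := finite_of_le hg'.dom_le
      have egP : ∀ x ∈ P, g x = f x := fun x hx =>
        (eg x (Subgroup.mem_sup_left hx)).trans (eh x hx)
      have hgi : Iso F g (P ⊔ Q) (P ⊔ Q) := hg'.iso_of_card (fun x hx => hg'.map_sup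
        (fun y hy => Subgroup.mem_sup_left (by rw [egP y hy]; exact hf.mapsTo hy))
        (fun y hy => Subgroup.mem_sup_right (gQ y hy)) x hx) le_rfl
      obtain ⟨m, l, hm, hl, hml⟩ := exists_pprime_power hgi hk
      refine ⟨g^[m], (iso_pow hgi m).mor, fun x hx => ?_, fun q hq => ?_⟩
      · rw [iterate_agree (fun z hz => hf.mapsTo hz) egP m x hx, iterate_mod hfk m hx, hm,
          ← iterate_mod hfk 1 hx, Function.iterate_one]
      · set u := q⁻¹ * g q with hudef
        have hu : u ∈ Q ⊓ V := ⟨Q.mul_mem (Q.inv_mem hq) (gQ q hq), gT q hq⟩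
        have hfixu : ∀ n : ℕ, g (u ^ n) = u ^ n := fun n => by
          have hn : u ^ n ∈ Q ⊓ V := pow_mem hu n
          rw [eg _ (Subgroup.mem_sup_right hn), mh _ hn]
        have hW : ∀ n : ℕ, u ^ n ∈ P ⊔ Q := fun n => Subgroup.mem_sup_right (pow_mem hu.1 n)
        have hit : ∀ n : ℕ, g^[n] q = q * u ^ n := by
          intro n
          induction n with
          | zero => simp
          | succ n ih =>
            rw [Function.iterate_succ_apply', ih, hgi.mor.map_mul (Subgroup.mem_sup_right hq) (hW n),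
              hfixu n, show g q = q * u by rw [hudef, mul_inv_cancel_left], mul_assoc, ← pow_succ']
        rw [hit m]
        have h1 := hml q (Subgroup.mem_sup_right hq)
        rw [← Function.iterate_mul, hit] at h1
        have h2 : (u ^ m) ^ l = 1 := by rw [← pow_mul]; exact mul_eq_left.mp h1
        obtain ⟨j, hj⟩ := hS ⟨u ^ m, hQ.1 (pow_mem hu.1 m)⟩
        have hd : orderOf (u ^ m) ∣ p ^ j :=
          orderOf_dvd_of_pow_eq_one (by simpa using congrArg Subtype.val hj)
        rw [orderOf_eq_one_iff.mp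
          (Nat.eq_one_of_dvd_coprimes (hl.symm.pow_left j) hd (orderOf_dvd_of_pow_eq_one h2)), mul_one]
    have hUQ : U ≤ centralizerIn S Q := by
      rw [← hqs.2.1]
      refine hyperfocal_le_of fun P f k hf hk hfk x hx => ?_
      obtain ⟨g, hg, eg, gQ⟩ := main P f k hf hk hfk
      have hxS : x ∈ S := hg.dom_le (Subgroup.mem_sup_left hx)
      refine ⟨S.mul_mem (S.inv_mem hxS) (eg x hx ▸ hg.map_mem (Subgroup.mem_sup_left hx)), fun q hq => ?_⟩
      have hc : x * q * x⁻¹ ∈ Q := stronglyClosed_mem hQs (Mor.conj hQ.1 hxS) hq hq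
      have e : g (x * q * x⁻¹) = g x * g q * (g x)⁻¹ :=
        hg.map_conj (Subgroup.mem_sup_left hx) (Subgroup.mem_sup_right hq)
      rw [gQ q hq, gQ _ hc, eg x hx] at e
      calc q * (x⁻¹ * f x) = x⁻¹ * (x * q * x⁻¹) * f x := by group
        _ = x⁻¹ * (f x * q * (f x)⁻¹) * f x := by rw [e]
        _ = x⁻¹ * f x * q := by group
    refine ⟨hUQ, mor_induction hUp hqs.1 (closed_fx hQ hUQ) fun R hR _ f hf => ?_⟩
    haveI := finite_of_le hR.1
    haveI := finite_mulAut (G := R)
    have hC := closed_fx (C := C) hQ hUQ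
    suffices key : ∀ α : C.autGroup R, Fx F Q R (af (α : MulAut R)) from
      hC.congr (autGroup_iso hR.1 hf.equiv_mem_autGroup).mor (fun x hx => af_coe _ ⟨x, hx⟩)
        (key ⟨_, hf.equiv_mem_autGroup⟩)
    intro α
    have hα : α ∈ pResidual p ↥(C.autGroup R) ⊔ (autInducedBy U R).subgroupOf (C.autGroup R) :=
      (autGroup_generated hUp hqs.1 hR).symm ▸ Subgroup.mem_top α
    rw [pResidual, ← Subgroup.closure_eq ((autInducedBy U R).subgroupOf (C.autGroup R)),
      ← Subgroup.closure_union] at hα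
    induction hα using Subgroup.closure_induction with
    | mem γ hγ =>
      rcases hγ with hγ | hγ
      · refine main R _ (orderOf γ) (autGroup_iso hR.1 γ.2) hγ fun x hx => ?_
        have hord : ∀ (n : ℕ) (x : R), (af (γ : MulAut R))^[n] (x : Ω) = ((((γ : MulAut R) ^ n) x : R) : Ω) := by
          intro n
          induction n with
          | zero => intro x; rfl
          | succ n ih => intro x; rw [Function.iterate_succ_apply', ih x, af_coe, pow_succ', MulAut.mul_apply]
        refine (hord _ ⟨x, hx⟩).trans ?_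
        rw [← SubmonoidClass.coe_pow, pow_orderOf_eq_one]
        rfl
      · obtain ⟨t, ht, -, et⟩ := mem_autInducedBy.mp (show (γ : MulAut R) ∈ autInducedBy U R from hγ)
        exact hC.congr (Mor.conj hR.1 ht) (fun x hx => (et ⟨x, hx⟩).symm.trans (af_coe _ ⟨x, hx⟩).symm)
          (hC.conj hR.1 ht)
    | one =>
      exact hC.congr (Mor.conj hR.1 U.one_mem)
        (fun x hx => (cj_one x).trans (af_coe (1 : MulAut R) ⟨x, hx⟩).symm) (hC.conj hR.1 U.one_mem)
    | mul γ δ _ _ hγ hδ =>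
      have hγi : Iso C (af (γ : MulAut R)) R R := autGroup_iso hR.1 γ.2
      have hδi : Iso C (af (δ : MulAut R)) R R := autGroup_iso hR.1 δ.2
      refine hC.congr (hδi.comp hγi).mor (fun x hx => ?_)
        (hC.comp hδi.mor hγi.mor (fun x hx => hδi.mapsTo hx) hδ hγ)
      show af (γ : MulAut R) (af (δ : MulAut R) x) = af ((γ * δ : C.autGroup R) : MulAut R) x
      rw [af_coe (δ : MulAut R) ⟨x, hx⟩, af_coe (γ : MulAut R),
        af_coe ((γ * δ : C.autGroup R) : MulAut R) ⟨x, hx⟩]
      rfl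
    | inv γ _ hγ =>
      have hγi : Iso C (af (γ : MulAut R)) R R := autGroup_iso hR.1 γ.2
      refine hC.inv hγi (autGroup_iso hR.1 (γ⁻¹).2) (fun x hx => ?_) hγ
      rw [af_coe (γ : MulAut R) ⟨x, hx⟩]
      exact (af_coe _ _).trans (congrArg Subtype.val (MulAut.inv_apply_self _ _ _))

/-- The centralizer system of a normal subgroup is normal. -/
theorem cent_normal [Fact p.Prime] [Finite S] (hS : IsPGroup p S) (hF : F.IsSaturated p)
    (hQ : F.IsNormal Q) {CQ : FusionSystem (centralizerIn S Q)} (hCQ : F.IsCentralizerSystem Q CQ) :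
    CQ.IsNormalIn F p := by
  haveI := finite_of_le hQ.1
  haveI := finite_of_le (centralizerIn_le : centralizerIn S Q ≤ S)
  have c := CentE.Ctx.of_normal hS (inner_normalIn hS hF hQ)
  have hsat := centralizerSystem_saturated hS hF c.fullyCentralizedT hCQ
  refine CentESystem.normal c hCQ hsat hasPPowerIndex_refl le_rfl ?_
  refine Envelope.stronglyClosed_mk centralizerIn_le fun P f hf x hx hxC => ?_
  obtain ⟨g, hg, eg, mg⟩ := ExtStab.of_isNormal hQ hf
  have hgi : Iso F g Q Q := (hg.restrict le_sup_right).iso_of_card mg le_rfl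
  rw [← eg x hx]
  exact hgi.map_centralizer hg le_sup_right (fun _ _ => rfl) (Subgroup.mem_sup_left hx) hxC

/-- A component is contained in the centralizer system of every normal subgroup. -/
theorem component_le_cent [Fact p.Prime] [Finite S] (hS : IsPGroup p S) (hF : F.IsSaturated p)
    {C : FusionSystem U} (hC : C.IsComponentIn F p) (hQ : F.IsNormal Q)
    {CQ : FusionSystem (centralizerIn S Q)} (hCQ : F.IsCentralizerSystem Q CQ) :
    C.IsSubsystemOf CQ := by
  obtain ⟨hU, hfx⟩ := component_fix hC.1 hS hF hC.2 Q hQ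
  intro P φ hφ
  have hm := mor_of_mem hφ
  exact mem_iff_mor.mpr ((cent_mor hCQ).mpr
    ⟨hm.dom_le.trans hU, fun x hx => hU (hm.map_mem hx), hfx P _ hm⟩)

end Cfsg.Agent.Fusion.ComponentCore
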