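/-
Subnormal subsystems of constrained systems.
-/
import Cfsg.Agent.Fusion.NormalMore
import Cfsg.Agent.Fusion.SubsystemClosed
set_option autoImplicit false
set_option linter.style.haveILetI false

namespace Cfsg.Agent.Fusion

open Cfsg Cfsg.FusionSystem
open scoped commutatorElement Pointwise

universe u

variable {Ω : Type u} [Group Ω] {S T : Subgroup Ω} {F : FusionSystem S} {E : FusionSystem T} {p : ℕ}

/-- A saturated subsystem on a strongly closed subgroup of a constrained system is constrained. -/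
theorem subsystem_constrained [Fact p.Prime] [Finite S] (hS : IsPGroup p S) (hF : F.IsConstrained p)
    (hE : E.IsSaturated p) (hsub : E.IsSubsystemOf F) (hT : F.StronglyClosed T) : E.IsConstrained p := by
  obtain ⟨-, Q, hQ, hQc⟩ := hF
  have hTS := hT.1
  haveI := finite_of_le hTS
  have hTp : IsPGroup p T := hS.to_le hTS
  have hQs := isNormal_stronglyClosed hQ
  have hnT := stronglyClosed_normalizer hT
  have hnQ := stronglyClosed_normalizer hQs
  -- `Q ⊓ T` is normal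
  obtain ⟨n, C, h0, hn, hmono, hCn, hcomm⟩ := exists_normal_chain hS hQ
  have hcl : ∀ i, E.StronglyClosed (C i ⊓ T) := fun i => stronglyClosed_of_mor inf_le_right fun P f hf x hxP hx =>
    ⟨stronglyClosed_mem (isNormal_stronglyClosed (hCn i)) (subsystem_mor hsub hf) hxP hx.1, hf.map_mem hxP⟩
  set Q₀ := Q ⊓ T with hQ₀def
  have hQ₀ : E.IsNormal Q₀ := by
    refine isNormal_of_chain hTp hE (by rw [hQ₀def, ← hn]; exact hcl n) n (fun i => C i ⊓ T) ?_ ?_
      (fun i _ => inf_le_inf_right _ (hmono (Nat.le_succ i))) (fun i _ => weaklyClosed_of_stronglyClosed (hcl i))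
      (fun i _ x hx q hq => ⟨hcomm i x hx.1 q hq.1, by
        rw [commutatorElement_def]
        exact T.mul_mem (T.mul_mem (T.mul_mem hx.2 hq.2) (T.inv_mem hx.2)) (T.inv_mem hq.2)⟩)
    · show C 0 ⊓ T = ⊥
      rw [h0, bot_inf_eq]
    · show C n ⊓ T = Q₀
      rw [hn]
  have hQ₀s := isNormal_stronglyClosed hQ₀
  set K := centralizerIn T Q₀ with hK
  set W := K ⊔ Q₀ with hW
  have hKn : K ≤ Subgroup.normalizer (Q₀ : Set Ω) := fun c hc => Subgroup.centralizer_le_normalizer _ hc.2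
  have hWmem : ∀ {x}, x ∈ W → ∃ c ∈ K, ∃ q ∈ Q₀, c * q = x := by
    intro x hx
    have h : x ∈ ((W : Subgroup Ω) : Set Ω) := hx
    rw [Subgroup.coe_mul_of_left_le_normalizer_right K Q₀ hKn] at h
    exact h
  have hWT : W ≤ T := sup_le centralizerIn_le inf_le_right
  -- commutators in the centralizer
  have hK' : ∀ c ∈ K, ∀ d ∈ K, d⁻¹ * c * d * c⁻¹ ∈ Q₀ := by
    intro c hc d hd
    have hmove : ∀ c ∈ K, ∀ q ∈ Q, q⁻¹ * c * q * c⁻¹ ∈ Q₀ ∧
        ∀ w ∈ Q₀, (q⁻¹ * c * q * c⁻¹) * w = w * (q⁻¹ * c * q * c⁻¹) := by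
      intro c hc q hq
      have hcS := hTS hc.1
      have h1 : q⁻¹ * c * q * c⁻¹ ∈ Q := by
        rw [show q⁻¹ * c * q * c⁻¹ = q⁻¹ * (c * q * c⁻¹) by group]
        exact Q.mul_mem (Q.inv_mem hq) ((Subgroup.mem_normalizer_iff.mp (hnQ hcS) q).mp hq)
      have h2 : q⁻¹ * c * q * c⁻¹ ∈ T := by
        refine T.mul_mem ?_ (T.inv_mem hc.1)
        have := (Subgroup.mem_normalizer_iff.mp (hnT (S.inv_mem (hQ.1 hq))) c).mp hc.1
        rwa [inv_inv] at this
      refine ⟨⟨h1, h2⟩, fun w hw => mul_inv_eq_iff_eq_mul.mp ?_⟩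
      have hw' : q * w * q⁻¹ ∈ Q₀ := ⟨Q.mul_mem (Q.mul_mem hq hw.1) (Q.inv_mem hq),
        (Subgroup.mem_normalizer_iff.mp (hnT (hQ.1 hq)) w).mp hw.2⟩
      have e1 : c⁻¹ * w * c = w := by rw [mul_assoc, hc.2 w hw, inv_mul_cancel_left]
      have e2 : c * (q * w * q⁻¹) * c⁻¹ = q * w * q⁻¹ := by rw [← hc.2 _ hw', mul_inv_cancel_right]
      calc (q⁻¹ * c * q * c⁻¹) * w * (q⁻¹ * c * q * c⁻¹)⁻¹
          = q⁻¹ * (c * (q * (c⁻¹ * w * c) * q⁻¹) * c⁻¹) * q := by group
        _ = w := by rw [e1, e2]; group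
    set z := c⁻¹ * d⁻¹ * c * d with hz
    have hzT : z ∈ T := T.mul_mem (T.mul_mem (T.mul_mem (T.inv_mem hc.1) (T.inv_mem hd.1)) hc.1) hd.1
    have hzC : z ∈ centralizerIn S Q := by
      refine ⟨hTS hzT, fun q hq => ?_⟩
      obtain ⟨ha, ha'⟩ := hmove c hc q hq
      obtain ⟨hb, -⟩ := hmove d hd q hq
      set a := q⁻¹ * c * q * c⁻¹ with hadef
      set b := q⁻¹ * d * q * d⁻¹ with hbdef
      have ea : c * q = q * a * c := by rw [hadef]; group
      have eb : d * q = q * b * d := by rw [hbdef]; group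
      have f1 : (c * d) * q = q * (a * b) * (c * d) := by
        rw [mul_assoc, eb, ← mul_assoc, ← mul_assoc, ea, mul_assoc (q * a) c b, ← hc.2 b hb]; group
      have f2 : (d * c) * q = q * (a * b) * (d * c) := by
        rw [ha' b hb, mul_assoc, ea, ← mul_assoc, ← mul_assoc, eb, mul_assoc (q * b) d a, ← hd.2 a ha]; group
      calc q * z = q * ((d * c)⁻¹ * (c * d)) := by rw [hz]; group
        _ = (d * c)⁻¹ * ((d * c) * q) * ((d * c)⁻¹ * (c * d)) := by group
        _ = (d * c)⁻¹ * (q * (a * b) * (c * d)) := by rw [f2]; group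
        _ = (d * c)⁻¹ * ((c * d) * q) := by rw [f1]
        _ = z * q := by rw [hz]; group
    have hzQ₀ : z ∈ Q₀ := ⟨hQc.2 Q (isConj_refl hQ.1) hzC, hzT⟩
    have h3 := hc.2 z hzQ₀
    rw [show d⁻¹ * c * d * c⁻¹ = c * z * c⁻¹ by rw [hz]; group, ← h3, mul_inv_cancel_right]
    exact hzQ₀
  have hWs : E.StronglyClosed W := by
    refine stronglyClosed_of_mor hWT fun P f hf x hxP hx => ?_
    obtain ⟨c, hc, q, hq, rfl⟩ := hWmem hx
    obtain ⟨g, hg, eg, mg⟩ := ExtStab.of_isNormal hQ (subsystem_mor hsub hf)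
    have hqD : q ∈ P ⊔ Q := Subgroup.mem_sup_right hq.1
    have hcD : c ∈ P ⊔ Q := by
      have := mul_mem (Subgroup.mem_sup_left (T := Q) hxP) (inv_mem hqD)
      rwa [mul_inv_cancel_right] at this
    have hgQ₀ : ∀ w ∈ Q₀, g w ∈ Q₀ := fun w hw =>
      ⟨mg w hw.1, stronglyClosed_mem hT hg (Subgroup.mem_sup_right hw.1) hw.2⟩
    have hsurj : ∀ y ∈ Q₀, ∃ w ∈ Q₀, g w = y := by
      intro y hy
      haveI : Finite ↥Q₀ := finite_of_le inf_le_right
      obtain ⟨w, hw⟩ := Finite.surjective_of_injective (f := fun w : Q₀ => (⟨g w, hgQ₀ w w.2⟩ : Q₀))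
        (fun u v e => Subtype.ext (hg.injOn (Subgroup.mem_sup_right u.2.1) (Subgroup.mem_sup_right v.2.1)
          (Subtype.mk.inj e))) ⟨y, hy⟩
      exact ⟨w, w.2, congrArg Subtype.val hw⟩
    rw [← eg _ hxP, hg.map_mul hcD hqD]
    refine mul_mem (Subgroup.mem_sup_left ⟨stronglyClosed_mem hT hg hcD hc.1, fun y hy => ?_⟩)
      (Subgroup.mem_sup_right (hgQ₀ q hq))
    obtain ⟨w, hw, rfl⟩ := hsurj y hy
    rw [← hg.map_mul (Subgroup.mem_sup_right hw.1) hcD, hc.2 w hw, hg.map_mul hcD (Subgroup.mem_sup_right hw.1)]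
  have hWn := stronglyClosed_normalizer hWs
  have hWnormal : E.IsNormal W := by
    refine isNormal_of_stronglyClosed hTp hE hWs fun R hR => ?_
    have hr := essential_radical hTp hR
    have hc := hR.1
    have hQR : Q₀ ≤ R := isNormal_le_centricRadical hTp hQ₀ hc hr
    by_contra hWR
    haveI := finite_of_le (sup_le hc.1 hWT)
    haveI := finite_of_le hc.1
    obtain ⟨b, hbT, hbR, hbn⟩ := exists_mem_normalizer_of_lt (hTp.to_le (sup_le hc.1 hWT))
      (lt_of_le_of_ne le_sup_left fun e => hWR (e ▸ le_sup_right) : R < R ⊔ W)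
    obtain ⟨u, hu, a, haW, rfl⟩ := show b ∈ (R : Set Ω) * (W : Set Ω) by
      rw [← Subgroup.coe_mul_of_left_le_normalizer_right _ _ (hc.1.trans hWn)]
      exact hbT
    obtain ⟨c, hcK, q, hq, rfl⟩ := hWmem haW
    have hcR : c ∉ R := fun h => hbR (R.mul_mem hu (R.mul_mem h (hQR hq)))
    have hcN : c ∈ normalizerIn T R := ⟨hcK.1, by
      have h1 := mul_mem (mul_mem (inv_mem (Subgroup.le_normalizer hu)) hbn)
        (inv_mem (Subgroup.le_normalizer (hQR hq)))
      rwa [inv_mul_cancel_left, mul_inv_cancel_right] at h1⟩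
    let D : ℕ → Subgroup R := fun j =>
      if j = 0 then ⊥ else if j = 1 then Q₀.subgroupOf R else if j = 2 then W.subgroupOf R else ⊤
    refine hcR (mem_of_stabilizes hTp hc hr hcN D 3 rfl rfl ?_ ?_ ?_)
    · intro j hj
      interval_cases j
      · exact bot_le
      · exact Subgroup.comap_mono le_sup_right
      · exact le_top
    · intro α hα j hj x hx
      obtain ⟨f, hf, ef⟩ := (mem_autGroup_iff hc.1).mp hα
      interval_cases j
      · rw [show x = 1 from hx, map_one]; exact one_mem _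
      · show ((α x : R) : Ω) ∈ Q₀
        rw [← ef x]; exact stronglyClosed_mem hQ₀s hf.mor x.2 hx
      · show ((α x : R) : Ω) ∈ W
        rw [← ef x]; exact stronglyClosed_mem hWs hf.mor x.2 hx
      · exact Subgroup.mem_top _
    · intro j hj x hx
      have hval : ((x⁻¹ * actHom T R ⟨c, hcN⟩ x : R) : Ω) = (x : Ω)⁻¹ * c * x * c⁻¹ := by
        rw [Subgroup.coe_mul, InvMemClass.coe_inv, actHom_apply, cj_apply]
        group
      interval_cases j
      · refine Subgroup.mem_bot.mpr (Subtype.ext ?_)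
        rw [hval, mul_assoc _ c, ← hcK.2 (x : Ω) (show (x : Ω) ∈ Q₀ from hx)]
        show (x : Ω)⁻¹ * ((x : Ω) * c) * c⁻¹ = 1
        group
      · show ((x⁻¹ * actHom T R ⟨c, hcN⟩ x : R) : Ω) ∈ Q₀
        obtain ⟨d, hd, w, hw, e⟩ := hWmem (show (x : Ω) ∈ W from hx)
        rw [hval, ← e,
          show (d * w)⁻¹ * c * (d * w) * c⁻¹ = w⁻¹ * ((d⁻¹ * c * d * c⁻¹) * (c * w * c⁻¹)) by group,
          ← hcK.2 w hw, mul_inv_cancel_right]
        exact Q₀.mul_mem (Q₀.inv_mem hw) (Q₀.mul_mem (hK' c hcK d hd) hw)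
      · show ((x⁻¹ * actHom T R ⟨c, hcN⟩ x : R) : Ω) ∈ W
        rw [hval]
        have h1 := (Subgroup.mem_normalizer_iff.mp (hWn (T.inv_mem (hc.1 x.2))) c).mp (Subgroup.mem_sup_left hcK)
        rw [inv_inv] at h1
        exact W.mul_mem h1 (W.inv_mem (Subgroup.mem_sup_left hcK))
  refine ⟨hE, W, hWnormal, hWT, fun R hR x hx => ?_⟩
  obtain ⟨f, hf⟩ := isConj_iff.mp hR
  have hle : R ≤ W := fun y hy => by
    obtain ⟨w, hw, rfl⟩ := hf.surj hy
    exact stronglyClosed_mem hWs hf.mor hw hw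
  haveI := finite_of_le hWT
  obtain rfl : R = W := eq_of_le_of_card hle hf.card_eq.le
  exact Subgroup.mem_sup_left ⟨hx.1, fun y hy => hx.2 y (Subgroup.mem_sup_right hy)⟩

theorem subnormal_constrained {E : FusionSystem T} (h : E.IsSubnormalIn F p) :
    ∀ [Finite S] [Fact p.Prime], IsPGroup p S → F.IsConstrained p → E.IsConstrained p := by
  induction h with
  | refl F p => exact fun _ h => h
  | step hED hDF IH =>
    intro _ _ hS hF
    obtain ⟨⟨hDs, -, hsub, hU, -, -⟩, -⟩ := hDF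
    haveI := finite_of_le hU.1
    exact IH (hS.to_le hU.1) (subsystem_constrained hS hF hDs hsub hU)

end Cfsg.Agent.Fusion
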