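/-
A saturated system which is not constrained has a component.
-/
import Cfsg.Agent.Fusion.CentralLift
import Cfsg.Agent.Fusion.ComponentCore
import Cfsg.Agent.Fusion.CenterTrace
import Cfsg.Agent.Fusion.Constrained
import Cfsg.Agent.Fusion.PowerIndex
import Cfsg.Agent.Fusion.Series
set_option autoImplicit false
set_option linter.style.haveILetI false
set_option linter.unusedSectionVars false
set_option maxHeartbeats 1000000

namespace Cfsg.Agent.Fusion.ComponentExists

open Cfsg Cfsg.FusionSystem Cfsg.Agent.Fusion Cfsg.Agent.Fusion.SatCrit Cfsg.Agent.Fusion.WeakResidual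
open Cfsg.Agent.Fusion.CentralLift (CL)

variable {Ω : Type*} [Group Ω] {S T Q : Subgroup Ω} {F : FusionSystem S} {p : ℕ}

/-- A subgroup normal in the system and containing its centralizer is centric. -/
theorem centric_of_normal [Finite S] (hQ : F.IsNormal Q) (h : centralizerIn S Q ≤ Q) :
    F.IsCentric Q := by
  refine ⟨hQ.1, fun Q' hQ' => ?_⟩
  obtain ⟨f, hf⟩ := isConj_iff.mp hQ'
  haveI := finite_of_le hQ.1
  have hle : Q' ≤ Q := fun y hy => by
    obtain ⟨x, hx, rfl⟩ := hf.surj hy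
    exact stronglyClosed_mem (isNormal_stronglyClosed hQ) hf.mor hx hx
  obtain rfl : Q' = Q := eq_of_le_of_card hle hf.card_eq.le
  exact h

/-- A constrained subsystem which is normal has its centric subgroup in the core. -/
theorem exists_centric_le_core [Fact p.Prime] [Finite S] (hS : IsPGroup p S)
    {D : FusionSystem T} (hD : D.IsNormalIn F p) (hc : D.IsConstrained p) :
    ∃ R, D.IsCentric R ∧ R ≤ F.core := by
  obtain ⟨-, R, hR, hRc⟩ := hc
  refine ⟨R, hRc, fun r hr => le_sSup (show _ ∈ {Q : Subgroup Ω | F.IsNormal Q} from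
    isNormal_closure_images hS hD.1 hR) (Subgroup.subset_closure ?_)⟩
  obtain ⟨φ, hφ, e⟩ := Mor.conj (F := F) (hR.1.trans hD.1.2.2.2.1.1) S.one_mem
  exact ⟨φ, hφ, ⟨r, hr⟩, ((e ⟨r, hr⟩).trans (cj_one r)).symm⟩

/-- If the hyperfocal subgroup is central then the system is constrained. -/
theorem constrained_of_hyperfocal_le_center [Fact p.Prime] [Finite S] (hS : IsPGroup p S)
    (hF : F.IsSaturated p) (h : F.hyperfocalSubgroup p ≤ F.center) : F.IsConstrained p := by
  have hp : p.Prime := Fact.out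
  have hZ : F.IsCentral F.center := center_isCentral
  refine ⟨hF, S, isNormal_self_of_no_essential hS hF fun P hP => ?_, centric_of_normal
    (isNormal_self_of_no_essential hS hF fun P hP => ?_) centralizerIn_le⟩ <;>
  · haveI := finite_of_le hP.1.1
    haveI := finite_mulAut (G := P)
    refine not_essential_of_normal_pGroup hS hF hP ⊤ inferInstance (fun g => ?_) le_top
    have hZP : F.center ≤ P := fun z hz => hP.1.2 P (isConj_refl hP.1.1)
      ⟨hZ.1 hz, fun x hx => F.center_le_centralizer hz x (hP.1.1 hx)⟩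
    obtain ⟨α, -⟩ := g
    obtain ⟨a, m, hm, e⟩ := Nat.exists_eq_pow_mul_and_not_dvd (orderOf_pos α).ne' p hp.ne_one
    refine ⟨a, Subtype.ext ?_⟩
    show α ^ p ^ a = 1
    set β := α ^ p ^ a
    have hβ : β ^ m = 1 := by rw [← pow_mul, ← e, pow_orderOf_eq_one]
    obtain ⟨f, hf, ef⟩ := (mem_autGroup_iff hP.1.1).mp β.2
    have hit : ∀ (n : ℕ) (x : P), f^[n] (x : Ω) = ((((β : MulAut P) ^ n) x : P) : Ω) := by
      intro n
      induction n with
      | zero => intro x; rfl
      | succ n ih =>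
        intro x
        rw [Function.iterate_succ_apply', ih x, ef, pow_succ', MulAut.mul_apply]
    have hfm : ∀ x ∈ P, f^[m] x = x := fun x hx => by
      rw [hit m ⟨x, hx⟩, ← SubmonoidClass.coe_pow, hβ]; rfl
    have hd : ∀ x ∈ P, x⁻¹ * f x ∈ F.center := fun x hx =>
      h (mem_hyperfocal_gen hf ((hp.coprime_iff_not_dvd.mpr hm).symm) hfm hx)
    have hfix : ∀ z ∈ F.center, f z = z := fun z hz => by
      obtain ⟨g, -, eg, mg⟩ := mor_central_ext hZ hf.mor
      rw [← eg z (hZP hz), mg z hz]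
    refine Subtype.ext (MulEquiv.ext fun x => Subtype.ext ?_)
    have h1 := iterate_fix hf.mor hZP hfix hd m x x.2
    rw [hfm _ x.2] at h1
    have h2 : ((x : Ω)⁻¹ * f x) ^ m = 1 := mul_eq_left.mp h1.symm
    have h3 := eq_one_of_pow_eq_one hS (hZ.1 (hd x x.2)) hm h2
    rw [← ef x]
    exact (inv_mul_eq_one.mp h3).symm

/-- A code for the maps of a system. -/
def code (F : FusionSystem S) : Set (Set S × Set (S × S)) :=
  {c | ∃ (P : Subgroup Ω) (φ : P →* Ω), φ ∈ F.Hom P ∧ c.1 = {s : S | (s : Ω) ∈ P} ∧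
    c.2 = {q : S × S | ∃ h : (q.1 : Ω) ∈ P, φ ⟨q.1, h⟩ = q.2}}

theorem code_mono {D : FusionSystem S} (h : D.IsSubsystemOf F) : code D ⊆ code F := by
  rintro c ⟨P, φ, hφ, h1, h2⟩
  exact ⟨P, φ, h P hφ, h1, h2⟩

theorem code_le {D : FusionSystem S} (h : code F ⊆ code D) (P : Subgroup Ω) : F.Hom P ⊆ D.Hom P := by
  intro φ hφ
  obtain ⟨P', φ', hφ', h1, h2⟩ := h (⟨P, φ, hφ, rfl, rfl⟩ :
    (({s : S | (s : Ω) ∈ P}, {q : S × S | ∃ h : (q.1 : Ω) ∈ P, φ ⟨q.1, h⟩ = q.2}) : Set S × Set (S × S)) ∈ code F)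
  have hPS := (F.le_of_mem hφ).1
  have hP'S := (D.le_of_mem hφ').1
  obtain rfl : P' = P := by
    ext x
    refine ⟨fun hx => ?_, fun hx => ?_⟩
    · exact (Set.ext_iff.mp h1 ⟨x, hP'S hx⟩).mpr hx
    · exact (Set.ext_iff.mp h1 ⟨x, hPS hx⟩).mp hx
  have e : φ = φ' := by
    ext x
    obtain ⟨hx', e'⟩ := (Set.ext_iff.mp h2 (⟨x, hPS x.2⟩, ⟨φ x, (F.le_of_mem hφ).2 x⟩)).mp ⟨x.2, rfl⟩
    exact e'.symm
  exact e ▸ hφ'

/-- Existence of components. -/
theorem exists_component [Fact p.Prime] : ∀ (n : ℕ) {S : Subgroup Ω} [Finite S], Nat.card S = n →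
    ∀ (m : ℕ) (F : FusionSystem S), (code F).ncard = m → IsPGroup p S → F.IsSaturated p →
      ¬ F.IsConstrained p → ∃ (T : Subgroup Ω) (C : FusionSystem T), C.IsComponentIn F p := by
  intro n
  induction n using Nat.strong_induction_on with
  | _ n IHn =>
  intro S _ hn m
  induction m using Nat.strong_induction_on with
  | _ m IHm =>
  intro F hm hS hF hnc
  by_contra hno
  -- proper normal subsystems are constrained
  have hcon : ∀ (U : Subgroup Ω) (D : FusionSystem U), D.IsNormalIn F p →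
      D.IsConstrained p ∨ (U = S ∧ ∀ P, F.Hom P ⊆ D.Hom P) := by
    intro U D hD
    by_contra h
    push Not at h
    obtain ⟨hDc, hproper⟩ := h
    have hUS : U ≤ S := hD.1.2.2.2.1.1
    haveI := finite_of_le hUS
    obtain ⟨T, C, hC⟩ : ∃ (T : Subgroup Ω) (C : FusionSystem T), C.IsComponentIn D p := by
      rcases hUS.lt_or_eq with hlt | rfl
      · refine IHn (Nat.card U) ?_ rfl _ D rfl (hS.to_le hUS) hD.1.1 hDc
        rw [← hn]
        refine lt_of_le_of_ne (card_le_of_le hUS) fun e => hlt.ne (eq_of_le_of_card hUS e.ge)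
      · obtain ⟨P, hP⟩ := hproper rfl
        refine IHm (code D).ncard ?_ D rfl hS hD.1.1 hDc
        rw [← hm]
        exact Set.ncard_lt_ncard ⟨code_mono hD.1.2.2.1, fun h => hP (code_le h P)⟩ (Set.toFinite _)
    exact hno ⟨T, C, IsSubnormalIn.step hC.1 hD, hC.2⟩
  -- the core is central
  have hQ := core_isNormal (F := F)
  obtain ⟨CQ, hCQ⟩ := exists_centralizerSystem F F.core hQ.1
  have hQZ : F.core ≤ F.center := by
    haveI := finite_of_le (centralizerIn_le : centralizerIn S F.core ≤ S)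
    have hCn := ComponentCore.cent_normal hS hF hQ hCQ
    rcases hcon _ CQ hCn with hc | ⟨-, hsub⟩
    · exfalso
      obtain ⟨R, hRc, hRle⟩ := exists_centric_le_core hS hCn hc
      refine hnc ⟨hF, F.core, hQ, centric_of_normal hQ fun x hx => hRle ?_⟩
      exact hRc.2 R (isConj_refl hRc.1) ⟨hx, fun y hy => hx.2 y (hRle hy)⟩
    · exact le_sSup (show F.core ∈ {Q : Subgroup Ω | F.IsCentral Q} from
        ⟨hQ.1, fun P φ hφ => (hCQ P ▸ hsub P hφ).2.2.2⟩)
  have hcenter : ∀ {U : Subgroup Ω} {D : FusionSystem U}, D.IsNormalIn F p → D.IsConstrained p →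
      U ≤ F.center := by
    intro U D hD hc x hx
    obtain ⟨R, hRc, hRle⟩ := exists_centric_le_core hS hD hc
    refine hQZ (hRle (hRc.2 R (isConj_refl hRc.1) ⟨hx, fun y hy => ?_⟩))
    exact ((F.center_le_centralizer (hQZ (hRle hy))) x (hD.1.2.2.2.1.1 hx)).symm
  -- the hyperfocal subgroup is everything
  have hhyp : F.hyperfocalSubgroup p = S := by
    obtain ⟨E, hE, hEi⟩ := exists_pPower_system _ rfl hS F hF _ hyperfocal_le le_rfl
    have hs := hyperfocal_stronglyClosed hS hF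
    have hEn := pPower_normal hS hF (fun s hs' x hx =>
      (Subgroup.mem_normalizer_iff.mp (stronglyClosed_normalizer hs hs') x).mp hx) hE hEi
    rcases hcon _ E hEn with hc | ⟨he, -⟩
    · exact absurd (constrained_of_hyperfocal_le_center hS hF (hcenter hEn hc)) hnc
    · exact he
  have hZ : F.IsCentral F.center := center_isCentral
  refine hno ⟨S, F, IsSubnormalIn.refl F p, hF, hhyp, fun E hE => ?_⟩
  set θ := QuotientGroup.mk' ((F.center).subgroupOf S) with hθ
  have hZn : F.IsNormal F.center := isNormal_of_extStab hZ.1 fun P f hf => by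
    obtain ⟨g, hg, eg, mg⟩ := mor_central_ext hZ hf
    exact ⟨g, hg, eg, fun x hx => (mg x hx).symm ▸ hx⟩
  have hEs : E.IsSaturated p := factor_saturated hS hF (isNormal_stronglyClosed hZn) hE
  refine ⟨hEs, fun htop => hnc ?_, fun R' N hN => ?_⟩
  · refine constrained_of_hyperfocal_le_center hS hF fun x hx => ?_
    have hx' := hyperfocal_le (F := F) hx
    have : θ ⟨x, hx'⟩ = 1 := Subgroup.mem_bot.mp (htop ▸ Subgroup.mem_top _)
    exact (hE.2.1 _).mp this
  have c : CL F F.center θ E N p := ⟨hS, hF, hZ, hE, hN⟩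
  haveI := c.finR
  have w : WCtx F c.sys p := ⟨hS, hF, c.sys_saturated, c.sys_weaklyNormal.2.2⟩
  obtain ⟨D', hD'⟩ := exists_residual w.hT w.hEsat
  have hD'n := w.residual_isNormal hD'
  rcases hcon _ D' hD'n with hc | ⟨he, hsub⟩
  · left
    rw [eq_bot_iff]
    intro y hy
    obtain ⟨x, hx, rfl⟩ := exists_preimage hE c.r'le hy
    exact Subgroup.mem_bot.mpr ((extHom_eq_one hE.2.1 (c.mem_R.mp hx).1).mpr (hcenter hD'n hc hx))
  · right
    have hR' : R' = ⊤ := by
      rw [eq_top_iff]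
      intro y hy
      obtain ⟨x, hx, rfl⟩ := exists_preimage hE le_top hy
      exact (c.mem_R.mp (he.symm ▸ (mem_preimage_iff.mp hx).1)).2
    refine ⟨hR', fun P' => Set.Subset.antisymm (hN.1.2.2.1 P') fun φ hφ => ?_⟩
    have hm := mor_of_mem hφ
    obtain ⟨f, hf, ef⟩ := factor_lift hE hm
    have hfs : Mor c.sys (preimageAlong θ P') f := by
      obtain ⟨ψ, hψ, eψ⟩ := hf
      exact ⟨ψ, hD'.2.1.1 _ (hsub _ hψ), eψ⟩
    obtain ⟨n, hn, en⟩ := c.sys_img hfs
    rw [c.img_pre hm.dom_le] at hn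
    refine mem_iff_mor.mpr (hn.congr fun y hy => ?_)
    obtain ⟨x, hxP, rfl⟩ := exists_preimage hE hm.dom_le hy
    rw [en x hxP, ← ef x hxP]

end Cfsg.Agent.Fusion.ComponentExists
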