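/-
The shapes of essential subgroups of order `p⁴`.
-/
import Cfsg.Agent.Fusion.EssentialFour
import Mathlib.GroupTheory.SpecificGroups.Cyclic
set_option autoImplicit false

namespace Cfsg.Agent.Fusion.EssFour

open Cfsg Cfsg.FusionSystem
open scoped commutatorElement

variable {p : ℕ} [hp : Fact p.Prime] {Ω : Type*} [Group Ω] {S : Subgroup Ω} {F : FusionSystem S} {H : Subgroup Ω}

/-- The five shapes. -/
theorem essential_four [Finite S] (hS : IsPGroup p S) (hF : F.IsSaturated p) (hH : F.IsEssential p H)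
    (hcard : Nat.card H = p ^ 4) :
    Cfsg.IsElementaryAbelian p H ∨
      Nonempty (↥H ≃* Multiplicative (ZMod (p ^ 2) × ZMod p × ZMod p)) ∨
      ((p = 2 ∨ p = 3) ∧ Nonempty (↥H ≃* Multiplicative (ZMod (p ^ 2) × ZMod (p ^ 2)))) ∨
      (Odd p ∧ ∃ (E : Type) (_ : Group E) (_ : Finite E), Cfsg.IsExtraspecial p E ∧ Nat.card E = p ^ 3 ∧
        (∀ x : E, x ^ p = 1) ∧ Nonempty (↥H ≃* E × Multiplicative (ZMod p))) ∨
      (p = 2 ∧ Nonempty (↥H ≃* QuaternionGroup 2 × Multiplicative (ZMod 2))) ∨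
      (¬ IsMulCommutative ↥H ∧ (∀ x ∈ H, x ^ (p ^ 2) = 1) ∧ IsCyclic ↥(Subgroup.center ↥H) ∧
        Nat.card (Subgroup.center ↥H) = p ^ 2) := by
  haveI := finite_of_le hH.1.1
  have hA : IsPGroup p H := hS.to_le hH.1.1
  have hp2 := hp.out.two_le
  by_cases hab : IsMulCommutative H
  · letI : CommGroup H := { (inferInstance : Group H) with mul_comm := fun a b => hab.is_comm.comm a b }
    obtain ⟨i, hi⟩ := hA.index (frattini ↥H)
    have hi4 : i ≤ 4 := (Nat.pow_dvd_pow_iff_le_right hp.out.one_lt).mp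
      (hi ▸ hcard ▸ Subgroup.index_dvd_card _)
    rcases Nat.lt_or_ge i 3 with h | h
    · rcases EssShape.essential_abelian hS hF hH hab (hi ▸ Nat.pow_le_pow_right hp.out.pos (by omega)) with
        h' | ⟨hp3, k, ⟨e⟩⟩
      · have := Nat.pow_right_injective hp2 (hcard.symm.trans h'.2)
        omega
      · haveI : NeZero (p ^ k) := ⟨pow_ne_zero _ hp.out.ne_zero⟩
        have hc := Nat.card_congr e.toEquiv
        rw [hcard, Nat.card_congr Multiplicative.toAdd, Nat.card_prod, Nat.card_zmod, ← pow_add] at hc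
        have := Nat.pow_right_injective hp2 hc
        obtain rfl : k = 2 := by omega
        exact Or.inr (Or.inr (Or.inl ⟨by omega, ⟨e⟩⟩))
    rw [EssShape.frattini_eq_range hA] at hi
    rcases h.lt_or_eq with h' | h'
    · refine Or.inl ⟨hab, fun a ha => ?_⟩
      have h1 : Nat.card (powMonoidHom p : H →* H).range = 1 := by
        have hc := (powMonoidHom p : H →* H).range.index_mul_card
        rw [hi, hcard, show i = 4 by omega] at hc
        exact (Nat.mul_eq_left (pow_ne_zero 4 hp.out.ne_zero)).mp hc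
      have hm : (⟨a, ha⟩ : H) ^ p ∈ (powMonoidHom p : H →* H).range := ⟨_, rfl⟩
      rw [Subgroup.card_eq_one.mp h1, Subgroup.mem_bot] at hm
      simpa using congrArg Subtype.val hm
    · exact Or.inr (Or.inl (abelian_iso_211 hcard (h' ▸ hi)))
  obtain ⟨u, v, huv⟩ : ∃ u v : H, u * v ≠ v * u := by
    by_contra h
    push_neg at h
    exact hab ⟨⟨h⟩⟩
  rcases center_card hA huv hcard with hZ | hZ
  · exact (center_prime_false hS hF hH hcard huv hZ).elim
  set Z := Subgroup.center H with hZdef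
  have hidx : Z.index = p ^ 2 := by
    have h := Z.index_mul_card
    rw [hZ, hcard, show p ^ 4 = p ^ 2 * p ^ 2 by ring] at h
    exact Nat.eq_of_mul_eq_mul_right (pow_pos hp.out.pos 2) h
  obtain ⟨zΩ, hq⟩ := CenterSq.exists_sq hA
    ⟨u, u.2, v, v.2, fun e => huv (Subtype.ext e)⟩ hidx.le
  obtain ⟨z, hzc⟩ : ∃ z : H, (z : Ω) = zΩ := ⟨⟨zΩ, hq.zZ.1⟩, rfl⟩
  subst hzc
  have hzZ : z ∈ Z := CenterSq.mem_center_sub.mpr hq.zZ
  have hzp : z ^ p = 1 := Subtype.ext (by simpa using hq.zp)
  have hz1 : z ≠ 1 := fun e => hq.z1 (congrArg Subtype.val e)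
  have hoz : orderOf z = p := orderOf_eq_prime hzp hz1
  have hcom : ∀ a b : H, a * b * a⁻¹ * b⁻¹ ∈ Subgroup.zpowers z := fun a b => by
    obtain ⟨i, hi⟩ := Subgroup.mem_zpowers_iff.mp (hq.comm a a.2 b b.2)
    exact Subgroup.mem_zpowers_iff.mpr ⟨i, Subtype.ext (by simpa using hi)⟩
  have hLinv : ∀ α : MulAut H, ∀ x ∈ Subgroup.zpowers z, α x ∈ Subgroup.zpowers z := by
    intro α x hx
    obtain ⟨i, rfl⟩ := Subgroup.mem_zpowers_iff.mp hx
    rw [map_zpow]
    exact zpow_mem (LineStab.invariant_of_nonabelian hzp hcom huv α) i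
  have hLZ : Subgroup.zpowers z ≤ Z := Subgroup.zpowers_le.mpr hzZ
  have hLc : Nat.card (Subgroup.zpowers z) = p := by rw [Nat.card_zpowers, hoz]
  have hclass : commutator H ≤ Z := by
    rw [commutator_def, Subgroup.commutator_le]
    intro a _ b _
    rw [commutatorElement_def]
    exact hLZ (hcom a b)
  have hquot : ∀ x : H, x ^ p ∈ Z := by
    intro x
    have hqc : Nat.card (H ⧸ Z) = p ^ 2 := by rw [← Subgroup.index_eq_card, hidx]
    rw [← QuotientGroup.eq_one_iff, QuotientGroup.mk_pow]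
    by_contra hne
    obtain ⟨j, hj, hjo⟩ := (Nat.dvd_prime_pow hp.out).mp (hqc ▸ orderOf_dvd_natCard (x : H ⧸ Z))
    rcases Nat.lt_or_ge j 2 with h | h
    · exact hne (orderOf_dvd_iff_pow_eq_one.mp (hjo ▸ (pow_dvd_pow p (show j ≤ 1 by omega)).trans (pow_one p).dvd))
    · haveI : IsCyclic (H ⧸ Z) := isCyclic_of_orderOf_eq_card (x : H ⧸ Z) (by rw [hjo, hqc, show j = 2 by omega])
      exact huv (commutative_of_cyclic_center_quotient (QuotientGroup.mk' Z) (le_of_eq (QuotientGroup.ker_mk' Z)) u v)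
  have hcyc : ∀ c ∈ Z, c ^ p ≠ 1 → IsCyclic Z := by
    intro c hc hcp
    refine isCyclic_of_orderOf_eq_card (⟨c, hc⟩ : Z) ?_
    obtain ⟨j, hj, hjo⟩ := (Nat.dvd_prime_pow hp.out).mp (hZ ▸ orderOf_dvd_natCard (⟨c, hc⟩ : Z))
    rw [hjo, hZ]
    rcases Nat.lt_or_ge j 2 with h | h
    · refine absurd (congrArg Subtype.val (orderOf_dvd_iff_pow_eq_one.mp (?_ : orderOf (⟨c, hc⟩ : Z) ∣ p))) hcp
      exact hjo ▸ (pow_dvd_pow p (show j ≤ 1 by omega)).trans (pow_one p).dvd
    · rw [show j = 2 by omega]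
  have hpL : ∀ c ∈ Z, c ^ p ∈ Subgroup.zpowers z := by
    intro c hc
    by_cases hcp : c ^ p = 1
    · rw [hcp]; exact one_mem _
    haveI := hcyc c hc hcp
    obtain ⟨g, hg⟩ := IsCyclic.exists_generator (α := Z)
    have hgo : orderOf g = p ^ 2 := by rw [orderOf_eq_card_of_forall_mem_zpowers hg, hZ]
    obtain ⟨i, hi⟩ := Subgroup.mem_zpowers_iff.mp (hg ⟨c, hc⟩)
    have hle : Subgroup.zpowers z ≤ Subgroup.zpowers ((g : H) ^ p) := by
      obtain ⟨j, hj⟩ := Subgroup.mem_zpowers_iff.mp (hg ⟨z, hzZ⟩)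
      have hd : (orderOf g : ℤ) ∣ j * p := orderOf_dvd_iff_zpow_eq_one.mpr (by
        rw [zpow_mul, zpow_natCast, hj]; exact Subtype.ext hzp)
      rw [hgo, Nat.cast_pow, sq] at hd
      obtain ⟨m, hm⟩ := Int.dvd_of_mul_dvd_mul_right (by exact_mod_cast hp.out.ne_zero) hd
      refine Subgroup.zpowers_le.mpr (Subgroup.mem_zpowers_iff.mpr ⟨m, ?_⟩)
      have e := congrArg Subtype.val hj
      rw [Subgroup.coe_zpow, hm, zpow_mul, zpow_natCast] at e
      exact e
    have heq : Subgroup.zpowers z = Subgroup.zpowers ((g : H) ^ p) := Subgroup.eq_of_le_of_card_ge hle (by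
      rw [hLc, Nat.card_zpowers]
      refine orderOf_le_of_pow_eq_one hp.out.pos ?_
      rw [← pow_mul, ← sq, ← SubmonoidClass.coe_pow, ← hgo, pow_orderOf_eq_one]
      rfl)
    rw [heq, ← show ((⟨c, hc⟩ : Z) : H) = c from rfl, ← hi, Subgroup.coe_zpow, ← zpow_natCast ((g : H) ^ i),
      ← zpow_mul, mul_comm, zpow_mul, zpow_natCast]
    exact zpow_mem (Subgroup.mem_zpowers _) i
  haveI hLn : (Subgroup.zpowers z).Normal := ⟨fun w hw g => by
    rw [Subgroup.mem_center_iff.mp (hLZ hw) g, mul_inv_cancel_right]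
    exact hw⟩
  let π := QuotientGroup.mk' (Subgroup.zpowers z)
  have hπ : ∀ x, π x = 1 ↔ x ∈ Subgroup.zpowers z := fun x => QuotientGroup.eq_one_iff x
  have hπc : ∀ a b : H, π a * π b = π b * π a := fun a b => by
    rw [← mul_inv_eq_iff_eq_mul, ← mul_inv_eq_one, ← map_inv, ← map_inv, ← map_mul, ← map_mul, ← map_mul, hπ]
    exact hcom a b
  -- `p`-th powers lie in `⟨z⟩`
  have hpow : ∀ x : H, x ^ p ∈ Subgroup.zpowers z := by
    let χ : H →* (H ⧸ Subgroup.zpowers z) :=
      MonoidHom.mk' (fun x => π x ^ p) fun a b => by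
        rw [map_mul, (show Commute (π a) (π b) from hπc a b).mul_pow]
    have hχ : ∀ x, χ x = 1 ↔ x ^ p ∈ Subgroup.zpowers z := fun x => by
      rw [← hπ, map_pow]; rfl
    by_contra hne
    push_neg at hne
    obtain ⟨x₀, hx₀⟩ := hne
    have hrange : Nat.card χ.range ≤ p := by
      have hle : χ.range ≤ Z.map π := by
        rintro _ ⟨x, rfl⟩
        exact ⟨x ^ p, hquot x, map_pow π x p⟩
      refine (Subgroup.card_le_of_le hle).trans ?_
      have h1 := EssShape.card_range_le (π.comp Z.subtype) ((Subgroup.zpowers z).subgroupOf Z)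
      rw [MonoidHom.range_comp, Subgroup.range_subtype] at h1
      refine h1.trans ?_
      have h2 : ((Subgroup.zpowers z).subgroupOf Z).map (π.comp Z.subtype) = ⊥ := by
        rw [eq_bot_iff]
        rintro _ ⟨y, hy, rfl⟩
        exact Subgroup.mem_bot.mpr ((hπ _).mpr hy)
      have h3 := ((Subgroup.zpowers z).subgroupOf Z).index_mul_card
      rw [Nat.card_congr (Subgroup.subgroupOfEquivOfLe hLZ).toEquiv, hLc, hZ, sq] at h3
      rw [h2, Subgroup.card_bot, mul_one, Nat.eq_of_mul_eq_mul_right hp.out.pos h3]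
    have hZk : Z ≤ χ.ker := fun c hc => (hχ c).mpr (hpL c hc)
    have hkc : p ^ 3 ≤ Nat.card χ.ker := by
      have h := χ.ker.index_mul_card
      rw [Subgroup.index_ker, hcard] at h
      refine Nat.le_of_mul_le_mul_left ?_ hp.out.pos
      rw [← pow_succ', ← h]
      exact Nat.mul_le_mul_right _ hrange
    have hkne : χ.ker ≠ ⊤ := fun e => hx₀ ((hχ x₀).mp (e.ge (Subgroup.mem_top x₀)))
    have hk2 := card_lt_of_lt (lt_top_iff_ne_top.mpr hkne)
    obtain ⟨j, hj⟩ := IsPGroup.iff_card.mp (hA.to_subgroup χ.ker)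
    rw [Subgroup.card_top, hj, hcard, Nat.pow_lt_pow_iff_right hp.out.one_lt] at hk2
    rw [hj, Nat.pow_le_pow_iff_right hp.out.one_lt] at hkc
    refine no_three hS hF hH (Subgroup.zpowers z) Z χ.ker hLZ hZk (fun α _ => hLinv α) (fun α _ => center_inv α)
      (fun α _ x hx => (hχ _).mpr ?_) hLc.le (by rw [hZ, hLc, sq]) ?_ ?_
    · rw [← map_pow]; exact hLinv α _ ((hχ x).mp hx)
    · rw [hj, hZ, ← pow_succ']; exact Nat.pow_le_pow_right hp.out.pos (by omega)
    · rw [hj, hcard, ← pow_succ']; exact Nat.pow_le_pow_right hp.out.pos (by omega)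
  by_cases hZc : IsCyclic Z
  · refine Or.inr (Or.inr (Or.inr (Or.inr (Or.inr ⟨hab, fun x hx => ?_, hZc, hZ⟩))))
    obtain ⟨i, hi⟩ := Subgroup.mem_zpowers_iff.mp (hpow ⟨x, hx⟩)
    have h : (⟨x, hx⟩ : H) ^ p ^ 2 = 1 := by
      rw [sq, pow_mul, ← hi, ← zpow_natCast, ← zpow_mul, mul_comm, zpow_mul, zpow_natCast, hzp, one_zpow]
    simpa using congrArg Subtype.val h
  have hZel : ∀ c ∈ Z, c ^ p = 1 := fun c hc => by
    by_contra h
    exact hZc (hcyc c hc h)
  obtain ⟨c, hcZ, hcL⟩ : ∃ c ∈ Z, c ∉ Subgroup.zpowers z := by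
    by_contra h
    push_neg at h
    have := Subgroup.card_le_of_le (show Z ≤ Subgroup.zpowers z from h)
    rw [hLc, hZ] at this
    nlinarith
  -- a complement to `c`
  obtain ⟨A, -, hcA, hAgen⟩ := GenExtra.elementary_complement (p := p) (C := (⊤ : Subgroup (H ⧸ Subgroup.zpowers z)))
    (z := π c) (fun a _ b _ => by
      obtain ⟨a', rfl⟩ := QuotientGroup.mk'_surjective _ a
      obtain ⟨b', rfl⟩ := QuotientGroup.mk'_surjective _ b
      exact hπc a' b')
    (fun a _ => by
      obtain ⟨a', rfl⟩ := QuotientGroup.mk'_surjective _ a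
      show π a' ^ p = 1
      rw [← map_pow, hπ]; exact hpow a') (Subgroup.mem_top _) (fun e => hcL ((hπ c).mp e))
  set E := A.comap π with hE
  have hcE : c ∉ E := hcA
  have hzE : z ∈ E := by
    show π z ∈ A
    rw [(hπ z).mpr (Subgroup.mem_zpowers z)]
    exact A.one_mem
  have hdec : ∀ x : H, ∃ i : ℤ, ∃ e ∈ E, x = e * c ^ i := by
    intro x
    obtain ⟨i, a, ha, hx⟩ := hAgen (π x) (Subgroup.mem_top _)
    refine ⟨i, x * (c ^ i)⁻¹, ?_, by group⟩
    show π (x * (c ^ i)⁻¹) ∈ A
    obtain ⟨a', rfl⟩ := QuotientGroup.mk'_surjective _ a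
    rw [map_mul, map_inv, map_zpow, hx, ← map_zpow, hπc, mul_inv_cancel_right]
    exact ha
  let f : E × Subgroup.zpowers c →* H :=
    MonoidHom.mk' (fun w => (w.1 : H) * (w.2 : H)) fun a b => by
      have hbc : Commute (a.2 : H) (b.1 : H) :=
        (Subgroup.mem_center_iff.mp ((Subgroup.zpowers_le.mpr hcZ) a.2.2) b.1).symm
      show (a.1 : H) * b.1 * ((a.2 : H) * b.2) = (a.1 : H) * a.2 * ((b.1 : H) * b.2)
      rw [hbc.symm.mul_mul_mul_comm]
  have hcp : c ^ p = 1 := hZel c hcZ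
  have hfinj : Function.Injective f := by
    refine (injective_iff_map_eq_one f).mpr ?_
    rintro ⟨⟨e, he⟩, ⟨w, hw⟩⟩ h
    replace h : e * w = 1 := h
    obtain ⟨i, rfl⟩ := Subgroup.mem_zpowers_iff.mp hw
    have hci : c ^ i ∈ E := eq_inv_of_mul_eq_one_right h ▸ E.inv_mem he
    have hpi : (p : ℤ) ∣ i := by
      by_contra hn
      obtain ⟨r, q, hrq⟩ := (Nat.prime_iff_prime_int.mp hp.out).coprime_iff_not_dvd.mpr hn
      refine hcE ?_
      have e1 : c = (c ^ i) ^ q := by
        rw [← zpow_mul]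
        conv_lhs => rw [← zpow_one c, ← hrq, zpow_add, mul_comm r, zpow_mul, zpow_natCast, hcp, one_zpow, one_mul,
          mul_comm q]
      rw [e1]; exact zpow_mem hci q
    obtain ⟨k, rfl⟩ := hpi
    have h1 : c ^ ((p : ℤ) * k) = 1 := by rw [zpow_mul, zpow_natCast, hcp, one_zpow]
    refine Prod.ext (Subtype.ext ?_) (Subtype.ext h1)
    rwa [h1, mul_one] at h
  have hfsurj : Function.Surjective f := fun x => by
    obtain ⟨i, e, he, rfl⟩ := hdec x
    exact ⟨(⟨e, he⟩, ⟨c ^ i, zpow_mem (Subgroup.mem_zpowers c) i⟩), rfl⟩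
  let φ := MulEquiv.ofBijective f ⟨hfinj, hfsurj⟩
  have hcc : Nat.card (Subgroup.zpowers c) = p := by
    rw [Nat.card_zpowers, orderOf_eq_prime hcp fun e => hcL (e ▸ one_mem _)]
  have hEc : Nat.card E = p ^ 3 := by
    have h := Nat.card_congr φ.toEquiv
    rw [Nat.card_prod, hcc, hcard, pow_succ] at h
    exact Nat.eq_of_mul_eq_mul_right hp.out.pos h
  haveI : IsCyclic (Subgroup.zpowers c) := isCyclic_of_prime_card hcc
  haveI : NeZero p := ⟨hp.out.ne_zero⟩
  let ψ : Subgroup.zpowers c ≃* Multiplicative (ZMod p) := mulEquivOfPrimeCardEq (p := p) hcc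
    (by rw [Nat.card_congr Multiplicative.toAdd, Nat.card_zmod])
  obtain ⟨a, b, hab'⟩ : ∃ a b : E, a * b ≠ b * a := by
    obtain ⟨i, a, ha, rfl⟩ := hdec u
    obtain ⟨j, b, hb, rfl⟩ := hdec v
    refine ⟨⟨a, ha⟩, ⟨b, hb⟩, fun e => huv ?_⟩
    have h1 : ∀ k : ℤ, ∀ w : H, Commute (c ^ k) w := fun k w =>
      ((show Commute c w from (Subgroup.mem_center_iff.mp hcZ w).symm)).zpow_left k
    exact (((show Commute a b from congrArg Subtype.val e).mul_right (h1 j a).symm).mul_left
      ((h1 i b).mul_right (h1 i (c ^ j)))).eq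
  obtain hp' | hodd := hp.out.eq_two_or_odd'
  · subst hp'
    refine Or.inr (Or.inr (Or.inr (Or.inr (Or.inl ⟨rfl, ?_⟩))))
    have hL2 : ∀ w ∈ Subgroup.zpowers z, w = 1 ∨ w = z := fun w hw => by
      obtain ⟨i, rfl⟩ := Subgroup.mem_zpowers_iff.mp hw
      rcases Int.even_or_odd' i with ⟨k, rfl | rfl⟩
      · exact Or.inl (by rw [zpow_mul, zpow_ofNat, hzp, one_zpow])
      · exact Or.inr (by rw [zpow_add, zpow_mul, zpow_ofNat, hzp, one_zpow, one_mul, zpow_one])
    have hsq : ∀ w : H, w * w = 1 ∨ w * w = z := fun w => hL2 _ (by rw [← sq]; exact hpow w)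
    have hswap : ∀ x y : H, ¬ Commute x y → y * x = x * y * z := by
      intro x y hxy
      have e : y * x = x * y * (y⁻¹ * x⁻¹ * y⁻¹⁻¹ * x⁻¹⁻¹) := by group
      rcases hL2 _ (hcom y⁻¹ x⁻¹) with h | h
      · rw [h, mul_one] at e
        exact absurd e.symm hxy
      · rwa [h] at e
    have hz2 : z * z = 1 := by rw [← sq, hzp]
    have hzcm : ∀ w : H, Commute z w := fun w => (Subgroup.mem_center_iff.mp hzZ w).symm
    -- all non-central squares equal `z`
    have hall : ∀ x : H, x ∉ Z → x * x = z := by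
      intro x hxZ
      refine (hsq x).resolve_left fun hx => ?_
      obtain ⟨y, hy⟩ : ∃ y, ¬ Commute x y := by
        by_contra h
        push_neg at h
        exact hxZ (Subgroup.mem_center_iff.mpr fun g => (h g).eq.symm)
      obtain ⟨r, hr, hxr⟩ : ∃ r, r * r = z ∧ ¬ Commute x r := by
        rcases hsq y with h | h
        · refine ⟨x * y, ?_, fun hc => hy ?_⟩
          · rw [show x * y * (x * y) = x * (y * x) * y by group, hswap x y hy,
              show x * (x * y * z) * y = (x * x) * y * (z * y) by group, hx, one_mul, (hzcm y).eq, ← mul_assoc, h, one_mul]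
          · have := (Commute.refl x).inv_right.mul_right hc
            rwa [inv_mul_cancel_left] at this
        · exact ⟨y, h, hy⟩
      have hrZ : r ∉ Z := fun h => hxr (Subgroup.mem_center_iff.mp h x)
      set M := Z ⊔ Subgroup.zpowers r with hM
      have hMdec : ∀ m ∈ M, ∃ d ∈ Z, ∃ k : ℤ, m = d * r ^ k := by
        intro m hm
        rw [hM, sup_comm] at hm
        obtain ⟨_, hk, d, hd, rfl⟩ := Subgroup.mem_sup_of_normal_right.mp hm
        obtain ⟨k, rfl⟩ := Subgroup.mem_zpowers_iff.mp hk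
        exact ⟨d, hd, k, Subgroup.mem_center_iff.mp hd _⟩
      have hxM : x ∉ M := fun hm => hxr (by
        obtain ⟨d, hd, k, e⟩ := hMdec x hm
        rw [e]
        exact (show Commute d r from (Subgroup.mem_center_iff.mp hd r).symm).mul_left ((Commute.refl r).zpow_left k))
      have hZM : Z < M := lt_of_le_not_ge le_sup_left fun h =>
        hrZ (h (Subgroup.mem_sup_right (Subgroup.mem_zpowers r)))
      have hMT : M < ⊤ := lt_top_iff_ne_top.mpr fun e => hxM (e ▸ Subgroup.mem_top x)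
      have h1 := card_lt_of_lt hZM
      have h2 := card_lt_of_lt hMT
      obtain ⟨i, hi⟩ := IsPGroup.iff_card.mp (hA.to_subgroup M)
      rw [hi, hZ, Nat.pow_lt_pow_iff_right (by norm_num)] at h1
      rw [hi, Subgroup.card_top, hcard, Nat.pow_lt_pow_iff_right (by norm_num)] at h2
      obtain rfl : i = 3 := by omega
      have hsqM : ∀ w : H, w * w = z → w ∈ M := by
        intro w hw
        by_contra hwM
        have hidx2 : M.index = 2 := by
          have h := M.index_mul_card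
          rw [hi, hcard] at h
          omega
        have hm : x * w ∈ M := (Subgroup.mul_mem_iff_of_index_two hidx2).mpr ⟨fun h => absurd h hxM, fun h => absurd h hwM⟩
        obtain ⟨d, hd, k, e⟩ := hMdec _ hm
        have hw' : w = d * (x * r ^ k) := by
          rw [← mul_assoc, ← Subgroup.mem_center_iff.mp hd x, mul_assoc, ← e, ← mul_assoc, hx, one_mul]
        have hdd : d * d = 1 := by rw [← sq]; exact hZel d hd
        have hval : (x * r ^ k) * (x * r ^ k) = 1 := by
          rcases Int.even_or_odd' k with ⟨m, rfl | rfl⟩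
          · have e2 : r ^ (2 * m) = z ^ m := by rw [zpow_mul, zpow_two, hr]
            rw [e2, ((hzcm x).zpow_left m).mul_mul_mul_comm, hx, one_mul, ← zpow_add, ← two_mul, zpow_mul,
              zpow_two, hz2, one_zpow]
          · have e2 : r ^ (2 * m + 1) = z ^ m * r := by rw [zpow_add, zpow_mul, zpow_two, hr, zpow_one]
            have h3 : (x * r) * (x * r) = 1 := by
              rw [show x * r * (x * r) = x * (r * x) * r by group, hswap x r hxr,
                show x * (x * r * z) * r = (x * x) * r * (z * r) by group, hx, one_mul, (hzcm r).eq, ← mul_assoc, hr, hz2]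
            rw [e2, show x * (z ^ m * r) = z ^ m * (x * r) by
                rw [← mul_assoc, ← ((hzcm x).zpow_left m).eq, mul_assoc],
              ((hzcm (x * r)).zpow_left m).symm.mul_mul_mul_comm, h3, mul_one, ← zpow_add, ← two_mul, zpow_mul,
              zpow_two, hz2, one_zpow]
        rw [hw', (show Commute (x * r ^ k) d from Subgroup.mem_center_iff.mp hd _).mul_mul_mul_comm, hdd, hval, mul_one] at hw
        exact hz1 hw.symm
      refine no_three hS hF hH (Subgroup.zpowers z) Z M hLZ le_sup_left (fun α _ => hLinv α) (fun α _ => center_inv α)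
        (fun α _ m hm => ?_) hLc.le (by rw [hZ, hLc]; norm_num) (by rw [hi, hZ]; norm_num) (by rw [hi, hcard]; norm_num)
      have hle : M ≤ M.comap α.toMonoidHom := sup_le (fun d hd => Subgroup.mem_sup_left (center_inv α d hd))
        (Subgroup.zpowers_le.mpr (hsqM _ (by
          rw [← map_mul, show α.toMonoidHom (r * r) = α (r * r) from rfl, hr]
          exact (hL2 _ (hLinv α z (Subgroup.mem_zpowers z))).resolve_left fun e => hz1 (α.injective (e.trans (map_one α).symm)))))
      exact hle hm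
    have hEc' : Nat.card E = 8 := by rw [hEc]; norm_num
    have haZ : (a : H) ∉ Z := fun h => hab' (Subtype.ext ((Subgroup.mem_center_iff.mp h (b : H)).symm))
    have hbZ : (b : H) ∉ Z := fun h => hab' (Subtype.ext (Subgroup.mem_center_iff.mp h (a : H)))
    obtain ⟨q⟩ := quaternion_of hEc' (x := a) (y := b) (z := (⟨z, hzE⟩ : E)) (Subtype.ext hz2)
      (Subtype.ext (hall _ haZ)) (Subtype.ext (hall _ hbZ)) (Subtype.ext (by
        show (b : H)⁻¹ * a * b = a * z
        have h := hswap (b : H) a fun h => hab' (Subtype.ext h.eq.symm)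
        rw [mul_assoc, h, ← mul_assoc, inv_mul_cancel_left]))
      (fun e => hz1 (congrArg Subtype.val e))
    exact ⟨φ.symm.trans (MulEquiv.prodCongr q ψ)⟩
  · refine Or.inr (Or.inr (Or.inr (Or.inl ⟨hodd, ?_⟩)))
    have hmulpow : ∀ s t : H, (s * t) ^ p = s ^ p * t ^ p := fun s t =>
      FGS3.mul_pow_of_center_odd hclass s t hodd (by
        obtain ⟨i, hi⟩ := Subgroup.mem_zpowers_iff.mp (hcom t s)
        rw [commutatorElement_def, ← hi, ← zpow_natCast, ← zpow_mul, mul_comm, zpow_mul, zpow_natCast, hzp, one_zpow])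
    let χ : H →* H := MonoidHom.mk' (fun s => s ^ p) hmulpow
    have hexp : ∀ s : H, s ^ p = 1 := by
      by_contra hne
      push_neg at hne
      obtain ⟨x₀, hx₀⟩ := hne
      have hrange : Nat.card χ.range ≤ p :=
        (Subgroup.card_le_of_le (show χ.range ≤ Subgroup.zpowers z by rintro _ ⟨x, rfl⟩; exact hpow x)).trans hLc.le
      have hkc : p ^ 3 ≤ Nat.card χ.ker := by
        have h := χ.ker.index_mul_card
        rw [Subgroup.index_ker, hcard] at h
        refine Nat.le_of_mul_le_mul_left ?_ hp.out.pos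
        rw [← pow_succ', ← h]
        exact Nat.mul_le_mul_right _ hrange
      have hkne : χ.ker ≠ ⊤ := fun e => hx₀ (MonoidHom.mem_ker.mp (e.ge (Subgroup.mem_top x₀)))
      have hk2 := card_lt_of_lt (lt_top_iff_ne_top.mpr hkne)
      obtain ⟨j, hj⟩ := IsPGroup.iff_card.mp (hA.to_subgroup χ.ker)
      rw [Subgroup.card_top, hj, hcard, Nat.pow_lt_pow_iff_right hp.out.one_lt] at hk2
      rw [hj, Nat.pow_le_pow_iff_right hp.out.one_lt] at hkc
      refine no_three hS hF hH (Subgroup.zpowers z) Z χ.ker hLZ (fun d hd => hZel d hd) (fun α _ => hLinv α)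
        (fun α _ => center_inv α) (fun α _ x hx => ?_) hLc.le (by rw [hZ, hLc, sq]) ?_ ?_
      · show (α x) ^ p = 1
        rw [← map_pow, show x ^ p = 1 from hx, map_one]
      · rw [hj, hZ, ← pow_succ']; exact Nat.pow_le_pow_right hp.out.pos (by omega)
      · rw [hj, hcard, ← pow_succ']; exact Nat.pow_le_pow_right hp.out.pos (by omega)
    obtain ⟨n, ⟨e⟩⟩ := Finite.exists_equiv_fin E
    let E0 := {_i : Fin n // True}
    let e0 : E ≃ E0 := e.trans ⟨fun i => ⟨i, trivial⟩, fun i => i.1, fun _ => rfl, fun _ => rfl⟩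
    letI : Group E0 := e0.symm.group
    let q : E ≃* E0 := MulEquiv.mk e0 fun s t => by
      show e0 (s * t) = e0 (e0.symm (e0 s) * e0.symm (e0 t))
      rw [Equiv.symm_apply_apply, Equiv.symm_apply_apply]
    have hqc : Nat.card E0 = p ^ 3 := (Nat.card_congr q.toEquiv).symm.trans hEc
    have hqe : ∀ w : E0, w ^ p = 1 := by
      intro w
      obtain ⟨w', rfl⟩ := q.surjective w
      rw [← map_pow, show w' ^ p = 1 from Subtype.ext (hexp w'), map_one]
    exact ⟨E0, inferInstance, inferInstance,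
      isExtraspecial_cube hqc hqe (x := q a) (y := q b) (fun h => hab' (q.injective (by rw [map_mul, map_mul, h]))),
      hqc, hqe, ⟨φ.symm.trans (MulEquiv.prodCongr q ψ)⟩⟩

end Cfsg.Agent.Fusion.EssFour
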