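/-
Saturated systems over groups with an extraspecial subgroup of index `p`.
-/
import Cfsg.Agent.Fusion.LineStab
import Cfsg.Agent.Fusion.SmallCenterMain
import Cfsg.Agent.FGS3.PGroupFrattini
set_option autoImplicit false

namespace Cfsg.Agent.Fusion.ExtraIndex

open Cfsg Cfsg.FusionSystem
open scoped commutatorElement

variable {Ω : Type*} [Group Ω] {S : Subgroup Ω} {F : FusionSystem S} {p : ℕ} [hp : Fact p.Prime]

/-- Basic data of an extraspecial subgroup. -/
theorem extra_data {Q : Subgroup Ω} [Finite Q] (hQ : IsExtraspecial p ↥Q) :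
    ∃ z ∈ Q, z ^ p = 1 ∧ z ≠ 1 ∧ (∀ x ∈ Q, (∀ y ∈ Q, Commute x y) ↔ x ∈ Subgroup.zpowers z) ∧
      (∀ x ∈ Q, ∀ y ∈ Q, x * y * x⁻¹ * y⁻¹ ∈ Subgroup.zpowers z) ∧
      (∃ x ∈ Q, ∃ y ∈ Q, ¬ Commute x y) := by
  obtain ⟨⟨hP, -, hcom⟩, hc⟩ := hQ
  haveI : Nontrivial (Subgroup.center Q) := Finite.one_lt_card_iff_nontrivial.mp (hc ▸ hp.out.one_lt)
  obtain ⟨⟨w, hw⟩, hw1⟩ := exists_ne (1 : Subgroup.center Q)
  have hw1' : w ≠ 1 := fun e => hw1 (Subtype.ext e)
  have hwp : w ^ p = 1 := by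
    have := pow_card_eq_one' (x := (⟨w, hw⟩ : Subgroup.center Q))
    rw [hc] at this
    exact congrArg Subtype.val this
  have hgen : Subgroup.zpowers w = Subgroup.center Q := eq_of_le_of_card (Subgroup.zpowers_le.mpr hw)
    (by rw [Nat.card_zpowers, hc, orderOf_eq_prime hwp hw1'])
  have hiff : ∀ x : Q, x ∈ Subgroup.zpowers w ↔ (x : Ω) ∈ Subgroup.zpowers (w : Ω) := fun x => by
    simp only [Subgroup.mem_zpowers_iff, Subtype.ext_iff, Subgroup.coe_zpow]
  refine ⟨w, w.2, by simpa using congrArg Subtype.val hwp, fun e => hw1' (Subtype.ext e), fun x hx => ?_,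
    fun x hx y hy => ?_, ?_⟩
  · rw [← hiff ⟨x, hx⟩, hgen, Subgroup.mem_center_iff]
    exact ⟨fun h g => Subtype.ext (h g g.2).eq.symm, fun h y hy => (congrArg Subtype.val (h ⟨y, hy⟩)).symm⟩
  · have h : ⁅(⟨x, hx⟩ : Q), (⟨y, hy⟩ : Q)⁆ ∈ Subgroup.zpowers w := by
      rw [hgen, ← hcom]
      exact Subgroup.commutator_mem_commutator (Subgroup.mem_top _) (Subgroup.mem_top _)
    have h' := (hiff _).mp h
    simpa [commutatorElement_def] using h'
  · by_contra hn
    push_neg at hn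
    refine hw1' (Subgroup.mem_bot.mp (?_ : w ∈ (⊥ : Subgroup Q)))
    have : commutator Q = ⊥ := by
      rw [commutator_def, eq_bot_iff, Subgroup.commutator_le]
      intro a _ b _
      exact Subgroup.mem_bot.mpr (commutatorElement_eq_one_iff_mul_comm.mpr (Subtype.ext (hn a a.2 b b.2)))
    rwa [← this, hcom]

theorem index_facts [Finite S] (hS : IsPGroup p S) {E K : Subgroup Ω} (hEK : E < K) (hKS : K ≤ S)
    (hK : Nat.card K ≤ p * Nat.card E) : Nat.card K = p * Nat.card E := by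
  haveI := finite_of_le hKS
  haveI := finite_of_le (hEK.le.trans hKS)
  obtain ⟨a, ha⟩ := IsPGroup.iff_card.mp (hS.to_le hKS)
  obtain ⟨b, hb⟩ := IsPGroup.iff_card.mp (hS.to_le (hEK.le.trans hKS))
  have h := card_lt_of_lt hEK
  rw [ha, hb, Nat.pow_lt_pow_iff_right hp.out.one_lt] at h
  rw [ha, hb, ← pow_succ', Nat.pow_le_pow_iff_right hp.out.one_lt] at hK
  rw [ha, hb, ← pow_succ', show a = b + 1 by omega]

/-- The centre of `S` is the centre of `Q`. -/
theorem center_eq [Finite S] (hp2 : p ≠ 2) (hS : IsPGroup p S) {Q : Subgroup Ω} (hQS : Q ≤ S)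
    (hQ : IsExtraspecial p ↥Q) (hQi : (Q.subgroupOf S).index = p) (hF : F.IsSaturated p)
    (hO : F.core = ⊥) : S ⊓ Subgroup.centralizer (S : Set Ω) = Q ⊓ Subgroup.centralizer (Q : Set Ω) := by
  haveI := finite_of_le hQS
  obtain ⟨z, hzQ, hzp, hz1, hcen, hcomQ, hnab⟩ := extra_data hQ
  -- a central element outside `Q` is impossible
  have hmax : ∀ H : Subgroup Ω, Q ≤ H → H ≤ S → ¬ H ≤ Q → H = S := by
    intro H hQH hHS hHQ
    refine eq_of_le_of_card hHS ?_
    haveI := finite_of_le hHS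
    obtain ⟨a, ha⟩ := IsPGroup.iff_card.mp (hS.to_le hQS)
    obtain ⟨b, hb⟩ := IsPGroup.iff_card.mp (hS.to_le hHS)
    have h1 := card_lt_of_lt (lt_of_le_not_ge hQH hHQ)
    have h2 := (Q.subgroupOf S).index_mul_card
    rw [hQi, Nat.card_congr (Subgroup.subgroupOfEquivOfLe hQS).toEquiv, ha, ← pow_succ'] at h2
    rw [ha, hb, Nat.pow_lt_pow_iff_right hp.out.one_lt] at h1
    rw [hb, ← h2]
    exact Nat.pow_le_pow_right hp.out.pos h1
  by_cases hc : ∀ c ∈ S ⊓ Subgroup.centralizer (S : Set Ω), c ∈ Q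
  · refine le_antisymm (fun c hc' => ⟨hc c hc', fun y hy => hc'.2 y (hQS hy)⟩) fun x hx => ?_
    have hxz := (hcen x hx.1).mp fun y hy => (hx.2 y hy).symm
    -- `z` is central in `S`: compare orders of the two centres
    suffices hzS : z ∈ S ⊓ Subgroup.centralizer (S : Set Ω) from (Subgroup.zpowers_le.mpr hzS) hxz
    haveI : Nontrivial S := ⟨⟨⟨z, hQS hzQ⟩, 1, fun e => hz1 (congrArg Subtype.val e)⟩⟩
    haveI := hS.center_nontrivial
    obtain ⟨⟨d, hd⟩, hd1⟩ := exists_ne (1 : Subgroup.center S)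
    have hdS : (d : Ω) ∈ S ⊓ Subgroup.centralizer (S : Set Ω) :=
      ⟨d.2, fun y hy => congrArg Subtype.val (Subgroup.mem_center_iff.mp hd ⟨y, hy⟩)⟩
    have hdz := (hcen _ (hc _ hdS)).mp fun y hy => (hdS.2 y (hQS hy)).symm
    obtain ⟨i, hi⟩ := Subgroup.mem_zpowers_iff.mp hdz
    have hni : ¬ (p : ℤ) ∣ i := fun ⟨k, hk⟩ => hd1 (Subtype.ext (Subtype.ext (by
      show (d : Ω) = 1
      rw [← hi, hk, zpow_mul, zpow_natCast, hzp, one_zpow])))
    obtain ⟨r, q, hrq⟩ := (Nat.prime_iff_prime_int.mp hp.out).coprime_iff_not_dvd.mpr hni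
    have e : z = (d : Ω) ^ q := by
      conv_lhs => rw [← zpow_one z, ← hrq, zpow_add, mul_comm r, zpow_mul, zpow_natCast, hzp, one_zpow,
        one_mul, mul_comm q, zpow_mul, hi]
    rw [e]
    exact zpow_mem hdS q
  exfalso
  push_neg at hc
  obtain ⟨c, ⟨hcS, hcC⟩, hcQ⟩ := hc
  have hcomm' : ∀ y ∈ S, Commute c y := fun y hy => (hcC y hy).symm
  -- every element is in `Q⟨c⟩`
  let H : Subgroup Ω :=
    { carrier := {x | ∃ q ∈ Q, ∃ i : ℤ, x = q * c ^ i}
      one_mem' := ⟨1, Q.one_mem, 0, by simp⟩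
      mul_mem' := by
        rintro _ _ ⟨q, hq, i, rfl⟩ ⟨r, hr, j, rfl⟩
        exact ⟨q * r, Q.mul_mem hq hr, i + j, by
          rw [zpow_add, ((hcomm' r (hQS hr)).zpow_left i).mul_mul_mul_comm]⟩
      inv_mem' := by
        rintro _ ⟨q, hq, i, rfl⟩
        exact ⟨q⁻¹, Q.inv_mem hq, -i, by rw [mul_inv_rev, zpow_neg,
          (((hcomm' q (hQS hq)).zpow_left i).inv_inv).eq]⟩ }
  have hHS : H = S := hmax H (fun q hq => ⟨q, hq, 0, by simp⟩)
    (by rintro _ ⟨q, hq, i, rfl⟩; exact S.mul_mem (hQS hq) (S.zpow_mem hcS i))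
    fun h => hcQ (h ⟨1, Q.one_mem, 1, by simp⟩)
  have hdec : ∀ x ∈ S, ∃ q ∈ Q, ∃ i : ℤ, x = q * c ^ i := fun x hx => hHS.ge hx
  have hzS : ∀ y ∈ S, Commute y z := fun y hy => by
    obtain ⟨q, hq, i, rfl⟩ := hdec y hy
    exact ((hcen z hzQ).mpr (Subgroup.mem_zpowers z) q hq).symm.mul_left ((hcomm' z (hQS hzQ)).zpow_left i)
  have hcomS : ∀ x ∈ S, ∀ y ∈ S, x * y * x⁻¹ * y⁻¹ ∈ Subgroup.zpowers z := by
    intro x hx y hy
    obtain ⟨q, hq, i, rfl⟩ := hdec x hx
    obtain ⟨r, hr, j, rfl⟩ := hdec y hy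
    convert hcomQ q hq r hr using 1
    have h1 := (hcomm' _ (S.mul_mem (hQS hr) (S.zpow_mem hcS j))).zpow_left i
    have h2 := ((hcomm' q (hQS hq)).zpow_left j)
    calc q * c ^ i * (r * c ^ j) * (q * c ^ i)⁻¹ * (r * c ^ j)⁻¹
        = q * ((c ^ i * (r * c ^ j)) * (c ^ i)⁻¹) * q⁻¹ * (c ^ j)⁻¹ * r⁻¹ := by group
      _ = q * r * (c ^ j * q⁻¹) * (c ^ j)⁻¹ * r⁻¹ := by rw [h1.eq, mul_inv_cancel_right]; group
      _ = q * r * q⁻¹ * r⁻¹ := by rw [h2.inv_right.eq]; group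
  have hcomE : ∀ {E : Subgroup Ω}, E ≤ S → ∀ a ∈ S, ∀ x ∈ E, x⁻¹ * (a * x * a⁻¹) ∈ Subgroup.zpowers z :=
    fun {E} hE a ha x hx => by
      convert hcomS x⁻¹ (S.inv_mem (hE hx)) a ha using 1
      group
  obtain ⟨E, hE⟩ : ∃ E, F.IsEssential p E := by
    by_contra h
    push_neg at h
    have hbot := CenterSq.eq_bot_of_normal hO (isNormal_self_of_no_essential hS hF h)
    exact hz1 ((Subgroup.eq_bot_iff_forall _).mp hbot z (hQS hzQ))
  have hES := hE.1.1
  haveI := finite_of_le hES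
  have hzE : z ∈ E := hE.1.2 E (isConj_refl hES) ⟨hQS hzQ, fun y hy => (hzS y (hES hy)).eq⟩
  have hnorm : S ≤ normalizerIn S E := fun a ha => ⟨ha, Subgroup.mem_normalizer_fintype fun x hx => by
    rw [show a * x * a⁻¹ = x * (x⁻¹ * (a * x * a⁻¹)) by group]
    exact E.mul_mem hx ((Subgroup.zpowers_le.mpr hzE) (hcomE hES a ha x hx))⟩
  have hlt := essential_lt hS hF hE
  by_cases hab : ∀ x ∈ E, ∀ y ∈ E, x * y = y * x
  · have hK := LineStab.card_le hS hE hab hzE hzp hnorm hzS (hcomE hES)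
    have hcard := index_facts hS hlt le_rfl hK
    obtain ⟨a, ha, haE⟩ := SetLike.exists_of_lt hlt
    haveI := finite_of_le (CenterSq.zS_le (S := S))
    have hEfix := LineStab.card_le_fixed (E := E) (C := CenterSq.zS S) (a := a) hzp
      (hcomE hES a ha) (hzS a ha) (fun x hx => hzS x (hES hx)) (by
        intro x hx hax
        refine ⟨hES hx, fun y hy => ?_⟩
        -- the centralizer of `x` contains `E` and `a`
        have hsub : S ⊓ Subgroup.centralizer {x} = S := by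
          refine eq_of_le_of_card inf_le_left ?_
          haveI := finite_of_le (inf_le_left : S ⊓ Subgroup.centralizer {x} ≤ S)
          have hE' : E < S ⊓ Subgroup.centralizer {x} := lt_of_le_not_ge
            (fun e he => ⟨hES he, Subgroup.mem_centralizer_singleton_iff.mpr (hab e he x hx)⟩)
            fun h => haE (h ⟨ha, Subgroup.mem_centralizer_singleton_iff.mpr
              (mul_inv_eq_iff_eq_mul.mp hax)⟩)
          obtain ⟨m, hm⟩ := IsPGroup.iff_card.mp (hS.to_le hES)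
          obtain ⟨n, hn⟩ := IsPGroup.iff_card.mp (hS.to_le (inf_le_left : S ⊓ Subgroup.centralizer {x} ≤ S))
          have h := card_lt_of_lt hE'
          rw [hm, hn, Nat.pow_lt_pow_iff_right hp.out.one_lt] at h
          rw [hcard, hm, hn, ← pow_succ']
          exact Nat.pow_le_pow_right hp.out.pos h
        exact Subgroup.mem_centralizer_singleton_iff.mp (hsub.ge hy).2)
    have hidx : (Subgroup.center S).index ≤ p ^ 2 := by
      have h := (Subgroup.center S).index_mul_card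
      rw [CenterSq.center_eq, Nat.card_congr (Subgroup.subgroupOfEquivOfLe (CenterSq.zS_le (S := S))).toEquiv,
        ← CenterSq.center_eq, hcard] at h
      refine Nat.le_of_mul_le_mul_right (h.le.trans ?_) (Nat.card_pos (α := CenterSq.zS S))
      rw [sq, mul_assoc]
      exact Nat.mul_le_mul_left p hEfix
    obtain ⟨u, hu, v, hv, huv⟩ := hnab
    obtain ⟨w, hw⟩ := CenterSq.exists_sq hS ⟨u, hQS hu, v, hQS hv, huv⟩ hidx
    obtain ⟨α, hG⟩ := CenterSq.exists_good hw hS hF hE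
    have hbot := CenterSq.eq_bot_of_normal hO (CenterSq.cC_isNormal hw hS hF hp2 hG)
    obtain ⟨i, d, hd, hcd⟩ := hG.split hw hS hF (x := c) ⟨hcS, hcC⟩
    rw [hbot, Subgroup.mem_bot] at hd
    rw [hd, mul_one] at hcd
    refine hcQ ?_
    rw [hcd]
    obtain ⟨k, hk⟩ := hw.root (hw.comm u (hQS hu) v (hQS hv))
      fun e => huv (mul_inv_eq_iff_eq_mul.mp (mul_inv_eq_one.mp e))
    rw [← hk]
    exact Q.zpow_mem (Q.pow_mem (Q.mul_mem (Q.mul_mem (Q.mul_mem hu hv) (Q.inv_mem hu)) (Q.inv_mem hv)) k) i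
  · push_neg at hab
    obtain ⟨x, hx, y, hy, hxy⟩ := hab
    refine hlt.not_ge fun a ha => LineStab.mem_of_invariant hS hE hzE (fun α _ => ?_) (hnorm ha) (hzS a ha)
      (hcomE hES a ha)
    refine LineStab.invariant_of_nonabelian (p := p) (Subtype.ext (by simpa using hzp)) (fun u v => ?_)
      (x := ⟨x, hx⟩) (y := ⟨y, hy⟩) (fun e => hxy (congrArg Subtype.val e)) α
    obtain ⟨i, hi⟩ := Subgroup.mem_zpowers_iff.mp (hcomS u (hES u.2) v (hES v.2))
    exact Subgroup.mem_zpowers_iff.mpr ⟨i, Subtype.ext (by simpa using hi)⟩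

/-- An essential subgroup of `Q` is `Q`. -/
theorem essential_eq [Finite S] (hS : IsPGroup p S) {Q : Subgroup Ω} (hQS : Q ≤ S)
    (hQ : IsExtraspecial p ↥Q) (hQi : (Q.subgroupOf S).index = p) (h6 : p ^ 6 ≤ Nat.card S)
    {E : Subgroup Ω} (hEQ : E ≤ Q) (hE : F.IsEssential p E) : E = Q := by
  haveI := finite_of_le hQS
  obtain ⟨z, hzQ, hzp, hz1, hcen, hcomQ, -⟩ := extra_data hQ
  by_contra hne
  have hES := hE.1.1
  haveI := finite_of_le hES
  have hzC : ∀ y ∈ Q, Commute y z := fun y hy => ((hcen z hzQ).mpr (Subgroup.mem_zpowers z) y hy).symm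
  have hzE : z ∈ E := hE.1.2 E (isConj_refl hES) ⟨hQS hzQ, fun y hy => (hzC y (hEQ hy)).eq⟩
  have hcomE : ∀ a ∈ Q, ∀ x ∈ E, x⁻¹ * (a * x * a⁻¹) ∈ Subgroup.zpowers z := fun a ha x hx => by
    convert hcomQ x⁻¹ (Q.inv_mem (hEQ hx)) a ha using 1
    group
  have hnorm : Q ≤ normalizerIn S E := fun a ha => ⟨hQS ha, Subgroup.mem_normalizer_fintype fun x hx => by
    rw [show a * x * a⁻¹ = x * (x⁻¹ * (a * x * a⁻¹)) by group]
    exact E.mul_mem hx ((Subgroup.zpowers_le.mpr hzE) (hcomE a ha x hx))⟩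
  have hlt : E < Q := lt_of_le_of_ne hEQ hne
  by_cases hab : ∀ x ∈ E, ∀ y ∈ E, x * y = y * x
  · have hK := LineStab.card_le hS hE hab hzE hzp hnorm hzC hcomE
    have hcard := index_facts hS hlt hQS hK
    obtain ⟨a, ha, haE⟩ := SetLike.exists_of_lt hlt
    haveI : Finite (Subgroup.zpowers z) := finite_of_le (Subgroup.zpowers_le.mpr (hQS hzQ))
    have hEfix := LineStab.card_le_fixed (E := E) (C := Subgroup.zpowers z) (a := a) hzp
      (hcomE a ha) (hzC a ha) (fun x hx => hzC x (hEQ hx)) (by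
        intro x hx hax
        refine (hcen x (hEQ hx)).mp fun y hy => ?_
        have hsub : Q ⊓ Subgroup.centralizer {x} = Q := by
          refine eq_of_le_of_card inf_le_left ?_
          haveI := finite_of_le (inf_le_left : Q ⊓ Subgroup.centralizer {x} ≤ Q)
          have hE' : E < Q ⊓ Subgroup.centralizer {x} := lt_of_le_not_ge
            (fun e he => ⟨hEQ he, Subgroup.mem_centralizer_singleton_iff.mpr (hab e he x hx)⟩)
            fun h => haE (h ⟨ha, Subgroup.mem_centralizer_singleton_iff.mpr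
              (mul_inv_eq_iff_eq_mul.mp hax)⟩)
          obtain ⟨m, hm⟩ := IsPGroup.iff_card.mp (hS.to_le hES)
          obtain ⟨n, hn⟩ := IsPGroup.iff_card.mp (hS.to_le (inf_le_left.trans hQS : Q ⊓ Subgroup.centralizer {x} ≤ S))
          have h := card_lt_of_lt hE'
          rw [hm, hn, Nat.pow_lt_pow_iff_right hp.out.one_lt] at h
          rw [hcard, hm, hn, ← pow_succ']
          exact Nat.pow_le_pow_right hp.out.pos h
        exact ((Subgroup.mem_centralizer_singleton_iff.mp (hsub.ge hy).2) : y * x = x * y).symm)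
    rw [Nat.card_zpowers, orderOf_eq_prime hzp hz1] at hEfix
    have h2 := (Q.subgroupOf S).index_mul_card
    rw [hQi, Nat.card_congr (Subgroup.subgroupOfEquivOfLe hQS).toEquiv, hcard] at h2
    have h3 : Nat.card S ≤ p ^ 4 := by
      rw [← h2, show p ^ 4 = p * (p * (p * p)) by ring]
      exact Nat.mul_le_mul_left p (Nat.mul_le_mul_left p hEfix)
    have := (Nat.pow_le_pow_iff_right hp.out.one_lt).mp (h6.trans h3)
    omega
  · push_neg at hab
    obtain ⟨x, hx, y, hy, hxy⟩ := hab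
    refine hlt.not_ge fun a ha => LineStab.mem_of_invariant hS hE hzE (fun α _ => ?_) (hnorm ha) (hzC a ha)
      (hcomE a ha)
    refine LineStab.invariant_of_nonabelian (p := p) (Subtype.ext (by simpa using hzp)) (fun u v => ?_)
      (x := ⟨x, hx⟩) (y := ⟨y, hy⟩) (fun e => hxy (congrArg Subtype.val e)) α
    obtain ⟨i, hi⟩ := Subgroup.mem_zpowers_iff.mp (hcomQ u (hEQ u.2) v (hEQ v.2))
    exact Subgroup.mem_zpowers_iff.mpr ⟨i, Subtype.ext (by simpa using hi)⟩

end Cfsg.Agent.Fusion.ExtraIndex
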