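/-
The generalized Fitting subsystem.
-/
import Cfsg.Agent.Fusion.ComponentExists
import Cfsg.Agent.Fusion.CentESystem
import Cfsg.Agent.Fusion.CentEStrong
import Cfsg.Agent.Fusion.Product
import Cfsg.Agent.Fusion.HypFocal
import Cfsg.Agent.S5150
import Cfsg.Prelude.Def_FusionFitting
set_option autoImplicit false
set_option linter.style.haveILetI false
set_option linter.unusedSectionVars false
set_option maxHeartbeats 1000000

namespace Cfsg.Agent.Fusion.GenFitting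

open Cfsg Cfsg.FusionSystem Cfsg.Agent.Fusion Cfsg.Agent.Fusion.SatCrit
open Cfsg.Agent.Fusion.CentFix (cent_mor)
open Cfsg.Agent.Fusion.CentE (centE Ctx)
open scoped Pointwise

variable {Ω : Type*} [Group Ω] {S T U : Subgroup Ω} {F : FusionSystem S} {p : ℕ}

/-- The data of a generalized Fitting subsystem. -/
structure Data (F : FusionSystem S) (p : ℕ) (E : FusionSystem T) (D : FusionSystem U)
    (Z : Subgroup (Ω × Ω)) (θ : ↥(F.core.prod T) →* Ω) : Prop where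
  hS : IsPGroup p S
  hF : F.IsSaturated p
  hE : E.IsLayerOf F p
  hZ : Z ≤ (prodSystem (innerFusionSystem F.core) E).center
  hl : ∀ (x : Ω) (hx : ((x, 1) : Ω × Ω) ∈ F.core.prod T), θ ⟨(x, 1), hx⟩ = x
  hr : ∀ (y : Ω) (hy : ((1, y) : Ω × Ω) ∈ F.core.prod T), θ ⟨(1, y), hy⟩ = y
  hfac : (prodSystem (innerFusionSystem F.core) E).IsFactorSystem Z θ D

theorem exists_data (hS : IsPGroup p S) (hF : F.IsSaturated p) {D : FusionSystem U}
    (hD : D.IsGeneralizedFittingOf F p) :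
    ∃ (T : Subgroup Ω) (E : FusionSystem T) (Z : Subgroup (Ω × Ω)) (θ : ↥(F.core.prod T) →* Ω),
      Data F p E D Z θ := by
  obtain ⟨T, E, hE, D₀, hD₀, Z, θ, hZ, -, -, hl, hr, hfac⟩ := hD
  obtain rfl : D₀ = prodSystem (innerFusionSystem F.core) E :=
    system_ext fun P => Set.ext fun φ => (hD₀ P φ).trans (prodSystem_isProduct _ _ P φ).symm
  exact ⟨T, E, Z, θ, hS, hF, hE, hZ, hl, hr, hfac⟩

namespace Data

variable {E : FusionSystem T} {D : FusionSystem U} {Z : Subgroup (Ω × Ω)}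
  {θ : ↥(F.core.prod T) →* Ω} (c : Data F p E D Z θ) [Fact p.Prime] [Finite S]
include c

theorem tS : T ≤ S := c.hE.1.1.2.2.2.1.1

theorem qS : F.core ≤ S := core_isNormal.1

theorem theta {z : Ω × Ω} (hz : z ∈ F.core.prod T) : extHom θ z = z.1 * z.2 := by
  have h1 : ((z.1, 1) : Ω × Ω) ∈ F.core.prod T := ⟨hz.1, T.one_mem⟩
  have h2 : ((1, z.2) : Ω × Ω) ∈ F.core.prod T := ⟨F.core.one_mem, hz.2⟩
  rw [extHom_apply θ hz, show (⟨z, hz⟩ : ↥(F.core.prod T)) = ⟨_, h1⟩ * ⟨_, h2⟩ from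
    Subtype.ext (Prod.ext (mul_one _).symm (one_mul _).symm), map_mul, c.hl, c.hr]

theorem coreU : F.core ≤ U := fun q hq =>
  c.hfac.2.2.1 ▸ ⟨⟨(q, 1), ⟨hq, T.one_mem⟩⟩, c.hl _ _⟩

theorem layerU : T ≤ U := fun t ht =>
  c.hfac.2.2.1 ▸ ⟨⟨(1, t), ⟨F.core.one_mem, ht⟩⟩, c.hr _ _⟩

theorem comm {q t : Ω} (hq : q ∈ F.core) (ht : t ∈ T) : q * t = t * q := by
  have h1 : ((q, 1) : Ω × Ω) ∈ F.core.prod T := ⟨hq, T.one_mem⟩
  have h2 : ((1, t) : Ω × Ω) ∈ F.core.prod T := ⟨F.core.one_mem, ht⟩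
  rw [← c.hl q h1, ← c.hr t h2, ← map_mul, ← map_mul]
  exact congrArg θ (Subtype.ext (Prod.ext (show q * 1 = 1 * q by simp) (show 1 * t = t * 1 by simp)))

theorem uS : U ≤ S := by
  intro u hu
  obtain ⟨⟨z, hz⟩, e⟩ : u ∈ θ.range := c.hfac.2.2.1.symm ▸ hu
  rw [← e, ← extHom_apply θ hz, c.theta hz]
  exact S.mul_mem (c.qS hz.1) (c.tS hz.2)

theorem finU : Finite U := finite_of_le c.uS

theorem finD₀ : Finite ↥(F.core.prod T) := by
  haveI := finite_of_le c.qS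
  haveI := finite_of_le c.tS
  exact Finite.of_equiv _ (Subgroup.prodEquiv F.core T).symm.toEquiv

theorem central : (prodSystem (innerFusionSystem F.core) E).IsCentral
    (prodSystem (innerFusionSystem F.core) E).center := by
  haveI := c.finD₀
  exact center_isCentral

theorem zsc : (prodSystem (innerFusionSystem F.core) E).StronglyClosed Z := by
  refine stronglyClosed_of_mor (c.hfac.1) fun P f hf z hzP hz => ?_
  obtain ⟨g, -, eg, mg⟩ := mor_central_ext c.central hf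
  rw [← eg z hzP, mg z (c.hZ hz)]
  exact hz

theorem subsystem : D.IsSubsystemOf F := by
  intro P φ hφ
  refine mem_iff_mor.mpr ?_
  have hm := mor_of_mem hφ
  obtain ⟨f, ⟨ψ, ⟨-, f₁, f₂, h₁, h₂, e⟩, eψ⟩, ef⟩ := factor_lift c.hfac hm
  obtain ⟨-, -, g, hg, eg⟩ := (innerFusion_inducedBy F.core _ _).mp h₁
  set P₂ := (preimageAlong θ P).map (MonoidHom.snd Ω Ω)
  have hst : FixExt F F.core P₂ h₂.hom :=
    (S5150.result p c.hS F c.hF E c.hE P₂ h₂.hom_mem).2.2.2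
  obtain ⟨k, hk, ek, kQ⟩ := (fixExt_iff (φ := h₂.hom)).mp hst
  have hgS : g ∈ S := c.qS hg
  have hdom : P ≤ P₂ ⊔ F.core := fun x hx => by
    obtain ⟨z, hz, rfl⟩ := exists_preimage c.hfac hm.dom_le hx
    have hz' := (mem_preimage_iff.mp hz).1
    rw [c.theta hz', c.comm hz'.1 hz'.2]
    exact mul_mem (Subgroup.mem_sup_left ⟨z, hz, rfl⟩) (Subgroup.mem_sup_right hz'.1)
  refine (((hk.restrict hdom).comp (Mor.conj (P := S) le_rfl hgS)
    fun x hx => (hk.restrict hdom).map_mem hx)).congr fun x hx => ?_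
  obtain ⟨z, hz, rfl⟩ := exists_preimage c.hfac hm.dom_le hx
  have hz' := (mem_preimage_iff.mp hz).1
  have hzi : f z ∈ F.core.prod T := by
    rw [← eψ ⟨z, hz⟩, e ⟨z, hz⟩]
    exact ⟨h₁.map_mem ⟨z, hz, rfl⟩, h₂.map_mem ⟨z, hz, rfl⟩⟩
  have he1 : (f z).1 = g * z.1 * g⁻¹ := by
    rw [← eψ ⟨z, hz⟩, e ⟨z, hz⟩]; exact eg _ ⟨z, hz, rfl⟩
  have he2 : (f z).2 = f₂ z.2 := by rw [← eψ ⟨z, hz⟩, e ⟨z, hz⟩]
  have hk2 : k z.2 = f₂ z.2 := (ek ⟨z.2, z, hz, rfl⟩).trans (extFun_coe _ _).symm |>.trans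
    (extFun_apply h₂.hom (show z.2 ∈ P₂ from ⟨z, hz, rfl⟩))
  have ht : f₂ z.2 ∈ T := h₂.map_mem ⟨z, hz, rfl⟩
  show cj g (k (extHom θ z)) = extFun φ (extHom θ z)
  rw [ef z hz, c.theta hzi, he1, he2, c.theta hz', hk.map_mul (Subgroup.mem_sup_right hz'.1)
    (Subgroup.mem_sup_left (show z.2 ∈ P₂ from ⟨z, hz, rfl⟩)), kQ _ hz'.1, hk2, cj_apply]
  calc g * (z.1 * f₂ z.2) * g⁻¹ = g * z.1 * (f₂ z.2 * g⁻¹) := by group
    _ = g * z.1 * g⁻¹ * f₂ z.2 := by rw [← c.comm (F.core.inv_mem hg) ht]; group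

theorem layer_mor {P : Subgroup Ω} {f : Ω → Ω} (hf : Mor E P f) : Mor D P f := by
  set W : Subgroup (Ω × Ω) := (⊥ : Subgroup Ω).prod P
  have hW₁ : W.map (MonoidHom.fst Ω Ω) ≤ F.core := by
    rintro _ ⟨z, hz, rfl⟩
    show z.1 ∈ F.core
    rw [Subgroup.mem_bot.mp hz.1]; exact F.core.one_mem
  have h2 : Mor E (W.map (MonoidHom.snd Ω Ω)) f := hf.restrict fun y ⟨z, hz, e⟩ => e ▸ hz.2
  have h0 : Mor (prodSystem (innerFusionSystem F.core) E) W (fun z => (cj 1 z.1, f z.2)) := by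
    refine ⟨MonoidHom.mk' (fun z : W => ((cj 1 (z : Ω × Ω).1, f (z : Ω × Ω).2) : Ω × Ω)) fun a b =>
      Prod.ext (by simp [cj_apply]) (hf.map_mul a.2.2 b.2.2), ⟨?_, cj 1, f,
      Mor.conj hW₁ F.core.one_mem, h2, fun _ => rfl⟩, fun _ => rfl⟩
    exact fun z hz => ⟨(Subgroup.mem_bot.mp hz.1).symm ▸ F.core.one_mem, hf.dom_le hz.2⟩
  obtain ⟨g, hg, eg, mg⟩ := mor_central_ext c.central h0
  have hg' := hg.restrict (sup_le_sup le_rfl c.hZ : W ⊔ Z ≤ _)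
  obtain ⟨h, hh, eh⟩ := factor_push c.zsc c.hfac hg' le_sup_right
  have hmem : ∀ x ∈ P, x ∈ imageAlong θ (W ⊔ Z) := fun x hx =>
    (mem_imageAlong (hP := hg'.dom_le)).mpr ⟨(1, x), Subgroup.mem_sup_left ⟨Subgroup.one_mem _, hx⟩, by
      rw [c.theta ⟨F.core.one_mem, hf.dom_le hx⟩, one_mul]⟩
  refine (hh.restrict hmem).congr fun x hx => ?_
  have hxW : ((1, x) : Ω × Ω) ∈ W := ⟨Subgroup.one_mem _, hx⟩
  have := eh (1, x) (Subgroup.mem_sup_left hxW)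
  rw [c.theta ⟨F.core.one_mem, hf.dom_le hx⟩, one_mul, eg _ hxW,
    c.theta ⟨(by rw [cj_one]; exact F.core.one_mem), hf.map_mem hx⟩] at this
  simpa using this

theorem center_spec : D.center ≤ centralizerIn S U ∧
    ∀ P : Subgroup Ω, D.Hom P ⊆ F.centralizerHom D.center P := by
  haveI := c.finU
  have hc : D.IsCentral D.center := center_isCentral
  have hcom := D.center_le_centralizer
  have hUC : U ≤ centralizerIn S D.center := fun u hu =>
    ⟨c.uS hu, fun z hz => ((hcom hz) u hu).symm⟩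
  refine ⟨fun z hz => ⟨c.uS (hc.1 hz), hcom hz⟩, fun P φ hφ => ?_⟩
  obtain ⟨ψ, hψ, e, m⟩ := hc.2 P φ hφ
  exact ⟨c.subsystem P hφ, (D.le_of_mem hφ).1.trans hUC, fun x => hUC ((D.le_of_mem hφ).2 x),
    ψ, c.subsystem _ hψ, e, m⟩

theorem le_center {Y : Subgroup Ω} (hY : Y ≤ centralizerIn S U)
    (hfix : ∀ P : Subgroup Ω, D.Hom P ⊆ F.centralizerHom Y P) : Y ≤ D.center := by
  have hn := c.hE.1
  have k := Ctx.of_normal c.hS hn
  haveI := finite_of_le c.tS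
  haveI := finite_of_le (centralizerIn_le : centralizerIn S T ≤ S)
  set C := centE F E
  obtain ⟨CT, hCT⟩ := exists_centralizerSystem F T c.tS
  have hCTs := centralizerSystem_saturated c.hS c.hF k.fullyCentralizedT hCT
  obtain ⟨D', hD', hD'i⟩ := exists_pPower_system _ rfl (c.hS.to_le centralizerIn_le) CT hCTs C
    CentE.centE_le (hyperfocal_le_focal.trans (k.focal_le hCT))
  have hD'n := CentESystem.normal k hCT hD' hD'i CentE.centE_le k.centE_stronglyClosed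
  have hCS : C ≤ S := CentE.centE_le.trans centralizerIn_le
  haveI := finite_of_le hCS
  have hD'c : D'.IsConstrained p := by
    by_contra hnc
    obtain ⟨V, W, hW⟩ := ComponentExists.exists_component _ rfl _ D' rfl (c.hS.to_le hCS) hD' hnc
    have hVT : V ≤ T := subsystem_dom_le (c.hE.2.1 V W ⟨IsSubnormalIn.step hW.1 hD'n, hW.2⟩)
    have hVC : V ≤ centralizerIn S T := (subnormal_le hW.1).trans CentE.centE_le
    haveI := finite_of_le (hVC.trans centralizerIn_le)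
    exact quasisimple_nonabelian (c.hS.to_le (hVC.trans centralizerIn_le)) hW.2
      ⟨⟨fun a b => Subtype.ext ((hVC b.2).2 a (hVT a.2))⟩⟩
  obtain ⟨R, hRc, hRle⟩ := ComponentExists.exists_centric_le_core c.hS hD'n hD'c
  -- `Y` is in the core
  have hYT : Y ≤ centralizerIn S T := fun y hy => ⟨(hY hy).1, fun t ht => (hY hy).2 t (c.layerU ht)⟩
  have hYC : Y ≤ C := by
    refine le_sSup ⟨hYT, fun P f hf => ?_⟩
    obtain ⟨φ, hφ, e⟩ := c.layer_mor hf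
    obtain ⟨g, hg, eg, mg⟩ := (fixExt_iff (φ := φ)).mp ((hfix P hφ).2.2.2)
    exact ⟨g, hg, fun x hx => (eg ⟨x, hx⟩).trans (e ⟨x, hx⟩), mg⟩
  have hYQ : Y ≤ F.core := fun y hy => hRle (hRc.2 R (isConj_refl hRc.1)
    ⟨hYC hy, fun r hr => (hY hy).2 r (c.coreU (hRle hr))⟩)
  have hYU : Y ≤ U := hYQ.trans c.coreU
  refine le_sSup (show Y ∈ {Q : Subgroup Ω | D.IsCentral Q} from ⟨hYU, fun P φ hφ => ?_⟩)
  have hm := mor_of_mem hφ
  obtain ⟨f, ⟨ψ, ⟨-, f₁, f₂, h₁, h₂, e⟩, eψ⟩, ef⟩ := factor_lift c.hfac hm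
  obtain ⟨-, -, g, hg, eg⟩ := (innerFusion_inducedBy F.core _ _).mp h₁
  have hPY : P ⊔ Y ≤ U := sup_le hm.dom_le hYU
  set W := preimageAlong θ (P ⊔ Y)
  have hWle : W ≤ F.core.prod T := preimageAlong_le θ
  have hW₂ : W.map (MonoidHom.snd Ω Ω) ≤ (preimageAlong θ P).map (MonoidHom.snd Ω Ω) := by
    rintro _ ⟨z, hz, rfl⟩
    obtain ⟨hzm, hzθ⟩ := mem_preimage_iff.mp hz
    obtain ⟨x, hx, y, hy, he⟩ := show extHom θ z ∈ (P : Set Ω) * (Y : Set Ω) by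
      rw [← Subgroup.coe_mul_of_left_le_normalizer_right P Y fun a ha =>
        Subgroup.centralizer_le_normalizer _ fun w hw => ((hY hw).2 a (hm.dom_le ha)).symm]
      exact hzθ
    rw [c.theta hzm] at he
    have hzy : ((z.1 * y⁻¹, z.2) : Ω × Ω) ∈ F.core.prod T :=
      ⟨F.core.mul_mem hzm.1 (F.core.inv_mem (hYQ hy)), hzm.2⟩
    refine ⟨(z.1 * y⁻¹, z.2), mem_preimage_iff.mpr ⟨hzy, ?_⟩, rfl⟩
    rw [c.theta hzy]
    show z.1 * y⁻¹ * z.2 ∈ P
    have hxy : x * y = z.1 * z.2 := he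
    rwa [mul_assoc, c.comm (F.core.inv_mem (hYQ hy)) hzm.2, ← mul_assoc, ← hxy, mul_inv_cancel_right]
  have h₁' : Mor (innerFusionSystem F.core) (W.map (MonoidHom.fst Ω Ω)) (cj g) :=
    Mor.conj (by rintro _ ⟨z, hz, rfl⟩; exact (hWle hz).1) hg
  have h₂' := h₂.restrict hW₂
  have h0 : Mor (prodSystem (innerFusionSystem F.core) E) W (fun z => (cj g z.1, f₂ z.2)) :=
    ⟨MonoidHom.mk' (fun z : W => ((cj g (z : Ω × Ω).1, f₂ (z : Ω × Ω).2) : Ω × Ω)) fun a b =>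
      Prod.ext (h₁'.map_mul ⟨a, a.2, rfl⟩ ⟨b, b.2, rfl⟩) (h₂'.map_mul ⟨a, a.2, rfl⟩ ⟨b, b.2, rfl⟩),
      ⟨hWle, cj g, f₂, h₁', h₂', fun _ => rfl⟩, fun _ => rfl⟩
  obtain ⟨k', hk', ek⟩ := factor_push c.zsc c.hfac h0
    (le_preimageAlong θ c.hfac.2.1 c.hfac.1 _)
  have hle : P ⊔ Y ≤ imageAlong θ W := fun x hx => by
    obtain ⟨z, hz, rfl⟩ := exists_preimage c.hfac hPY hx
    exact (mem_imageAlong (hP := hWle)).mpr ⟨z, hz, rfl⟩
  refine (fixExt_iff (F := D) (φ := φ)).mpr ⟨k', hk'.restrict hle, fun x => ?_, fun y hy => ?_⟩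
  · obtain ⟨z, hz, hzx⟩ := exists_preimage c.hfac hm.dom_le x.2
    have hzW : z ∈ W := mem_preimage_iff.mpr
      ⟨(mem_preimage_iff.mp hz).1, Subgroup.mem_sup_left (hzx.symm ▸ x.2)⟩
    rw [← extFun_coe φ x, ← hzx, ek z hzW, ef z hz]
    congr 1
    rw [← eψ ⟨z, hz⟩, e ⟨z, hz⟩]
    exact Prod.ext (eg _ ⟨z, hz, rfl⟩).symm rfl
  · have hy1 : ((y, 1) : Ω × Ω) ∈ F.core.prod T := ⟨hYQ hy, T.one_mem⟩
    have hyW : ((y, 1) : Ω × Ω) ∈ W := mem_preimage_iff.mpr ⟨hy1, by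
      rw [c.theta hy1, mul_one]; exact Subgroup.mem_sup_right hy⟩
    have h1 := ek _ hyW
    have h2 : cj g y = y := by
      rw [cj_apply, (hY hy).2 g (c.coreU hg), mul_inv_cancel_right]
    have h3 : f₂ 1 = 1 := h₂.map_one
    simp only [h2, h3] at h1
    rwa [c.theta hy1, mul_one] at h1

end Data

end Cfsg.Agent.Fusion.GenFitting
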