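/-
Saturated systems over Heisenberg groups: a nontrivial normal subgroup forces a model.
-/
import Cfsg.Agent.Fusion.SmallCenterIndex
import Cfsg.Agent.Fusion.Series
import Cfsg.Agent.Fusion.Joins
import Cfsg.Agent.S5090
set_option autoImplicit false

universe u

namespace Cfsg.Agent.Fusion.Heis

open Cfsg Cfsg.FusionSystem Cfsg.Agent.Fusion.CenterSq

/-- Commutators are central and fill the centre, and commuting is transitive off the centre. -/
structure HG {Ω : Type u} [Group Ω] (S : Subgroup Ω) : Prop where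
  nab : ∃ v ∈ S, v ∉ zS S
  comm : ∀ u ∈ S, ∀ v ∈ S, u * v * u⁻¹ * v⁻¹ ∈ zS S
  surj : ∀ v ∈ S, v ∉ zS S → ∀ z ∈ zS S, ∃ s ∈ S, s * v * s⁻¹ = v * z
  trans : ∀ a ∈ S, a ∉ zS S → ∀ u ∈ S, ∀ v ∈ S, Commute a u → Commute a v → Commute u v

variable {Ω : Type u} [Group Ω] {S : Subgroup Ω} {F : FusionSystem S} {p : ℕ} [hp : Fact p.Prime]
  [Finite S] (h : HG S) (hS : IsPGroup p S) (hF : F.IsSaturated p) {E : Subgroup Ω}
include h

omit hp [Finite S] in
theorem HG.step {s v : Ω} (hs : s ∈ S) (hv : v ∈ S) : v⁻¹ * cj s v ∈ zS S := by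
  have h1 := h.comm v⁻¹ (S.inv_mem hv) s hs
  rw [inv_inv] at h1
  simpa [cj, mul_assoc] using h1

omit [Finite S] in
theorem HG.zS_le_E (hE : F.IsEssential p E) : zS S ≤ E := fun z hz =>
  hE.1.2 E (isConj_refl hE.1.1) ⟨hz.1, fun u hu => hz.2 u (hE.1.1 hu)⟩

theorem HG.normalizerIn_eq (hE : F.IsEssential p E) : normalizerIn S E = S := by
  haveI := finite_of_le hE.1.1
  refine le_antisymm normalizerIn_le fun s hs => ⟨hs, Subgroup.mem_normalizer_fintype fun v hv => ?_⟩
  have h1 := E.mul_mem hv (h.zS_le_E hE (h.step hs (hE.1.1 hv)))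
  rwa [mul_inv_cancel_left, cj_apply] at h1

include hS hF

/-- Some automorphism moves the centre. -/
theorem HG.exists_move (hE : F.IsEssential p E) :
    ∃ β ∈ F.autGroup E, ∃ z : E, (z : Ω) ∈ zS S ∧ ((β z : E) : Ω) ∉ zS S := by
  by_contra hno
  push Not at hno
  haveI := finite_of_le hE.1.1
  have hall : S ≤ E := by
    intro s hs
    have hsn : s ∈ normalizerIn S E := (h.normalizerIn_eq hE).ge hs
    let D : ℕ → Subgroup E := fun i => if i = 0 then ⊥ else if i = 1 then (zS S).subgroupOf E else ⊤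
    refine mem_of_stabilizes hS hE.1 (essential_radical hS hE) hsn D 2 (by simp [D])
      (by simp [D]) (by intro j hj; interval_cases j <;> simp [D]) ?_ ?_
    · intro β hβ j hj v hv
      interval_cases j
      · simp only [D, if_true, Subgroup.mem_bot] at hv ⊢
        rw [hv, map_one]
      · exact hno β hβ v hv
      · simp [D]
    · intro j hj v hv
      interval_cases j
      · show _ ∈ D 0
        have hv' : (v : Ω) ∈ zS S := hv
        have : actHom S E ⟨s, hsn⟩ v = v := Subtype.ext (by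
          rw [actHom_apply]
          show s * (v : Ω) * s⁻¹ = v
          rw [hv'.2 s hs, mul_inv_cancel_right])
        simp [D, this]
      · show _ ∈ (zS S).subgroupOf E
        rw [Subgroup.mem_subgroupOf, Subgroup.coe_mul, Subgroup.coe_inv, actHom_apply]
        exact h.step hs (hE.1.1 v.2)
  exact (essential_lt hS hF hE).not_ge hall

/-- Essential subgroups are abelian. -/
theorem HG.abelian (hE : F.IsEssential p E) {u v : Ω} (hu : u ∈ E) (hv : v ∈ E) : Commute u v := by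
  obtain ⟨β, hβ, z, hz, hm⟩ := h.exists_move hS hF hE
  have hc : ∀ w : E, Commute ((β z : E) : Ω) w := by
    intro w
    obtain ⟨w', rfl⟩ := β.surjective w
    have h1 : β z * β w' = β w' * β z := by
      rw [← map_mul, ← map_mul]
      exact congrArg β (Subtype.ext (hz.2 _ (hE.1.1 w'.2)).symm)
    exact congrArg Subtype.val h1
  exact h.trans _ (hE.1.1 (β z).2) hm u (hE.1.1 hu) v (hE.1.1 hv) (hc ⟨u, hu⟩) (hc ⟨v, hv⟩)

theorem HG.eq_centralizer (hE : F.IsEssential p E) {a : Ω} (ha : a ∈ E) (haZ : a ∉ zS S) {x : Ω} :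
    x ∈ E ↔ x ∈ S ∧ Commute a x := by
  refine ⟨fun hx => ⟨hE.1.1 hx, h.abelian hS hF hE ha hx⟩, fun ⟨hxS, hax⟩ => ?_⟩
  exact hE.1.2 E (isConj_refl hE.1.1) ⟨hxS, fun u hu =>
    h.trans a (hE.1.1 ha) haZ u (hE.1.1 hu) x hxS (h.abelian hS hF hE ha hu) hax⟩

/-- A nontrivial normal subgroup is not central when there is an essential subgroup. -/
theorem HG.not_central (hE : F.IsEssential p E) {Q : Subgroup Ω} (hQ : F.IsNormal Q) (hQ1 : Q ≠ ⊥) :
    ¬ Q ≤ zS S := by
  intro hQZ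
  haveI := finite_of_le hE.1.1
  haveI := finite_mulAut (G := E)
  have hQc := isNormal_stronglyClosed hQ
  obtain ⟨β, hβ, z, hz, hm⟩ := h.exists_move hS hF hE
  set v : E := β z with hv
  obtain ⟨q, hq, hq1⟩ : ∃ q ∈ Q, q ≠ 1 := (Subgroup.bot_or_exists_ne_one Q).resolve_left hQ1
  obtain ⟨s, hs, hsv⟩ := h.surj v (hE.1.1 v.2) hm q (hQZ hq)
  have hsn : s ∈ normalizerIn S E := (h.normalizerIn_eq hE).ge hs
  let t : MulAut E := actHom S E ⟨s, hsn⟩
  have htQ : ∀ w : E, (w : Ω) ∈ Q → t w = w := fun w hw => Subtype.ext (by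
    rw [actHom_apply]
    show s * (w : Ω) * s⁻¹ = w
    rw [(hQZ hw).2 s hs, mul_inv_cancel_right])
  have hinvQ : ∀ γ ∈ F.autGroup E, ∀ w : E, (w : Ω) ∈ Q → ((γ w : E) : Ω) ∈ Q := by
    intro γ hγ w hw
    obtain ⟨f, hf, ef⟩ := (mem_autGroup_iff hE.1.1).mp hγ
    rw [← ef w]
    exact stronglyClosed_mem hQc hf.mor w.2 hw
  let A := F.autGroup E
  have htA : t ∈ A := autInducedBy_le_autGroup hE.1.1 ((range_actHom S E).le ⟨_, rfl⟩)
  let K : Subgroup A :=
    { carrier := {γ | (γ : MulAut E) v = v ∧ ∀ w : E, (w : Ω) ∈ Q → (γ : MulAut E) w = w}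
      one_mem' := ⟨rfl, fun _ _ => rfl⟩
      mul_mem' := fun {a b} ha hb => ⟨by
          rw [Subgroup.coe_mul, MulAut.mul_apply, hb.1, ha.1], fun w hw => by
          rw [Subgroup.coe_mul, MulAut.mul_apply, hb.2 w hw, ha.2 w hw]⟩
      inv_mem' := fun {a} ha => ⟨by
          rw [Subgroup.coe_inv]
          nth_rw 1 [← ha.1]
          rw [MulAut.inv_apply_self], fun w hw => by
          rw [Subgroup.coe_inv]
          nth_rw 1 [← ha.2 w hw]
          rw [MulAut.inv_apply_self]⟩ }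
  have hfn : F.IsFullyNormalized E := ⟨hE.1.1, fun R _ => by
    rw [h.normalizerIn_eq hE]
    exact card_le_of_le normalizerIn_le⟩
  obtain ⟨-, ⟨-, U, hU⟩, -⟩ := IsSaturated_fullyNormalized hS hF hfn
  let gU : Sylow p A := (⟨β, hβ⟩ : A) • U
  have hgU : (gU : Subgroup A) ≤ K := by
    intro r hr
    rw [Sylow.coe_subgroup_smul] at hr
    obtain ⟨k, hk, rfl⟩ := hr
    obtain ⟨s', hs', -, es⟩ := mem_autInducedBy.mp
      (show (k : MulAut E) ∈ autInducedBy S E from (show k ∈ (autInducedBy S E).subgroupOf A from hU ▸ hk))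
    have hkfix : ∀ w : E, (w : Ω) ∈ zS S → (k : MulAut E) w = w := fun w hw =>
      Subtype.ext ((es w).trans (mul_inv_eq_iff_eq_mul.mpr (hw.2 s' hs')))
    refine ⟨?_, fun w hw => ?_⟩
    · show (β * (k : MulAut E) * β⁻¹) v = v
      rw [MulAut.mul_apply, MulAut.mul_apply, hv, MulAut.inv_apply_self, hkfix z hz]
    · show (β * (k : MulAut E) * β⁻¹) w = w
      rw [MulAut.mul_apply, MulAut.mul_apply, hkfix _ (hQZ (hinvQ β⁻¹ (inv_mem hβ) w hw)), MulAut.apply_inv_self]
  have htv : t v = v * ⟨q, hQZ hq |> h.zS_le_E hE⟩ := Subtype.ext (by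
    rw [actHom_apply]; exact hsv)
  have hqfix : ∀ γ ∈ K, ((γ : A) : MulAut E) ⟨q, hQZ hq |> h.zS_le_E hE⟩ = ⟨q, hQZ hq |> h.zS_le_E hE⟩ :=
    fun γ hγ => hγ.2 _ hq
  have htn : (⟨t, htA⟩ : A) ∈ Subgroup.normalizer (K : Set A) := by
    refine Subgroup.mem_normalizer_fintype fun γ hγ => ?_
    set qE : E := ⟨q, hQZ hq |> h.zS_le_E hE⟩ with hqE
    have hinv : t⁻¹ v = v * qE⁻¹ := by
      apply t.injective
      rw [MulAut.apply_inv_self, map_mul, map_inv, htQ qE hq, htv, mul_inv_cancel_right]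
    refine ⟨?_, fun w hw => ?_⟩
    · show (t * ((γ : A) : MulAut E) * t⁻¹) v = v
      rw [MulAut.mul_apply, MulAut.mul_apply, hinv, map_mul, map_inv, hγ.1, hqfix γ hγ, map_mul, map_inv,
        htQ qE hq, htv, mul_inv_cancel_right]
    · show (t * ((γ : A) : MulAut E) * t⁻¹) w = w
      have e : t⁻¹ w = w := by
        apply t.injective
        rw [MulAut.apply_inv_self, htQ w hw]
      rw [MulAut.mul_apply, MulAut.mul_apply, e, hγ.2 w hw, htQ w hw]
  -- `K` contains a Sylow subgroup, so `t` lies in it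
  set N := Subgroup.normalizer (K : Set A) with hN
  haveI : (K.subgroupOf N).Normal := Subgroup.normal_in_normalizer
  have hdvd : ¬ p ∣ (K.subgroupOf N).index := fun hd => by
    refine gU.not_dvd_index ?_
    have e1 := Subgroup.relIndex_mul_index (hgU.trans (Subgroup.le_normalizer (H := K)))
    have e2 := Subgroup.relIndex_mul_relIndex (gU : Subgroup A) K N hgU Subgroup.le_normalizer
    rw [← e1, ← e2]
    exact dvd_mul_of_dvd_left (dvd_mul_of_dvd_right hd _) _
  obtain ⟨k, hk⟩ := hS ⟨s, hs⟩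
  have hsk : t ^ p ^ k = 1 := by
    have e : (⟨s, hsn⟩ : normalizerIn S E) ^ p ^ k = 1 :=
      Subtype.ext (by simpa using congrArg Subtype.val hk)
    show (actHom S E ⟨s, hsn⟩) ^ p ^ k = 1
    rw [← map_pow]
    exact (congrArg (actHom S E) e).trans (map_one _)
  have htK : (⟨t, htA⟩ : A) ∈ K := by
    let t' : N := ⟨⟨t, htA⟩, htn⟩
    have h1 : ((t' : N) : N ⧸ K.subgroupOf N) ^ p ^ k = 1 := by
      rw [← QuotientGroup.mk_pow]
      have e : t' ^ p ^ k = 1 := Subtype.ext (Subtype.ext hsk)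
      rw [e]; rfl
    have h2 : ((t' : N) : N ⧸ K.subgroupOf N) ^ (K.subgroupOf N).index = 1 := by
      rw [Subgroup.index_eq_card]; exact pow_card_eq_one'
    have h3 := pow_gcd_eq_one.mpr ⟨h1, h2⟩
    rw [Nat.Coprime.gcd_eq_one (((hp.out.coprime_iff_not_dvd).mpr hdvd).pow_left k), pow_one,
      QuotientGroup.eq_one_iff] at h3
    exact h3
  have h4 : t v = v := htK.1
  rw [htv, mul_eq_left] at h4
  exact hq1 (congrArg Subtype.val h4)

/-- A nontrivial normal subgroup makes the system constrained. -/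
theorem HG.constrained (hcore : F.core ≠ ⊥) : F.IsConstrained p := by
  refine ⟨hF, ?_⟩
  by_cases hes : ∃ E, F.IsEssential p E
  swap
  · push Not at hes
    exact ⟨S, isNormal_self_of_no_essential hS hF hes, le_rfl, fun R hR => by
      obtain ⟨f, hf⟩ := isConj_iff.mp hR
      haveI := finite_of_le hf.cod_le
      have e : R = S := eq_of_le_of_card hf.cod_le (le_of_eq hf.card_eq)
      rw [e]; exact centralizerIn_le⟩
  obtain ⟨E₀, hE₀⟩ := hes
  have hQn : F.IsNormal F.core := core_isNormal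
  obtain ⟨a, ha, haZ⟩ := SetLike.not_le_iff_exists.mp (h.not_central hS hF hE₀ hQn hcore)
  have hQle : ∀ R, F.IsEssential p R → F.core ≤ R := fun R hR =>
    isNormal_le_centricRadical hS hQn hR.1 (essential_radical hS hR)
  have huniq : ∀ R, F.IsEssential p R → R = E₀ := fun R hR => SetLike.ext fun x => by
    rw [h.eq_centralizer hS hF hR (hQle R hR ha) haZ, h.eq_centralizer hS hF hE₀ (hQle E₀ hE₀ ha) haZ]
  refine ⟨E₀, isNormal_of_stronglyClosed hS hF (stronglyClosed_of_gen hS hF hE₀.1.1 ?_)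
    (fun R hR => (huniq R hR).ge), hE₀.1⟩
  rintro R (rfl | hR) f hf x hxR hx
  · have haS := hE₀.1.1 (hQle E₀ hE₀ ha)
    have hfa : f a ∈ F.core := stronglyClosed_mem (isNormal_stronglyClosed hQn) hf.mor haS ha
    have hfaZ : f a ∉ zS R := fun e => haZ ⟨haS, fun w hw => hf.mor.injOn (R.mul_mem hw haS) (R.mul_mem haS hw) (by
      rw [hf.mor.map_mul hw haS, hf.mor.map_mul haS hw]
      exact e.2 (f w) (hf.mapsTo hw))⟩
    refine (h.eq_centralizer hS hF hE₀ (hQle E₀ hE₀ hfa) hfaZ).mpr ⟨hf.mapsTo hxR, ?_⟩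
    have hc := h.abelian hS hF hE₀ (hQle E₀ hE₀ ha) hx
    show f a * f x = f x * f a
    rw [← hf.mor.map_mul haS hxR, ← hf.mor.map_mul hxR haS, hc.eq]
  · obtain rfl := huniq R hR
    exact hf.mapsTo hxR

omit hF in
/-- An exotic system has trivial core. -/
theorem HG.exotic_core (hex : F.IsExotic p) : F.core = ⊥ := by
  by_contra hcore
  obtain ⟨G, hG, ι, hfin, hr, hT, -⟩ := Cfsg.Agent.S5090.result p hS F (h.constrained hS hex.1 hcore)
  exact hex.2 ⟨G, hG, hfin, ι, hr, hT⟩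

end Cfsg.Agent.Fusion.Heis
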