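/-
Matrix facts about the upper unitriangular subgroup of `SL_n`: generation by transvections, its
normalizer, and conjugacy of transvections in `PSL_n` for `n ≥ 3`.
-/
import Cfsg.Agent.KnownB.AutPSL.Transv
set_option autoImplicit false

namespace Cfsg.Agent.Fusion.PSLn

open Matrix Cfsg.Agent.KnownB Cfsg.Agent.KnownB.AutPSL

variable {n : ℕ} {F : Type*} [Field F]

local notation "SLn" => Matrix.SpecialLinearGroup (Fin n) F
local notation "PSLn" => Matrix.ProjectiveSpecialLinearGroup (Fin n) F
local notation "Mat" => Matrix (Fin n) (Fin n) F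

theorem mem_upperUni {s : SLn} :
    s ∈ upperUni n F ↔ ∀ i j, j ≤ i → s.val i j = if i = j then 1 else 0 := Iff.rfl

theorem uni_diag {s : SLn} (hs : s ∈ upperUni n F) (i : Fin n) : s.val i i = 1 := by
  rw [hs i i le_rfl, if_pos rfl]

theorem uni_lower {s : SLn} (hs : s ∈ upperUni n F) {i j : Fin n} (h : j < i) : s.val i j = 0 := by
  rw [hs i j h.le, if_neg h.ne']

theorem uni_smul_eq (h0 : 0 < n) {u v : SLn} (hu : u ∈ upperUni n F) (hv : v ∈ upperUni n F) {c : F}
    (h : c • u.val = v.val) : u = v := by
  have h1 := congrFun (congrFun h ⟨0, h0⟩) ⟨0, h0⟩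
  rw [Matrix.smul_apply, uni_diag hu, uni_diag hv, smul_eq_mul, mul_one] at h1
  rw [h1, one_smul] at h
  exact Subtype.ext h

theorem vecMulVec_mul_apply (c : Fin n → F) (m : Fin n) (M : Mat) (a b : Fin n) :
    (Matrix.vecMulVec c (Pi.single m 1) * M) a b = c a * M m b := by
  rw [Matrix.vecMulVec_mul, Matrix.vecMulVec_apply, Matrix.single_one_vecMul, Matrix.row_apply]

/-- The transvections in the unitriangular group. -/
def uniTv (n : ℕ) (F : Type*) [Field F] : Set (Matrix.SpecialLinearGroup (Fin n) F) :=
  {t | t ∈ upperUni n F ∧ ∃ (u φ : Fin n → F) (h : φ ⬝ᵥ u = 0), u ≠ 0 ∧ φ ≠ 0 ∧ t = tvSL u φ h}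

theorem uni_mem_closure {u : SLn} (hu : u ∈ upperUni n F) : u ∈ Subgroup.closure (uniTv n F) := by
  suffices H : ∀ m : ℕ, m ≤ n → ∀ u : SLn, u ∈ upperUni n F →
      (∀ i j : Fin n, m ≤ (j : ℕ) → i ≠ j → u.val i j = 0) → u ∈ Subgroup.closure (uniTv n F) from
    H n le_rfl u hu fun i j hj => absurd hj (by omega)
  intro m
  induction m with
  | zero =>
    intro _ u hu h
    have : u = 1 := Subtype.ext (Matrix.ext fun i j => by
      by_cases hij : i = j
      · subst hij; rw [uni_diag hu]; simp
      · rw [h i j (Nat.zero_le _) hij]; simp [hij])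
    rw [this]; exact one_mem _
  | succ m ih =>
    intro hm u hu h
    set k : Fin n := ⟨m, hm⟩ with hk
    let c : Fin n → F := fun i => if i < k then u.val i k else 0
    have hck : c k = 0 := by simp [c]
    by_cases hc : c = 0
    · refine ih (by omega) u hu fun i j hj hij => ?_
      rcases hj.lt_or_eq with hj | hj
      · exact h i j hj hij
      · have hjk : j = k := Fin.ext hj.symm
        subst hjk
        rcases lt_or_gt_of_ne hij with hlt | hgt
        · have := congrFun hc i
          simpa [c, hlt] using this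
        · exact uni_lower hu hgt
    have hdot : Pi.single k (1 : F) ⬝ᵥ (-c) = 0 := by simp [hck]
    set v := tvSL (-c) (Pi.single k 1) hdot with hv
    have hvU : v ∈ upperUni n F := by
      intro a b hba
      rw [hv, tvSL_val, Matrix.add_apply, Matrix.one_apply, Matrix.vecMulVec_apply]
      suffices (-c) a * (Pi.single k (1 : F) : Fin n → F) b = 0 by rw [this, add_zero]
      by_cases hbk : b = k
      · subst hbk
        simp [c, not_lt.mpr hba]
      · simp [hbk]
    have hvT : v ∈ uniTv n F := ⟨hvU, _, _, hdot, neg_ne_zero.mpr hc, by simp, rfl⟩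
    have hprod : v * u ∈ Subgroup.closure (uniTv n F) := by
      refine ih (by omega) _ (mul_mem hvU hu) fun i j hj hij => ?_
      rw [Matrix.SpecialLinearGroup.coe_mul, hv, tvSL_val, Matrix.add_mul, Matrix.one_mul,
        Matrix.add_apply, vecMulVec_mul_apply, Pi.neg_apply]
      rcases hj.lt_or_eq with hj | hj
      · have hkj : k ≠ j := fun e => by rw [← e] at hj; exact lt_irrefl _ hj
        rw [h i j hj hij, h k j hj hkj, mul_zero, add_zero]
      · have hjk : j = k := Fin.ext hj.symm
        subst hjk
        rw [uni_diag hu, mul_one]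
        rcases lt_or_gt_of_ne hij with hlt | hgt
        · simp [c, hlt]
        · simp [c, not_lt.mpr hgt.le, uni_lower hu hgt]
    have := mul_mem (inv_mem (Subgroup.subset_closure hvT)) hprod
    rwa [inv_mul_cancel_left] at this

/-- Transvections are conjugate in `PSL_n` for `n ≥ 3`. -/
theorem isConj_isTv (hn : 3 ≤ n) {x y : PSLn} (hx : IsTv x) (hy : IsTv y) : _root_.IsConj x y := by
  classical
  let a : Fin n := ⟨0, by omega⟩
  let b : Fin n := ⟨1, by omega⟩
  let c : Fin n := ⟨2, by omega⟩
  have hab : a ≠ b := by simp [a, b]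
  have h0 : Pi.single b (1 : F) ⬝ᵥ Pi.single a 1 = 0 := by simp [hab.symm]
  have key : ∀ z : PSLn, IsTv z →
      _root_.IsConj (pslMk n F (tvSL (Pi.single a 1) (Pi.single b 1) h0)) z := by
    rintro z ⟨u, φ, hu, hφ, h, rfl⟩
    obtain ⟨P, hP1, hP2⟩ := exists_frame u φ hu hφ h hab
    let d : Fin n → F := Function.update 1 c P.val.det⁻¹
    have hdet : (P.val * Matrix.diagonal d).det = 1 := by
      rw [Matrix.det_mul, Matrix.det_diagonal, Finset.prod_update_of_mem (Finset.mem_univ c)]
      simp [(Matrix.isUnits_det_units P).ne_zero]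
    have h1 : (P.val * Matrix.diagonal d) *ᵥ Pi.single a 1 = u := by
      rw [← Matrix.mulVec_mulVec]
      have : Matrix.diagonal d *ᵥ Pi.single a (1 : F) = Pi.single a 1 := by
        funext i
        rw [Matrix.mulVec_diagonal]
        by_cases hi : i = a
        · subst hi; simp [d, a, c]
        · simp [hi]
      rw [this, hP1]
    have h2 : φ ᵥ* (P.val * Matrix.diagonal d) = Pi.single b 1 := by
      rw [← Matrix.vecMul_vecMul, hP2]
      funext i
      rw [Matrix.vecMul_diagonal]
      by_cases hi : i = b
      · subst hi; simp [d, b, c]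
      · simp [hi]
    let s : SLn := ⟨P.val * Matrix.diagonal d, hdet⟩
    have hs : s * tvSL (Pi.single a 1) (Pi.single b 1) h0 = tvSL u φ h * s := by
      apply Subtype.ext
      show s.val * (tvSL _ _ h0).val = (tvSL u φ h).val * s.val
      rw [tvSL_val, tvSL_val, Matrix.mul_add, Matrix.add_mul, Matrix.mul_one, Matrix.one_mul,
        Matrix.mul_vecMulVec, Matrix.vecMulVec_mul, h1, h2]
    refine _root_.isConj_iff.mpr ⟨pslMk n F s, ?_⟩
    rw [← map_mul, ← map_inv, ← map_mul, hs, mul_inv_cancel_right]
  exact (key x hx).symm.trans (key y hy)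

theorem strictMono_fin_eq_id {r : Fin n → Fin n} (h : StrictMono r) : r = id :=
  (h.range_inj strictMono_id).mp (by
    rw [(Finite.injective_iff_surjective.mp h.injective).range_eq, Set.range_id])

/-- A matrix carrying every elementary unipotent of the unitriangular group back into it, up to
scalars, is upper triangular. -/
theorem upper_of_normalizes (s : SLn)
    (h : ∀ i j : Fin n, ∀ hij : i < j, ∃ v ∈ upperUni n F, ∃ c : F,
      c • (s * SpecialLinearGroup.transvection hij.ne 1 * s⁻¹).val = v.val) :
    ∀ a b : Fin n, b < a → s.val a b = 0 := by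
  classical
  have hK : ∀ i j : Fin n, i < j → ∀ a b : Fin n, b ≤ a → s.val a i * (s⁻¹).val j b = 0 := by
    intro i j hij a b hba
    obtain ⟨v, hv, c, hc⟩ := h i j hij
    set K := s.val * Matrix.single i j (1 : F) * (s⁻¹).val with hKdef
    have he : (s * SpecialLinearGroup.transvection hij.ne 1 * s⁻¹).val = 1 + K := by
      show s.val * Matrix.transvection i j 1 * (s⁻¹).val = _
      rw [Matrix.transvection, Matrix.mul_add, Matrix.add_mul, Matrix.mul_one, ← hKdef,
        ← Matrix.SpecialLinearGroup.coe_mul, mul_inv_cancel, Matrix.SpecialLinearGroup.coe_one]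
    rw [he] at hc
    haveI : Nontrivial (Fin n) := ⟨⟨i, j, hij.ne⟩⟩
    have hdetK : K.det = 0 := by
      rw [hKdef, Matrix.det_mul, Matrix.det_mul]
      have : (Matrix.single i j (1 : F)).det = 0 :=
        Matrix.det_eq_zero_of_row_eq_zero j fun l => Matrix.single_apply_of_row_ne hij.ne _ _ _
      rw [this, mul_zero, zero_mul]
    have hup : (c • K).BlockTriangular id := fun x y (hxy : y < x) => by
      have := congrFun (congrFun hc x) y
      rw [uni_lower hv hxy, Matrix.smul_apply, Matrix.add_apply, Matrix.one_apply_ne hxy.ne',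
        zero_add] at this
      exact this
    have hdiag : ∀ x, (c • K) x x = 1 - c := fun x => by
      have := congrFun (congrFun hc x) x
      rw [uni_diag hv, Matrix.smul_apply, Matrix.add_apply, Matrix.one_apply_eq, smul_add,
        smul_eq_mul, mul_one] at this
      rw [Matrix.smul_apply]
      linear_combination this
    have hc1 : c = 1 := by
      have h1 := Matrix.det_of_upperTriangular hup
      rw [Matrix.det_smul, hdetK, mul_zero] at h1
      simp only [hdiag, Finset.prod_const] at h1
      exact (sub_eq_zero.mp (pow_eq_zero_iff'.mp h1.symm).1).symm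
    have hKab : K a b = 0 := by
      rcases hba.lt_or_eq with hlt | heq
      · have h1 := hup hlt
        rwa [hc1, one_smul] at h1
      · subst heq
        have h1 := hdiag b
        rwa [hc1, one_smul, sub_self] at h1
    rw [hKdef, Matrix.mul_apply, Finset.sum_eq_single j] at hKab
    · simpa using hKab
    · intro l _ hl; simp [Matrix.single_apply_of_col_ne _ _ hl.symm, Matrix.mul_apply]
    · simp
  have hdet : s.val.det ≠ 0 := by rw [s.det_coe]; exact one_ne_zero
  have hdet' : (s⁻¹).val.det ≠ 0 := by rw [(s⁻¹).det_coe]; exact one_ne_zero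
  let R : Fin n → Finset (Fin n) := fun i => Finset.univ.filter fun k => s.val k i ≠ 0
  let L : Fin n → Finset (Fin n) := fun i => Finset.univ.filter fun k => (s⁻¹).val i k ≠ 0
  have hR : ∀ i, (R i).Nonempty := fun i => by
    by_contra hne
    refine hdet (Matrix.det_eq_zero_of_column_eq_zero i fun k => ?_)
    by_contra hk
    exact hne ⟨k, by simp [R, hk]⟩
  have hL : ∀ i, (L i).Nonempty := fun i => by
    by_contra hne
    refine hdet' (Matrix.det_eq_zero_of_row_eq_zero i fun k => ?_)
    by_contra hk
    exact hne ⟨k, Finset.mem_filter.mpr ⟨Finset.mem_univ _, hk⟩⟩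
  let r := fun i => (R i).max' (hR i)
  let l := fun i => (L i).min' (hL i)
  have hr : ∀ i, s.val (r i) i ≠ 0 := fun i => (Finset.mem_filter.mp ((R i).max'_mem (hR i))).2
  have hl : ∀ i, (s⁻¹).val i (l i) ≠ 0 := fun i => (Finset.mem_filter.mp ((L i).min'_mem (hL i))).2
  have hlr : ∀ i, l i ≤ r i := fun i => by
    have h1 : ((s⁻¹).val * s.val) i i = 1 := by
      rw [← Matrix.SpecialLinearGroup.coe_mul, inv_mul_cancel]; simp
    rw [Matrix.mul_apply] at h1
    obtain ⟨k, -, hk⟩ := Finset.exists_ne_zero_of_sum_ne_zero (by rw [h1]; exact one_ne_zero)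
    exact ((L i).min'_le k (Finset.mem_filter.mpr ⟨Finset.mem_univ _, left_ne_zero_of_mul hk⟩)).trans
      ((R i).le_max' k (by simp [R, right_ne_zero_of_mul hk]))
  have hmono : StrictMono r := fun i j hij => by
    refine lt_of_lt_of_le ?_ (hlr j)
    by_contra hge
    exact mul_ne_zero (hr i) (hl j) (hK i j hij _ _ (not_lt.mp hge))
  intro a b hba
  by_contra hne
  have h1 : a ≤ r b := (R b).le_max' a (by simp [R, hne])
  rw [strictMono_fin_eq_id hmono, id] at h1
  exact absurd h1 (not_le.mpr hba)

theorem upper_mul_diag {A B : Mat} (hA : A.BlockTriangular id) (hB : B.BlockTriangular id)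
    (i : Fin n) : (A * B) i i = A i i * B i i := by
  rw [Matrix.mul_apply, Finset.sum_eq_single i]
  · intro k _ hk
    rcases lt_or_gt_of_ne hk with h | h
    · rw [hA h, zero_mul]
    · rw [hB h, mul_zero]
  · simp

theorem upper_pow_diag {A : Mat} (hA : A.BlockTriangular id) (i : Fin n) :
    ∀ m : ℕ, (A ^ m) i i = A i i ^ m ∧ (A ^ m).BlockTriangular id
  | 0 => ⟨by simp, by simpa using Matrix.blockTriangular_one⟩
  | m + 1 => by
    obtain ⟨h1, h2⟩ := upper_pow_diag hA i m
    exact ⟨by rw [pow_succ, upper_mul_diag h2 hA, h1, pow_succ], by rw [pow_succ]; exact h2.mul hA⟩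

end Cfsg.Agent.Fusion.PSLn
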