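/-
The diagonal torus of `SL_n` and the unipotent radicals of the minimal parabolic subgroups.
-/
import Cfsg.Agent.Fusion.PSLnUni
set_option autoImplicit false

namespace Cfsg.Agent.Fusion.PSLn

open Matrix Cfsg.Agent.KnownB Cfsg.Agent.KnownB.AutPSL

variable {n : ℕ} {F : Type*} [Field F]

local notation "SLn" => Matrix.SpecialLinearGroup (Fin n) F
local notation "PSLn" => Matrix.ProjectiveSpecialLinearGroup (Fin n) F

/-- The diagonal matrices of determinant one. -/
def dg (d : Fin n → F) (h : ∏ i, d i = 1) : SLn := ⟨Matrix.diagonal d, by rw [Matrix.det_diagonal, h]⟩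

/-- The coroot element `diag(…, t, t⁻¹, …)`. -/
def corootVec (k l : Fin n) (t : F) : Fin n → F := fun i => if i = k then t else if i = l then t⁻¹ else 1

theorem prod_corootVec {k l : Fin n} (hkl : k ≠ l) {t : F} (ht : t ≠ 0) :
    ∏ i, corootVec k l t i = 1 := by
  classical
  rw [Finset.prod_eq_mul (a := k) (b := l) hkl]
  · simp [corootVec, hkl.symm, ht]
  · intro i _ hi; simp [corootVec, hi.1, hi.2]
  · simp
  · simp

/-- A coroot element is a product of root elements. -/
theorem coroot_eq {k l : Fin n} (hkl : k ≠ l) {t : F} (ht : t ≠ 0) :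
    dg (corootVec k l t) (prod_corootVec hkl ht) =
      SpecialLinearGroup.transvection hkl t * SpecialLinearGroup.transvection hkl.symm (-t⁻¹) *
      SpecialLinearGroup.transvection hkl t * SpecialLinearGroup.transvection hkl (-1) *
      SpecialLinearGroup.transvection hkl.symm 1 * SpecialLinearGroup.transvection hkl (-1) := by
  apply Subtype.ext
  show Matrix.diagonal (corootVec k l t) = Matrix.transvection k l t * Matrix.transvection l k (-t⁻¹) *
    Matrix.transvection k l t * Matrix.transvection k l (-1) * Matrix.transvection l k 1 *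
    Matrix.transvection k l (-1)
  have key : ∀ M : Matrix (Fin n) (Fin n) F, Matrix.diagonal (corootVec k l t) * M =
      Matrix.transvection k l t * (Matrix.transvection l k (-t⁻¹) *
        (Matrix.transvection k l t * (Matrix.transvection k l (-1) * (Matrix.transvection l k 1 *
          (Matrix.transvection k l (-1) * M))))) := by
    intro M
    ext a b
    rw [Matrix.diagonal_mul]
    by_cases hak : a = k
    · subst hak
      simp [corootVec, hkl, hkl.symm]
      field_simp
      ring
    · by_cases hal : a = l
      · subst hal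
        simp [corootVec, hkl, hkl.symm]
        field_simp
        ring
      · simp [corootVec, hak, hal]
  have h := key 1
  simpa [Matrix.mul_assoc] using h

/-- The diagonal matrices are generated by the coroot elements of adjacent indices. -/
theorem dg_mem {C : Subgroup SLn}
    (hC : ∀ (k l : Fin n) (hkl : k ≠ l), (l : ℕ) = k + 1 → ∀ (t : F) (ht : t ≠ 0),
      dg (corootVec k l t) (prod_corootVec hkl ht) ∈ C)
    (d : Fin n → F) (hd : ∏ i, d i = 1) : dg d hd ∈ C := by
  classical
  suffices H : ∀ m : ℕ, m < n → ∀ (d : Fin n → F) (hd : ∏ i, d i = 1),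
      (∀ i : Fin n, m < (i : ℕ) → d i = 1) → dg d hd ∈ C by
    rcases Nat.eq_zero_or_pos n with h0 | h0
    · subst h0
      rw [show dg d hd = 1 from Subtype.ext (Subsingleton.elim _ _)]; exact one_mem _
    · exact H (n - 1) (by omega) d hd fun i hi => absurd i.2 (by omega)
  intro m
  induction m with
  | zero =>
    intro hm d hd h
    have h0 : d ⟨0, hm⟩ = 1 := by
      rw [← hd, Finset.prod_eq_single ⟨0, hm⟩ (fun i _ hi => h i (Nat.pos_of_ne_zero fun e => hi (Fin.ext e)))
        (by simp)]
    have : dg d hd = 1 := Subtype.ext (by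
      show Matrix.diagonal d = 1
      rw [show d = fun _ => (1 : F) from funext fun i => by
        rcases Nat.eq_zero_or_pos (i : ℕ) with e | e
        · rw [show i = ⟨0, hm⟩ from Fin.ext e, h0]
        · exact h i e, Matrix.diagonal_one])
    rw [this]; exact one_mem _
  | succ m ih =>
    intro hm d hd h
    set k : Fin n := ⟨m, by omega⟩ with hk
    set l : Fin n := ⟨m + 1, hm⟩ with hl
    have hkl : k ≠ l := by simp [hk, hl]
    have ht : d l ≠ 0 := (Finset.prod_ne_zero_iff.mp (hd ▸ one_ne_zero : ∏ i, d i ≠ 0)) l (Finset.mem_univ _)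
    have hd' : ∏ i, (fun i => d i * corootVec k l (d l) i) i = 1 := by
      rw [Finset.prod_mul_distrib, hd, prod_corootVec hkl ht, one_mul]
    have h1 := ih (by omega) _ hd' fun i hi => by
      by_cases hil : i = l
      · subst hil; simp [corootVec, hkl.symm, ht]
      · have hik : i ≠ k := fun e => by rw [e] at hi; exact lt_irrefl _ hi
        have : m + 1 < (i : ℕ) := lt_of_le_of_ne hi fun e => hil (Fin.ext e.symm)
        simp [corootVec, hik, hil, h i this]
    have e : dg d hd = dg _ hd' * (dg (corootVec k l (d l)) (prod_corootVec hkl ht))⁻¹ := by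
      rw [eq_mul_inv_iff_mul_eq]
      exact Subtype.ext (by
        show Matrix.diagonal d * Matrix.diagonal _ = Matrix.diagonal _
        rw [Matrix.diagonal_mul_diagonal])
    rw [e]
    exact mul_mem h1 (inv_mem (hC k l hkl rfl _ ht))

/-- The unipotent radical of a minimal parabolic. -/
def radUni (n : ℕ) (F : Type*) [Field F] (k l : Fin n) (hkl : (l : ℕ) = k + 1) :
    Subgroup (Matrix.SpecialLinearGroup (Fin n) F) where
  carrier := {s | s ∈ upperUni n F ∧ s.val k l = 0}
  one_mem' := ⟨one_mem _, by simp [Matrix.one_apply, Fin.ext_iff, hkl]⟩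
  mul_mem' := by
    rintro a b ⟨ha, ha'⟩ ⟨hb, hb'⟩
    refine ⟨mul_mem ha hb, ?_⟩
    rw [Matrix.SpecialLinearGroup.coe_mul, Matrix.mul_apply]
    refine Finset.sum_eq_zero fun i _ => ?_
    rcases lt_trichotomy i k with h | rfl | h
    · rw [uni_lower ha h, zero_mul]
    · rw [hb', mul_zero]
    · have : l ≤ i := by simp only [Fin.le_def, Fin.lt_def] at *; omega
      rcases this.lt_or_eq with h' | rfl
      · rw [uni_lower hb h', mul_zero]
      · rw [ha', zero_mul]
  inv_mem' := by
    rintro a ⟨ha, ha'⟩
    refine ⟨inv_mem ha, ?_⟩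
    have h1 : ((a⁻¹).val * a.val) k l = 0 := by
      rw [← Matrix.SpecialLinearGroup.coe_mul, inv_mul_cancel]
      simp [Matrix.one_apply, Fin.ext_iff, hkl]
    rw [Matrix.mul_apply, Finset.sum_eq_single l] at h1
    · rwa [uni_diag ha, mul_one] at h1
    · intro i _ hi
      rcases lt_trichotomy i k with h | rfl | h
      · rw [uni_lower (inv_mem ha) h, zero_mul]
      · rw [ha', mul_zero]
      · have : l < i := by
          simp only [Fin.lt_def] at *
          have := Fin.val_ne_of_ne hi
          omega
        rw [uni_lower ha this, mul_zero]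
    · simp

theorem uni_entry_add {k l : Fin n} (hkl : (l : ℕ) = k + 1) {a b : SLn} (ha : a ∈ upperUni n F)
    (hb : b ∈ upperUni n F) : (a * b).val k l = a.val k l + b.val k l := by
  have hne : k ≠ l := by simp [Fin.ext_iff, hkl]
  rw [Matrix.SpecialLinearGroup.coe_mul, Matrix.mul_apply, Finset.sum_eq_add (a := k) (b := l) hne]
  · rw [uni_diag ha, uni_diag hb, one_mul, mul_one, add_comm]
  · intro i _ hi
    rcases lt_trichotomy i k with h | rfl | h
    · rw [uni_lower ha h, zero_mul]
    · exact absurd rfl hi.1
    · have : l < i := by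
        simp only [Fin.lt_def] at *
        have := Fin.val_ne_of_ne hi.2
        omega
      rw [uni_lower hb this, mul_zero]
  · simp
  · simp

/-- Conjugation by unitriangular elements preserves the radical. -/
theorem radUni_conj {k l : Fin n} (hkl : (l : ℕ) = k + 1) {a u : SLn} (ha : a ∈ upperUni n F)
    (hu : u ∈ radUni n F k l hkl) : a * u * a⁻¹ ∈ radUni n F k l hkl := by
  refine ⟨mul_mem (mul_mem ha hu.1) (inv_mem ha), ?_⟩
  have h1 := uni_entry_add hkl ha (inv_mem ha)
  rw [mul_inv_cancel, Matrix.SpecialLinearGroup.coe_one, Matrix.one_apply_ne (by simp [Fin.ext_iff, hkl])] at h1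
  rw [uni_entry_add hkl (mul_mem ha hu.1) (inv_mem ha), uni_entry_add hkl ha hu.1, hu.2, add_zero, ← h1]

/-- The lower root element of a simple root normalizes the radical. -/
theorem radUni_conj_lower {k l : Fin n} (hkl : (l : ℕ) = k + 1) (hne : l ≠ k) (c : F) {u : SLn}
    (hu : u ∈ radUni n F k l hkl) :
    SpecialLinearGroup.transvection hne c * u * (SpecialLinearGroup.transvection hne c)⁻¹ ∈
      radUni n F k l hkl := by
  have hinv : (SpecialLinearGroup.transvection hne c)⁻¹ = SpecialLinearGroup.transvection hne (-c) := by
    refine inv_eq_of_mul_eq_one_right (Subtype.ext ?_)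
    show Matrix.transvection l k c * Matrix.transvection l k (-c) = 1
    rw [Matrix.transvection_mul_transvection_same _ _ hne, add_neg_cancel, Matrix.transvection_zero]
  have hval : ∀ a b : Fin n, (SpecialLinearGroup.transvection hne c * u *
      (SpecialLinearGroup.transvection hne c)⁻¹).val a b =
      (if a = l then u.val l b + c * u.val k b else u.val a b) +
        (if b = k then -c * (if a = l then u.val l l + c * u.val k l else u.val a l) else 0) := by
    intro a b
    rw [hinv]
    show (Matrix.transvection l k c * u.val * Matrix.transvection l k (-c)) a b = _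
    by_cases hb : b = k
    · subst hb
      rw [Matrix.mul_transvection_apply_same, if_pos rfl]
      by_cases ha : a = l
      · subst ha; simp
      · simp [ha]
    · rw [Matrix.mul_transvection_apply_of_ne (hb := hb), if_neg hb, add_zero]
      by_cases ha : a = l
      · subst ha; simp
      · simp [ha]
  refine ⟨fun a b hba => ?_, ?_⟩
  · rw [hval]
    by_cases ha : a = l
    · subst ha
      rw [if_pos rfl, if_pos rfl, uni_diag hu.1, hu.2, mul_zero, add_zero, mul_one]
      by_cases hb : b = k
      · subst hb
        rw [if_pos rfl, uni_lower hu.1 (lt_of_le_of_ne hba (Ne.symm hne)), uni_diag hu.1, if_neg hne]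
        ring
      · rw [if_neg hb, add_zero]
        rcases hba.lt_or_eq with hlt | heq
        · have hbk : b < k := by
            simp only [Fin.lt_def] at *
            have := Fin.val_ne_of_ne hb
            omega
          rw [uni_lower hu.1 hlt, uni_lower hu.1 hbk, if_neg hlt.ne']
          ring
        · subst heq
          rw [uni_diag hu.1, hu.2, if_pos rfl]
          ring
    · rw [if_neg ha, if_neg ha, hu.1 a b hba]
      by_cases hb : b = k
      · subst hb
        have hal : u.val a l = 0 := by
          rcases hba.lt_or_eq with hlt | heq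
          · refine uni_lower hu.1 ?_
            simp only [Fin.lt_def] at *
            have := Fin.val_ne_of_ne ha
            omega
          · subst heq; exact hu.2
        rw [hal, if_pos rfl, mul_zero, add_zero]
      · rw [if_neg hb, add_zero]
  · rw [hval, if_neg (Ne.symm hne), if_neg hne, hu.2, add_zero]

/-- The radical contains its centralizer in the unitriangular group. -/
theorem radUni_selfCentralizing (hn : 3 ≤ n) {k l : Fin n} (hkl : (l : ℕ) = k + 1) {u : SLn}
    (hu : u ∈ upperUni n F) (h : ∀ r ∈ radUni n F k l hkl, u * r = r * u) :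
    u ∈ radUni n F k l hkl := by
  refine ⟨hu, ?_⟩
  have tmem : ∀ (i j : Fin n) (hij : i < j), ¬ (i = k ∧ j = l) →
      SpecialLinearGroup.transvection hij.ne (1 : F) ∈ radUni n F k l hkl := by
    intro i j hij hne
    refine ⟨fun a b hba => ?_, ?_⟩
    · show Matrix.transvection i j (1 : F) a b = _
      rw [Matrix.transvection, Matrix.add_apply, Matrix.one_apply, Matrix.single_apply, if_neg
        (fun e : i = a ∧ j = b => absurd (e.1 ▸ e.2 ▸ hij) (not_lt.mpr hba)), add_zero]
    · show Matrix.transvection i j (1 : F) k l = 0
      rw [Matrix.transvection, Matrix.add_apply, Matrix.one_apply_ne (by simp [Fin.ext_iff, hkl]),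
        Matrix.single_apply, if_neg hne, add_zero]
  by_cases hl : (l : ℕ) + 1 < n
  · set m : Fin n := ⟨l + 1, hl⟩ with hm
    have hlm : l < m := by simp [hm, Fin.lt_def]
    have h1 := congrArg (fun s : SLn => s.val k m)
      (h _ (tmem l m hlm (fun e => by have := congrArg Fin.val e.1; omega)))
    change (u.val * Matrix.transvection l m (1 : F) : Matrix (Fin n) (Fin n) F) k m = (Matrix.transvection l m (1 : F) * u.val : Matrix (Fin n) (Fin n) F) k m at h1
    rw [Matrix.mul_transvection_apply_same, Matrix.transvection_mul_apply_of_ne (ha := by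
      simp [Fin.ext_iff, hkl])] at h1
    simpa using h1
  · have hk : 1 ≤ (k : ℕ) := by have := l.2; omega
    set j : Fin n := ⟨k - 1, by have := k.2; omega⟩ with hj
    have hjk : j < k := by simp [hj, Fin.lt_def]; omega
    have h1 := congrArg (fun s : SLn => s.val j l)
      (h _ (tmem j k hjk (fun e => by have := congrArg Fin.val e.2; omega)))
    change (u.val * Matrix.transvection j k (1 : F) : Matrix (Fin n) (Fin n) F) j l = (Matrix.transvection j k (1 : F) * u.val : Matrix (Fin n) (Fin n) F) j l at h1
    have hlk : l ≠ k := by simp [Fin.ext_iff, hkl]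
    rw [Matrix.transvection_mul_apply_same, Matrix.mul_transvection_apply_of_ne (hb := hlk)] at h1
    simpa using h1

theorem transvection_isTv {i j : Fin n} (hij : i ≠ j) {c : F} (hc : c ≠ 0) :
    IsTv (pslMk n F (SpecialLinearGroup.transvection hij c)) := by
  refine ⟨Pi.single i c, Pi.single j 1, by simp [hc], by simp, by simp [hij.symm], ?_⟩
  congr 1
  apply Subtype.ext
  show _ = Matrix.transvection i j c
  rw [tvSL_val, Matrix.transvection]
  congr 1
  ext a b
  rw [Matrix.vecMulVec_apply, Matrix.single_apply]
  by_cases ha : i = a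
  · subst ha
    by_cases hb : j = b
    · subst hb; simp
    · simp [hb, Ne.symm hb]
  · simp [ha, Ne.symm ha]

theorem transvection_pow (p : ℕ) [CharP F p] {i j : Fin n} (hij : i ≠ j) (c : F) :
    SpecialLinearGroup.transvection hij c ^ p = 1 := by
  have key : ∀ m : ℕ, (SpecialLinearGroup.transvection hij c ^ m).val =
      Matrix.transvection i j ((m : F) * c) := by
    intro m
    induction m with
    | zero => simp [Matrix.transvection_zero]
    | succ m ih =>
      rw [pow_succ, Matrix.SpecialLinearGroup.coe_mul, ih]
      show Matrix.transvection i j _ * Matrix.transvection i j c = _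
      rw [Matrix.transvection_mul_transvection_same _ _ hij]
      push_cast; rw [add_mul, one_mul]
  apply Subtype.ext
  rw [key, CharP.cast_eq_zero, zero_mul, Matrix.transvection_zero]
  rfl

end Cfsg.Agent.Fusion.PSLn
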