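/-
The `p`-fusion system of `PSL_n` in characteristic `p`, `n ≥ 3`, is simple.
-/
import Cfsg.Agent.Fusion.SimpleCriterion
import Cfsg.Agent.Fusion.Alperin
import Cfsg.Agent.Fusion.PSLnTorus
set_option autoImplicit false

namespace Cfsg.Agent.Fusion.PSLn

open Matrix Cfsg Cfsg.FusionSystem Cfsg.Agent.KnownB Cfsg.Agent.KnownB.AutPSL

variable {n : ℕ} {F : Type*} [Field F] [Fintype F] {p : ℕ} [Fact p.Prime] [CharP F p]

local notation "SLn" => Matrix.SpecialLinearGroup (Fin n) F
local notation "PSLn" => Matrix.ProjectiveSpecialLinearGroup (Fin n) F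

/-- The projection followed by a conjugation. -/
def proj (g : Matrix.ProjectiveSpecialLinearGroup (Fin n) F) :
    Matrix.SpecialLinearGroup (Fin n) F →* Matrix.ProjectiveSpecialLinearGroup (Fin n) F :=
  (MulAut.conj g).toMonoidHom.comp (pslMk n F)

omit [Fintype F] [Fact p.Prime] [CharP F p] in
theorem proj_surjective (g : PSLn) : Function.Surjective (proj g) :=
  (MulAut.conj g).surjective.comp pslMk_surjective

omit [Fintype F] [Fact p.Prime] [CharP F p] in
theorem proj_eq_iff (g : PSLn) (s t : SLn) : proj g s = proj g t ↔ ∃ c : F, c • s.val = t.val :=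
  (MulAut.conj g).injective.eq_iff.trans (pslMk_eq_iff s t)

omit [Fintype F] in
theorem diag_of_map_eq (s : SLn) (hs : ∀ a b : Fin n, b < a → s.val a b = 0) {k : ℕ}
    (h : pslMk n F (s ^ p ^ k) = 1) : ∀ i j : Fin n, s.val i i = s.val j j := by
  intro i j
  obtain ⟨c, hc⟩ := (pslMk_eq_iff (1 : SLn) (s ^ p ^ k)).mp (by rw [h, map_one])
  have hbt : s.val.BlockTriangular id := fun a b hab => hs a b hab
  have hd : ∀ a, s.val a a ^ p ^ k = c := fun a => by
    rw [← (upper_pow_diag hbt a _).1, ← Matrix.SpecialLinearGroup.coe_pow, ← hc]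
    simp
  exact iterateFrobenius_inj F p k (by simp [iterateFrobenius_def, hd])

omit [Fintype F] [Fact p.Prime] [CharP F p] in
theorem exists_uni_factor (s : SLn) (hs : ∀ a b : Fin n, b < a → s.val a b = 0) :
    ∃ (d : Fin n → F) (hd : ∏ i, d i = 1), (∀ i, d i = s.val i i) ∧ (dg d hd)⁻¹ * s ∈ upperUni n F := by
  have hbt : s.val.BlockTriangular id := fun a b hab => hs a b hab
  have hd : ∏ i, s.val i i = 1 := by rw [← Matrix.det_of_upperTriangular hbt, s.det_coe]
  refine ⟨fun i => s.val i i, hd, fun _ => rfl, fun a b hba => ?_⟩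
  have h0 : s.val a a ≠ 0 :=
    (Finset.prod_ne_zero_iff.mp (by rw [hd]; exact one_ne_zero : ∏ i, s.val i i ≠ 0)) a (Finset.mem_univ _)
  have h1 : ((dg (fun i => s.val i i) hd) * ((dg (fun i => s.val i i) hd)⁻¹ * s)).val a b = s.val a b := by
    rw [mul_inv_cancel_left]
  rw [Matrix.SpecialLinearGroup.coe_mul] at h1
  change (Matrix.diagonal (fun i => s.val i i) * ((dg (fun i => s.val i i) hd)⁻¹ * s).val : Matrix (Fin n) (Fin n) F) a b = _ at h1
  rw [Matrix.diagonal_mul] at h1
  rcases hba.lt_or_eq with hlt | heq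
  · rw [if_neg hlt.ne']
    exact (mul_eq_zero.mp (h1.trans (hs a b hlt))).resolve_left h0
  · subst heq
    rw [if_pos rfl]
    exact mul_left_cancel₀ h0 (h1.trans (mul_one _).symm)

omit [Fintype F] [Fact p.Prime] [CharP F p] in
theorem upper_of_mem_normalizer (g : PSLn) {s : SLn}
    (h : proj g s ∈ Subgroup.normalizer (((upperUni n F).map (proj g) : Subgroup PSLn) : Set PSLn)) :
    ∀ a b : Fin n, b < a → s.val a b = 0 := by
  refine upper_of_normalizes s fun i j hij => ?_
  have ht : SpecialLinearGroup.transvection hij.ne (1 : F) ∈ upperUni n F := by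
    intro a b hba
    show Matrix.transvection i j (1 : F) a b = _
    rw [Matrix.transvection, Matrix.add_apply, Matrix.one_apply, Matrix.single_apply, if_neg
      (fun e : i = a ∧ j = b => absurd (e.1 ▸ e.2 ▸ hij) (not_lt.mpr hba)), add_zero]
  obtain ⟨v, hv, hve⟩ := (Subgroup.mem_normalizer_iff.mp h _).mp
    (Subgroup.mem_map_of_mem (proj g) ht)
  refine ⟨v, hv, (proj_eq_iff g _ v).mp ?_⟩
  rw [map_mul, map_mul, map_inv]
  exact hve.symm

theorem exists_proj_sylow (hn : 3 ≤ n) (S : Sylow p PSLn) :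
    ∃ g : PSLn, (S : Subgroup PSLn) = (upperUni n F).map (proj g) := by
  haveI : Nontrivial (Fin n) := ⟨⟨⟨0, by omega⟩, ⟨1, by omega⟩, by simp⟩⟩
  have hU : IsPGroup p ((upperUni n F).map (pslMk n F)) := (isPGroup_upperUni p).map _
  obtain ⟨P, hP⟩ := hU.exists_le_sylow
  have hPeq : (P : Subgroup PSLn) = (upperUni n F).map (pslMk n F) := by
    by_contra hne
    obtain ⟨x, hxP, hxN, hxU⟩ : ∃ x ∈ (P : Subgroup PSLn),
        x ∈ Subgroup.normalizer (((upperUni n F).map (pslMk n F) : Subgroup PSLn) : Set PSLn) ∧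
          x ∉ (upperUni n F).map (pslMk n F) := by
      obtain ⟨x, ⟨hxP, hxN⟩, hx⟩ := SetLike.exists_of_lt
        (lt_normalizerIn (S := (P : Subgroup PSLn)) P.isPGroup' (lt_of_le_of_ne hP (Ne.symm hne)))
      exact ⟨x, hxP, hxN, hx⟩
    obtain ⟨s, rfl⟩ := pslMk_surjective x
    obtain ⟨k, hk⟩ := P.isPGroup' ⟨_, hxP⟩
    have hk' : pslMk n F (s ^ p ^ k) = 1 := by rw [map_pow]; exact congrArg Subtype.val hk
    have hproj : proj (1 : PSLn) = pslMk n F := MonoidHom.ext fun t => by simp [proj]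
    have hup := upper_of_mem_normalizer (1 : PSLn) (s := s) (by rw [hproj]; exact hxN)
    have hdia := diag_of_map_eq s hup hk'
    obtain ⟨d, hd, hds, hu⟩ := exists_uni_factor s hup
    refine hxU ⟨_, hu, (pslMk_eq_iff _ _).mpr ⟨d ⟨0, by omega⟩, ?_⟩⟩
    have e : s.val = Matrix.diagonal d * ((dg d hd)⁻¹ * s).val := by
      show _ = (dg d hd).val * _
      rw [← Matrix.SpecialLinearGroup.coe_mul, mul_inv_cancel_left]
    conv_rhs => rw [e]
    rw [show Matrix.diagonal d = d ⟨0, by omega⟩ • (1 : Matrix (Fin n) (Fin n) F) by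
      rw [Matrix.smul_one_eq_diagonal]
      exact congrArg Matrix.diagonal (funext fun i => by rw [hds, hds]; exact hdia _ _),
      Matrix.smul_mul, Matrix.one_mul]
  obtain ⟨g, rfl⟩ := MulAction.exists_smul_eq PSLn P S
  refine ⟨g, ?_⟩
  rw [Sylow.coe_subgroup_smul, hPeq]
  show Subgroup.map (MulAut.conj g).toMonoidHom ((upperUni n F).map (pslMk n F)) = _
  rw [Subgroup.map_map]
  rfl

variable {g : Matrix.ProjectiveSpecialLinearGroup (Fin n) F}
  {S : Sylow p (Matrix.ProjectiveSpecialLinearGroup (Fin n) F)}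

theorem classes_generate (hn : 3 ≤ n) (hS : (S : Subgroup PSLn) = (upperUni n F).map (proj g))
    {z : PSLn} (hz : z ∈ (S : Subgroup PSLn)) (hzp : orderOf z = p)
    (hzc : ∀ s ∈ (S : Subgroup PSLn), s * z = z * s) :
    (S : Subgroup PSLn) ≤ Subgroup.closure {s | s ∈ (S : Subgroup PSLn) ∧ _root_.IsConj z s} := by
  haveI : Nontrivial (Fin n) := ⟨⟨⟨0, by omega⟩, ⟨1, by omega⟩, by simp⟩⟩
  have hzT : IsTv z := centralP_isTv (p := p)
    ⟨fun h => (Fact.out : p.Prime).ne_one (by rw [← hzp, h, orderOf_one]), S, hz,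
      fun y hy => (hzc y hy).symm⟩
  intro y hy
  obtain ⟨u, hu, rfl⟩ := Subgroup.mem_map.mp (hS ▸ hy : y ∈ (upperUni n F).map (proj g))
  have hle : Subgroup.closure (uniTv n F) ≤
      (Subgroup.closure {s | s ∈ (S : Subgroup PSLn) ∧ _root_.IsConj z s}).comap (proj g) := by
    rw [Subgroup.closure_le]
    rintro t ⟨ht, u, φ, h0, hu0, hφ0, rfl⟩
    refine Subgroup.subset_closure ⟨hS ▸ Subgroup.mem_map_of_mem _ ht, ?_⟩
    exact isConj_isTv hn hzT (isTv_map (p := p) (MulAut.conj g) ⟨u, φ, hu0, hφ0, h0, rfl⟩)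
  exact hle (uni_mem_closure hu)

theorem automizer_generated (hn : 3 ≤ n) (hS : (S : Subgroup PSLn) = (upperUni n F).map (proj g)) :
    autInducedBy ⊤ (S : Subgroup PSLn) ≤
      ⨆ (R : Subgroup PSLn) (_ : (groupFusionSystem (S : Subgroup PSLn)).IsFullyNormalized R ∧
        (groupFusionSystem (S : Subgroup PSLn)).IsCentric R),
        autInducedBy (Subgroup.closure {x : PSLn | x ∈ Subgroup.normalizer (R : Set PSLn) ∧
          ∃ k : ℕ, orderOf x = p ^ k}) (S : Subgroup PSLn) := by
  set T : Subgroup PSLn := (S : Subgroup PSLn) with hT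
  set K := ⨆ (R : Subgroup PSLn) (_ : (groupFusionSystem T).IsFullyNormalized R ∧
    (groupFusionSystem T).IsCentric R),
    autInducedBy (Subgroup.closure {x : PSLn | x ∈ Subgroup.normalizer (R : Set PSLn) ∧
      ∃ k : ℕ, orderOf x = p ^ k}) T with hK
  have hTp : IsPGroup p T := S.isPGroup'
  have hF := groupFusion_saturated S
  have pord : ∀ x : PSLn, ∀ k : ℕ, x ^ p ^ k = 1 → ∃ i : ℕ, orderOf x = p ^ i := fun x k h => by
    obtain ⟨i, -, hi⟩ := (Nat.dvd_prime_pow (Fact.out : p.Prime)).mp (orderOf_dvd_of_pow_eq_one h)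
    exact ⟨i, hi⟩
  have porS : ∀ x ∈ T, ∃ i : ℕ, orderOf x = p ^ i := fun x hx => by
    obtain ⟨k, hk⟩ := hTp ⟨x, hx⟩
    exact pord x k (congrArg Subtype.val hk)
  -- elements inducing an automorphism in the generated group
  let M : Subgroup SLn :=
    ((K.comap (actHom ⊤ T)).map (⊤ ⊓ Subgroup.normalizer (T : Set PSLn)).subtype).comap (proj g)
  have memM : ∀ (R : Subgroup PSLn), (groupFusionSystem T).IsFullyNormalized R →
      (groupFusionSystem T).IsCentric R → ∀ s : SLn,
      proj g s ∈ Subgroup.closure {x : PSLn | x ∈ Subgroup.normalizer (R : Set PSLn) ∧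
        ∃ k : ℕ, orderOf x = p ^ k} → proj g s ∈ Subgroup.normalizer (T : Set PSLn) → s ∈ M := by
    intro R h1 h2 s hs hsT
    refine ⟨⟨proj g s, trivial, hsT⟩, ?_, rfl⟩
    refine (le_iSup₂_of_le R ⟨h1, h2⟩ le_rfl : _ ≤ K) ?_
    exact mem_autInducedBy.mpr ⟨_, hs, hsT, fun x => actHom_apply ⊤ T _ x⟩
  -- unitriangular elements
  have hUM : ∀ u ∈ upperUni n F, u ∈ M := by
    intro u hu
    have huT : proj g u ∈ T := hS ▸ Subgroup.mem_map_of_mem _ hu
    refine memM T fullyNormalized_self isCentric_self u (Subgroup.subset_closure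
      ⟨Subgroup.le_normalizer huT, porS _ huT⟩) (Subgroup.le_normalizer huT)
  -- coroot elements
  have hHM : ∀ (k l : Fin n) (hkl : k ≠ l), (l : ℕ) = k + 1 → ∀ (t : F) (ht : t ≠ 0),
      dg (corootVec k l t) (prod_corootVec hkl ht) ∈ M := by
    intro k l hkl hadj t ht
    set R := (radUni n F k l hadj).map (proj g) with hR
    have hRT : R ≤ T := hS ▸ Subgroup.map_mono fun u hu => hu.1
    have hTR : T ≤ Subgroup.normalizer (R : Set PSLn) := by
      intro x hx
      obtain ⟨a, ha, rfl⟩ := Subgroup.mem_map.mp (hS ▸ hx : x ∈ (upperUni n F).map (proj g))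
      refine Subgroup.mem_normalizer_fintype fun y hy => ?_
      obtain ⟨u, hu, rfl⟩ := Subgroup.mem_map.mp hy
      exact ⟨a * u * a⁻¹, radUni_conj hadj ha hu, by rw [map_mul, map_mul, map_inv]⟩
    have hfn : (groupFusionSystem T).IsFullyNormalized R := by
      refine ⟨hRT, fun Q hQ => ?_⟩
      have e : normalizerIn T R = T := le_antisymm normalizerIn_le fun x hx => ⟨hx, hTR hx⟩
      rw [e]
      exact card_le_of_le normalizerIn_le
    have hc : (groupFusionSystem T).IsCentric R := by
      refine isCentric_of_fullyCentralized hTp hF (IsSaturated_fullyNormalized hTp hF hfn).1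
        fun x hx => ?_
      obtain ⟨u, hu, rfl⟩ := Subgroup.mem_map.mp (hS ▸ hx.1 : x ∈ (upperUni n F).map (proj g))
      refine Subgroup.mem_map_of_mem _ (radUni_selfCentralizing hn hadj hu fun r hr => ?_)
      have h1 := hx.2 _ (Subgroup.mem_map_of_mem (proj g) hr)
      rw [← map_mul, ← map_mul] at h1
      obtain ⟨c, hc⟩ := (proj_eq_iff g _ _).mp h1
      exact (uni_smul_eq (by omega) (mul_mem hr.1 hu) (mul_mem hu hr.1) hc).symm
    refine memM R hfn hc _ ?_ ?_
    · have hup : ∀ c : F, proj g (SpecialLinearGroup.transvection hkl c) ∈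
          Subgroup.closure {x : PSLn | x ∈ Subgroup.normalizer (R : Set PSLn) ∧
            ∃ k : ℕ, orderOf x = p ^ k} := by
        intro c
        have hlt : k < l := by simp only [Fin.lt_def]; omega
        have hu : SpecialLinearGroup.transvection hkl c ∈ upperUni n F := by
          intro a b hba
          show Matrix.transvection k l c a b = _
          rw [Matrix.transvection, Matrix.add_apply, Matrix.one_apply, Matrix.single_apply, if_neg
            (fun e : k = a ∧ l = b => absurd (e.1 ▸ e.2 ▸ hlt) (not_lt.mpr hba)), add_zero]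
        have hxT : proj g (SpecialLinearGroup.transvection hkl c) ∈ T :=
          hS ▸ Subgroup.mem_map_of_mem _ hu
        exact Subgroup.subset_closure ⟨hTR hxT, porS _ hxT⟩
      have hlow : ∀ c : F, proj g (SpecialLinearGroup.transvection hkl.symm c) ∈
          Subgroup.closure {x : PSLn | x ∈ Subgroup.normalizer (R : Set PSLn) ∧
            ∃ k : ℕ, orderOf x = p ^ k} := by
        intro c
        refine Subgroup.subset_closure ⟨Subgroup.mem_normalizer_fintype fun y hy => ?_,
          pord _ 1 ?_⟩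
        · obtain ⟨u, hu, rfl⟩ := Subgroup.mem_map.mp hy
          exact ⟨_, radUni_conj_lower hadj hkl.symm c hu, by rw [map_mul, map_mul, map_inv]⟩
        · rw [pow_one, ← map_pow, transvection_pow p, map_one]
      rw [coroot_eq hkl ht]
      simp only [map_mul]
      exact mul_mem (mul_mem (mul_mem (mul_mem (mul_mem (hup _) (hlow _)) (hup _)) (hup _)) (hlow _))
        (hup _)
    · refine Subgroup.mem_normalizer_fintype fun y hy => ?_
      obtain ⟨u, hu, rfl⟩ := Subgroup.mem_map.mp (hS ▸ hy : y ∈ (upperUni n F).map (proj g))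
      rw [SetLike.mem_coe, hS, ← map_mul, ← map_inv, ← map_mul]
      refine Subgroup.mem_map_of_mem _ fun a b hba => ?_
      have h1 : (dg (corootVec k l t) (prod_corootVec hkl ht))⁻¹ =
          dg (corootVec k l t⁻¹) (prod_corootVec hkl (inv_ne_zero ht)) := by
        refine inv_eq_of_mul_eq_one_right (Subtype.ext ?_)
        show Matrix.diagonal _ * Matrix.diagonal _ = 1
        rw [Matrix.diagonal_mul_diagonal, ← Matrix.diagonal_one]
        refine congrArg Matrix.diagonal (funext fun i => ?_)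
        simp only [corootVec]
        split_ifs <;> simp [ht]
      rw [h1]
      show (Matrix.diagonal (corootVec k l t) * u.val * Matrix.diagonal (corootVec k l t⁻¹) : Matrix (Fin n) (Fin n) F) a b = _
      rw [Matrix.mul_diagonal, Matrix.diagonal_mul, hu a b hba]
      by_cases hab : a = b
      · subst hab
        rw [if_pos rfl, mul_one]
        simp only [corootVec]
        split_ifs <;> simp [ht]
      · rw [if_neg hab, mul_zero, zero_mul]
  intro α hα
  obtain ⟨x, -, hx, ex⟩ := mem_autInducedBy.mp hα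
  obtain ⟨s, rfl⟩ := proj_surjective g x
  have hup := upper_of_mem_normalizer g (s := s) (hS ▸ hx)
  obtain ⟨d, hd, -, hu⟩ := exists_uni_factor s hup
  have hsM : s ∈ M := by
    have := mul_mem (dg_mem hHM d hd) (hUM _ hu)
    rwa [mul_inv_cancel_left] at this
  obtain ⟨⟨y, hy⟩, hyK, hye⟩ := hsM
  have : α = actHom ⊤ T ⟨y, hy⟩ := MulEquiv.ext fun z => Subtype.ext (by
    rw [ex z, actHom_apply]
    exact congrArg (fun w => cj w (z : PSLn)) hye.symm)
  exact this ▸ hyK

/-- The `p`-fusion system of `PSL_n`, `n ≥ 3`, in characteristic `p` is simple. -/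
theorem isSimple (hn : 3 ≤ n) (S : Sylow p PSLn) :
    (groupFusionSystem (S : Subgroup PSLn)).IsSimple p := by
  haveI : Nontrivial (Fin n) := ⟨⟨⟨0, by omega⟩, ⟨1, by omega⟩, by simp⟩⟩
  obtain ⟨g, hS⟩ := exists_proj_sylow hn S
  refine group_isSimple' S ?_ (fun T hT => stronglyClosed_trivial_of_classes S.isPGroup'
    (fun z hz hzp hzc => classes_generate hn hS hz hzp hzc) hT) (automizer_generated hn hS)
  intro h
  have hij : (⟨0, by omega⟩ : Fin n) < ⟨1, by omega⟩ := by simp [Fin.lt_def]
  have hu : SpecialLinearGroup.transvection hij.ne (1 : F) ∈ upperUni n F := by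
    intro a b hba
    show Matrix.transvection _ _ (1 : F) a b = _
    rw [Matrix.transvection, Matrix.add_apply, Matrix.one_apply, Matrix.single_apply, if_neg
      (fun e : _ = a ∧ _ = b => absurd (e.1 ▸ e.2 ▸ hij) (not_lt.mpr hba)), add_zero]
  have h1 : proj g (SpecialLinearGroup.transvection hij.ne (1 : F)) ∈ (S : Subgroup PSLn) :=
    hS ▸ Subgroup.mem_map_of_mem _ hu
  rw [h, Subgroup.mem_bot] at h1
  obtain ⟨u, φ, htv⟩ := transvection_isTv hij.ne (one_ne_zero (α := F))
  exact htv.ne_one ((MulAut.conj g).injective (h1.trans (map_one _).symm))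

end Cfsg.Agent.Fusion.PSLn
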