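/-
The Sylow subgroup of `SL₃` in the defining characteristic is a Heisenberg group.
-/
import Cfsg.Agent.Fusion.HeisCore
import Cfsg.Agent.Fusion.PSLnSimple
set_option autoImplicit false

namespace Cfsg.Agent.Fusion.Heis

open Matrix Cfsg.Agent.KnownB Cfsg.Agent.KnownB.AutPSL Cfsg.Agent.Fusion.PSLn Cfsg.Agent.Fusion.CenterSq

variable {F : Type*} [Field F]

local notation "SL3" => Matrix.SpecialLinearGroup (Fin 3) F

/-- The element with coordinates `a, b, c`. -/
def hMat (a b c : F) : SL3 := ⟨!![1, a, c; 0, 1, b; 0, 0, 1], by simp [Matrix.det_fin_three]⟩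

theorem hMat_mem (a b c : F) : hMat a b c ∈ upperUni 3 F := by
  intro i j hji
  fin_cases i <;> fin_cases j <;> simp_all [hMat]

theorem eq_hMat {s : SL3} (hs : s ∈ upperUni 3 F) : s = hMat (s.val 0 1) (s.val 1 2) (s.val 0 2) := by
  apply Subtype.ext
  ext i j
  fin_cases i <;> fin_cases j <;> first
    | (simp [hMat]; done)
    | (rw [hs _ _ (by decide)]; simp [hMat])

theorem hMat_mul (a b c a' b' c' : F) :
    hMat a b c * hMat a' b' c' = hMat (a + a') (b + b') (c + c' + a * b') := by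
  apply Subtype.ext
  rw [Matrix.SpecialLinearGroup.coe_mul]
  ext i j
  fin_cases i <;> fin_cases j <;> simp [hMat, Matrix.mul_apply, Fin.sum_univ_three] <;> ring

theorem hMat_inj {a b c a' b' c' : F} (h : hMat a b c = hMat a' b' c') : a = a' ∧ b = b' ∧ c = c' := by
  have h1 := congrArg Subtype.val h
  exact ⟨by simpa [hMat] using congrFun (congrFun h1 0) 1, by simpa [hMat] using congrFun (congrFun h1 1) 2,
    by simpa [hMat] using congrFun (congrFun h1 0) 2⟩

theorem hMat_one : hMat (0 : F) 0 0 = 1 := by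
  apply Subtype.ext
  ext i j
  fin_cases i <;> fin_cases j <;> simp [hMat]

theorem hMat_inv (a b c : F) : (hMat a b c)⁻¹ = hMat (-a) (-b) (a * b - c) := by
  refine inv_eq_of_mul_eq_one_right ?_
  rw [hMat_mul, show a + -a = 0 by ring, show b + -b = 0 by ring, show c + (a * b - c) + a * -b = 0 by ring, hMat_one]

theorem commute_hMat (a b c a' b' c' : F) : Commute (hMat a b c) (hMat a' b' c') ↔ a * b' = a' * b := by
  rw [Commute, SemiconjBy, hMat_mul, hMat_mul]
  constructor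
  · intro h
    linear_combination (hMat_inj h).2.2
  · intro h
    rw [add_comm a a', add_comm b b', show c + c' + a * b' = c' + c + a' * b by rw [h]; ring]

theorem mem_zS_uni {a b c : F} : hMat a b c ∈ zS (upperUni 3 F) ↔ a = 0 ∧ b = 0 := by
  constructor
  · intro h
    have h1 := (commute_hMat 1 0 0 a b c).mp (h.2 _ (hMat_mem 1 0 0))
    have h2 := (commute_hMat 0 1 0 a b c).mp (h.2 _ (hMat_mem 0 1 0))
    exact ⟨by simpa using h2.symm, by simpa using h1⟩
  · rintro ⟨rfl, rfl⟩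
    refine ⟨hMat_mem _ _ _, fun g hg => ?_⟩
    rw [eq_hMat hg]
    exact ((commute_hMat _ _ _ _ _ _).mpr (by ring)).eq

theorem hg_upperUni : HG (upperUni 3 F) where
  nab := ⟨hMat 1 0 0, hMat_mem _ _ _, fun h => one_ne_zero (mem_zS_uni.mp h).1⟩
  comm u hu v hv := by
    rw [eq_hMat hu, eq_hMat hv, hMat_inv, hMat_inv, hMat_mul, hMat_mul, hMat_mul]
    exact mem_zS_uni.mpr ⟨by ring, by ring⟩
  surj v hv hvZ z hz := by
    rw [eq_hMat hv] at hvZ ⊢
    set a := v.val 0 1
    set b := v.val 1 2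
    have hz1 := hz.1
    rw [eq_hMat hz1] at hz ⊢
    set e := z.val 0 1
    set d := z.val 1 2
    set w := z.val 0 2
    obtain ⟨he, hd⟩ := mem_zS_uni.mp hz
    obtain ⟨a', b', h⟩ : ∃ a' b' : F, a' * b - a * b' = w := by
      by_cases hb : b = 0
      · have ha : a ≠ 0 := fun ha => hvZ (mem_zS_uni.mpr ⟨ha, hb⟩)
        exact ⟨0, -w / a, by field_simp; ring⟩
      · exact ⟨w / b, 0, by field_simp; ring⟩
    refine ⟨hMat a' b' 0, hMat_mem _ _ _, ?_⟩
    rw [he, hd, hMat_inv, hMat_mul, hMat_mul, hMat_mul]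
    congr 1
    · ring
    · ring
    · linear_combination h
  trans a ha haZ u hu v hv hau hav := by
    rw [eq_hMat ha] at haZ hau hav
    rw [eq_hMat hu] at hau ⊢
    rw [eq_hMat hv] at hav ⊢
    rw [commute_hMat] at hau hav ⊢
    set a₁ := a.val 0 1
    set a₂ := a.val 1 2
    by_cases h1 : a₁ = 0
    · have h2 : a₂ ≠ 0 := fun h2 => haZ (mem_zS_uni.mpr ⟨h1, h2⟩)
      rw [h1, zero_mul, eq_comm, mul_eq_zero] at hau hav
      rw [hau.resolve_right h2, hav.resolve_right h2]
      ring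
    · apply mul_left_cancel₀ h1
      linear_combination u.val 0 1 * hav - v.val 0 1 * hau

/-- The property moves along isomorphisms. -/
theorem HG.of_equiv {G H : Type*} [Group G] [Group H] {A : Subgroup G} {B : Subgroup H} (h : HG B) (e : A ≃* B) :
    HG A := by
  have hz : ∀ x : A, (x : G) ∈ zS A ↔ ((e x : B) : H) ∈ zS B := by
    intro x
    constructor
    · intro hx
      refine ⟨(e x).2, fun y hy => ?_⟩
      obtain ⟨w, hw⟩ := e.surjective ⟨y, hy⟩
      have h1 : w * x = x * w := Subtype.ext (hx.2 w w.2)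
      have h2 := congrArg (fun t => ((e t : B) : H)) h1
      simpa [map_mul, hw] using h2
    · intro hx
      refine ⟨x.2, fun y hy => ?_⟩
      have h1 : e ⟨y, hy⟩ * e x = e x * e ⟨y, hy⟩ := Subtype.ext (hx.2 _ (e ⟨y, hy⟩).2)
      rw [← map_mul, ← map_mul] at h1
      exact congrArg Subtype.val (e.injective h1)
  have hc : ∀ x y : A, Commute (x : G) y ↔ Commute ((e x : B) : H) (e y : B) := by
    intro x y
    constructor
    · intro hxy
      have := congrArg (fun t => ((e t : B) : H)) (show x * y = y * x from Subtype.ext hxy.eq)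
      simpa [map_mul, Commute, SemiconjBy] using this
    · intro hxy
      have h1 : e x * e y = e y * e x := Subtype.ext hxy.eq
      rw [← map_mul, ← map_mul] at h1
      exact congrArg Subtype.val (e.injective h1)
  constructor
  · obtain ⟨v, hv, hvZ⟩ := h.nab
    refine ⟨(e.symm ⟨v, hv⟩ : A), SetLike.coe_mem _, fun hh => hvZ ?_⟩
    simpa using (hz _).mp hh
  · intro u hu v hv
    have h1 := (hz (⟨u, hu⟩ * ⟨v, hv⟩ * (⟨u, hu⟩ : A)⁻¹ * (⟨v, hv⟩ : A)⁻¹)).mpr (by
      simpa only [map_mul, map_inv, Subgroup.coe_mul, Subgroup.coe_inv] using h.comm _ (e ⟨u, hu⟩).2 _ (e ⟨v, hv⟩).2)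
    simpa using h1
  · intro v hv hvZ z hz'
    obtain ⟨s, hs, hsv⟩ := h.surj _ (e ⟨v, hv⟩).2 (fun hh => hvZ ((hz ⟨v, hv⟩).mpr hh)) _
      ((hz ⟨z, hz'.1⟩).mp hz')
    refine ⟨(e.symm ⟨s, hs⟩ : A), SetLike.coe_mem _, ?_⟩
    have h1 : e (e.symm ⟨s, hs⟩ * ⟨v, hv⟩ * (e.symm ⟨s, hs⟩)⁻¹) = e (⟨v, hv⟩ * ⟨z, hz'.1⟩) :=
      Subtype.ext (by
        simpa only [map_mul, map_inv, Subgroup.coe_mul, Subgroup.coe_inv, MulEquiv.apply_symm_apply] using hsv)
    exact congrArg Subtype.val (e.injective h1)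
  · intro a ha haZ u hu v hv hau hav
    exact (hc ⟨u, hu⟩ ⟨v, hv⟩).mpr (h.trans _ (e ⟨a, ha⟩).2 (fun hh => haZ ((hz ⟨a, ha⟩).mpr hh)) _ (e ⟨u, hu⟩).2 _
      (e ⟨v, hv⟩).2 ((hc ⟨a, ha⟩ ⟨u, hu⟩).mp hau) ((hc ⟨a, ha⟩ ⟨v, hv⟩).mp hav))

/-- A Sylow subgroup of `SL₃` is a conjugate of the unitriangular group. -/
theorem sylow_SL3_equiv [Fintype F] {p : ℕ} [Fact p.Prime] [CharP F p] (T : Sylow p SL3) :
    Nonempty ((T : Subgroup SL3) ≃* upperUni 3 F) := by
  haveI : Nontrivial (Fin 3) := ⟨⟨0, 1, by decide⟩⟩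
  obtain ⟨P, hP⟩ := (isPGroup_upperUni (n := 3) (F := F) p).exists_le_sylow
  haveI : Finite SL3 := Finite.of_injective Subtype.val Subtype.val_injective
  haveI : Finite (Matrix.ProjectiveSpecialLinearGroup (Fin 3) F) := Quotient.finite _
  have hinj : ∀ X : Subgroup SL3, IsPGroup p X → Function.Injective ((pslMk 3 F).comp X.subtype) := by
    intro X hX
    rw [injective_iff_map_eq_one]
    intro x hx
    obtain ⟨c, hc⟩ := (pslMk_eq_iff (1 : SL3) (x : SL3)).mp (by rw [map_one]; exact hx.symm)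
    obtain ⟨k, hk⟩ := hX x
    have h1 : (x : SL3).val ^ p ^ k = 1 := by
      rw [← Matrix.SpecialLinearGroup.coe_pow, ← SubmonoidClass.coe_pow, hk]; rfl
    have h2 : c ^ p ^ k = 1 := by
      rw [← hc] at h1
      have h3 := congrFun (congrFun h1 0) 0
      rw [Matrix.SpecialLinearGroup.coe_one, Matrix.smul_one_eq_diagonal, Matrix.diagonal_pow] at h3
      simpa using h3
    have h4 : c = 1 := iterateFrobenius_inj F p k (by simp [iterateFrobenius_def, h2])
    refine Subtype.ext (Subtype.ext ?_)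
    rw [← hc, h4, one_smul]; rfl
  obtain ⟨Q, hQ⟩ := (P.isPGroup'.map (pslMk 3 F)).exists_le_sylow
  obtain ⟨g, hg⟩ := exists_proj_sylow (le_refl 3) Q
  have hcardmap : ∀ X : Subgroup SL3, IsPGroup p X → Nat.card (X.map (pslMk 3 F)) = Nat.card X := by
    intro X hX
    rw [show X.map (pslMk 3 F) = ((pslMk 3 F).comp X.subtype).range by
      rw [MonoidHom.range_comp, Subgroup.range_subtype]]
    exact (Nat.card_congr (MonoidHom.ofInjective (hinj X hX)).toEquiv).symm
  have hPeq : (P : Subgroup SL3) = upperUni 3 F := by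
    refine (eq_of_le_of_card hP ?_).symm
    rw [← hcardmap _ P.isPGroup']
    refine (card_le_of_le hQ).trans ?_
    rw [hg, proj, ← Subgroup.map_map,
      Subgroup.card_map_of_injective (MulAut.conj g).injective, hcardmap _ (isPGroup_upperUni p)]
  exact ⟨(T.equiv P).trans (MulEquiv.subgroupCongr hPeq)⟩

end Cfsg.Agent.Fusion.Heis
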