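/-
Maximal class: when the centre is moved inside `Z₂(S)`, the centralizer of `Z₂(S)` is essential.
-/
import Cfsg.Agent.Fusion.MaxClassBase
import Cfsg.Agent.Fusion.Series
import Cfsg.Agent.Fusion.StronglyEmbedded
set_option autoImplicit false

namespace Cfsg.Agent.Fusion.MaxCl

open Cfsg Cfsg.FusionSystem Cfsg.Agent.Fusion.CenterSq
open scoped commutatorElement

variable {Ω : Type*} [Group Ω] {S : Subgroup Ω} [Finite S] {p : ℕ} [hp : Fact p.Prime] {n : ℕ}
  {F : FusionSystem S} (h : MC p n S)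
include h

/-- `Z₂(S)`. -/
abbrev zTwo (S : Subgroup Ω) : Subgroup Ω := (Subgroup.upperCentralSeries ↥S 2).map S.subtype

/-- The centralizer of `Z₂(S)`. -/
abbrev cTwo (S : Subgroup Ω) : Subgroup Ω := S ⊓ Subgroup.centralizer (zTwo S : Set Ω)

omit h hp [Finite S] in
theorem zTwo_le : zTwo S ≤ S := Subgroup.map_subtype_le _

theorem MC.zTwo_eq : zTwo S = Subgroup.lowerCentralSeries S (n - 3) := h.z2_eq

theorem MC.zS_le_zTwo : zS S ≤ zTwo S := by
  rw [h.zS_eq, h.zTwo_eq]
  exact Subgroup.lowerCentralSeries_antitone _ (by omega)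

theorem MC.card_zS : Nat.card (zS S) = p := by
  have := h.four
  rw [h.zS_eq, h.lcs_card (by omega) (by omega), show n - 1 - (n - 2) = 1 by omega, pow_one]

theorem MC.card_zTwo : Nat.card (zTwo S) = p * Nat.card (zS S) := by
  have := h.four
  rw [h.card_zS, h.zTwo_eq, h.lcs_card (by omega) (by omega), show n - 1 - (n - 3) = 2 by omega, sq]

theorem MC.zTwo_comm {z : Ω} (hz : z ∈ zTwo S) {s : Ω} (hs : s ∈ S) : s * z * s⁻¹ * z⁻¹ ∈ zS S := by
  have := h.four
  rw [h.zTwo_eq] at hz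
  rw [h.zS_eq, show n - 2 = n - 3 + 1 by omega, Subgroup.lowerCentralSeries_succ, ← commutatorElement_def,
    ← commutatorElement_inv]
  exact Subgroup.inv_mem _ (Subgroup.commutator_mem_commutator hz hs)

/-- A non-central element of `Z₂(S)`. -/
theorem MC.exists_u : ∃ u ∈ zTwo S, u ∉ zS S ∧ ∀ s ∈ S, Commute s u → s ∈ cTwo S := by
  haveI : Finite (zTwo S) := finite_of_le zTwo_le
  obtain ⟨u, hu, huZ⟩ := SetLike.exists_of_lt (lt_of_le_of_ne h.zS_le_zTwo fun e => by
    have := h.card_zTwo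
    rw [← e] at this
    have h1 : Nat.card (zS S) = p := h.card_zS
    rw [h1] at this
    have := hp.out.two_le
    nlinarith)
  refine ⟨u, hu, huZ, fun s hs hsu => ⟨hs, ?_⟩⟩
  let X : Subgroup Ω := zTwo S ⊓ Subgroup.centralizer {s}
  have hZX : zS S ≤ X := fun z hz => ⟨h.zS_le_zTwo hz, Subgroup.mem_centralizer_singleton_iff.mpr (hz.2 s hs).symm⟩
  have hXeq : X = zTwo S := by
    refine eq_of_le_of_card inf_le_left ?_
    haveI : Finite X := finite_of_le (inf_le_left.trans zTwo_le)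
    have h1 := card_lt_of_lt (lt_of_le_of_ne hZX fun e => huZ (e.ge ⟨hu, Subgroup.mem_centralizer_singleton_iff.mpr hsu.eq.symm⟩))
    obtain ⟨i, hi⟩ := IsPGroup.iff_card.mp ((IsPGroup.of_card h.card).to_le (inf_le_left.trans zTwo_le : X ≤ S))
    rw [h.card_zS, hi] at h1
    rw [h.card_zTwo, h.card_zS, hi]
    have h2 : 1 < i := by
      by_contra hlt
      have h3 := Nat.pow_le_pow_right hp.out.pos (show i ≤ 1 by omega)
      rw [pow_one] at h3
      omega
    calc p * p = p ^ 2 := (sq p).symm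
      _ ≤ p ^ i := Nat.pow_le_pow_right hp.out.pos h2
  intro z hz
  exact Subgroup.mem_centralizer_singleton_iff.mp ((hXeq.ge hz : z ∈ X).2)

theorem MC.cTwo_index : Nat.card S = p * Nat.card (cTwo S) := by
  haveI : Finite (zS S) := finite_of_le CenterSq.zS_le
  haveI : Finite (cTwo S) := finite_of_le inf_le_left
  obtain ⟨u, hu, huZ, huc⟩ := h.exists_u
  let f : S →* zS S := MonoidHom.mk' (fun s => ⟨(s : Ω) * u * (s : Ω)⁻¹ * u⁻¹, h.zTwo_comm hu s.2⟩) fun a b => by
    refine Subtype.ext ?_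
    show (a * b : S).1 * u * (a * b : S).1⁻¹ * u⁻¹ = ((a : Ω) * u * (a : Ω)⁻¹ * u⁻¹) * ((b : Ω) * u * (b : Ω)⁻¹ * u⁻¹)
    set c := (b : Ω) * u * (b : Ω)⁻¹ * u⁻¹ with hc
    have hcz : c ∈ zS S := h.zTwo_comm hu b.2
    calc (a * b : S).1 * u * (a * b : S).1⁻¹ * u⁻¹ = (a : Ω) * c * u * (a : Ω)⁻¹ * u⁻¹ := by
          rw [Subgroup.coe_mul, mul_inv_rev, hc]; group
      _ = c * ((a : Ω) * u * (a : Ω)⁻¹ * u⁻¹) := by rw [hcz.2 a a.2]; group
      _ = _ := (hcz.2 _ ((h.zTwo_comm hu a.2).1)).symm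
  have hker : f.ker = (cTwo S).subgroupOf S := by
    ext s
    rw [MonoidHom.mem_ker, Subgroup.mem_subgroupOf]
    constructor
    · intro hs
      have h1 : (s : Ω) * u * (s : Ω)⁻¹ * u⁻¹ = 1 := congrArg Subtype.val hs
      rw [mul_inv_eq_one, mul_inv_eq_iff_eq_mul] at h1
      exact huc s s.2 h1
    · intro hs
      refine Subtype.ext ?_
      show (s : Ω) * u * (s : Ω)⁻¹ * u⁻¹ = 1
      rw [mul_inv_eq_one, mul_inv_eq_iff_eq_mul]
      exact (hs.2 u hu).symm
  have h1 := f.ker.card_mul_index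
  rw [Subgroup.index_ker, hker, Nat.card_congr (Subgroup.subgroupOfEquivOfLe inf_le_left).toEquiv] at h1
  have h2 : Nat.card f.range ≤ p := (Finite.card_subtype_le _).trans h.card_zS.le
  obtain ⟨k, hk⟩ := IsPGroup.iff_card.mp ((IsPGroup.of_card h.card).to_le (inf_le_left : cTwo S ≤ S))
  rcases Nat.lt_or_ge (Nat.card f.range) p with hlt | hge
  · exfalso
    obtain ⟨i, hi⟩ := IsPGroup.iff_card.mp (((IsPGroup.of_card h.card).to_le (CenterSq.zS_le (S := S))).to_subgroup f.range)
    rw [hi] at hlt h1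
    have hi0 : i = 0 := by
      by_contra h0
      exact (Nat.le_self_pow h0 p).not_gt hlt
    rw [hi0, pow_zero, mul_one] at h1
    have hCS : cTwo S = S := eq_of_le_of_card inf_le_left h1.ge
    refine huZ ⟨zTwo_le hu, fun g hg => ?_⟩
    exact ((hCS.ge hg : g ∈ cTwo S).2 u hu).symm
  · rw [le_antisymm h2 hge, mul_comm] at h1
    exact h1.symm

theorem MC.zTwo_le_cTwo : zTwo S ≤ cTwo S := by
  obtain ⟨u, hu, huZ, huc⟩ := h.exists_u
  haveI : Finite (zTwo S) := finite_of_le zTwo_le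
  have hn3 : zTwo S ≤ S := zTwo_le
  let X : Subgroup Ω := zTwo S ⊓ Subgroup.centralizer {u}
  have hXeq : X = zTwo S := by
    refine eq_of_le_of_card inf_le_left ?_
    haveI : Finite X := finite_of_le (inf_le_left.trans zTwo_le)
    have hZX : zS S ≤ X := fun z hz => ⟨h.zS_le_zTwo hz, Subgroup.mem_centralizer_singleton_iff.mpr (hz.2 u (hn3 hu)).symm⟩
    have h1 := card_lt_of_lt (lt_of_le_of_ne hZX fun e => huZ (e.ge ⟨hu, Subgroup.mem_centralizer_singleton_iff.mpr rfl⟩))
    obtain ⟨i, hi⟩ := IsPGroup.iff_card.mp ((IsPGroup.of_card h.card).to_le (inf_le_left.trans zTwo_le : X ≤ S))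
    rw [h.card_zS, hi] at h1
    rw [h.card_zTwo, h.card_zS, hi]
    have h2 : 1 < i := by
      by_contra hlt
      have h3 := Nat.pow_le_pow_right hp.out.pos (show i ≤ 1 by omega)
      rw [pow_one] at h3
      omega
    calc p * p = p ^ 2 := (sq p).symm
      _ ≤ p ^ i := Nat.pow_le_pow_right hp.out.pos h2
  intro z hz
  exact huc z (hn3 hz) (Subgroup.mem_centralizer_singleton_iff.mp (hXeq.ge hz : z ∈ X).2)

theorem MC.zTwo_normal {s z : Ω} (hs : s ∈ S) (hz : z ∈ zTwo S) : cj s z ∈ zTwo S := by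
  have h1 := (zTwo S).mul_mem (h.zS_le_zTwo (h.zTwo_comm hz hs)) hz
  rwa [inv_mul_cancel_right] at h1

/-- The main statement. -/
theorem MC.cTwo_essential (hF : F.IsSaturated p) {f : Ω → Ω} (hf : Iso F f (zTwo S) (zTwo S))
    (hmove : ∃ z ∈ zS S, f z ∉ zS S) : F.IsEssential p (cTwo S) := by
  have hS : IsPGroup p S := IsPGroup.of_card h.card
  have hn4 := h.four
  set C := cTwo S with hCdef
  have hCS : C ≤ S := inf_le_left
  haveI := finite_of_le hCS
  haveI := finite_mulAut (G := C)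
  have hidx : Nat.card S = p * Nat.card C := h.cTwo_index
  -- `S` normalizes `Z₂(S)` and `C`
  have hzn : normalizerIn S (zTwo S) = S := le_antisymm normalizerIn_le fun s hs =>
    ⟨hs, by
      haveI : Finite (zTwo S) := finite_of_le zTwo_le
      exact Subgroup.mem_normalizer_fintype fun z hz => h.zTwo_normal hs hz⟩
  have hCn : normalizerIn S C = S := le_antisymm normalizerIn_le fun s hs =>
    ⟨hs, Subgroup.mem_normalizer_fintype fun c hc => ⟨S.mul_mem (S.mul_mem hs hc.1) (S.inv_mem hs), fun z hz => by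
      have h1 := hc.2 (cj s⁻¹ z) (h.zTwo_normal (S.inv_mem hs) hz)
      have h2 := congrArg (cj s) h1
      simp only [cj_map_mul, cj_apply] at h2
      simpa [mul_assoc] using h2⟩⟩
  -- centric
  have hcent : F.IsCentric C := by
    refine ⟨hCS, fun R hR x hx => ?_⟩
    obtain ⟨g, hg⟩ := isConj_iff.mp hR
    have hRS := hg.cod_le
    haveI := finite_of_le hRS
    have hcR : Nat.card S = p * Nat.card R := by rw [← hg.card_eq]; exact hidx
    by_contra hxR
    let X : Subgroup Ω := R ⊔ Subgroup.zpowers x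
    have hXS : X ≤ S := sup_le hRS (Subgroup.zpowers_le.mpr hx.1)
    have hXtop : X = S := by
      refine eq_of_le_of_card hXS ?_
      haveI := finite_of_le hXS
      have h1 := card_lt_of_lt (lt_of_le_of_ne (le_sup_left : R ≤ X) fun e =>
        hxR (e.ge (Subgroup.mem_sup_right (Subgroup.mem_zpowers x))))
      obtain ⟨i, hi⟩ := IsPGroup.iff_card.mp (hS.to_le hXS)
      obtain ⟨j, hj⟩ := IsPGroup.iff_card.mp (hS.to_le hRS)
      rw [hi, hj, Nat.pow_lt_pow_iff_right hp.out.one_lt] at h1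
      rw [hcR, hi, hj, ← pow_succ']
      exact Nat.pow_le_pow_right hp.out.pos h1
    have hxc : X ≤ Subgroup.centralizer {x} := sup_le
      (fun r hr => Subgroup.mem_centralizer_singleton_iff.mpr (hx.2 r hr))
      (Subgroup.zpowers_le.mpr (Subgroup.mem_centralizer_singleton_iff.mpr rfl))
    have hxZ : x ∈ zS S := ⟨hx.1, fun s hs => Subgroup.mem_centralizer_singleton_iff.mp (hxc (hXtop.ge hs))⟩
    refine hxR ?_
    rw [h.zS_eq] at hxZ
    have hle : Subgroup.lowerCentralSeries S 1 ≤ R := by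
      haveI hRn : (R.subgroupOf S).Normal := by
        refine Subgroup.normal_subgroupOf_of_le_normalizer ?_
        by_contra hne
        obtain ⟨t, ht, htn⟩ := SetLike.not_le_iff_exists.mp hne
        refine htn ?_
        have hlt := lt_normalizerIn hS (lt_of_le_of_ne hRS fun e => by
          rw [e] at hcR
          have h0 : 0 < Nat.card S := Nat.card_pos
          have := hp.out.two_le
          nlinarith)
        have e : normalizerIn S R = S := by
          refine eq_of_le_of_card normalizerIn_le ?_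
          haveI := finite_of_le (normalizerIn_le : normalizerIn S R ≤ S)
          have h1 := card_lt_of_lt hlt
          obtain ⟨i, hi⟩ := IsPGroup.iff_card.mp (hS.to_le (normalizerIn_le : normalizerIn S R ≤ S))
          obtain ⟨j, hj⟩ := IsPGroup.iff_card.mp (hS.to_le hRS)
          rw [hi, hj, Nat.pow_lt_pow_iff_right hp.out.one_lt] at h1
          rw [hcR, hi, hj, ← pow_succ']
          exact Nat.pow_le_pow_right hp.out.pos h1
        exact (e.ge ht).2
      have hci : (R.subgroupOf S).index = p := by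
        have h1 := (R.subgroupOf S).card_mul_index
        rw [Nat.card_congr (Subgroup.subgroupOfEquivOfLe hRS).toEquiv, hcR, mul_comm p] at h1
        exact Nat.eq_of_mul_eq_mul_left Nat.card_pos h1
      haveI : IsCyclic (S ⧸ R.subgroupOf S) := isCyclic_of_prime_card (p := p) (by rw [← Subgroup.index_eq_card, hci])
      rw [Subgroup.lowerCentralSeries_succ, Subgroup.lowerCentralSeries_zero, Subgroup.commutator_le]
      intro a ha b hb
      have h2 := Subgroup.Normal.quotient_commutative_iff_commutator_le.1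
        (show IsMulCommutative (S ⧸ R.subgroupOf S) from
          ⟨⟨fun a b => (IsCyclic.commGroup (α := S ⧸ R.subgroupOf S)).mul_comm a b⟩⟩)
      have h3 := h2 (Subgroup.commutator_mem_commutator (Subgroup.mem_top (⟨a, ha⟩ : S)) (Subgroup.mem_top (⟨b, hb⟩ : S)))
      exact h3
    exact hle (Subgroup.lowerCentralSeries_antitone _ (by omega) hxZ)
  have hfnC : F.IsFullyNormalized C := ⟨hCS, fun Q _ => by
    rw [hCn]; exact card_le_of_le normalizerIn_le⟩
  obtain ⟨-, ⟨-, U, hU⟩, hrecC⟩ := IsSaturated_fullyNormalized hS hF hfnC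
  refine ⟨hcent, hfnC, inn_normal_autGroup F C, ?_⟩
  set N := (Inn C).subgroupOf (F.autGroup C) with hN
  haveI : N.Normal := inn_normal_autGroup F C
  let toA : S → F.autGroup C := fun s =>
    ⟨actHom S C ⟨s, hCn.ge s.2⟩, autInducedBy_le_autGroup hCS ((range_actHom S C).le ⟨_, rfl⟩)⟩
  let ψ : S →* F.autGroup C ⧸ N := (QuotientGroup.mk' N).comp (MonoidHom.mk' toA fun a b => Subtype.ext
    (map_mul (actHom S C) ⟨a, hCn.ge a.2⟩ ⟨b, hCn.ge b.2⟩))
  have hker : ψ.ker = C.subgroupOf S := by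
    ext s
    constructor
    · intro hs
      have h1 : toA s ∈ N := (QuotientGroup.eq_one_iff _).mp hs
      obtain ⟨c, hc⟩ := h1
      have h2 : ∀ v : C, cj (c : Ω) v = cj (s : Ω) v := fun v =>
        congrArg (fun e : MulAut C => ((e v : C) : Ω)) hc
      have h3 : (c : Ω)⁻¹ * s ∈ centralizerIn S C := by
        refine ⟨S.mul_mem (S.inv_mem (hCS c.2)) s.2, fun v hv => ?_⟩
        have h4 := h2 ⟨v, hv⟩
        simp only [cj_apply] at h4
        calc v * ((c : Ω)⁻¹ * s) = (c : Ω)⁻¹ * ((c : Ω) * v * (c : Ω)⁻¹) * s := by group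
          _ = _ := by rw [h4]; group
      have h5 := C.mul_mem c.2 (hcent.2 C (isConj_refl hCS) h3)
      rw [mul_inv_cancel_left] at h5
      exact h5
    · intro hs
      refine (QuotientGroup.eq_one_iff _).mpr ⟨⟨s, hs⟩, MulEquiv.ext fun v => Subtype.ext rfl⟩
  have hrange : Nat.card ψ.range = p := by
    have h1 := ψ.ker.card_mul_index
    rw [Subgroup.index_ker, hker, Nat.card_congr (Subgroup.subgroupOfEquivOfLe hCS).toEquiv, hidx, mul_comm p] at h1
    exact Nat.eq_of_mul_eq_mul_left Nat.card_pos h1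
  let T : Sylow p (F.autGroup C ⧸ N) := U.mapSurjective (QuotientGroup.mk'_surjective N)
  have hT : (T : Subgroup (F.autGroup C ⧸ N)) = ψ.range := by
    rw [Sylow.coe_mapSurjective]
    ext q
    constructor
    · rintro ⟨r, hr, rfl⟩
      obtain ⟨s, hs, -, es⟩ := mem_autInducedBy.mp
        (show (r : MulAut C) ∈ autInducedBy S C from (show r ∈ (autInducedBy S C).subgroupOf (F.autGroup C) from hU ▸ hr))
      exact ⟨⟨s, hs⟩, congrArg (QuotientGroup.mk' N) (Subtype.ext (MulEquiv.ext fun v => Subtype.ext (es v).symm))⟩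
    · rintro ⟨s, rfl⟩
      refine ⟨toA s, ?_, rfl⟩
      show toA s ∈ (U : Subgroup (F.autGroup C))
      rw [hU]
      exact (range_actHom S C).le ⟨_, rfl⟩
  refine ⟨Subgroup.normalizer ((T : Subgroup (F.autGroup C ⧸ N)) : Set _), stronglyPEmbedded_of ?_ ?_ T ?_⟩
  · rw [← hrange]; exact Subgroup.card_subgroup_dvd_card _
  · intro htop
    -- extend the moving map to `C`
    have hfn2 : F.IsFullyNormalized (zTwo S) := ⟨zTwo_le, fun Q _ => by
      rw [hzn]; exact card_le_of_le normalizerIn_le⟩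
    obtain ⟨-, -, hrec⟩ := IsSaturated_fullyNormalized hS hF hfn2
    obtain ⟨g, hg, eg⟩ := (receptive_iff.mp hrec).2 _ f hf
    have hgC : Mor F C g := hg.restrict centralizerIn_le_nphi
    have hgi : Iso F g C C := hgC.iso_of_card (fun c hc => by
      refine ⟨hgC.map_mem hc, fun z hz => ?_⟩
      obtain ⟨w, hw, rfl⟩ := hf.surj hz
      have hwC : w ∈ C := h.zTwo_le_cTwo hw
      show f w * g c = g c * f w
      rw [← eg w hw, ← hgC.map_mul hwC hc, ← hgC.map_mul hc hwC, hc.2 w hw]) le_rfl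
    let β : F.autGroup C := ⟨hgi.equiv, hgi.equiv_mem_autGroup⟩
    have hβn : (β : F.autGroup C ⧸ N) ∈ Subgroup.normalizer ((T : Subgroup (F.autGroup C ⧸ N)) : Set _) :=
      htop ▸ Subgroup.mem_top _
    have hnphi : S ≤ nphi S C g := by
      intro s hs
      refine mem_nphi.mpr ⟨hs, (hCn.ge hs).2, ?_⟩
      have h1 : (β : F.autGroup C ⧸ N) * ψ ⟨s, hs⟩ * (β : F.autGroup C ⧸ N)⁻¹ ∈ (T : Subgroup (F.autGroup C ⧸ N)) :=
        (Subgroup.mem_normalizer_iff.mp hβn _).mp (hT.ge ⟨_, rfl⟩)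
      rw [hT] at h1
      obtain ⟨t, ht⟩ := h1
      have h2 : (toA t)⁻¹ * (β * toA ⟨s, hs⟩ * β⁻¹) ∈ N := QuotientGroup.eq.mp ht
      obtain ⟨c, hc⟩ := h2
      refine ⟨(t : Ω) * c, S.mul_mem t.2 (hCS c.2), fun v hv => ?_⟩
      have h3 := congrArg (fun e : MulAut C => ((((toA t : F.autGroup C) : MulAut C) (e (hgi.equiv ⟨v, hv⟩)) : C) : Ω)) hc
      simp only [Subgroup.coe_subtype, Subgroup.coe_mul, Subgroup.coe_inv, MulAut.mul_apply, MulAut.apply_inv_self] at h3
      rw [show ((β : F.autGroup C) : MulAut C)⁻¹ (hgi.equiv ⟨v, hv⟩) = ⟨v, hv⟩ from MulAut.inv_apply_self C (hgi.equiv : MulAut C) ⟨v, hv⟩] at h3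
      refine Eq.trans ?_ ((h3.symm).trans ?_)
      · rfl
      · show cj (t : Ω) (cj (c : Ω) (g v)) = cj ((t : Ω) * c) (g v)
        simp only [cj_apply]; group
    obtain ⟨e, he, ee⟩ := (receptive_iff.mp hrecC).2 C g hgi
    have hei : Iso F e S S := (he.restrict hnphi).iso_of_card (fun x hx => (he.restrict hnphi).map_mem hx) le_rfl
    obtain ⟨z, hz, hzm⟩ := hmove
    refine hzm ?_
    have hz2 := h.zS_le_zTwo hz
    have e1 : f z = e z := by rw [ee z (h.zTwo_le_cTwo hz2), eg z hz2]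
    rw [e1]
    exact ⟨hei.mapsTo hz.1, fun y hy => by
      obtain ⟨w, hw, rfl⟩ := hei.surj hy
      show e w * e z = e z * e w
      rw [← hei.mor.map_mul hw hz.1, ← hei.mor.map_mul hz.1 hw, hz.2 w hw]⟩
  · intro R hR hne
    have hTc : Nat.card (T : Subgroup (F.autGroup C ⧸ N)) = p := by rw [hT]; exact hrange
    haveI : Fact (Nat.card (T : Subgroup (F.autGroup C ⧸ N))).Prime := ⟨by rw [hTc]; exact hp.out⟩
    have : R = (T : Subgroup (F.autGroup C ⧸ N)) := by
      rcases (R.subgroupOf (T : Subgroup (F.autGroup C ⧸ N))).eq_bot_or_eq_top_of_prime_card with e | e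
      · exact absurd (by rw [Subgroup.subgroupOf_eq_bot] at e; exact e.eq_bot_of_le hR) hne
      · exact le_antisymm hR (Subgroup.subgroupOf_eq_top.mp e)
    rw [this]

end Cfsg.Agent.Fusion.MaxCl
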