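import Cfsg.Agent.TwoGroups.MetacyclicAut
import Cfsg.Agent.Fusion.Series
import Cfsg.Agent.Core.ThompsonComplement
import Cfsg.Agent.FGS3.FrattiniAction
import Cfsg.Agent.S4398

/-!
Strongly closed metacyclic subgroups of saturated fusion systems at the prime 2.
-/

set_option autoImplicit false

namespace Cfsg.Agent.Fusion.MetacyclicTwo

open Cfsg Cfsg.FusionSystem Cfsg.Agent Cfsg.Agent.Fusion
open scoped commutatorElement

universe u

/-- An element normalizing a homocyclic rank 2 subgroup and moving a coset of its Frattini subgroup: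
in a metacyclic group only the dihedral group of order 8 arises. -/
theorem exists_dihedral {G : Type u} [Group G] [Finite G] (hG : IsPGroup 2 G) (hm : IsMetacyclic G)
    (D : Subgroup G) {n : ℕ}
    (φ : D ≃* Multiplicative (ZMod (2 ^ n)) × Multiplicative (ZMod (2 ^ n)))
    {a : G} (han : a ∈ Subgroup.normalizer (D : Set G)) (haD : a ∉ D) (ha2 : a * a ∈ D) {x : D}
    (hx : ∀ h : a * (x : G) * a⁻¹ ∈ D, x⁻¹ * ⟨_, h⟩ ∉ frattini D) :
    ∃ H : Subgroup G, Nonempty (H ≃* DihedralGroup 4) := by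
  classical
  haveI := Fact.mk Nat.prime_two
  have hcomm : ∀ u v : D, u * v = v * u := fun u v => φ.injective (by rw [map_mul, map_mul, mul_comm])
  have hexp : ∀ u : D, u ^ 2 ^ n = 1 := fun u => by
    refine φ.injective ?_
    rw [map_pow, map_one]
    have : ∀ z : Multiplicative (ZMod (2 ^ n)), z ^ 2 ^ n = 1 := fun z => by
      refine Multiplicative.toAdd.injective ?_
      rw [toAdd_pow, toAdd_one, nsmul_eq_mul, ZMod.natCast_self, zero_mul]
    exact Prod.ext (this _) (this _)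
  have hcardD : Nat.card D = 2 ^ n * 2 ^ n := by
    rw [Nat.card_congr φ.toEquiv, Nat.card_prod, Nat.card_congr Multiplicative.toAdd, Nat.card_zmod]
  have hmem : a * (x : G) * a⁻¹ ∈ D := (Subgroup.mem_normalizer_iff.mp han _).mp x.2
  set y : D := ⟨_, hmem⟩ with hy
  have hxy : x⁻¹ * y ∉ frattini D := hx hmem
  have hDp : IsPGroup 2 D := hG.to_subgroup D
  -- conjugation by `a`
  set τ : MulAut D := MulEquiv.ofBijective (MonoidHom.mk'
      (fun u : D => (⟨a * (u : G) * a⁻¹, (Subgroup.mem_normalizer_iff.mp han _).mp u.2⟩ : D))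
      (fun u v => Subtype.ext (by simp [mul_assoc])))
    (Finite.injective_iff_bijective.mp fun u v h => Subtype.ext (by simpa using congrArg Subtype.val h)) with hτ
  have hτv : ∀ u : D, ((τ u : D) : G) = a * (u : G) * a⁻¹ := fun u => rfl
  have hτx : τ x = y := rfl
  have hττ : ∀ u : D, τ (τ u) = u := fun u => Subtype.ext (by
    rw [hτv, hτv]
    have h1 : (a * a) * (u : G) = u * (a * a) :=
      congrArg Subtype.val (hcomm ⟨a * a, ha2⟩ u)
    calc a * (a * (u : G) * a⁻¹) * a⁻¹ = (a * a) * u * (a * a)⁻¹ := by group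
      _ = u := by rw [h1, mul_inv_cancel_right])
  have hτF : ∀ u ∈ frattini D, τ u ∈ frattini D := fun u hu =>
    (Subgroup.characteristic_iff_map_eq.mp (inferInstance : (frattini D).Characteristic) τ).le ⟨u, hu, rfl⟩
  have hxF : x ∉ frattini D := fun h => hxy (mul_mem (inv_mem h) (hτx ▸ hτF x h))
  have hyF : y ∉ frattini D := fun h => hxF (by
    have := hτF y h; rwa [← hτx, hττ] at this)
  set V := D ⧸ frattini D
  have hV4 : Nat.card V ≤ 4 := by
    have h2 := OddLocal.RankTwo.card_le_of_metacyclic (p := 2)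
      (OddLocal.RankTwo.metacyclic_quotient (OddLocal.RankTwo.metacyclic_subgroup hm D) (frattini D)) ⊤
      fun v _ => FGS3.quotient_frattini_pow hDp v
    rwa [Subgroup.card_top] at h2
  have hxyF : x * y ∉ frattini D := fun h => hxy (by
    have h2 : x * x ∈ frattini D := by rw [← pow_two]; exact FGS3.pow_mem_frattini hDp x
    have h3 := mul_mem (inv_mem h2) h
    rwa [mul_inv_rev, mul_assoc, inv_mul_cancel_left] at h3)
  have hgen : Subgroup.closure {x, y} = (⊤ : Subgroup D) := by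
    refine FGS3.closure_eq_top_of_quotient_frattini (eq_top_iff.mpr fun w _ => ?_)
    have hm1 : (x : V) ∈ Subgroup.closure ((QuotientGroup.mk : D → V) '' {x, y}) :=
      Subgroup.subset_closure ⟨x, by simp, rfl⟩
    have hm2 : (y : V) ∈ Subgroup.closure ((QuotientGroup.mk : D → V) '' {x, y}) :=
      Subgroup.subset_closure ⟨y, by simp, rfl⟩
    by_contra hw
    haveI : Fintype V := Fintype.ofFinite V
    have hu1 : (x : V) ≠ 1 := fun e => hxF ((QuotientGroup.eq_one_iff _).mp e)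
    have hv1 : (y : V) ≠ 1 := fun e => hyF ((QuotientGroup.eq_one_iff _).mp e)
    have huv : (x : V) ≠ y := fun e => hxy (QuotientGroup.eq.mp e)
    have huv1 : (x : V) * y ≠ 1 := fun e => hxyF ((QuotientGroup.eq_one_iff _).mp e)
    have huvu : (x : V) * y ≠ x := fun e => hv1 (mul_eq_left.mp e)
    have huvv : (x : V) * y ≠ y := fun e => hu1 (mul_eq_right.mp e)
    have hw1 : w ≠ 1 := fun e => hw (e ▸ one_mem _)
    have hwx : w ≠ (x : V) := fun e => hw (e ▸ hm1)
    have hwy : w ≠ (y : V) := fun e => hw (e ▸ hm2)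
    have hwxy : w ≠ (x : V) * y := fun e => hw (e ▸ mul_mem hm1 hm2)
    have h5 : ({1, (x : V), (y : V), (x : V) * y, w} : Finset V).card = 5 := by
      simp [hu1, hv1, huv, huv1, huvu, huvv, Ne.symm hu1, Ne.symm hv1, Ne.symm huv1, Ne.symm huvu,
        Ne.symm huvv, hw1.symm, hwx.symm, hwy.symm, hwxy.symm]
    have h6 := Finset.card_le_univ ({1, (x : V), (y : V), (x : V) * y, w} : Finset V)
    rw [h5, ← Nat.card_eq_fintype_card] at h6
    omega
  letI : CommGroup D := { (inferInstance : Group D) with mul_comm := hcomm }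
  -- coordinates
  let ψ : Subgroup.zpowers x × Subgroup.zpowers y →* D :=
    (Subgroup.zpowers x).subtype.coprod (Subgroup.zpowers y).subtype
  have hψs : Function.Surjective ψ := fun w => by
    have h1 : Subgroup.closure {x, y} ≤ ψ.range := by
      rw [Subgroup.closure_le]
      rintro z (rfl | rfl)
      · exact ⟨(⟨_, Subgroup.mem_zpowers _⟩, 1), by simp [ψ]⟩
      · exact ⟨(1, ⟨_, Subgroup.mem_zpowers _⟩), by simp [ψ]⟩
    rw [hgen] at h1
    exact h1 (Subgroup.mem_top w)
  have hox : ∀ z : D, orderOf z ≤ 2 ^ n := fun z =>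
    Nat.le_of_dvd (by positivity) (orderOf_dvd_of_pow_eq_one (hexp z))
  have hge : 2 ^ n * 2 ^ n ≤ orderOf x * orderOf y := by
    rw [← hcardD, ← Nat.card_zpowers x, ← Nat.card_zpowers y, ← Nat.card_prod]
    exact Nat.card_le_card_of_surjective ψ hψs
  have hpos : 0 < 2 ^ n := by positivity
  have hxo : orderOf x = 2 ^ n := by
    refine le_antisymm (hox x) ?_
    exact Nat.le_of_mul_le_mul_right (hge.trans (Nat.mul_le_mul_left _ (hox y))) hpos
  have hyo : orderOf y = 2 ^ n := by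
    refine le_antisymm (hox y) ?_
    exact Nat.le_of_mul_le_mul_left (hge.trans (Nat.mul_le_mul_right _ (hox x))) hpos
  have hψb : Function.Bijective ψ := (Nat.bijective_iff_surjective_and_card ψ).mpr ⟨hψs, by
    rw [Nat.card_prod, Nat.card_zpowers, Nat.card_zpowers, hxo, hyo, hcardD]⟩
  have hind : ∀ i j : ℤ, x ^ i * y ^ j = 1 → (2 ^ n : ℤ) ∣ i ∧ (2 ^ n : ℤ) ∣ j := by
    intro i j h
    have h1 : ψ (⟨x ^ i, i, rfl⟩, ⟨y ^ j, j, rfl⟩) = 1 := h
    have h2 := hψb.1 (h1.trans (map_one ψ).symm)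
    have hxi : x ^ i = 1 := congrArg (fun z => ((z.1 : Subgroup.zpowers x) : D)) h2
    have hyj : y ^ j = 1 := congrArg (fun z => ((z.2 : Subgroup.zpowers y) : D)) h2
    rw [← orderOf_dvd_iff_zpow_eq_one] at hxi hyj
    rw [hxo] at hxi; rw [hyo] at hyj
    exact ⟨by exact_mod_cast hxi, by exact_mod_cast hyj⟩
  have hcoord : ∀ w : D, ∃ i j : ℤ, w = x ^ i * y ^ j := fun w => by
    obtain ⟨⟨⟨_, i, rfl⟩, ⟨_, j, rfl⟩⟩, e⟩ := hψs w
    exact ⟨i, j, e.symm⟩
  have hτy : τ y = x := by rw [← hτx, hττ]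
  have hfix : ∀ w : D, τ w = w → ∃ k : ℤ, w = (x * y) ^ k := by
    intro w hw
    obtain ⟨i, j, rfl⟩ := hcoord w
    rw [map_mul, map_zpow, map_zpow, hτx, hτy] at hw
    have h1 : x ^ (j - i) * y ^ (i - j) = 1 := by
      rw [zpow_sub, zpow_sub]
      calc x ^ j * (x ^ i)⁻¹ * (y ^ i * (y ^ j)⁻¹)
          = (y ^ i * x ^ j) * (x ^ i * y ^ j)⁻¹ := by
            rw [mul_inv_rev]; simp only [mul_comm, mul_left_comm, mul_assoc]
        _ = 1 := by rw [hw, mul_inv_cancel]
    obtain ⟨c, hc⟩ := (hind _ _ h1).1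
    refine ⟨i, ?_⟩
    rw [mul_zpow, show j = i + 2 ^ n * c by omega, zpow_add, zpow_mul,
      show ((2 : ℤ) ^ n) = ((2 ^ n : ℕ) : ℤ) by simp, zpow_natCast, hexp, one_zpow, mul_one]
  have hn0 : n ≠ 0 := by
    rintro rfl
    have hx1 : x = 1 := by have := hexp x; rwa [pow_zero, pow_one] at this
    exact hxF (hx1 ▸ one_mem _)
  set T : Subgroup G := D ⊔ Subgroup.zpowers a with hT
  have hza : Subgroup.zpowers a ≤ Subgroup.normalizer (D : Set G) := Subgroup.zpowers_le.mpr han
  have hTdec : ∀ g ∈ T, g ∈ D ∨ ∃ d ∈ D, g = d * a := by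
    intro g hg
    obtain ⟨d, hd, z, hz, rfl⟩ := Coprime.exists_mul_of_mem_sup hza hg
    obtain ⟨k, rfl⟩ := Subgroup.mem_zpowers_iff.mp hz
    rcases Int.even_or_odd k with ⟨l, rfl⟩ | ⟨l, rfl⟩
    · refine Or.inl (D.mul_mem hd ?_)
      rw [← two_mul, zpow_mul, zpow_two]
      exact D.zpow_mem ha2 l
    · refine Or.inr ⟨d * a ^ (2 * l), D.mul_mem hd ?_, by rw [zpow_add, zpow_one, mul_assoc]⟩
      rw [zpow_mul, zpow_two]
      exact D.zpow_mem ha2 l
  rcases Nat.lt_or_ge n 2 with hn | hn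
  swap
  · exfalso
    have hTm : IsMetacyclic T := OddLocal.RankTwo.metacyclic_subgroup hm T
    obtain ⟨A, hAn, hA, hAq⟩ := hTm
    haveI := hAn; haveI := hA; haveI := hAq
    have haT : a ∈ T := Subgroup.mem_sup_right (Subgroup.mem_zpowers a)
    have hDT : D ≤ T := le_sup_left
    set w : D := y * x⁻¹ with hw
    set wT : T := ⟨(w : G), hDT w.2⟩
    have hwA : wT ∈ A := by
      rw [← QuotientGroup.eq_one_iff]
      have e : wT = ⁅(⟨a, haT⟩ : T), (⟨x, hDT x.2⟩ : T)⁆ :=
        Subtype.ext (by rw [commutatorElement_def]; rfl)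
      show QuotientGroup.mk' A wT = 1
      rw [e, map_commutatorElement, commutatorElement_eq_one_iff_mul_comm]
      exact (IsCyclic.commGroup (α := T ⧸ A)).mul_comm _ _
    have hτw : τ w = w⁻¹ := by
      rw [hw, map_mul, map_inv, hτx, hτy, mul_inv_rev, inv_inv]
    have hw2 : ∀ i : ℤ, w ^ i = 1 → (2 ^ n : ℤ) ∣ i := fun i h => by
      rw [hw, mul_zpow, inv_zpow, ← zpow_neg, mul_comm] at h
      exact (hind _ _ h).2
    have hAD : ∀ u : T, u ∈ A → (u : G) ∈ D := by
      intro u hu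
      rcases hTdec u u.2 with h | ⟨d, hd, he⟩
      · exact h
      exfalso
      have h1 : (u : G) * (w : G) = (w : G) * (u : G) := congrArg (fun z : A => ((z : T) : G))
        ((IsCyclic.commGroup (α := A)).mul_comm ⟨u, hu⟩ ⟨wT, hwA⟩)
      have h2 : τ w = w := by
        refine Subtype.ext ?_
        rw [hτv]
        have h3 : d * (a * (w : G) * a⁻¹) * d⁻¹ = w := by
          calc d * (a * (w : G) * a⁻¹) * d⁻¹ = (u : G) * w * (u : G)⁻¹ := by rw [he]; group
            _ = w := by rw [h1, mul_inv_cancel_right]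
        have h4 : d * (a * (w : G) * a⁻¹) = (a * (w : G) * a⁻¹) * d := congrArg Subtype.val
          (hcomm ⟨d, hd⟩ ⟨_, (Subgroup.mem_normalizer_iff.mp han _).mp w.2⟩)
        rwa [h4, mul_inv_cancel_right] at h3
      rw [hτw] at h2
      have h5 : w ^ (2 : ℤ) = 1 := by rw [zpow_two]; nth_rewrite 1 [← h2]; exact inv_mul_cancel w
      have h6 : (2 : ℤ) ^ n ≤ 2 := Int.le_of_dvd two_pos (hw2 2 h5)
      have h7 : (2 : ℤ) ^ 2 ≤ 2 ^ n := pow_le_pow_right₀ (by norm_num) hn
      norm_num at h7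
      omega
    obtain ⟨g, hg⟩ := IsCyclic.exists_generator (α := T ⧸ A)
    induction g using QuotientGroup.induction_on with
    | _ g =>
    -- `g` lies outside `D`
    rcases hTdec g g.2 with hgD | ⟨d, hd, hge⟩
    · apply haD
      obtain ⟨k, hk⟩ := Subgroup.mem_zpowers_iff.mp (hg (QuotientGroup.mk ⟨a, haT⟩))
      rw [← QuotientGroup.mk_zpow, QuotientGroup.eq] at hk
      have h1 := D.mul_mem (D.zpow_mem hgD k) (hAD _ hk)
      simpa using h1
    obtain ⟨k, hk⟩ := Subgroup.mem_zpowers_iff.mp (hg (QuotientGroup.mk ⟨x, hDT x.2⟩))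
    rw [← QuotientGroup.mk_zpow, QuotientGroup.eq] at hk
    have hg2 : (g : G) * g ∈ D := by
      rw [hge]
      have e : d * a * (d * a) = d * (a * d * a⁻¹) * (a * a) := by group
      rw [e]
      exact D.mul_mem (D.mul_mem hd ((Subgroup.mem_normalizer_iff.mp han _).mp hd)) ha2
    rcases Int.even_or_odd k with ⟨l, rfl⟩ | ⟨l, rfl⟩
    swap
    · have h1 : ((g : G) ^ (2 * l + 1))⁻¹ * (x : G) ∈ D := by simpa using hAD _ hk
      have h2 : (g : G) ^ (2 * l + 1) ∈ D := by
        have := D.mul_mem x.2 (D.inv_mem h1)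
        simpa using this
      rw [zpow_add, zpow_one, zpow_mul, zpow_two, D.mul_mem_cancel_left (D.zpow_mem hg2 l), hge] at h2
      exact haD ((D.mul_mem_cancel_left hd).mp h2)
    set s : D := ⟨(g : G) * g, hg2⟩ with hs
    have hτs : τ s = s := by
      have h1 : s = (⟨d, hd⟩ * τ ⟨d, hd⟩) * ⟨a * a, ha2⟩ := Subtype.ext (by
        show (g : G) * g = d * (a * d * a⁻¹) * (a * a)
        rw [hge]; group)
      rw [h1, map_mul, map_mul, hττ, show τ ⟨a * a, ha2⟩ = ⟨a * a, ha2⟩ from Subtype.ext (by rw [hτv]; group),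
        mul_comm (τ ⟨d, hd⟩)]
    obtain ⟨m, hm'⟩ := hfix s hτs
    -- the part of `A`
    have hAw : ∀ u : T, u ∈ A → ∃ i : ℤ, (u : G) = ((w ^ i : D) : G) := by
      intro u hu
      obtain ⟨v, hv⟩ := IsCyclic.exists_generator (α := A)
      set v' : D := ⟨((v : T) : G), hAD v v.2⟩
      obtain ⟨e, he⟩ := Subgroup.mem_zpowers_iff.mp (hv ⟨wT, hwA⟩)
      have hwe : w = v' ^ e := Subtype.ext (by
        rw [Subgroup.coe_zpow]
        exact (congrArg (fun z : A => ((z : T) : G)) he.symm).trans (by simp [v']))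
      have hv'mem : v' ∈ Subgroup.zpowers w := by
        have hle : Subgroup.zpowers w ≤ Subgroup.zpowers v' := Subgroup.zpowers_le.mpr ⟨e, hwe.symm⟩
        have hwo : 2 ^ n ∣ orderOf w := by
          have := hw2 (orderOf w) (by rw [zpow_natCast, pow_orderOf_eq_one])
          exact_mod_cast this
        rw [Subgroup.eq_of_le_of_card_ge hle (by
          rw [Nat.card_zpowers, Nat.card_zpowers]
          exact (hox v').trans (Nat.le_of_dvd (orderOf_pos w) hwo))]
        exact Subgroup.mem_zpowers v'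
      obtain ⟨f, hf⟩ := Subgroup.mem_zpowers_iff.mp hv'mem
      obtain ⟨i, hi⟩ := Subgroup.mem_zpowers_iff.mp (hv ⟨u, hu⟩)
      refine ⟨f * i, ?_⟩
      rw [zpow_mul, hf, Subgroup.coe_zpow]
      exact (congrArg (fun z : A => ((z : T) : G)) hi.symm).trans (by simp [v'])
    obtain ⟨i, hi⟩ := hAw _ hk
    have hxeq : x = s ^ l * w ^ i := Subtype.ext (by
      have h1 : ((g : G) ^ (l + l))⁻¹ * (x : G) = ((w ^ i : D) : G) := by simpa using hi
      rw [Subgroup.coe_mul, ← h1, Subgroup.coe_zpow, ← two_mul, zpow_mul, zpow_two, hs, mul_inv_cancel_left])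
    rw [hm', ← zpow_mul, mul_zpow, hw, mul_zpow, inv_zpow, ← zpow_neg] at hxeq
    have h1 : x ^ (m * l + -i - 1) * y ^ (m * l + i) = 1 := by
      have e : x ^ (m * l) * y ^ (m * l) * (y ^ i * x ^ (-i)) * x ^ (-1 : ℤ) = 1 := by
        rw [← hxeq, zpow_neg_one, mul_inv_cancel]
      rw [← e, sub_eq_add_neg, zpow_add, zpow_add, zpow_add]
      simp only [mul_comm, mul_left_comm, mul_assoc]
    obtain ⟨⟨c1, hc1⟩, c2, hc2⟩ := hind _ _ h1
    obtain ⟨n', rfl⟩ : ∃ n', n = n' + 1 := ⟨n - 1, by omega⟩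
    rw [pow_succ, mul_comm ((2 : ℤ) ^ n') 2, mul_assoc] at hc1 hc2
    omega
  obtain rfl : n = 1 := by omega
  rw [pow_one] at hexp hxo hyo
  have hTc : Nat.card T = 2 * 4 := by
    have e : Nat.card D = 4 := by rw [hcardD]; norm_num
    let F : D × Bool → T := fun z => ⟨(z.1 : G) * (if z.2 then a else 1),
      T.mul_mem (Subgroup.mem_sup_left z.1.2) (by
        split_ifs
        exacts [Subgroup.mem_sup_right (Subgroup.mem_zpowers a), T.one_mem])⟩
    have hF : Function.Bijective F := by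
      constructor
      · rintro ⟨u, b⟩ ⟨v, c⟩ h
        have h1 : (u : G) * (if b then a else 1) = (v : G) * (if c then a else 1) := congrArg Subtype.val h
        cases b <;> cases c <;> simp at h1
        · exact Prod.ext h1 rfl
        · exact absurd ((D.mul_mem_cancel_left v.2).mp (h1 ▸ u.2)) haD
        · exact absurd ((D.mul_mem_cancel_left u.2).mp (h1.symm ▸ v.2)) haD
        · exact Prod.ext h1 rfl
      · rintro ⟨g, hg⟩
        rcases hTdec g hg with h | ⟨d, hd, he⟩
        · exact ⟨(⟨g, h⟩, false), Subtype.ext (by simp [F])⟩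
        · exact ⟨(⟨d, hd⟩, true), Subtype.ext (by simp [F, he])⟩
    rw [← Nat.card_congr (Equiv.ofBijective F hF), Nat.card_prod, e, Nat.card_eq_fintype_card (α := Bool)]
    norm_num
  have hax : ∀ u : D, u * u = 1 := fun u => by rw [← pow_two]; exact hexp u
  have hxyne : x * y ≠ 1 := fun e => hxyF (e ▸ one_mem _)
  have hxyfix : τ (x * y) = x * y := by rw [map_mul, hτx, hτy, mul_comm]
  have haa : (⟨a * a, ha2⟩ : D) = 1 ∨ (⟨a * a, ha2⟩ : D) = x * y := by
    obtain ⟨k, hk⟩ := hfix ⟨a * a, ha2⟩ (Subtype.ext (by rw [hτv]; group))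
    rcases Int.even_or_odd k with ⟨l, rfl⟩ | ⟨l, rfl⟩
    · exact Or.inl (by rw [hk, ← two_mul, zpow_mul, zpow_two, hax, one_zpow])
    · exact Or.inr (by rw [hk, zpow_add, zpow_mul, zpow_two, hax, one_zpow, one_mul, zpow_one])
  have hxT : (x : G) ∈ T := Subgroup.mem_sup_left x.2
  have haT : a ∈ T := Subgroup.mem_sup_right (Subgroup.mem_zpowers a)
  have hxinv : (x : G)⁻¹ = x := inv_eq_of_mul_eq_one_right (congrArg Subtype.val (hax x))
  have hyinv : (y : G)⁻¹ = y := inv_eq_of_mul_eq_one_right (congrArg Subtype.val (hax y))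
  obtain ⟨u, v, hu2, hv2, hvu⟩ : ∃ u v : T, ((u : G) * u = ((x * y : D) : G)) ∧ v * v = 1 ∧
      v * u * v⁻¹ = u⁻¹ := by
    rcases haa with e | e
    · have ha1 : a * a = 1 := congrArg Subtype.val e
      refine ⟨⟨a * x, T.mul_mem haT hxT⟩, ⟨a, haT⟩, ?_, Subtype.ext ha1, Subtype.ext ?_⟩
      · show a * (x : G) * (a * x) = x * y
        calc a * (x : G) * (a * x) = (a * x * a⁻¹) * (a * a) * x := by group
          _ = (y : G) * x := by rw [ha1, mul_one]
          _ = x * y := congrArg Subtype.val (hcomm y x)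
      · show a * (a * (x : G)) * a⁻¹ = (a * x)⁻¹
        rw [mul_inv_rev, hxinv, ← mul_assoc a a, ha1, one_mul]
    · have ha1 : a * a = ((x * y : D) : G) := congrArg Subtype.val e
      refine ⟨⟨a, haT⟩, ⟨x, hxT⟩, ha1,
        Subtype.ext (show (x : G) * x = 1 from congrArg Subtype.val (hax x)), Subtype.ext ?_⟩
      show (x : G) * a * (x : G)⁻¹ = a⁻¹
      have h1 : a⁻¹ * (x : G) * a = y := by
        have h2 : a * (y : G) * a⁻¹ = x := congrArg Subtype.val hτy
        rw [← h2]; group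
      have h4 : (a * a) * (a * a) = 1 := by rw [ha1]; exact congrArg Subtype.val (hax (x * y))
      rw [hxinv]
      calc (x : G) * a * x = a * ((a⁻¹ * x * a) * x) := by group
        _ = a * ((y * x : D) : G) := by rw [h1]; rfl
        _ = a * (a * a) := by rw [hcomm y x, ha1]
        _ = a⁻¹ * ((a * a) * (a * a)) := by group
        _ = a⁻¹ := by rw [h4, mul_one]
  have hu4 : orderOf u = 4 := by
    have h1 : u ^ 4 = 1 := Subtype.ext (by
      rw [Subgroup.coe_pow, show (4 : ℕ) = 2 * 2 from rfl, pow_mul, pow_two (u : G), hu2, pow_two]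
      exact congrArg Subtype.val (hax (x * y)))
    rw [show (4 : ℕ) = 2 ^ (1 + 1) from rfl]
    refine orderOf_eq_prime_pow (fun h => hxyne (Subtype.ext ?_)) h1
    rw [← hu2]
    rw [pow_one, pow_two] at h
    exact congrArg Subtype.val h
  have hvn : v ∉ Subgroup.zpowers u := by
    intro hv
    obtain ⟨i, hi⟩ := Subgroup.mem_zpowers_iff.mp hv
    have h1 : v * u * v⁻¹ = u := by rw [← hi, ((Commute.refl u).zpow_left i).eq, mul_inv_cancel_right]
    rw [hvu] at h1
    refine hxyne (Subtype.ext ?_)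
    rw [← hu2]
    exact congrArg Subtype.val (show u * u = 1 by nth_rewrite 1 [← h1]; exact inv_mul_cancel u)
  exact ⟨T, TwoGroups.IsTwoExt.dihedral (x := u) (y := v) (N := 4)
    ⟨hu4, hTc, by norm_num, hvn, hv2, by rw [hvu, zpow_neg_one]⟩⟩

variable {Ω : Type u} [Group Ω] {S : Subgroup Ω} {F : FusionSystem S}

/-- An essential subgroup not containing a strongly closed metacyclic subgroup `P` forces `P` to be
dihedral, semidihedral or generalized quaternion. -/
theorem exists_sub_of_essential [Finite S] (hS : IsPGroup 2 S) (hF : F.IsSaturated 2) {P : Subgroup Ω}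
    (hP : F.StronglyClosed P) (hm : IsMetacyclic P) {E : Subgroup Ω} (hE : F.IsEssential 2 E)
    (hPE : ¬ P ≤ E) :
    ∃ H : Subgroup P, Nonempty (H ≃* DihedralGroup 4) ∨ Nonempty (H ≃* QuaternionGroup 2) := by
  haveI := Fact.mk Nat.prime_two
  have hPS := hP.1
  haveI := finite_of_le hPS
  have hES := hE.1.1
  haveI := finite_of_le hES
  haveI := finite_mulAut (G := E)
  have hrad := essential_radical hS hE
  have hEp : IsPGroup 2 E := hS.to_le hES
  have hPp : IsPGroup 2 P := hS.to_le hPS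
  have hPn : S ≤ Subgroup.normalizer (P : Set Ω) := fun s hs => Subgroup.mem_normalizer_fintype fun z hz =>
    stronglyClosed_mem hP (Mor.conj hPS hs) hz hz
  -- an element of `P` normalizing `E`, with square in `E`
  haveI := finite_of_le (sup_le hES hPS)
  obtain ⟨b, hbT, hbE, hbn⟩ := exists_mem_normalizer_of_lt (hS.to_le (sup_le hES hPS))
    (lt_of_le_of_ne (le_sup_left : E ≤ E ⊔ P) fun e => hPE (le_of_le_of_eq le_sup_right e.symm))
  obtain ⟨e₀, he₀, b', hb', rfl⟩ := Coprime.exists_mul_of_mem_sup (hES.trans hPn) (sup_comm E P ▸ hbT : b ∈ P ⊔ E)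
  obtain ⟨a, haP, haE, han, ha2⟩ : ∃ a ∈ P, a ∉ E ∧ a ∈ Subgroup.normalizer (E : Set Ω) ∧ a * a ∈ E := by
    have h0 : e₀ ∉ E := fun h => hbE (E.mul_mem h hb')
    have h1 : e₀ ∈ Subgroup.normalizer (E : Set Ω) := by
      have := (Subgroup.normalizer (E : Set Ω)).mul_mem hbn (inv_mem (Subgroup.le_normalizer hb'))
      rwa [mul_inv_cancel_right] at this
    obtain ⟨k, hk⟩ := hPp ⟨e₀, he₀⟩
    have hk' : e₀ ^ 2 ^ k = 1 := congrArg Subtype.val hk
    suffices H : ∀ k, ∀ g ∈ P, g ∉ E → g ∈ Subgroup.normalizer (E : Set Ω) → g ^ 2 ^ k ∈ E →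
        ∃ a ∈ P, a ∉ E ∧ a ∈ Subgroup.normalizer (E : Set Ω) ∧ a * a ∈ E from
      H k e₀ he₀ h0 h1 (hk' ▸ E.one_mem)
    intro k
    induction k with
    | zero => intro g _ hg _ h; rw [pow_zero, pow_one] at h; exact absurd h hg
    | succ k ih =>
      intro g hgP hgE hgn h
      by_cases hgg : g * g ∈ E
      · exact ⟨g, hgP, hgE, hgn, hgg⟩
      · exact ih _ (P.mul_mem hgP hgP) hgg (mul_mem hgn hgn) (by rw [← pow_two, ← pow_mul, ← pow_succ']; exact h)
  have haN : a ∈ normalizerIn S E := ⟨hPS haP, han⟩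
  -- the intersection
  set D₀ : Subgroup E := P.subgroupOf E with hD₀
  have hD₀inv : ∀ α ∈ F.autGroup E, ∀ z ∈ D₀, (α : MulAut E) z ∈ D₀ := by
    intro α hα z hz
    obtain ⟨f, hf, ef⟩ := (mem_autGroup_iff hES).mp hα
    show ((α z : E) : Ω) ∈ P
    rw [← ef]
    exact stronglyClosed_mem hP hf.mor z.2 hz
  let res : F.autGroup E →* MulAut D₀ :=
    { toFun := fun α =>
        { toFun := fun z => ⟨(α : MulAut E) z, hD₀inv _ α.2 z z.2⟩
          invFun := fun z => ⟨(α : MulAut E)⁻¹ z, hD₀inv _ (inv_mem α.2) z z.2⟩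
          left_inv := fun z => Subtype.ext ((α : MulAut E).symm_apply_apply _)
          right_inv := fun z => Subtype.ext ((α : MulAut E).apply_symm_apply _)
          map_mul' := fun z w => Subtype.ext (map_mul (α : MulAut E) _ _) }
      map_one' := rfl
      map_mul' := fun _ _ => rfl }
  set Φ := (frattini D₀).map D₀.subtype with hΦ
  let Dser : ℕ → Subgroup E := fun j => if j = 0 then Φ else if j = 1 then D₀ else ⊤
  have hinv : ∀ α ∈ F.autGroup E, ∀ j ≤ 2, ∀ z ∈ Dser j, (α : MulAut E) z ∈ Dser j := by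
    intro α hα j _ z hz
    simp only [Dser] at hz ⊢
    split_ifs at hz ⊢ with h0 h1
    · obtain ⟨w, hw, rfl⟩ := hz
      exact ⟨res ⟨α, hα⟩ w, (Subgroup.characteristic_iff_map_eq.mp
        (inferInstance : (frattini D₀).Characteristic) (res ⟨α, hα⟩)).le ⟨w, hw, rfl⟩, rfl⟩
    · exact hD₀inv α hα z hz
    · trivial
  set K := seriesStab (F.autGroup E) Dser 2 hinv with hK
  have haK : ∀ (h : ∀ z : D₀, ((z⁻¹ * res ⟨actHom S E ⟨a, haN⟩, autInducedBy_le_autGroup hES
      ((range_actHom S E).le ⟨_, rfl⟩)⟩ z : D₀)) ∈ frattini D₀),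
      (⟨actHom S E ⟨a, haN⟩, autInducedBy_le_autGroup hES ((range_actHom S E).le ⟨_, rfl⟩)⟩ : F.autGroup E) ∈ K := by
    intro h j hj z hz
    interval_cases j
    · exact ⟨_, h ⟨z, hz⟩, rfl⟩
    · show ((z : E)⁻¹ * actHom S E ⟨a, haN⟩ z : E) ∈ D₀
      show ((z : Ω))⁻¹ * ((actHom S E ⟨a, haN⟩ z : E) : Ω) ∈ P
      rw [actHom_apply]
      show (z : Ω)⁻¹ * (a * z * a⁻¹) ∈ P
      rw [← mul_assoc, ← mul_assoc]
      refine P.mul_mem ?_ (P.inv_mem haP)
      have h1 := (Subgroup.mem_normalizer_iff.mp (hPn (S.inv_mem (hES z.2))) a).mp haP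
      rwa [inv_inv] at h1
  -- nontrivial elements of odd order in `K` act nontrivially on the Frattini quotient
  have hKone : (∀ α : F.autGroup E, ∀ q : ℕ, q.Prime → q ≠ 2 → res α ^ q = 1 →
      (∀ z : D₀, z⁻¹ * res α z ∈ frattini D₀) → res α = 1) := fun α q hq hq2 hαq h =>
    TwoGroups.MetacyclicAut.eq_one_of_frattini (hEp.to_subgroup _) hq hq2 hαq h
  have hKp : IsPGroup 2 K := by
    refine Core.ThompsonComplement.isPGroup_of_forall_coprime fun α hα hc => ?_
    by_contra hα1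
    obtain ⟨q, hq, hqd⟩ := Nat.exists_prime_and_dvd
      (fun e => hα1 (orderOf_eq_one_iff.mp e) : orderOf α ≠ 1)
    have hq2 : q ≠ 2 := fun e => by
      have := Nat.eq_one_of_dvd_coprimes hc (e ▸ hqd) dvd_rfl
      omega
    set β := α ^ (orderOf α / q) with hβ
    have hβo : orderOf β = q := by
      rw [hβ, orderOf_pow_of_dvd (Nat.div_pos (Nat.le_of_dvd (orderOf_pos α) hqd) hq.pos).ne'
        (Nat.div_dvd_of_dvd hqd), Nat.div_div_self hqd (orderOf_pos α).ne']
    have hβK : β ∈ K := pow_mem hα _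
    have hfr : ∀ z : D₀, z⁻¹ * res β z ∈ frattini D₀ := fun z => by
      obtain ⟨w, hw, he⟩ := hβK 0 (by norm_num) (z : E) z.2
      have hw' : w = z⁻¹ * res β z := Subtype.ext he
      exact hw' ▸ hw
    have hres := hKone β q hq hq2 (by rw [← map_pow, ← hβo, pow_orderOf_eq_one, map_one]) hfr
    have hfix : ∀ z ∈ D₀, (β : MulAut E) z = z := fun z hz =>
      congrArg Subtype.val (DFunLike.congr_fun hres ⟨z, hz⟩)
    refine hq.ne_one (hβo ▸ orderOf_eq_one_iff.mpr (Subtype.ext (MulEquiv.ext fun z => ?_)))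
    show (β : MulAut E) z = z
    set c := z⁻¹ * (β : MulAut E) z with hcd
    have hcD : c ∈ D₀ := hβK 1 (by norm_num) z trivial
    have hpow : ∀ m : ℕ, ((β : MulAut E) ^ m) z = z * c ^ m := fun m => by
      induction m with
      | zero => simp
      | succ m ihm =>
        rw [pow_succ', MulAut.mul_apply, ihm, map_mul, map_pow, hfix c hcD, pow_succ', ← mul_assoc]
        congr 1
        rw [hcd, mul_inv_cancel_left]
    have h1 := hpow q
    rw [← Subgroup.coe_pow, ← hβo, pow_orderOf_eq_one, Subgroup.coe_one, MulAut.one_apply, left_eq_mul,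
      hβo] at h1
    have hcq : orderOf c ∣ q := orderOf_dvd_of_pow_eq_one h1
    obtain ⟨i, hi⟩ := IsPGroup.iff_orderOf.mp hEp c
    have h2 : orderOf c = 1 := Nat.eq_one_of_dvd_coprimes
      ((((Nat.coprime_primes hq Nat.prime_two).mpr hq2)).pow_right i) hcq (dvd_of_eq hi)
    rw [orderOf_eq_one_iff, hcd, inv_mul_eq_one] at h2
    exact h2.symm
  have hnot : ∀ h : _, False := fun h => haE (mem_of_mem_normal_pGroup hE.1 hrad haN K
    (seriesStab_normal _ Dser 2 hinv) hKp (haK h))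
  -- transfer to the subgroup `E ⊓ P` of `P`
  set DP : Subgroup P := E.subgroupOf P with hDP
  let eD : D₀ ≃* DP :=
    { toFun := fun z => ⟨⟨((z : E) : Ω), z.2⟩, (z : E).2⟩
      invFun := fun z => ⟨⟨((z : P) : Ω), z.2⟩, (z : P).2⟩
      left_inv := fun z => rfl
      right_inv := fun z => rfl
      map_mul' := fun z w => rfl }
  have hDm : IsMetacyclic D₀ := by
    obtain ⟨N, hNn, hN, hNq⟩ := OddLocal.RankTwo.metacyclic_subgroup hm DP
    haveI := hNn; haveI := hN; haveI := hNq
    refine ⟨N.comap eD.toMonoidHom, inferInstance, ?_, ?_⟩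
    · exact isCyclic_of_injective ((eD.toMonoidHom.comp (N.comap eD.toMonoidHom).subtype).codRestrict N
        fun z => z.2) fun z w h => Subtype.ext (eD.injective (congrArg Subtype.val h))
    · refine isCyclic_of_injective (QuotientGroup.map (N.comap eD.toMonoidHom) N eD.toMonoidHom le_rfl) ?_
      intro z w
      induction z using QuotientGroup.induction_on with
      | _ z =>
        induction w using QuotientGroup.induction_on with
        | _ w =>
          intro h
          refine QuotientGroup.eq.mpr ?_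
          have h2 := QuotientGroup.eq.mp (h : (QuotientGroup.mk (eD z) : DP ⧸ N) = QuotientGroup.mk (eD w))
          show eD (z⁻¹ * w) ∈ N
          rwa [map_mul, map_inv]
  have hAut : ¬ IsPGroup 2 (MulAut D₀) := by
    intro hpA
    -- then the elements trivial on `E/(E ⊓ P)` form a `2`-group containing `a`
    let D1 : ℕ → Subgroup E := fun j => if j = 0 then D₀ else ⊤
    have hinv1 : ∀ α ∈ F.autGroup E, ∀ j ≤ 1, ∀ z ∈ D1 j, (α : MulAut E) z ∈ D1 j := by
      intro α hα j _ z hz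
      simp only [D1] at hz ⊢
      split_ifs at hz ⊢
      · exact hD₀inv α hα z hz
      · trivial
    refine haE (mem_of_mem_normal_pGroup hE.1 hrad haN (seriesStab (F.autGroup E) D1 1 hinv1)
      (seriesStab_normal _ D1 1 hinv1) ?_ ?_)
    · refine Core.ThompsonComplement.isPGroup_of_forall_coprime fun α hα hc => ?_
      obtain ⟨k, hk⟩ := hpA (res α)
      have hres : res α = 1 := orderOf_eq_one_iff.mp (Nat.eq_one_of_dvd_coprimes
        ((hc.coprime_dvd_left (orderOf_map_dvd res α)).pow_right k) dvd_rfl (orderOf_dvd_of_pow_eq_one hk))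
      refine Subtype.ext (MulEquiv.ext fun z => ?_)
      show (α : MulAut E) z = z
      set c := z⁻¹ * (α : MulAut E) z with hcd
      have hcD : c ∈ D₀ := hα 0 (by norm_num) z trivial
      have hfix : (α : MulAut E) c = c := congrArg Subtype.val (DFunLike.congr_fun hres ⟨c, hcD⟩)
      have hpow : ∀ m : ℕ, ((α : MulAut E) ^ m) z = z * c ^ m := fun m => by
        induction m with
        | zero => simp
        | succ m ihm =>
          rw [pow_succ', MulAut.mul_apply, ihm, map_mul, map_pow, hfix, pow_succ', ← mul_assoc]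
          congr 1
          rw [hcd, mul_inv_cancel_left]
      have h1 := hpow (orderOf α)
      rw [← Subgroup.coe_pow, pow_orderOf_eq_one, Subgroup.coe_one, MulAut.one_apply, left_eq_mul] at h1
      obtain ⟨i, hi⟩ := IsPGroup.iff_orderOf.mp hEp c
      have h2 : orderOf c = 1 := Nat.eq_one_of_dvd_coprimes (hc.pow_right i)
        (orderOf_dvd_of_pow_eq_one h1) (dvd_of_eq hi)
      rw [orderOf_eq_one_iff, hcd, inv_mul_eq_one] at h2
      exact h2.symm
    · intro j hj z _
      interval_cases j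
      show ((z : Ω))⁻¹ * ((actHom S E ⟨a, haN⟩ z : E) : Ω) ∈ P
      rw [actHom_apply]
      show (z : Ω)⁻¹ * (a * z * a⁻¹) ∈ P
      rw [← mul_assoc, ← mul_assoc]
      refine P.mul_mem ?_ (P.inv_mem haP)
      have h1 := (Subgroup.mem_normalizer_iff.mp (hPn (S.inv_mem (hES z.2))) a).mp haP
      rwa [inv_inv] at h1
  rcases TwoGroups.MetacyclicAut.classify (hEp.to_subgroup D₀) hDm hAut with ⟨⟨ψ⟩⟩ | ⟨n, ⟨ψ⟩⟩
  · exact ⟨DP, Or.inr ⟨eD.symm.trans ψ⟩⟩
  · by_contra hcon
    have hanP : (⟨a, haP⟩ : P) ∈ Subgroup.normalizer (DP : Set P) := Subgroup.mem_normalizer_fintype fun z hz =>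
      (Subgroup.mem_normalizer_iff.mp han (z : Ω)).mp hz
    obtain ⟨z, hz⟩ := not_forall.mp fun h => hnot h
    refine hcon ?_
    have hmap : frattini DP ≤ (frattini D₀).map eD.toMonoidHom := by
      intro u hu
      refine ⟨eD.symm u, ?_, eD.apply_symm_apply u⟩
      exact FGS3.map_frattini_le_of_surjective (f := eD.symm.toMonoidHom) eD.symm.surjective ⟨u, hu, rfl⟩
    have hx : ∀ h : (⟨a, haP⟩ : P) * ((eD z : DP) : P) * (⟨a, haP⟩ : P)⁻¹ ∈ DP,
        (eD z)⁻¹ * ⟨_, h⟩ ∉ frattini DP := by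
      intro h hmem
      obtain ⟨w, hw, he⟩ := hmap hmem
      refine hz ?_
      have hw' : eD w = eD (z⁻¹ * res ⟨actHom S E ⟨a, haN⟩, autInducedBy_le_autGroup hES
          ((range_actHom S E).le ⟨_, rfl⟩)⟩ z) := by
        rw [map_mul, map_inv]
        refine he.trans (congrArg _ (Subtype.ext (Subtype.ext ?_)))
        show a * ((z : E) : Ω) * a⁻¹ = ((actHom S E ⟨a, haN⟩ (z : E) : E) : Ω)
        rw [actHom_apply]; rfl
      exact eD.injective hw' ▸ hw
    obtain ⟨H, hH⟩ := exists_dihedral hPp hm DP (eD.symm.trans ψ) hanP haE ha2 (x := eD z) hx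
    exact ⟨H, Or.inl hH⟩

/-- A strongly closed metacyclic subgroup at the prime 2 outside the small list is normal. -/
theorem isNormal_metacyclic [Finite S] (hS : IsPGroup 2 S) (hF : F.IsSaturated 2) {P : Subgroup Ω}
    (hP : F.StronglyClosed P) (hm : IsMetacyclic P) (hd : ¬ ∃ m : ℕ, Nonempty (P ≃* DihedralGroup m))
    (hq : ¬ ∃ m : ℕ, Nonempty (P ≃* QuaternionGroup m)) (hsd : ¬ IsQuasiDihedral P) : F.IsNormal P := by
  haveI := Fact.mk Nat.prime_two
  haveI := finite_of_le hP.1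
  refine isNormal_of_stronglyClosed hS hF hP fun E hE => by_contra fun hPE => ?_
  have hr : SectionalPRankLE 2 2 P := fun H N _ A _ hA =>
    OddLocal.RankTwo.card_le_of_metacyclic
      (OddLocal.RankTwo.metacyclic_quotient (OddLocal.RankTwo.metacyclic_subgroup hm H) N) A hA
  rcases S4398.result (hS.to_le hP.1) hr (exists_sub_of_essential hS hF hP hm hE hPE) with
    ⟨k, h⟩ | ⟨k, hc, a, b, ha, hb, hab⟩ | ⟨k, h⟩
  · exact hd ⟨_, h⟩
  · exact hsd ⟨k + 3, by omega, hc, a, b, ha, hb, hab⟩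
  · exact hq ⟨_, h⟩

/-- Outside the small list a metacyclic 2-group carries the inner system only. -/
theorem eq_inner [Finite S] (hS : IsPGroup 2 S) (hF : F.IsSaturated 2) (hm : IsMetacyclic S)
    (hh : ¬ ∃ n k : ℕ, Nonempty (S ≃* Multiplicative (Fin k → ZMod (2 ^ n))))
    (hd : ¬ ∃ m : ℕ, Nonempty (S ≃* DihedralGroup m))
    (hq : ¬ ∃ m : ℕ, Nonempty (S ≃* QuaternionGroup m)) (hsd : ¬ IsQuasiDihedral S) :
    F = innerFusionSystem S := by
  haveI := Fact.mk Nat.prime_two
  have hN : F.IsNormal S := isNormal_metacyclic hS hF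
    (stronglyClosed_of_mor le_rfl fun _ _ hf _ hx _ => hf.map_mem hx) hm hd hq hsd
  have hA : IsPGroup 2 (MulAut S) := by
    by_contra hA
    rcases TwoGroups.MetacyclicAut.classify hS hm hA with h | ⟨n, ⟨ψ⟩⟩
    · exact hq ⟨2, h⟩
    · exact hh ⟨n, 2, ⟨ψ.trans (MulEquiv.prodMultiplicative (ZMod (2 ^ n)) (ZMod (2 ^ n))).symm |>.trans
        (AddEquiv.toMultiplicative (LinearEquiv.finTwoArrow ℤ (ZMod (2 ^ n))).symm.toAddEquiv)⟩⟩
  refine eq_inner_of hS hF (autGroup_self_le_inn hS hF (hA.to_subgroup _)) fun E hE => ?_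
  exact (essential_lt hS hF hE).not_ge (isNormal_le_centricRadical hS hN hE.1 (essential_radical hS hE))

end Cfsg.Agent.Fusion.MetacyclicTwo
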