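/-
Quadratic automorphisms in fusion systems.
-/
import Cfsg.Agent.Fusion.Saturation
import Cfsg.Agent.Fusion.Group
import Cfsg.Agent.Fusion.Local
import Cfsg.Agent.Core.Cores
import Cfsg.Prelude.Def_LocalEven
set_option autoImplicit false

namespace Cfsg.Agent.Fusion.PStable

open Cfsg Cfsg.FusionSystem

variable {Ω : Type*} [Group Ω] {S : Subgroup Ω} {F : FusionSystem S} {p : ℕ} [Fact p.Prime]

/-- The automorphism acts quadratically. -/
def Quad {A : Type*} [Group A] (χ : MulAut A) : Prop :=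
  ∀ a : A, (χ a⁻¹) * a * (χ a⁻¹) * (χ (χ a)) = 1

theorem Quad.fix {A : Type*} [Group A] {χ : MulAut A} (h : Quad χ) (a : A) :
    χ (a⁻¹ * χ a) = a⁻¹ * χ a := by
  have h1 := eq_inv_of_mul_eq_one_right (h a)
  rw [map_inv] at h1
  rw [map_mul, map_inv, h1]
  group

theorem Quad.pow {A : Type*} [Group A] {χ : MulAut A} (h : Quad χ) (a : A) (n : ℕ) :
    (χ ^ n) a = a * (a⁻¹ * χ a) ^ n := by
  induction n with
  | zero => simp
  | succ n ih =>
    rw [pow_succ', MulAut.mul_apply, ih, map_mul, map_pow, h.fix, pow_succ', ← mul_assoc,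
      mul_inv_cancel_left]

theorem Quad.pow_card {A : Type*} [Group A] {χ : MulAut A} (h : Quad χ) : χ ^ Nat.card A = 1 :=
  MulEquiv.ext fun a => by rw [h.pow, pow_card_eq_one', mul_one, MulAut.one_apply]

theorem Quad.map {A B : Type*} [Group A] [Group B] (e : A ≃* B) {χ : MulAut A} (h : Quad χ) :
    Quad (MulAut.congr e χ) := by
  intro b
  obtain ⟨a, rfl⟩ := e.surjective b
  have hh : ∀ c, MulAut.congr e χ (e c) = e (χ c) := fun c => by simp [MulAut.congr]
  rw [← map_inv, hh, hh, hh, ← map_mul, ← map_mul, ← map_mul, h a, map_one]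

/-- The automorphism lies in the `p`-core of the automizer. -/
def InCore (F : FusionSystem S) (p : ℕ) (Q : Subgroup Ω) (χ : MulAut Q) : Prop :=
  χ ∈ ((pCore p ↥(F.autGroup Q)).map (F.autGroup Q).subtype : Subgroup (MulAut ↥Q))

theorem InCore.transport {P Q : Subgroup Ω} {f : Ω → Ω} (h : Iso F f P Q) {χ : MulAut P}
    (hc : InCore F p Q (h.transport χ)) : InCore F p P χ := by
  obtain ⟨⟨β, hβ⟩, hβc, rfl⟩ := id hc
  let e : F.autGroup P ≃* F.autGroup Q :=
    (h.transport.subgroupMap (F.autGroup P)).trans (MulEquiv.subgroupCongr h.map_autGroup)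
  rw [← Core.pCore_map_equiv e] at hβc
  obtain ⟨α, hα, hαe⟩ := hβc
  refine ⟨α, hα, h.transport.injective ?_⟩
  exact congrArg Subtype.val hαe

/-- A system is `p`-stable as soon as it is so on fully normalized subgroups. -/
theorem inCore_of_fullyNormalized [Finite S]
    (hF : ∀ Q : Subgroup Ω, F.IsFullyNormalized Q → ∀ χ : MulAut ↥Q, χ ∈ F.autGroup Q → Quad χ →
      InCore F p Q χ) {Q : Subgroup Ω} (hQ : Q ≤ S) {χ : MulAut Q} (hχ : χ ∈ F.autGroup Q)
    (hq : Quad χ) : InCore F p Q χ := by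
  obtain ⟨Q', hQQ', hQ'⟩ := exists_fullyNormalized (F := F) hQ
  obtain ⟨f, hf⟩ := isConj_iff.mp hQQ'
  exact InCore.transport hf (hF Q' hQ' _ (hf.transport_mem hχ) (hq.map _))

/-- Passing to a smaller automizer. -/
theorem InCore.mono {T : Subgroup Ω} {E : FusionSystem T} {Q : Subgroup Ω}
    (hle : E.autGroup Q ≤ F.autGroup Q) {χ : MulAut Q} (hc : InCore F p Q χ)
    (hχ : χ ∈ E.autGroup Q) : InCore E p Q χ := by
  obtain ⟨β, hβ, hβχ⟩ := hc
  set i := Subgroup.inclusion hle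
  have hK : (pCore p ↥(F.autGroup Q)).comap i ≤ pCore p ↥(E.autGroup Q) :=
    Core.le_pCore inferInstance ((Core.isPGroup_pCore p _).comap_of_injective i
      (Subgroup.inclusion_injective hle))
  refine ⟨⟨χ, hχ⟩, hK ?_, rfl⟩
  have : i ⟨χ, hχ⟩ = β := Subtype.ext hβχ.symm
  show i ⟨χ, hχ⟩ ∈ pCore p ↥(F.autGroup Q)
  rw [this]; exact hβ

theorem normalizerSystem_autGroup_le {R : Subgroup Ω} {N : FusionSystem (normalizerIn S R)}
    (hN : F.IsNormalizerSystem R N) {Q : Subgroup Ω} (hQ : Q ≤ normalizerIn S R) :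
    N.autGroup Q ≤ F.autGroup Q := fun α hα => by
  rw [autGroup_set_eq hQ, hN] at hα
  exact (autGroup_set_eq (hQ.trans normalizerIn_le)).mpr hα.1

theorem inCore_of_cyclic [Finite S] (hS : IsPGroup p S) {Q : Subgroup Ω} (hQS : Q ≤ S)
    (hc : IsCyclic Q) {χ : MulAut Q} (hχ : χ ∈ F.autGroup Q) (hq : Quad χ) : InCore F p Q χ := by
  haveI := finite_of_le hQS
  obtain ⟨k, hk⟩ := IsPGroup.iff_card.mp (hS.to_le hQS)
  have hcomm : ∀ a b : F.autGroup Q, a * b = b * a := fun a b => Subtype.ext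
    ((IsCyclic.mulAutMulEquiv Q).injective (by rw [Subgroup.coe_mul, Subgroup.coe_mul, map_mul, map_mul, mul_comm]))
  refine ⟨⟨χ, hχ⟩, Core.le_pCore (N := Subgroup.zpowers ⟨χ, hχ⟩) ?_ ?_ (Subgroup.mem_zpowers _), rfl⟩
  · exact ⟨fun n hn g => by rwa [hcomm g n, mul_inv_cancel_right]⟩
  · rintro ⟨w, hw⟩
    obtain ⟨i, rfl⟩ := Subgroup.mem_zpowers_iff.mp hw
    refine ⟨k, Subtype.ext ?_⟩
    have h1 : (⟨χ, hχ⟩ : F.autGroup Q) ^ p ^ k = 1 := Subtype.ext (by
      rw [SubmonoidClass.coe_pow, ← hk]; exact hq.pow_card)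
    show ((⟨χ, hχ⟩ : F.autGroup Q) ^ i) ^ p ^ k = 1
    rw [← zpow_natCast, ← zpow_mul, mul_comm, zpow_mul, zpow_natCast, h1, one_zpow]

/-- The normalizer system of `Q` has the full automizer of `Q`. -/
theorem normalizerSystem_self [Finite S] {Q : Subgroup Ω} (hQS : Q ≤ S)
    {N : FusionSystem (normalizerIn S Q)} (hN : F.IsNormalizerSystem Q N) :
    N.IsFullyNormalized Q ∧ F.autGroup Q ≤ N.autGroup Q := by
  have hle : Q ≤ normalizerIn S Q := le_normalizerIn hQS
  refine ⟨⟨hle, fun R hR => ?_⟩, fun α hα => ?_⟩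
  · obtain ⟨φ, hφ, hφR⟩ := hR
    rw [hN] at hφ
    obtain ⟨-, -, -, ψ, -, hψ, hψQ⟩ := hφ
    have : R = Q := by
      refine Eq.trans ?_ hψQ
      rw [← hφR]
      ext y
      constructor
      · rintro ⟨x, rfl⟩
        exact ⟨Subgroup.inclusion le_sup_left x, x.2, hψ x⟩
      · rintro ⟨⟨x, hxm⟩, hx, rfl⟩
        exact ⟨⟨x, hx⟩, (hψ ⟨x, hx⟩).symm⟩
    rw [this]
  · rw [autGroup_set_eq hle, hN]
    have ha := autGroup_iso hQS hα
    have hm : Mor F (Q ⊔ Q) (extFun (Q.subtype.comp α.toMonoidHom)) :=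
      ha.mor.restrict (le_of_eq (sup_idem Q))
    refine ⟨(autGroup_set_eq hQS).mp hα, hle, fun x => hle (α x).2, hm.hom, hm.hom_mem,
      fun x => ?_, ?_⟩
    · show extFun (Q.subtype.comp α.toMonoidHom) (x : Ω) = _
      exact extFun_coe _ x
    · ext y
      constructor
      · rintro ⟨x, hx, rfl⟩
        exact ha.mapsTo hx
      · intro hy
        obtain ⟨x, hx, rfl⟩ := ha.surj hy
        exact ⟨⟨x, Subgroup.mem_sup_left hx⟩, hx, rfl⟩

/-- `p`-stability is detected on the normalizer systems of noncyclic subgroups. -/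
theorem pStable_iff_normalizer [Finite S] (hS : IsPGroup p S) :
    (∀ Q : Subgroup Ω, F.IsFullyNormalized Q → ∀ χ : MulAut ↥Q, χ ∈ F.autGroup Q → Quad χ →
      InCore F p Q χ) ↔
    ∀ R : Subgroup Ω, F.IsFullyNormalized R → ¬ IsCyclic ↥R →
      ∀ N : FusionSystem (normalizerIn S R), F.IsNormalizerSystem R N →
        ∀ Q : Subgroup Ω, N.IsFullyNormalized Q → ∀ χ : MulAut ↥Q, χ ∈ N.autGroup Q → Quad χ →
          InCore N p Q χ := by
  refine ⟨fun h R _ _ N hN Q hQ χ hχ hq => ?_, fun h Q hQ χ hχ hq => ?_⟩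
  · have hle := normalizerSystem_autGroup_le hN hQ.1
    exact (inCore_of_fullyNormalized h (hQ.1.trans normalizerIn_le) (hle hχ) hq).mono hle hχ
  · by_cases hc : IsCyclic Q
    · exact inCore_of_cyclic hS hQ.1 hc hχ hq
    · obtain ⟨N, hN⟩ := exists_normalizerSystem F Q hQ.1
      obtain ⟨hn, hge⟩ := normalizerSystem_self hQ.1 hN
      exact (h Q hQ hc N hN Q hn χ (hge hχ) hq).mono hge hχ

end Cfsg.Agent.Fusion.PStable

namespace Cfsg.Agent.Fusion.PStable

open Cfsg Cfsg.FusionSystem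

variable {G : Type*} [Group G]

theorem commutator_bot_iff {Q : Subgroup G} {g : G} (hg : g ∈ Subgroup.normalizer (Q : Set G))
    {χ : MulAut Q} (hχ : ∀ x : Q, ((χ x : Q) : G) = cj g x) :
    ⁅⁅Q, Subgroup.zpowers g⁆, Subgroup.zpowers g⁆ = ⊥ ↔ Quad χ := by
  rw [Subgroup.commutator_eq_bot_iff_le_centralizer, Subgroup.zpowers_eq_closure,
    Subgroup.centralizer_closure, ← Subgroup.zpowers_eq_closure, Subgroup.commutator_le]
  constructor
  · intro h a
    have h1 := Subgroup.mem_centralizer_singleton_iff.mp (h a a.2 g (Subgroup.mem_zpowers g))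
    refine Subtype.ext ?_
    simp only [Subgroup.coe_mul, map_inv, Subgroup.coe_inv, hχ, cj_apply, Subgroup.coe_one]
    rw [commutatorElement_def] at h1
    calc (g * (a : G) * g⁻¹)⁻¹ * a * (g * (a : G) * g⁻¹)⁻¹ * (g * (g * a * g⁻¹) * g⁻¹)
        = g * (a : G)⁻¹ * g⁻¹ * ((a : G) * g * (a : G)⁻¹ * g⁻¹)
            * (g * (g * a * g⁻¹) * g⁻¹) := by group
      _ = g * (a : G)⁻¹ * g⁻¹ * (((a : G) * g * (a : G)⁻¹ * g⁻¹) * g) * (g * a * g⁻¹) * g⁻¹ := by group
      _ = g * (a : G)⁻¹ * g⁻¹ * (g * ((a : G) * g * (a : G)⁻¹ * g⁻¹)) * (g * a * g⁻¹) * g⁻¹ := by rw [h1]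
      _ = 1 := by group
  · intro h a ha z hz
    obtain ⟨i, rfl⟩ := Subgroup.mem_zpowers_iff.mp hz
    have h1 := congrArg Subtype.val (h ⟨a, ha⟩)
    simp only [Subgroup.coe_mul, map_inv, Subgroup.coe_inv, hχ, cj_apply, Subgroup.coe_one] at h1
    have hc : Commute (a * g * a⁻¹) g := by
      have h1' : g * (g * a * g⁻¹) * g⁻¹ = (g * a * g⁻¹) * a⁻¹ * (g * a * g⁻¹) := by
        rw [eq_inv_of_mul_eq_one_right h1]; group
      have hd : g * (g * a * g⁻¹ * a⁻¹) * g⁻¹ = g * a * g⁻¹ * a⁻¹ := by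
        calc g * (g * a * g⁻¹ * a⁻¹) * g⁻¹
            = (g * (g * a * g⁻¹) * g⁻¹) * (g * a * g⁻¹)⁻¹ := by group
          _ = g * a * g⁻¹ * a⁻¹ := by rw [h1']; group
      have hd' : Commute (g * a * g⁻¹ * a⁻¹) g := (mul_inv_eq_iff_eq_mul.mp hd).symm
      rw [show a * g * a⁻¹ = (g * a * g⁻¹ * a⁻¹)⁻¹ * g by group]
      exact hd'.inv_left.mul_left (Commute.refl g)
    have h2 : Commute (a * g ^ i * a⁻¹) g := by
      rw [← conj_zpow]; exact hc.zpow_left i
    rw [Subgroup.mem_centralizer_singleton_iff, commutatorElement_def]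
    exact (h2.mul_left (((Commute.refl g).zpow_left i).inv_left)).eq

variable [Finite G] {p : ℕ} [Fact p.Prime]

/-- The image in `N(Q)/C(Q)` lies in the `p`-core iff the induced automorphism does. -/
theorem mk_mem_pCore_iff (T₀ : Sylow p G) {Q : Subgroup G} (hQ : Q ≤ (T₀ : Subgroup G)) {g : G}
    (hg : g ∈ Subgroup.normalizer (Q : Set G)) {χ : MulAut Q} (hχ : ∀ x : Q, ((χ x : Q) : G) = cj g x) :
    (QuotientGroup.mk (s := (Subgroup.centralizer (Q : Set G)).subgroupOf (Subgroup.normalizer (Q : Set G)))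
        (⟨g, hg⟩ : ↥(Subgroup.normalizer (Q : Set G)))) ∈
      pCore p (↥(Subgroup.normalizer (Q : Set G)) ⧸
        (Subgroup.centralizer (Q : Set G)).subgroupOf (Subgroup.normalizer (Q : Set G))) ↔
    χ ∈ (groupFusionSystem (T₀ : Subgroup G)).autGroup Q ∧
      InCore (groupFusionSystem (T₀ : Subgroup G)) p Q χ := by
  set N := Subgroup.normalizer (Q : Set G)
  set C := (Subgroup.centralizer (Q : Set G)).subgroupOf N
  let φ : N →* MulAut Q :=
    (actHom ⊤ Q).comp (Subgroup.inclusion (le_inf le_top le_rfl : N ≤ ⊤ ⊓ Subgroup.normalizer (Q : Set G)))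
  have hval : ∀ (n : N) (x : Q), ((φ n x : Q) : G) = cj (n : G) x := fun n x => actHom_apply ⊤ Q _ x
  have hker : φ.ker = C := by
    ext n
    rw [MonoidHom.mem_ker, Subgroup.mem_subgroupOf, Subgroup.mem_centralizer_iff]
    refine ⟨fun h x hx => ?_, fun h => MulEquiv.ext fun x => Subtype.ext ?_⟩
    · have := hval n ⟨x, hx⟩
      rw [h, MulAut.one_apply, cj_apply] at this
      exact (eq_mul_inv_iff_mul_eq.mp this)
    · rw [hval, cj_apply, MulAut.one_apply, ← h x x.2, mul_inv_cancel_right]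
  have hrange : φ.range = (groupFusionSystem (T₀ : Subgroup G)).autGroup Q := by
    rw [(groupFusion_inducedBy (T₀ : Subgroup G)).autGroup_eq hQ, ← range_actHom]
    refine le_antisymm (by rintro _ ⟨n, rfl⟩; exact ⟨_, rfl⟩) ?_
    rintro _ ⟨⟨n, hn⟩, rfl⟩
    exact ⟨⟨n, hn.2⟩, rfl⟩
  have hφg : φ ⟨g, hg⟩ = χ := MulEquiv.ext fun x => Subtype.ext ((hval _ x).trans (hχ x).symm)
  let e : N ⧸ C ≃* (groupFusionSystem (T₀ : Subgroup G)).autGroup Q :=
    ((QuotientGroup.quotientMulEquivOfEq hker.symm).trans (QuotientGroup.quotientKerEquivRange φ)).trans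
      (MulEquiv.subgroupCongr hrange)
  have he : ((e (QuotientGroup.mk (⟨g, hg⟩ : N)) : _) : MulAut Q) = χ := hφg
  constructor
  · intro h
    exact ⟨he ▸ (e _).2, e _, Core.pCore_map_equiv e ▸ Subgroup.mem_map_of_mem _ h, he⟩
  · rintro ⟨-, β, hβ, hβχ⟩
    have : e (QuotientGroup.mk (⟨g, hg⟩ : N)) = β := Subtype.ext (he.trans hβχ.symm)
    rw [← this, ← Core.pCore_map_equiv e] at hβ
    obtain ⟨z, hz, hze⟩ := hβ
    rwa [e.injective hze] at hz

/-- A group is `p`-stable in the normalizer form iff its fusion system is `p`-stable. -/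
theorem group_pStable_iff (T₀ : Sylow p G) :
    IsNormalizerPStable p G ↔
      ∀ Q : Subgroup G, (groupFusionSystem (T₀ : Subgroup G)).IsFullyNormalized Q → ∀ χ : MulAut ↥Q,
        χ ∈ (groupFusionSystem (T₀ : Subgroup G)).autGroup Q → Quad χ →
          InCore (groupFusionSystem (T₀ : Subgroup G)) p Q χ := by
  constructor
  · intro h Q hQ χ hχ hq
    rw [(groupFusion_inducedBy (T₀ : Subgroup G)).autGroup_eq hQ.1] at hχ
    obtain ⟨g, -, hg, eg⟩ := mem_autInducedBy.mp hχ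
    exact ((mk_mem_pCore_iff T₀ hQ.1 hg eg).mp
      (h Q (T₀.isPGroup'.to_le hQ.1) g hg ((commutator_bot_iff hg eg).mpr hq))).2
  · intro h P hP g hg hc
    obtain ⟨P', hP'⟩ := hP.exists_le_sylow
    obtain ⟨c, hc'⟩ := MulAction.exists_smul_eq G P' T₀
    set Q := P.map (MulAut.conj c).toMonoidHom
    have hQ : Q ≤ (T₀ : Subgroup G) := by
      rw [← hc', Sylow.coe_subgroup_smul]
      exact Subgroup.map_mono hP'
    have hN : (Subgroup.normalizer (P : Set G)).map (MulAut.conj c).toMonoidHom =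
        Subgroup.normalizer (Q : Set G) := Subgroup.map_equiv_normalizer_eq P (MulAut.conj c)
    have hgQ : MulAut.conj c g ∈ Subgroup.normalizer (Q : Set G) := hN ▸ Subgroup.mem_map_of_mem _ hg
    obtain ⟨χ, eχ⟩ : ∃ χ : MulAut Q, ∀ x : Q, ((χ x : Q) : G) = cj (MulAut.conj c g) x :=
      ⟨_, fun x => actHom_apply ⊤ Q ⟨_, trivial, hgQ⟩ x⟩
    have hq : Quad χ := (commutator_bot_iff hgQ eχ).mp (by
      rw [show Subgroup.zpowers (MulAut.conj c g) =
          (Subgroup.zpowers g).map (MulAut.conj c).toMonoidHom from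
        (MonoidHom.map_zpowers (MulAut.conj c).toMonoidHom g).symm,
        ← Subgroup.map_commutator, ← Subgroup.map_commutator, hc, Subgroup.map_bot])
    have hχ : χ ∈ (groupFusionSystem (T₀ : Subgroup G)).autGroup Q := by
      rw [(groupFusion_inducedBy (T₀ : Subgroup G)).autGroup_eq hQ]
      exact mem_autInducedBy.mpr ⟨_, trivial, hgQ, eχ⟩
    have hcore := (mk_mem_pCore_iff T₀ hQ hgQ eχ).mpr
      ⟨hχ, inCore_of_fullyNormalized h hQ hχ hq⟩
    let f : Subgroup.normalizer (P : Set G) ≃* Subgroup.normalizer (Q : Set G) :=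
      ((MulAut.conj c).subgroupMap _).trans (MulEquiv.subgroupCongr hN)
    have hC : ((Subgroup.centralizer (P : Set G)).subgroupOf (Subgroup.normalizer (P : Set G))).map
        f.toMonoidHom = (Subgroup.centralizer (Q : Set G)).subgroupOf (Subgroup.normalizer (Q : Set G)) := by
      ext y
      obtain ⟨n, rfl⟩ := f.surjective y
      have hmem : n ∈ (Subgroup.centralizer (P : Set G)).subgroupOf (Subgroup.normalizer (P : Set G)) ↔
          f n ∈ (Subgroup.centralizer (Q : Set G)).subgroupOf (Subgroup.normalizer (Q : Set G)) := by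
        rw [Subgroup.mem_subgroupOf, Subgroup.mem_subgroupOf, Subgroup.mem_centralizer_iff,
          Subgroup.mem_centralizer_iff]
        show _ ↔ ∀ h ∈ (Q : Set G), h * MulAut.conj c (n : G) = MulAut.conj c (n : G) * h
        constructor
        · rintro h _ ⟨x, hx, rfl⟩
          rw [MulEquiv.coe_toMonoidHom, ← map_mul, ← map_mul, h x hx]
        · intro h x hx
          apply (MulAut.conj c).injective
          rw [map_mul, map_mul]
          exact h _ ⟨x, hx, rfl⟩
      refine ⟨fun ⟨m, hm, e⟩ => ?_, fun h => ⟨n, hmem.mpr h, rfl⟩⟩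
      obtain rfl : m = n := f.injective e
      exact hmem.mp hm
    rw [← Core.pCore_map_equiv (QuotientGroup.congr _ _ f hC)] at hcore
    obtain ⟨z, hz, hze⟩ := hcore
    have : z = QuotientGroup.mk (⟨g, hg⟩ : Subgroup.normalizer (P : Set G)) :=
      (QuotientGroup.congr _ _ f hC).injective (hze.trans rfl)
    exact this ▸ hz

end Cfsg.Agent.Fusion.PStable
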