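/-
The quotient of a generalized quaternion group by its involution is dihedral.
-/
import Mathlib.GroupTheory.SpecificGroups.Quaternion
import Mathlib.GroupTheory.SpecificGroups.Dihedral
set_option autoImplicit false

namespace Cfsg.Agent.Fusion

/-- The projection of the quaternion group onto the dihedral group. -/
def quatToDihedral (n : ℕ) : QuaternionGroup n →* DihedralGroup n :=
  MonoidHom.mk'
    (fun q => match q with
      | .a i => .r (ZMod.castHom (dvd_mul_left n 2) (ZMod n) i)
      | .xa i => .sr (ZMod.castHom (dvd_mul_left n 2) (ZMod n) i))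
    (by
      rintro (i | i) (j | j) <;>
        simp [QuaternionGroup.a_mul_a, QuaternionGroup.a_mul_xa, QuaternionGroup.xa_mul_a,
          QuaternionGroup.xa_mul_xa, map_add, map_sub])

theorem quatToDihedral_surjective (n : ℕ) : Function.Surjective (quatToDihedral n) := by
  rintro (i | i)
  · obtain ⟨j, hj⟩ := ZMod.ringHom_surjective (ZMod.castHom (dvd_mul_left n 2) (ZMod n)) i
    exact ⟨.a j, congrArg DihedralGroup.r hj⟩
  · obtain ⟨j, hj⟩ := ZMod.ringHom_surjective (ZMod.castHom (dvd_mul_left n 2) (ZMod n)) i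
    exact ⟨.xa j, congrArg DihedralGroup.sr hj⟩

theorem quatToDihedral_eq_one_iff {n : ℕ} [NeZero n] (q : QuaternionGroup n) :
    quatToDihedral n q = 1 ↔ q * q = 1 := by
  have hn : n ≠ 0 := NeZero.ne n
  rcases q with i | i
  · show DihedralGroup.r _ = DihedralGroup.r 0 ↔ _
    rw [DihedralGroup.r.injEq, QuaternionGroup.a_mul_a]
    show _ ↔ QuaternionGroup.a (i + i) = QuaternionGroup.a 0
    rw [QuaternionGroup.a.injEq, ← ZMod.natCast_zmod_val i, map_natCast,
      ← Nat.cast_add, ZMod.natCast_eq_zero_iff, ZMod.natCast_eq_zero_iff, ← two_mul,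
      Nat.mul_dvd_mul_iff_left two_pos]
  · show DihedralGroup.sr _ = DihedralGroup.r 0 ↔ _
    rw [QuaternionGroup.xa_mul_xa]
    show _ ↔ QuaternionGroup.a _ = QuaternionGroup.a 0
    simp only [reduceCtorEq, false_iff, QuaternionGroup.a.injEq, add_sub_cancel_right]
    rw [ZMod.natCast_eq_zero_iff]
    intro h
    have := Nat.le_of_dvd (Nat.pos_of_ne_zero hn) h
    omega

end Cfsg.Agent.Fusion
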