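/-
Coordinates for a rank two `p`-group (`p ≥ 5`) whose elements of order `p` form an extraspecial
group `E` of order `p³`.
-/
import Cfsg.Agent.Fusion.Normal
import Cfsg.Agent.Fusion.Saturation
import Cfsg.Agent.OddLocal.UniqueSubgroup
set_option autoImplicit false

namespace Cfsg.Agent.Fusion.RankTwoP5

open Cfsg Cfsg.FusionSystem

variable {Ω : Type*} [Group Ω]

/-- Coordinates. -/
structure Ctx (p : ℕ) (S E : Subgroup Ω) (y a z : Ω) : Prop where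
  hE : E ≤ S
  hn : S ≤ Subgroup.normalizer (E : Set Ω)
  small : ∀ x ∈ S, x ^ p = 1 → x ∈ E
  exp : ∀ x ∈ E, x ^ p = 1
  z1 : z ≠ 1
  yE : y ∈ E
  aE : a ∈ E
  zE : z ∈ E
  zc : ∀ g ∈ S, Commute z g
  ay : a * y = y * a * z
  gen : ∀ x ∈ E, ∃ i j k : ℤ, x = y ^ i * a ^ j * z ^ k
  uniq : ∀ i j k : ℤ, y ^ i * a ^ j * z ^ k = 1 → (p : ℤ) ∣ i ∧ (p : ℤ) ∣ j ∧ (p : ℤ) ∣ k
  shape : ∀ g ∈ S, ∃ i k l : ℤ, g * y * g⁻¹ = y * a ^ i * z ^ k ∧ g * a * g⁻¹ = a * z ^ l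

/-- `g` acts on `E` with coordinates `(i, k, l)`. -/
def Acts (y a z g : Ω) (i k l : ℤ) : Prop := g * y * g⁻¹ = y * a ^ i * z ^ k ∧ g * a * g⁻¹ = a * z ^ l

variable {S E : Subgroup Ω} {y a z : Ω} {p : ℕ} [hp : Fact p.Prime]

namespace Ctx

variable (h : Ctx p S E y a z)
include h

theorem zp : z ^ p = 1 := h.exp z h.zE

theorem zk {x : Ω} (hx : x ∈ S) (k : ℤ) : Commute (z ^ k) x := (h.zc x hx).zpow_left k

theorem pow_congr {x : Ω} (hx : x ∈ E) {e f : ℤ} (hd : (p : ℤ) ∣ f - e) : x ^ e = x ^ f := by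
  obtain ⟨m, hm⟩ := hd
  rw [show f = e + (p : ℤ) * m by omega, zpow_add, zpow_mul, zpow_natCast, h.exp x hx, one_zpow, mul_one]

theorem swap1 (j : ℤ) : a ^ j * y = y * a ^ j * z ^ j := by
  have h1 : y⁻¹ * a * y = a * z := by rw [mul_assoc, h.ay]; group
  calc a ^ j * y = y * (y⁻¹ * a * y⁻¹⁻¹) ^ j := by rw [conj_zpow]; group
    _ = y * (a * z) ^ j := by rw [inv_inv, h1]
    _ = y * a ^ j * z ^ j := by
      rw [(show Commute a z from (h.zc a (h.hE h.aE)).symm).mul_zpow, mul_assoc]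

theorem swap (i j : ℤ) : a ^ j * y ^ i = y ^ i * a ^ j * z ^ (i * j) := by
  have h2 : a ^ j * y * (a ^ j)⁻¹ = y * z ^ j := by
    rw [h.swap1, mul_assoc (y * a ^ j), (h.zk (S.inv_mem (S.zpow_mem (h.hE h.aE) j)) j).eq]; group
  calc a ^ j * y ^ i = (a ^ j * y * (a ^ j)⁻¹) ^ i * a ^ j := by rw [conj_zpow]; group
    _ = (y * z ^ j) ^ i * a ^ j := by rw [h2]
    _ = y ^ i * z ^ (i * j) * a ^ j := by
      rw [(show Commute y (z ^ j) from (h.zk (h.hE h.yE) j).symm).mul_zpow, ← zpow_mul, mul_comm j i]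
    _ = _ := by rw [mul_assoc, (h.zk (S.zpow_mem (h.hE h.aE) j) _).eq, mul_assoc]

theorem mul_nf (i j k i' j' k' : ℤ) :
    y ^ i * a ^ j * z ^ k * (y ^ i' * a ^ j' * z ^ k') =
      y ^ (i + i') * a ^ (j + j') * z ^ (k + k' + i' * j) := by
  calc y ^ i * a ^ j * z ^ k * (y ^ i' * a ^ j' * z ^ k')
      = y ^ i * a ^ j * (z ^ k * (y ^ i' * a ^ j')) * z ^ k' := by group
    _ = y ^ i * a ^ j * ((y ^ i' * a ^ j') * z ^ k) * z ^ k' := by
      rw [(h.zk (S.mul_mem (S.zpow_mem (h.hE h.yE) i') (S.zpow_mem (h.hE h.aE) j')) k).eq]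
    _ = y ^ i * (a ^ j * y ^ i') * a ^ j' * z ^ k * z ^ k' := by group
    _ = y ^ i * y ^ i' * a ^ j * (z ^ (i' * j) * a ^ j') * z ^ k * z ^ k' := by rw [h.swap]; group
    _ = y ^ (i + i') * a ^ (j + j') * z ^ (k + k' + i' * j) := by
      rw [(h.zk (S.zpow_mem (h.hE h.aE) j') _).eq, zpow_add y, zpow_add a,
        show k + k' + i' * j = i' * j + k + k' by ring, zpow_add z, zpow_add z]
      group

theorem nf_eq {i j k i' j' k' : ℤ} (e : y ^ i * a ^ j * z ^ k = y ^ i' * a ^ j' * z ^ k') :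
    (p : ℤ) ∣ i - i' ∧ (p : ℤ) ∣ j - j' ∧ (p : ℤ) ∣ k - k' := by
  have e1 := h.mul_nf i j k (-i') (-j') (-k' + j' * i' )
  have e2 := h.mul_nf i' j' k' (-i') (-j') (-k' + j' * i')
  rw [e] at e1
  rw [e1, show i' + -i' = 0 by ring, show j' + -j' = 0 by ring,
    show k' + (-k' + j' * i') + -i' * j' = 0 by ring, zpow_zero, zpow_zero, zpow_zero, one_mul, one_mul] at e2
  obtain ⟨⟨u, hu⟩, ⟨v, hv⟩, ⟨w, hw⟩⟩ := h.uniq _ _ _ e2
  exact ⟨⟨u, by linarith⟩, ⟨v, by linarith⟩, ⟨w + i' * v, by linear_combination hw + i' * hv⟩⟩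

theorem center_mem {x : Ω} (hx : x ∈ E) (hy : Commute x y) (ha : Commute x a) :
    ∃ k : ℤ, x = z ^ k := by
  obtain ⟨i, j, k, rfl⟩ := h.gen x hx
  have e1 : y ^ i * a ^ j * z ^ k * (y ^ (1 : ℤ) * a ^ (0 : ℤ) * z ^ (0 : ℤ)) =
      y ^ (1 : ℤ) * a ^ (0 : ℤ) * z ^ (0 : ℤ) * (y ^ i * a ^ j * z ^ k) := by simpa using hy.eq
  have e2 : y ^ i * a ^ j * z ^ k * (y ^ (0 : ℤ) * a ^ (1 : ℤ) * z ^ (0 : ℤ)) =
      y ^ (0 : ℤ) * a ^ (1 : ℤ) * z ^ (0 : ℤ) * (y ^ i * a ^ j * z ^ k) := by simpa using ha.eq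
  rw [h.mul_nf, h.mul_nf] at e1 e2
  obtain ⟨u, hu⟩ := (h.nf_eq e1).2.2
  obtain ⟨v, hv⟩ := (h.nf_eq e2).2.2
  refine ⟨k, ?_⟩
  rw [h.pow_congr h.yE (e := i) (f := 0) ⟨v, by linear_combination hv⟩,
    h.pow_congr h.aE (e := j) (f := 0) ⟨-u, by linear_combination -hu⟩, zpow_zero, zpow_zero, one_mul, one_mul]

theorem conj_nf {g : Ω} (hg : g ∈ S) {i k l : ℤ} (hA : Acts y a z g i k l) (u v w : ℤ) :
    ∃ m : ℤ, g * (y ^ u * a ^ v * z ^ w) * g⁻¹ = y ^ u * a ^ (i * u + v) * z ^ m := by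
  have ha : g * a ^ v * g⁻¹ = a ^ v * z ^ (l * v) := by
    rw [← conj_zpow, hA.2, (show Commute a (z ^ l) from (h.zk (h.hE h.aE) l).symm).mul_zpow, ← zpow_mul]
  have hz : g * z ^ w * g⁻¹ = z ^ w := by
    rw [← (h.zk hg w).eq, mul_inv_cancel_right]
  have hy : ∀ u : ℕ, ∃ m : ℤ, g * y ^ u * g⁻¹ = y ^ (u : ℤ) * a ^ (i * u) * z ^ m := by
    intro u
    induction u with
    | zero => exact ⟨0, by simp⟩
    | succ u ih =>
      obtain ⟨m, hm⟩ := ih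
      refine ⟨m + k + 1 * (i * u), ?_⟩
      calc g * y ^ (u + 1) * g⁻¹ = (g * y ^ u * g⁻¹) * (g * y * g⁻¹) := by group
        _ = y ^ (u : ℤ) * a ^ (i * u) * z ^ m * (y ^ (1 : ℤ) * a ^ i * z ^ k) := by rw [hm, hA.1, zpow_one]
        _ = _ := by rw [h.mul_nf]; congr 3; push_cast; ring
  obtain ⟨u', hu'⟩ : ∃ u' : ℕ, (p : ℤ) ∣ (u' : ℤ) - u := ⟨(u % p).toNat, by
    rw [Int.toNat_of_nonneg (Int.emod_nonneg u (by exact_mod_cast hp.out.ne_zero))]
    exact ⟨-(u / p), by rw [Int.emod_def]; ring⟩⟩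
  obtain ⟨m, hm⟩ := hy u'
  refine ⟨m + (l * v + w) + 0 * (i * u'), ?_⟩
  have hyu : y ^ u = y ^ (u' : ℤ) := h.pow_congr h.yE hu'
  calc g * (y ^ u * a ^ v * z ^ w) * g⁻¹
      = (g * y ^ u' * g⁻¹) * ((g * a ^ v * g⁻¹) * (g * z ^ w * g⁻¹)) := by rw [hyu, zpow_natCast]; group
    _ = y ^ (u' : ℤ) * a ^ (i * u') * z ^ m * (y ^ (0 : ℤ) * a ^ v * z ^ (l * v + w)) := by
      rw [hm, ha, hz, zpow_zero, one_mul, zpow_add, mul_assoc (a ^ v)]
    _ = _ := by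
      rw [h.mul_nf, add_zero, hyu]
      congr 2
      refine h.pow_congr h.aE ?_
      obtain ⟨t, ht⟩ := hu'
      exact ⟨-(i * t), by linear_combination -i * ht⟩

theorem acts_pow {g : Ω} (hg : g ∈ S) {i k l : ℤ} (hA : Acts y a z g i k l) (n : ℕ) :
    Acts y a z (g ^ n) (i * n) (k * n + i * l * (n.choose 2 : ℕ)) (l * n) := by
  induction n with
  | zero => simp [Acts]
  | succ n ih =>
    have hz : ∀ w : ℤ, g * z ^ w * g⁻¹ = z ^ w := fun w => by rw [← (h.zk hg w).eq, mul_inv_cancel_right]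
    have ha : ∀ v : ℤ, g * a ^ v * g⁻¹ = a ^ v * z ^ (l * v) := fun v => by
      rw [← conj_zpow, hA.2, (show Commute a (z ^ l) from (h.zk (h.hE h.aE) l).symm).mul_zpow, ← zpow_mul]
    constructor
    · calc g ^ (n + 1) * y * (g ^ (n + 1))⁻¹ = g * (g ^ n * y * (g ^ n)⁻¹) * g⁻¹ := by group
        _ = (g * y * g⁻¹) * (g * a ^ (i * n) * g⁻¹) * (g * z ^ (k * n + i * l * (n.choose 2 : ℕ)) * g⁻¹) := by
          rw [ih.1]; group
        _ = y * (a ^ i * (z ^ k * a ^ (i * n))) * z ^ (l * (i * n)) * z ^ (k * n + i * l * (n.choose 2 : ℕ)) := by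
          rw [hA.1, ha, hz]; group
        _ = _ := by
          rw [(h.zk (S.zpow_mem (h.hE h.aE) _) k).eq, ← mul_assoc (a ^ i), ← zpow_add, ← mul_assoc,
            mul_assoc, mul_assoc, ← zpow_add, ← zpow_add]
          rw [Nat.choose_succ_succ' n 1, Nat.choose_one_right]
          congr 2 <;> push_cast <;> ring_nf
    · calc g ^ (n + 1) * a * (g ^ (n + 1))⁻¹ = g * (g ^ n * a * (g ^ n)⁻¹) * g⁻¹ := by group
        _ = (g * a * g⁻¹) * (g * z ^ (l * n) * g⁻¹) := by rw [ih.2]; group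
        _ = _ := by rw [hA.2, hz, mul_assoc, ← zpow_add]; congr 2; push_cast; ring

theorem centralizes {g : Ω} (hy : g * y * g⁻¹ = y) (ha : g * a * g⁻¹ = a) (hg : g ∈ S) :
    g ∈ centralizerIn S E := by
  refine ⟨hg, fun x hx => ?_⟩
  obtain ⟨i, j, k, rfl⟩ := h.gen x hx
  exact ((((show Commute g y from mul_inv_eq_iff_eq_mul.mp hy).zpow_right i).mul_right
    ((show Commute g a from mul_inv_eq_iff_eq_mul.mp ha).zpow_right j)).mul_right (h.zk hg k).symm).symm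

theorem pow_mem_centralizer (hp2 : p ≠ 2) {g : Ω} (hg : g ∈ S) : g ^ p ∈ centralizerIn S E := by
  obtain ⟨i, k, l, hA⟩ := h.shape g hg
  obtain ⟨h1, h2⟩ := h.acts_pow hg hA p
  have hc2 : (p : ℤ) ∣ ((p.choose 2 : ℕ) : ℤ) :=
    Int.natCast_dvd_natCast.mpr (hp.out.dvd_choose_self (by norm_num) (by have := hp.out.two_le; omega))
  refine h.centralizes ?_ ?_ (S.pow_mem hg p)
  · rw [h1, h.pow_congr h.aE (f := 0) ((dvd_mul_left (p : ℤ) i).neg_right.trans (by simp)),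
      h.pow_congr h.zE (f := 0) (by
        simpa using ((dvd_mul_left (p : ℤ) k).add (hc2.mul_left (i * l))).neg_right),
      zpow_zero, zpow_zero, mul_one, mul_one]
  · rw [h2, h.pow_congr h.zE (f := 0) (by simpa using (dvd_mul_left (p : ℤ) l).neg_right), zpow_zero, mul_one]

theorem centralizer_omega {x : Ω} (hx : x ∈ centralizerIn S E) (hxp : x ^ p = 1) : ∃ k : ℤ, x = z ^ k :=
  h.center_mem (h.small x hx.1 hxp) ((hx.2 y h.yE).symm) ((hx.2 a h.aE).symm)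

/-- The socle of an element of order at least `p²` lies in `⟨z⟩`. -/
theorem socle (hS : IsPGroup p S) (hp2 : p ≠ 2) {u : Ω} (hu : u ∈ S) (hu1 : u ^ p ≠ 1) :
    ∃ m : ℕ, p ∣ m ∧ u ^ m ≠ 1 ∧ (u ^ m) ^ p = 1 ∧ ∃ k : ℤ, u ^ m = z ^ k := by
  obtain ⟨e, he⟩ := IsPGroup.iff_orderOf.mp hS ⟨u, hu⟩
  rw [Subgroup.orderOf_mk] at he
  obtain ⟨e, rfl⟩ : ∃ e', e = e' + 2 := ⟨e - 2, by
    rcases e with _ | _ | e
    · exact absurd (orderOf_dvd_iff_pow_eq_one.mp (he ▸ (pow_zero p ▸ one_dvd p))) hu1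
    · exact absurd (orderOf_dvd_iff_pow_eq_one.mp (he.trans (pow_one p) ▸ dvd_rfl)) hu1
    · omega⟩
  refine ⟨p ^ (e + 1), dvd_pow_self p e.succ_ne_zero, ?_, ?_, h.centralizer_omega ?_ ?_⟩
  · intro e'
    have := orderOf_dvd_of_pow_eq_one e'
    rw [he, Nat.pow_dvd_pow_iff_le_right hp.out.one_lt] at this
    omega
  · rw [← pow_mul, ← pow_succ, ← he, pow_orderOf_eq_one]
  · rw [pow_succ', pow_mul]
    exact (centralizerIn S E).pow_mem (h.pow_mem_centralizer hp2 hu) _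
  · rw [← pow_mul, ← pow_succ, ← he, pow_orderOf_eq_one]

theorem cyclic [Finite S] (hS : IsPGroup p S) (hp2 : p ≠ 2) :
    ∃ c ∈ centralizerIn S E, ∀ x ∈ centralizerIn S E, ∃ k : ℤ, x = c ^ k := by
  haveI := finite_of_le (centralizerIn_le : centralizerIn S E ≤ S)
  have hu : OddLocal.UniqueOrderP p (centralizerIn S E) := by
    intro u v hu hv hu1
    obtain ⟨i, hi⟩ := h.centralizer_omega u.2 (by rw [← SubmonoidClass.coe_pow, hu]; rfl)
    obtain ⟨j, hj⟩ := h.centralizer_omega v.2 (by rw [← SubmonoidClass.coe_pow, hv]; rfl)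
    have hip : ¬ (p : ℤ) ∣ i := fun hd => hu1 (Subtype.ext (by
      rw [hi, h.pow_congr h.zE (f := 0) (by simpa using hd.neg_right), zpow_zero]; rfl))
    obtain ⟨r, q, hrq⟩ := (Nat.prime_iff_prime_int.mp hp.out).coprime_iff_not_dvd.mpr hip
    refine Subgroup.mem_zpowers_iff.mpr ⟨q * j, Subtype.ext ?_⟩
    rw [Subgroup.coe_zpow, hi, hj, ← zpow_mul]
    exact h.pow_congr h.zE ⟨r * j, by linear_combination -j * hrq⟩
  obtain ⟨⟨c, hc⟩, hg⟩ := (OddLocal.isCyclic_of_uniqueOrderP _ (hS.to_le centralizerIn_le) hu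
    (Or.inl hp2) le_rfl).exists_generator
  refine ⟨c, hc, fun x hx => ?_⟩
  obtain ⟨k, hk⟩ := Subgroup.mem_zpowers_iff.mp (hg ⟨x, hx⟩)
  exact ⟨k, (congrArg Subtype.val hk).symm⟩

theorem acts_y_a (u v : ℤ) : Acts y a z (y ^ u * a ^ v) 0 v (-u) := by
  constructor
  · calc y ^ u * a ^ v * y * (y ^ u * a ^ v)⁻¹
        = y ^ u * (a ^ v * y) * (a ^ v)⁻¹ * (y ^ u)⁻¹ := by group
      _ = y ^ u * y * a ^ v * (z ^ v * (a ^ v)⁻¹) * (y ^ u)⁻¹ := by rw [h.swap1]; group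
      _ = y ^ u * y * (z ^ v * (y ^ u)⁻¹) := by
        rw [(h.zk (S.inv_mem (S.zpow_mem (h.hE h.aE) v)) v).eq]; group
      _ = _ := by rw [(h.zk (S.inv_mem (S.zpow_mem (h.hE h.yE) u)) v).eq]; group
  · have e : a * y ^ u = y ^ u * a * z ^ u := by
      have := h.swap u 1
      rwa [zpow_one, mul_one] at this
    calc y ^ u * a ^ v * a * (y ^ u * a ^ v)⁻¹ = y ^ u * a * (y ^ u)⁻¹ := by group
      _ = (y ^ u * a * z ^ u) * z ^ (-u) * (y ^ u)⁻¹ := by group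
      _ = a * (y ^ u * (z ^ (-u) * (y ^ u)⁻¹)) := by rw [← e]; group
      _ = _ := by rw [(h.zk (S.inv_mem (S.zpow_mem (h.hE h.yE) u)) (-u)).eq]; group

theorem acts_mul {g g' : Ω} (hg : g ∈ S) {k i' k' l l' : ℤ} (hA : Acts y a z g 0 k l)
    (hA' : Acts y a z g' i' k' l') : Acts y a z (g * g') i' (k + k' + l * i') (l + l') := by
  have hz : ∀ w : ℤ, g * z ^ w * g⁻¹ = z ^ w := fun w => by rw [← (h.zk hg w).eq, mul_inv_cancel_right]
  have ha : ∀ v : ℤ, g * a ^ v * g⁻¹ = a ^ v * z ^ (l * v) := fun v => by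
    rw [← conj_zpow, hA.2, (show Commute a (z ^ l) from (h.zk (h.hE h.aE) l).symm).mul_zpow, ← zpow_mul]
  constructor
  · calc g * g' * y * (g * g')⁻¹ = g * (g' * y * g'⁻¹) * g⁻¹ := by group
      _ = (g * y * g⁻¹) * (g * a ^ i' * g⁻¹) * (g * z ^ k' * g⁻¹) := by rw [hA'.1]; group
      _ = y * (z ^ k * a ^ i') * z ^ (l * i') * z ^ k' := by rw [hA.1, ha, hz]; group
      _ = _ := by
        rw [(h.zk (S.zpow_mem (h.hE h.aE) i') k).eq, ← mul_assoc, mul_assoc, mul_assoc, ← zpow_add, ← zpow_add]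
        congr 2; ring
  · calc g * g' * a * (g * g')⁻¹ = g * (g' * a * g'⁻¹) * g⁻¹ := by group
      _ = (g * a * g⁻¹) * (g * z ^ l' * g⁻¹) := by rw [hA'.2]; group
      _ = _ := by rw [hA.2, hz, mul_assoc, ← zpow_add]

theorem inv_mem_of_eq {g u : Ω} (hg : g ∈ S) (hu : u ∈ S) {i k l : ℤ} (h1 : Acts y a z g i k l)
    (h2 : Acts y a z u i k l) : u⁻¹ * g ∈ centralizerIn S E := by
  refine h.centralizes ?_ ?_ (S.mul_mem (S.inv_mem hu) hg)
  · calc u⁻¹ * g * y * (u⁻¹ * g)⁻¹ = u⁻¹ * (g * y * g⁻¹) * u := by group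
      _ = u⁻¹ * (u * y * u⁻¹) * u := by rw [h1.1, h2.1]
      _ = y := by group
  · calc u⁻¹ * g * a * (u⁻¹ * g)⁻¹ = u⁻¹ * (g * a * g⁻¹) * u := by group
      _ = u⁻¹ * (u * a * u⁻¹) * u := by rw [h1.2, h2.2]
      _ = a := by group

/-- Every shape with a realized `a`-exponent is realized, by an element of `E` times a power. -/
theorem realize {s : Ω} (hs : s ∈ S) {w₁ w₂ : ℤ} (hsA : Acts y a z s 1 w₁ w₂) (i k l : ℤ) :
    ∃ m : ℕ, (p : ℤ) ∣ (m : ℤ) - i ∧ ∃ e ∈ E, Acts y a z (e * s ^ m) i k l := by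
  obtain ⟨m, hm⟩ : ∃ m : ℕ, (p : ℤ) ∣ (m : ℤ) - i := ⟨(i % p).toNat, by
    rw [Int.toNat_of_nonneg (Int.emod_nonneg i (by exact_mod_cast hp.out.ne_zero))]
    exact ⟨-(i / p), by rw [Int.emod_def]; ring⟩⟩
  have h1 := h.acts_pow hs hsA m
  rw [one_mul, one_mul] at h1
  set K : ℤ := w₁ * m + w₂ * (m.choose 2 : ℕ)
  refine ⟨m, hm, y ^ (w₂ * m - l) * a ^ (k - K - (l - w₂ * m) * m), ?_, ?_⟩
  · exact E.mul_mem (E.zpow_mem h.yE _) (E.zpow_mem h.aE _)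
  · have h2 := h.acts_mul (S.mul_mem (S.zpow_mem (h.hE h.yE) _) (S.zpow_mem (h.hE h.aE) _))
      (h.acts_y_a (w₂ * m - l) (k - K - (l - w₂ * m) * m)) h1
    rw [show k - K - (l - w₂ * m) * m + K + -(w₂ * m - l) * (m : ℤ) = k by ring,
      show -(w₂ * m - l) + w₂ * (m : ℤ) = l by ring] at h2
    exact ⟨by rw [h2.1]; congr 2; exact h.pow_congr h.aE ((dvd_neg.mpr hm).trans (by simp)), h2.2⟩

/-- The `p`-th power of a coset of `E`. -/
theorem pow_p (h5 : 5 ≤ p) {e u : Ω} (he : e ∈ E) (hu : u ∈ S) : (e * u) ^ p = u ^ p := by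
  obtain ⟨i, k, l, hA⟩ := h.shape u hu
  obtain ⟨α, β, γ, rfl⟩ := h.gen e he
  set e := y ^ α * a ^ β * z ^ γ with he'
  obtain ⟨m, hm⟩ := h.conj_nf hu hA α β γ
  have hq : ∃ q r : ℤ, u * e * u⁻¹ = e * a ^ q * z ^ r := by
    refine ⟨i * α, m - γ, ?_⟩
    rw [hm, he']
    calc y ^ α * a ^ (i * α + β) * z ^ m = y ^ α * a ^ β * (a ^ (i * α) * z ^ γ) * z ^ (m - γ) := by
          rw [show i * α + β = β + i * α by ring, zpow_add a]; group
      _ = _ := by rw [← (h.zk (S.zpow_mem (h.hE h.aE) (i * α)) γ).eq]; group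
  obtain ⟨q, r, hqr⟩ := hq
  have hv : ∃ v : ℤ, a * e = e * a * z ^ v := by
    refine ⟨α, ?_⟩
    have e1 := h.mul_nf 0 1 0 α β γ
    have e2 := h.mul_nf α β γ 0 1 0
    simp only [zpow_zero, zpow_one, one_mul, mul_one] at e1 e2
    rw [e1, e2, mul_assoc (y ^ _ * a ^ _), ← zpow_add z]
    simp only [zero_add, add_zero]
    rw [add_comm 1 β]
    congr 2; ring
  obtain ⟨v, hv⟩ := hv
  have hav : ∀ j : ℕ, a ^ (j : ℤ) * e = e * a ^ (j : ℤ) * z ^ (v * j) := by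
    intro j
    induction j with
    | zero => simp
    | succ j ih =>
      rw [zpow_natCast] at ih ⊢
      calc a ^ (j + 1) * e = a ^ j * (a * e) := by group
        _ = (a ^ j * e) * a * z ^ v := by rw [hv]; group
        _ = e * a ^ j * (z ^ (v * j) * a) * z ^ v := by rw [ih]; group
        _ = _ := by
          rw [(h.zk (h.hE h.aE) _).eq, pow_succ, Nat.cast_succ, mul_add, mul_one, zpow_add]; group
  have ha : ∀ w : ℤ, u * a ^ w * u⁻¹ = a ^ w * z ^ (l * w) := fun w => by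
    rw [← conj_zpow, hA.2, (show Commute a (z ^ l) from (h.zk (h.hE h.aE) l).symm).mul_zpow, ← zpow_mul]
  have hz : ∀ w : ℤ, u * z ^ w * u⁻¹ = z ^ w := fun w => by rw [← (h.zk hu w).eq, mul_inv_cancel_right]
  have heS : e ∈ S := h.hE he
  have haS : ∀ j : ℤ, a ^ j ∈ S := fun j => S.zpow_mem (h.hE h.aE) j
  have hconj : ∀ n : ℕ, u ^ n * e * (u ^ n)⁻¹ = e * a ^ (q * n) * z ^ (r * n + q * l * (n.choose 2 : ℕ)) := by
    intro n
    induction n with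
    | zero => simp
    | succ n ih =>
      calc u ^ (n + 1) * e * (u ^ (n + 1))⁻¹ = u * (u ^ n * e * (u ^ n)⁻¹) * u⁻¹ := by group
        _ = (u * e * u⁻¹) * (u * a ^ (q * n) * u⁻¹) * (u * z ^ (r * n + q * l * (n.choose 2 : ℕ)) * u⁻¹) := by
          rw [ih]; group
        _ = e * (a ^ q * (z ^ r * a ^ (q * n))) * z ^ (l * (q * n)) * z ^ (r * n + q * l * (n.choose 2 : ℕ)) := by
          rw [hqr, ha, hz]; group
        _ = _ := by
          rw [(h.zk (haS _) r).eq, ← mul_assoc (a ^ q), ← zpow_add, ← mul_assoc, mul_assoc, mul_assoc,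
            ← zpow_add, ← zpow_add, Nat.choose_succ_succ' n 1, Nat.choose_one_right]
          congr 2 <;> push_cast <;> ring_nf
  obtain ⟨q', hq'⟩ : ∃ q' : ℕ, (p : ℤ) ∣ (q' : ℤ) - q := ⟨(q % p).toNat, by
    rw [Int.toNat_of_nonneg (Int.emod_nonneg q (by exact_mod_cast hp.out.ne_zero))]
    exact ⟨-(q / p), by rw [Int.emod_def]; ring⟩⟩
  have hprod : ∀ n : ℕ, (e * u) ^ n = e ^ n * a ^ (q * (n.choose 2 : ℕ)) *
      z ^ (r * (n.choose 2 : ℕ) + (q * l + v * q') * (n.choose 3 : ℕ)) * u ^ n := by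
    intro n
    induction n with
    | zero => simp
    | succ n ih =>
      have hA2 : a ^ (q * (n.choose 2 : ℕ)) * e =
          e * a ^ (q * (n.choose 2 : ℕ)) * z ^ (v * (q' * (n.choose 2 : ℕ))) := by
        have he2 : a ^ (q * (n.choose 2 : ℕ)) = a ^ (((q' * n.choose 2 : ℕ)) : ℤ) := by
          refine h.pow_congr h.aE ?_
          push_cast
          rw [← sub_mul]
          exact hq'.mul_right _
        have := hav (q' * n.choose 2)
        rw [← he2] at this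
        rw [this]; push_cast; rfl
      have hcn := hconj n
      set A2 := a ^ (q * (n.choose 2 : ℕ)) with dA2
      set Z2 := z ^ (r * (n.choose 2 : ℕ) + (q * l + v * q') * (n.choose 3 : ℕ)) with dZ2
      set Zn := z ^ (r * n + q * l * (n.choose 2 : ℕ)) with dZn
      clear_value A2 Z2 Zn
      calc (e * u) ^ (n + 1) = (e * u) ^ n * (e * u) := pow_succ _ _
        _ = e ^ n * A2 * Z2 * ((u ^ n * e * (u ^ n)⁻¹) * u ^ (n + 1)) := by rw [ih]; group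
        _ = e ^ n * A2 * (Z2 * (e * a ^ (q * n))) * Zn * u ^ (n + 1) := by rw [hcn]; group
        _ = e ^ n * (A2 * e) * a ^ (q * n) * Z2 * Zn * u ^ (n + 1) := by
          rw [dZ2, (h.zk (S.mul_mem heS (haS _)) _).eq]; group
        _ = e ^ (n + 1) * A2 * (z ^ (v * (q' * (n.choose 2 : ℕ))) * a ^ (q * n)) * Z2 * Zn * u ^ (n + 1) := by
          rw [hA2]; group
        _ = _ := by
          rw [(h.zk (haS _) _).eq, dA2, dZ2, dZn]
          have : a ^ (q * (n.choose 2 : ℕ)) * (a ^ (q * n) * z ^ (v * (q' * (n.choose 2 : ℕ)))) *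
              z ^ (r * (n.choose 2 : ℕ) + (q * l + v * q') * (n.choose 3 : ℕ)) *
              z ^ (r * n + q * l * (n.choose 2 : ℕ)) =
              a ^ (q * ((n + 1).choose 2 : ℕ)) *
                z ^ (r * ((n + 1).choose 2 : ℕ) + (q * l + v * q') * ((n + 1).choose 3 : ℕ)) := by
            rw [← mul_assoc (a ^ (q * (n.choose 2 : ℕ))), ← zpow_add, mul_assoc, mul_assoc, ← zpow_add, ← zpow_add,
              Nat.choose_succ_succ' n 1, Nat.choose_succ_succ' n 2, Nat.choose_one_right]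
            congr 2 <;> push_cast <;> ring_nf
          rw [mul_assoc (e ^ (n + 1)), mul_assoc (e ^ (n + 1)), mul_assoc (e ^ (n + 1)), this]
          group
  have hd : ∀ k : ℕ, k ≠ 0 → k < p → (p : ℤ) ∣ ((p.choose k : ℕ) : ℤ) := fun k h1 h2 =>
    Int.natCast_dvd_natCast.mpr (hp.out.dvd_choose_self h1 h2)
  rw [hprod p, h.exp e he, h.pow_congr h.aE (f := 0) (by simpa using ((hd 2 (by norm_num) (by omega)).mul_left q).neg_right),
    h.pow_congr h.zE (f := 0) (by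
      simpa using (((hd 2 (by norm_num) (by omega)).mul_left r).add
        ((hd 3 (by norm_num) (by omega)).mul_left (q * l + v * q'))).neg_right)]
  simp

end Ctx

end Cfsg.Agent.Fusion.RankTwoP5
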