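/-
An automorphism of `S` acts on `E/A` as `±1`.
-/
import Cfsg.Agent.Fusion.RankTwoCtx
set_option autoImplicit false

namespace Cfsg.Agent.Fusion.RankTwoP5

open Cfsg Cfsg.FusionSystem

variable {Ω : Type*} [Group Ω] {S E : Subgroup Ω} {y a z : Ω} {p : ℕ} [hp : Fact p.Prime]
  {F : FusionSystem S}

theorem exists_nat_congr (e : ℤ) : ∃ m : ℕ, (p : ℤ) ∣ (m : ℤ) - e := ⟨(e % p).toNat, by
  rw [Int.toNat_of_nonneg (Int.emod_nonneg e (by exact_mod_cast hp.out.ne_zero))]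
  exact ⟨-(e / p), by rw [Int.emod_def]; ring⟩⟩

namespace Ctx

variable (h : Ctx p S E y a z)
include h

theorem center_normalized {g : Ω} (hg : g ∈ S) {c : Ω} (hc : c ∈ centralizerIn S E) :
    g * c * g⁻¹ ∈ centralizerIn S E := by
  refine ⟨S.mul_mem (S.mul_mem hg hc.1) (S.inv_mem hg), fun x hx => ?_⟩
  have h1 : g⁻¹ * x * g ∈ E := (Subgroup.mem_normalizer_iff''.mp (h.hn hg) x).mp hx
  have h2 := hc.2 _ h1
  calc x * (g * c * g⁻¹) = g * ((g⁻¹ * x * g) * c) * g⁻¹ := by group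
    _ = g * (c * (g⁻¹ * x * g)) * g⁻¹ := by rw [h2]
    _ = g * c * g⁻¹ * x := by group

theorem dvd_of_acts {g : Ω} {i k l i' k' l' : ℤ} (h1 : Acts y a z g i k l) (h2 : Acts y a z g i' k' l') :
    (p : ℤ) ∣ i - i' := by
  have e : y ^ (1 : ℤ) * a ^ i * z ^ k = y ^ (1 : ℤ) * a ^ i' * z ^ k' := by
    rw [zpow_one]; exact h1.1.symm.trans h2.1
  exact (h.nf_eq e).2.1

theorem acts_centralizer {g c : Ω} (hc : c ∈ centralizerIn S E) {i k l : ℤ} (hA : Acts y a z g i k l) :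
    Acts y a z (g * c) i k l :=
  ⟨by rw [← hA.1]; calc g * c * y * (g * c)⁻¹ = g * (c * y) * c⁻¹ * g⁻¹ := by group
      _ = g * (y * c) * c⁻¹ * g⁻¹ := by rw [hc.2 y h.yE]
      _ = _ := by group,
   by rw [← hA.2]; calc g * c * a * (g * c)⁻¹ = g * (c * a) * c⁻¹ * g⁻¹ := by group
      _ = g * (a * c) * c⁻¹ * g⁻¹ := by rw [hc.2 a h.aE]
      _ = _ := by group⟩

theorem inE_acts {g : Ω} (hg : g ∈ E) : ∃ k l : ℤ, Acts y a z g 0 k l := by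
  obtain ⟨u, v, w, rfl⟩ := h.gen g hg
  exact ⟨v, -u, h.acts_centralizer (c := z ^ w) ⟨h.hE (E.zpow_mem h.zE w), fun x hx =>
    ((h.zk (h.hE hx) w).eq).symm⟩ (h.acts_y_a u v)⟩

theorem iso_image [Finite S] (hsc : F.StronglyClosed E) {f : Ω → Ω} (hf : Mor F E f) : Iso F f E E := by
  haveI := finite_of_le h.hE
  exact hf.iso_of_card (fun x hx => stronglyClosed_mem hsc hf hx hx) le_rfl

/-- The image of `z` under an automorphism of `E`. -/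
theorem map_z {f : Ω → Ω} (hf : Iso F f E E) {q r m j k : ℤ} (hy : f y = y ^ q * a ^ r * z ^ m)
    (ha : f a = a ^ j * z ^ k) : ∃ l : ℤ, f z = z ^ l ∧ (p : ℤ) ∣ l - q * j := by
  obtain ⟨l, hl⟩ : ∃ l : ℤ, f z = z ^ l := by
    have hc : ∀ x ∈ E, Commute (f z) x := fun x hx => by
      obtain ⟨x', hx', rfl⟩ := hf.surj hx
      show f z * f x' = f x' * f z
      rw [← hf.mor.map_mul h.zE hx', ← hf.mor.map_mul hx' h.zE, (h.zc x' (h.hE hx')).eq]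
    exact h.center_mem (hf.mapsTo h.zE) (hc y h.yE) (hc a h.aE)
  refine ⟨l, hl, ?_⟩
  have e1 : f (a * y) = f (y * a * z) := by rw [h.ay]
  rw [hf.mor.map_mul h.aE h.yE, hf.mor.map_mul (E.mul_mem h.yE h.aE) h.zE, hf.mor.map_mul h.yE h.aE,
    hy, ha, hl] at e1
  have e2 := h.mul_nf 0 j k q r m
  have e3 := h.mul_nf q r m 0 j k
  simp only [zpow_zero, one_mul, zero_add, add_zero, zero_mul] at e2 e3
  rw [e2, e3, mul_assoc (y ^ q * a ^ (r + j)), ← zpow_add] at e1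
  obtain ⟨t, ht⟩ := (h.nf_eq e1).2.2
  exact ⟨-t, by linear_combination -ht⟩

theorem square (hS : IsPGroup p S) [Finite S] (h5 : 5 ≤ p) {s : Ω} (hs : s ∈ S) {w₁ w₂ : ℤ}
    (hsA : Acts y a z s 1 w₁ w₂) {H : Ω → Ω} (hH : Iso F H S S) (hHE : Iso F H E E) {q r m j k : ℤ}
    (hy : H y = y ^ q * a ^ r * z ^ m) (ha : H a = a ^ j * z ^ k) : (p : ℤ) ∣ q ^ 2 - 1 := by
  have hp2 : p ≠ 2 := by omega
  obtain ⟨l, hl, hlq⟩ := h.map_z hHE hy ha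
  have hPr := Nat.prime_iff_prime_int.mp hp.out
  have hj : ¬ (p : ℤ) ∣ j := fun hd => by
    rw [h.pow_congr h.aE (f := 0) (by simpa using hd.neg_right), zpow_zero, one_mul] at ha
    by_cases hl0 : (p : ℤ) ∣ l
    · rw [h.pow_congr h.zE (f := 0) (by simpa using hl0.neg_right), zpow_zero, ← hHE.mor.map_one] at hl
      exact h.z1 (hHE.mor.injOn h.zE E.one_mem hl)
    · obtain ⟨t, l', hl'⟩ := hPr.coprime_iff_not_dvd.mpr hl0
      have e1 : H (z ^ (l' * k)) = H a := by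
        rw [ha, show H (z ^ (l' * k)) = H z ^ (l' * k) from map_zpow hHE.mor.hom ⟨z, h.zE⟩ _, hl, ← zpow_mul]
        exact h.pow_congr h.zE ⟨t * k, by linear_combination -k * hl'⟩
      have e2 := hHE.mor.injOn (E.zpow_mem h.zE _) h.aE e1
      have e3 : y ^ (0 : ℤ) * a ^ (0 : ℤ) * z ^ (l' * k) = y ^ (0 : ℤ) * a ^ (1 : ℤ) * z ^ (0 : ℤ) := by
        simpa using e2
      exact hp.out.not_dvd_one (Int.natCast_dvd_natCast.mp (by
        have := (h.nf_eq e3).2.1; simpa [dvd_neg] using this))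
  set g := H s
  have hgS : g ∈ S := hH.mapsTo hs
  obtain ⟨i, k₁, l₁, hgA⟩ := h.shape g hgS
  have hiq : (p : ℤ) ∣ i * q - j := by
    obtain ⟨m', hm'⟩ := h.conj_nf hgS hgA q r m
    have e1 : H (s * y * s⁻¹) = g * H y * g⁻¹ := hH.mor.map_conj hs (h.hE h.yE)
    rw [hsA.1, zpow_one, hH.mor.map_mul (S.mul_mem (h.hE h.yE) (h.hE h.aE)) (S.zpow_mem (h.hE h.zE) w₁),
      hH.mor.map_mul (h.hE h.yE) (h.hE h.aE),
      show H (z ^ w₁) = H z ^ w₁ from map_zpow hHE.mor.hom ⟨z, h.zE⟩ _, hl, hy, ha, hm', ← zpow_mul] at e1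
    have e2 := h.mul_nf q r m 0 j k
    simp only [zpow_zero, one_mul, add_zero, zero_mul] at e2
    rw [e2, mul_assoc (y ^ q * a ^ (r + j)), ← zpow_add] at e1
    obtain ⟨t, ht⟩ := (h.nf_eq e1).2.1
    exact ⟨-t, by linear_combination -ht⟩
  obtain ⟨n, hn, e, he, heA⟩ := h.realize hs hsA i k₁ l₁
  set x := s ^ n
  have hxS : x ∈ S := S.pow_mem hs n
  have hcC := h.inv_mem_of_eq hgS (S.mul_mem (h.hE he) hxS) hgA heA
  set c := (e * x)⁻¹ * g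
  obtain ⟨c₀, hc₀, hgen⟩ := h.cyclic hS hp2
  set c' := x * c * x⁻¹
  have hc' : c' ∈ centralizerIn S E := h.center_normalized hxS hcC
  have hge : g = e * (c' * x) := by simp only [c', c]; group
  have hzC : z ∈ centralizerIn S E := ⟨h.hE h.zE, fun u hu => ((h.zc u (h.hE hu)).eq).symm⟩
  obtain ⟨M, hM⟩ := hgen z hzC
  have hord : (p : ℤ) ∣ orderOf c₀ := by
    obtain ⟨ε, hε⟩ := IsPGroup.iff_orderOf.mp hS ⟨c₀, hc₀.1⟩
    rw [Subgroup.orderOf_mk] at hε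
    rcases ε with _ | ε
    · rw [pow_zero, orderOf_eq_one_iff] at hε
      exact absurd (by rw [hM, hε, one_zpow]) h.z1
    · rw [hε]; exact_mod_cast dvd_pow_self p ε.succ_ne_zero
  have hcongr : ∀ {A B : ℤ}, c₀ ^ A = c₀ ^ B → (p : ℤ) ∣ A - B := fun {A B} hAB =>
    hord.trans (orderOf_dvd_iff_zpow_eq_one.mpr (by rw [zpow_sub, hAB, mul_inv_cancel]))
  have hnorm : ∀ u ∈ S, ∃ t : ℤ, u * c₀ * u⁻¹ = c₀ ^ (1 + (p : ℤ) * t) := fun u hu => by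
    obtain ⟨k', hk'⟩ := hgen _ (h.center_normalized hu hc₀)
    have e1 : u * z * u⁻¹ = z := by rw [← (h.zc u hu).eq, mul_inv_cancel_right]
    have e2 : z ^ k' = z := by
      conv_rhs => rw [← e1, hM, ← conj_zpow, hk', ← zpow_mul, mul_comm, zpow_mul, ← hM]
    have hd : (p : ℤ) ∣ k' - 1 := by
      have e3 : y ^ (0 : ℤ) * a ^ (0 : ℤ) * z ^ k' = y ^ (0 : ℤ) * a ^ (0 : ℤ) * z ^ (1 : ℤ) := by simpa using e2
      exact (h.nf_eq e3).2.2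
    obtain ⟨t, ht⟩ := hd
    exact ⟨t, by rw [hk']; congr 1; omega⟩
  -- products in `C⟨u⟩`
  have hprod : ∀ u ∈ S, ∀ γ : ℤ, ∃ σ : ℤ, (∃ τ : ℤ, σ = p + (p : ℤ) ^ 2 * τ) ∧
      (c₀ ^ γ * u) ^ p = c₀ ^ (γ * σ) * u ^ p := by
    intro u hu γ
    obtain ⟨t, ht⟩ := hnorm u hu
    have hconj : ∀ w : ℤ, u * c₀ ^ w = c₀ ^ ((1 + (p : ℤ) * t) * w) * u := fun w => by
      rw [zpow_mul, ← ht, conj_zpow]; group
    have hn' : ∀ n : ℕ, ∃ σ : ℤ, (∃ τ : ℤ, σ = n + (p : ℤ) * t * (n.choose 2 : ℕ) + (p : ℤ) ^ 2 * τ) ∧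
        (c₀ ^ γ * u) ^ n = c₀ ^ (γ * σ) * u ^ n := by
      intro n
      induction n with
      | zero => exact ⟨0, ⟨0, by simp⟩, by simp⟩
      | succ n ih =>
        obtain ⟨σ, ⟨τ, hτ⟩, e1⟩ := ih
        refine ⟨1 + (1 + (p : ℤ) * t) * σ, ⟨τ + t * t * (n.choose 2 : ℕ) + t * (p : ℤ) * τ, ?_⟩, ?_⟩
        · rw [hτ, Nat.choose_succ_succ' n 1, Nat.choose_one_right]; push_cast; ring
        · rw [pow_succ', e1]
          calc c₀ ^ γ * u * (c₀ ^ (γ * σ) * u ^ n) = c₀ ^ γ * (u * c₀ ^ (γ * σ)) * u ^ n := by group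
            _ = c₀ ^ γ * c₀ ^ ((1 + (p : ℤ) * t) * (γ * σ)) * u ^ (n + 1) := by rw [hconj]; group
            _ = _ := by rw [← zpow_add]; congr 2; ring
    obtain ⟨σ, ⟨τ, hτ⟩, e1⟩ := hn' p
    obtain ⟨w, hw⟩ : (p : ℤ) ∣ ((p.choose 2 : ℕ) : ℤ) :=
      Int.natCast_dvd_natCast.mpr (hp.out.dvd_choose_self (by norm_num) (by omega))
    exact ⟨σ, ⟨t * w + τ, by rw [hτ, hw]; ring⟩, e1⟩
  obtain ⟨ε, hε⟩ := hgen (s ^ p) (h.pow_mem_centralizer hp2 hs)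
  have hεp : ¬ (p : ℤ) ∣ ε := by
    rintro ⟨δ, rfl⟩
    obtain ⟨b, hb⟩ := IsPGroup.iff_orderOf.mp hS ⟨c₀, hc₀.1⟩
    rw [Subgroup.orderOf_mk] at hb
    -- choose `γ` by the fixed point equation
    have key : ∀ b' : ℕ, ∃ γ : ℤ, ∃ σ : ℤ, (c₀ ^ γ * s) ^ p = c₀ ^ (γ * σ + (p : ℤ) * δ) ∧
        ((p : ℤ) ^ (b' + 1)) ∣ γ * σ + (p : ℤ) * δ := by
      intro b'
      obtain ⟨t, ht⟩ := hnorm s hs
      obtain ⟨σ₁, ⟨τ, hτ⟩, -⟩ := hprod s hs 1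
      -- the exponent does not depend on `γ`
      have hconj : ∀ w : ℤ, s * c₀ ^ w = c₀ ^ ((1 + (p : ℤ) * t) * w) * s := fun w => by
        rw [zpow_mul, ← ht, conj_zpow]; group
      have hn' : ∀ n : ℕ, ∃ σ : ℤ, (∃ τ : ℤ, σ = n + (p : ℤ) * t * (n.choose 2 : ℕ) + (p : ℤ) ^ 2 * τ) ∧
          ∀ γ : ℤ, (c₀ ^ γ * s) ^ n = c₀ ^ (γ * σ) * s ^ n := by
        intro n
        induction n with
        | zero => exact ⟨0, ⟨0, by simp⟩, by simp⟩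
        | succ n ih =>
          obtain ⟨σ, ⟨τ, hτ⟩, e1⟩ := ih
          refine ⟨1 + (1 + (p : ℤ) * t) * σ, ⟨τ + t * t * (n.choose 2 : ℕ) + t * (p : ℤ) * τ, ?_⟩, fun γ => ?_⟩
          · rw [hτ, Nat.choose_succ_succ' n 1, Nat.choose_one_right]; push_cast; ring
          · rw [pow_succ', e1]
            calc c₀ ^ γ * s * (c₀ ^ (γ * σ) * s ^ n) = c₀ ^ γ * (s * c₀ ^ (γ * σ)) * s ^ n := by group
              _ = c₀ ^ γ * c₀ ^ ((1 + (p : ℤ) * t) * (γ * σ)) * s ^ (n + 1) := by rw [hconj]; group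
              _ = _ := by rw [← zpow_add]; congr 2; ring
      obtain ⟨σ, ⟨τ', hτ'⟩, e1⟩ := hn' p
      obtain ⟨w, hw⟩ : (p : ℤ) ∣ ((p.choose 2 : ℕ) : ℤ) :=
        Int.natCast_dvd_natCast.mpr (hp.out.dvd_choose_self (by norm_num) (by omega))
      have hu : IsCoprime (1 + (p : ℤ) * (t * w + τ')) ((p : ℤ) ^ b') := by
        refine IsCoprime.pow_right ?_
        exact ⟨1, -(t * w + τ'), by ring⟩
      obtain ⟨v₁, v₂, hv⟩ := hu
      refine ⟨-(δ * v₁), σ, ?_, ?_⟩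
      · rw [e1, hε, ← zpow_add]
      · refine ⟨δ * v₂, ?_⟩
        rw [hτ', hw]
        linear_combination (-(p : ℤ) * δ) * hv
    obtain ⟨γ, σ, e1, e2⟩ := key b
    have e3 : (c₀ ^ γ * s) ^ p = 1 := by
      rw [e1, ← orderOf_dvd_iff_zpow_eq_one, hb]
      push_cast
      exact (pow_dvd_pow (p : ℤ) b.le_succ).trans e2
    have hm := h.small _ (S.mul_mem (S.zpow_mem hc₀.1 γ) hs) e3
    obtain ⟨k', l', hA'⟩ := h.inE_acts hm
    have hA1 : Acts y a z (c₀ ^ γ * s) 1 w₁ w₂ := by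
      have hcz : c₀ ^ γ ∈ centralizerIn S E := (centralizerIn S E).zpow_mem hc₀ γ
      have := h.center_normalized (S.inv_mem hs) hcz
      rw [inv_inv] at this
      have e4 := h.acts_centralizer this hsA
      rwa [show s * (s⁻¹ * c₀ ^ γ * s) = c₀ ^ γ * s by group] at e4
    exact hp.out.not_dvd_one (Int.natCast_dvd_natCast.mp (by simpa [dvd_neg] using h.dvd_of_acts hA1 hA'))
  obtain ⟨γ, hγ⟩ := hgen c' hc'
  obtain ⟨σ, ⟨τ, hσ⟩, e1⟩ := hprod x hxS γ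
  have e2 : g ^ p = c₀ ^ (γ * σ + ε * n) := by
    rw [hge, h.pow_p h5 he (S.mul_mem hc'.1 hxS), hγ, e1, show x ^ p = (s ^ p) ^ n by
      simp only [x]; rw [← pow_mul, ← pow_mul, mul_comm], hε, ← zpow_natCast, ← zpow_mul, ← zpow_add]
  have hHc : H c₀ ∈ centralizerIn S E := ⟨hH.mapsTo hc₀.1, fun u hu => by
    obtain ⟨u', hu', rfl⟩ := hHE.surj hu
    rw [← hH.mor.map_mul (h.hE hu') hc₀.1, ← hH.mor.map_mul hc₀.1 (h.hE hu'), hc₀.2 u' hu']⟩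
  obtain ⟨κ, hκ⟩ := hgen _ hHc
  have hHpow : ∀ w : ℤ, H (c₀ ^ w) = c₀ ^ (κ * w) := fun w => by
    rw [show H (c₀ ^ w) = H c₀ ^ w from map_zpow hH.mor.hom ⟨c₀, hc₀.1⟩ w, hκ, ← zpow_mul]
  have e3 := hH.mor.map_pow hs p
  rw [hε, hHpow, show H s = g from rfl, e2] at e3
  obtain ⟨t₁, ht₁⟩ := hcongr e3
  have hκl : (p : ℤ) ∣ κ - l := by
    have e4 : c₀ ^ (κ * M) = c₀ ^ (M * l) := by rw [← hHpow, ← hM, zpow_mul, ← hM, hl]
    have e5 : y ^ (0 : ℤ) * a ^ (0 : ℤ) * z ^ κ = y ^ (0 : ℤ) * a ^ (0 : ℤ) * z ^ l := by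
      simp only [zpow_zero, one_mul]
      rw [hM, ← zpow_mul, ← zpow_mul, mul_comm, e4]
    exact (h.nf_eq e5).2.2
  have hnκ : (p : ℤ) ∣ (n : ℤ) - κ := by
    refine ((hPr.dvd_or_dvd (a := ε) (b := (n : ℤ) - κ) ?_).resolve_left hεp)
    exact ⟨-t₁ - γ * (1 + (p : ℤ) * τ), by linear_combination -ht₁ - γ * hσ⟩
  obtain ⟨a₁, ha₁⟩ := hn
  obtain ⟨a₂, ha₂⟩ := hnκ
  obtain ⟨a₃, ha₃⟩ := hκl
  obtain ⟨a₄, ha₄⟩ := hlq
  obtain ⟨a₅, ha₅⟩ := hiq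
  have hi : ¬ (p : ℤ) ∣ i := fun ⟨w, hw⟩ => hj ⟨w * q - a₅, by linear_combination -ha₅ + q * hw⟩
  refine (hPr.dvd_or_dvd (a := i) (b := q ^ 2 - 1) ?_).resolve_left hi
  exact ⟨a₁ - a₂ - a₃ - a₄ + q * a₅, by linear_combination ha₁ - ha₂ - ha₃ - ha₄ + q * ha₅⟩

/-- An automorphism of `E` preserving `A` extends to `S`, so acts as `±1` on `E/A`. -/
theorem extend_square [Finite S] (hS : IsPGroup p S) (hF : F.IsSaturated p) (h5 : 5 ≤ p)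
    (hsc : F.StronglyClosed E) {s : Ω} (hs : s ∈ S) {w₁ w₂ : ℤ} (hsA : Acts y a z s 1 w₁ w₂)
    {f : Ω → Ω} (hf : Iso F f E E) {q r m j k : ℤ} (hy : f y = y ^ q * a ^ r * z ^ m)
    (ha : f a = a ^ j * z ^ k) : (p : ℤ) ∣ q ^ 2 - 1 := by
  have hfn : F.IsFullyNormalized E := by
    refine ⟨h.hE, fun Q hQ => ?_⟩
    obtain ⟨ψ, hψ, hr⟩ := hQ
    rw [← hr, (weaklyClosed_of_stronglyClosed hsc).2 ψ hψ]
  obtain ⟨l₀, hl₀, -⟩ := h.map_z hf hy ha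
  obtain ⟨f', hf', hl', hr'⟩ := hf.exists_symm
  have hnf : ∀ u v w : ℤ, ∃ b c : ℤ, f (y ^ u * a ^ v * z ^ w) = y ^ (q * u) * a ^ b * z ^ c := by
    intro u v w
    obtain ⟨u', hu'⟩ := exists_nat_congr (p := p) u
    have hpow : ∀ n : ℕ, ∃ b c : ℤ, (y ^ q * a ^ r * z ^ m) ^ n = y ^ (q * n) * a ^ b * z ^ c := by
      intro n
      induction n with
      | zero => exact ⟨0, 0, by simp⟩
      | succ n ih =>
        obtain ⟨b, c, e⟩ := ih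
        refine ⟨b + r, c + m + q * b, ?_⟩
        rw [pow_succ, e, h.mul_nf]; congr 3; push_cast; ring
    obtain ⟨b, c, e⟩ := hpow u'
    refine ⟨b + j * v, c + (k * v + l₀ * w) + 0 * b, ?_⟩
    rw [h.pow_congr h.yE hu', zpow_natCast,
      hf.mor.map_mul (E.mul_mem (E.pow_mem h.yE _) (E.zpow_mem h.aE _)) (E.zpow_mem h.zE _),
      hf.mor.map_mul (E.pow_mem h.yE _) (E.zpow_mem h.aE _), hf.mor.map_pow h.yE,
      show f (a ^ v) = f a ^ v from map_zpow hf.mor.hom ⟨a, h.aE⟩ v,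
      show f (z ^ w) = f z ^ w from map_zpow hf.mor.hom ⟨z, h.zE⟩ w, hy, ha, hl₀, e,
      (show Commute (a ^ j) (z ^ k) from (h.zk (S.zpow_mem (h.hE h.aE) j) k).symm).mul_zpow, ← zpow_mul,
      ← zpow_mul, ← zpow_mul, mul_assoc (y ^ (q * (u' : ℤ)) * a ^ b * z ^ c), mul_assoc (a ^ (j * v)),
      ← zpow_add z, show a ^ (j * v) * z ^ (k * v + l₀ * w) = y ^ (0 : ℤ) * a ^ (j * v) * z ^ (k * v + l₀ * w) by simp,
      h.mul_nf, add_zero]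
    congr 2
    obtain ⟨t, ht⟩ := hu'
    exact h.pow_congr h.yE ⟨-(q * t), by linear_combination -q * ht⟩
  have hq : ¬ (p : ℤ) ∣ q := fun hd => by
    obtain ⟨x, hx, hfx⟩ := hf.surj h.yE
    obtain ⟨u, v, w, rfl⟩ := h.gen x hx
    obtain ⟨b, c, e⟩ := hnf u v w
    rw [hfx] at e
    have e' : y ^ (1 : ℤ) * a ^ (0 : ℤ) * z ^ (0 : ℤ) = y ^ (q * u) * a ^ b * z ^ c := by simpa using e
    have := ((h.nf_eq e').1).add (hd.mul_right u)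
    rw [sub_add_cancel] at this
    exact hp.out.not_dvd_one (Int.natCast_dvd_natCast.mp (by simpa using this))
  have hfz : ∀ w : ℤ, f (z ^ w) = z ^ (l₀ * w) := fun w => by
    rw [show f (z ^ w) = f z ^ w from map_zpow hf.mor.hom ⟨z, h.zE⟩ w, hl₀, ← zpow_mul]
  have hfa : ∀ v : ℤ, f (a ^ v) = a ^ (j * v) * z ^ (k * v) := fun v => by
    rw [show f (a ^ v) = f a ^ v from map_zpow hf.mor.hom ⟨a, h.aE⟩ v, ha,
      (show Commute (a ^ j) (z ^ k) from (h.zk (S.zpow_mem (h.hE h.aE) j) k).symm).mul_zpow, ← zpow_mul, ← zpow_mul]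
  have hn : nphi S E f = S := by
    refine le_antisymm (fun u hu => hu.1) fun g hg => ⟨hg, h.hn hg, ?_⟩
    obtain ⟨i, k₁, l₁, hgA⟩ := h.shape g hg
    have hcj : ∀ x ∈ E, ∃ u v w d : ℤ, x = y ^ u * a ^ v * z ^ w ∧ f (cj g x) = f x * a ^ (j * (i * u)) * z ^ d := by
      intro x hx
      obtain ⟨u, v, w, e⟩ := h.gen x hx
      obtain ⟨m', hm'⟩ := h.conj_nf hg hgA u v w
      refine ⟨u, v, w, k * (i * u) + l₀ * (m' - w), e, ?_⟩
      have e1 : cj g x = x * a ^ (i * u) * z ^ (m' - w) := by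
        rw [cj_apply, e, hm']
        have := h.mul_nf u v w 0 (i * u) (m' - w)
        simp only [zpow_zero, one_mul, add_zero, zero_mul] at this
        rw [mul_assoc (y ^ u * a ^ v * z ^ w), this]
        congr 2 <;> ring_nf
      rw [e1, hf.mor.map_mul (E.mul_mem hx (E.zpow_mem h.aE _)) (E.zpow_mem h.zE _),
        hf.mor.map_mul hx (E.zpow_mem h.aE _), hfz, hfa, zpow_add]
      group
    obtain ⟨u₁, v₁, x₁, d₁, e₁, he₁⟩ := hcj _ (hf'.mapsTo h.yE)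
    obtain ⟨u₂, v₂, x₂, d₂, e₂, he₂⟩ := hcj _ (hf'.mapsTo h.aE)
    rw [hr' y h.yE] at he₁
    rw [hr' a h.aE] at he₂
    have hu₂ : (p : ℤ) ∣ u₂ := by
      obtain ⟨b, c, e⟩ := hnf u₂ v₂ x₂
      rw [← e₂, hr' a h.aE] at e
      have e' : y ^ (0 : ℤ) * a ^ (1 : ℤ) * z ^ (0 : ℤ) = y ^ (q * u₂) * a ^ b * z ^ c := by simpa using e
      have := (h.nf_eq e').1
      rw [zero_sub, dvd_neg] at this
      exact ((Nat.prime_iff_prime_int.mp hp.out).dvd_or_dvd this).resolve_left hq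
    rw [h.pow_congr h.aE (e := j * (i * u₂)) (f := 0) (by simpa using ((hu₂.mul_left i).mul_left j).neg_right),
      zpow_zero, mul_one] at he₂
    obtain ⟨n, -, e, he, heA⟩ := h.realize hs hsA (j * (i * u₁)) d₁ d₂
    refine ⟨e * s ^ n, S.mul_mem (h.hE he) (S.pow_mem hs n), fun x hx => ?_⟩
    -- both sides agree on `y`, `a`
    set u := e * s ^ n
    have huy : f (cj g (f' y)) = cj u y := by rw [he₁, cj_apply, heA.1]
    have hua : f (cj g (f' a)) = cj u a := by rw [he₂, cj_apply, heA.2]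
    let φ₁ : E →* Ω := MonoidHom.mk' (fun w : E => f (cj g (f' (w : Ω)))) fun w w' => by
      have hm1 : ∀ w : E, cj g (f' (w : Ω)) ∈ E := fun w => (cj_mem_iff (h.hn hg) _).mpr (hf'.mapsTo w.2)
      rw [Subgroup.coe_mul, hf'.mor.map_mul w.2 w'.2, cj_map_mul, hf.mor.map_mul (hm1 w) (hm1 w')]
    let φ₂ : E →* Ω := MonoidHom.mk' (fun w : E => cj u (w : Ω)) fun w w' => by
      rw [Subgroup.coe_mul, cj_map_mul]
    have hz : φ₁ ⟨z, h.zE⟩ = φ₂ ⟨z, h.zE⟩ := by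
      have hzy : (⟨z, h.zE⟩ : E) = (⟨y, h.yE⟩ * ⟨a, h.aE⟩)⁻¹ * (⟨a, h.aE⟩ * ⟨y, h.yE⟩) := Subtype.ext (by
        show z = (y * a)⁻¹ * (a * y)
        rw [h.ay]; group)
      rw [hzy]; simp only [map_mul, map_inv]
      rw [show φ₁ ⟨y, h.yE⟩ = φ₂ ⟨y, h.yE⟩ from huy, show φ₁ ⟨a, h.aE⟩ = φ₂ ⟨a, h.aE⟩ from hua]
    have key : ∀ w ∈ E, f (cj g (f' w)) = cj u w := fun w hw => by
      obtain ⟨α, β, γ, rfl⟩ := h.gen w hw
      show φ₁ ⟨_, hw⟩ = φ₂ ⟨_, hw⟩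
      rw [show (⟨_, hw⟩ : E) = ⟨y, h.yE⟩ ^ α * ⟨a, h.aE⟩ ^ β * ⟨z, h.zE⟩ ^ γ from Subtype.ext (by simp)]
      simp only [map_mul, map_zpow]
      rw [show φ₁ ⟨y, h.yE⟩ = φ₂ ⟨y, h.yE⟩ from huy, show φ₁ ⟨a, h.aE⟩ = φ₂ ⟨a, h.aE⟩ from hua, hz]
    have := key (f x) (hf.mapsTo hx)
    rwa [hl' x hx] at this
  obtain ⟨H, hH, eH⟩ := (receptive_iff.mp (IsSaturated_fullyNormalized hS hF hfn).2.2).2 E f hf
  rw [hn] at hH
  have hHS : Iso F H S S := hH.iso_of_card (fun x hx => hH.map_mem hx) le_rfl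
  exact h.square hS h5 hs hsA hHS (h.iso_image hsc (hH.restrict h.hE))
    ((eH y h.yE).trans hy) ((eH a h.aE).trans ha)

end Ctx

end Cfsg.Agent.Fusion.RankTwoP5
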