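/-
A diagonal element in the group generated by two opposite transvections, modulo an invariant kernel.
-/
import Mathlib
set_option autoImplicit false

namespace Cfsg.Agent.Fusion.RankTwoP5

/-- Two opposite transvections on `⟨π a, π y⟩` generate an element acting as `diag (-2, q)` with
`2 q ≡ -1`. -/
theorem torus {X Q : Type*} [Group X] [Group Q] {p : ℕ} [hp : Fact p.Prime] (hp2 : p ≠ 2)
    (π : X →* Q) (hel : ∀ u : Q, u ^ p = 1) (hcomm : ∀ u v : Q, u * v = v * u) {a y : X}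
    {t t' : MulAut X} (htk : ∀ u, π u = 1 → π (t u) = 1) (ht'k : ∀ u, π u = 1 → π (t' u) = 1)
    {n c : ℤ} (hn : ¬ (p : ℤ) ∣ n) (hc : ¬ (p : ℤ) ∣ c) (hta : π (t a) = π a)
    (hty : π (t y) = π y * π a ^ n) (ht'y : π (t' y) = π y) (ht'a : π (t' a) = π a * π y ^ c) :
    ∃ δ ∈ Subgroup.closure ({t, t'} : Set (MulAut X)), ∃ q : ℤ, (p : ℤ) ∣ 2 * q + 1 ∧
      π (δ a) = π a ^ (-2 : ℤ) ∧ π (δ y) = π y ^ q := by
  letI : CommGroup Q := { (inferInstance : Group Q) with mul_comm := hcomm }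
  have hmod : ∀ (u : Q) {e f : ℤ}, (p : ℤ) ∣ f - e → u ^ e = u ^ f := fun u e f ⟨m, hm⟩ => by
    rw [show f = e + (p : ℤ) * m by omega, zpow_add, zpow_mul, zpow_natCast, hel, one_zpow, mul_one]
  have hexp : ∀ {r : MulAut X}, (∀ u, π u = 1 → π (r u) = 1) → ∀ {u : X} {i j : ℤ},
      π u = π a ^ i * π y ^ j → π (r u) = π (r a) ^ i * π (r y) ^ j := by
    intro r hr u i j hu
    have h1 : π ((a ^ i * y ^ j)⁻¹ * u) = 1 := by
      rw [map_mul, map_inv, map_mul, map_zpow, map_zpow, hu, inv_mul_cancel]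
    have h2 := hr _ h1
    rw [map_mul, map_inv, map_mul, map_inv, inv_mul_eq_one] at h2
    rw [← h2, map_mul, map_mul, map_zpow, map_zpow, map_zpow, map_zpow]
  let G : Subgroup (MulAut X) := Subgroup.closure {t, t'}
  have hpow : ∀ (r : MulAut X) (b d : X), (∀ u, π u = 1 → π (r u) = 1) → π (r b) = π b → ∀ (e : ℤ),
      π (r d) = π d * π b ^ e → ∀ m : ℕ, (∀ u, π u = 1 → π ((r ^ m) u) = 1) ∧ π ((r ^ m) b) = π b ∧
        π ((r ^ m) d) = π d * π b ^ (e * m) := by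
    intro r b d hr hb e hd m
    induction m with
    | zero => simp
    | succ m ih =>
      refine ⟨fun u hu => by rw [pow_succ', MulAut.mul_apply]; exact hr _ (ih.1 u hu), ?_, ?_⟩
      · have h1 : π (b⁻¹ * (r ^ m) b) = 1 := by rw [map_mul, map_inv, ih.2.1, inv_mul_cancel]
        have h2 := hr _ h1
        rw [map_mul, map_mul, map_inv, map_inv, inv_mul_eq_one] at h2
        rw [pow_succ', MulAut.mul_apply, ← h2, hb]
      · have h1 : π ((d * b ^ (e * m))⁻¹ * (r ^ m) d) = 1 := by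
          rw [map_mul, map_inv, map_mul, map_zpow, ih.2.2, inv_mul_cancel]
        have h2 := hr _ h1
        rw [map_mul, map_mul, map_inv, map_inv, inv_mul_eq_one] at h2
        rw [pow_succ', MulAut.mul_apply, ← h2, map_mul, map_mul, map_zpow, map_zpow, hd, hb, mul_assoc, ← zpow_add]
        congr 2
        push_cast; ring
  -- the Weyl elements
  have hW : ∀ r q : ℤ, (p : ℤ) ∣ r * q + 1 → ∃ W ∈ G, (∀ u, π u = 1 → π (W u) = 1) ∧
      π (W a) = π y ^ q ∧ π (W y) = π a ^ r := by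
    intro r q hrq
    obtain ⟨v, n', hn'⟩ := (Nat.prime_iff_prime_int.mp hp.out).coprime_iff_not_dvd.mpr hn
    obtain ⟨v', c', hc'⟩ := (Nat.prime_iff_prime_int.mp hp.out).coprime_iff_not_dvd.mpr hc
    have hnat : ∀ e : ℤ, ∃ m : ℕ, (p : ℤ) ∣ (m : ℤ) - e := fun e => ⟨(e % p).toNat, by
      rw [Int.toNat_of_nonneg (Int.emod_nonneg e (by exact_mod_cast hp.out.ne_zero))]
      exact ⟨-(e / p), by rw [Int.emod_def]; ring⟩⟩
    obtain ⟨m, hm⟩ := hnat (n' * r)
    obtain ⟨m', hm'⟩ := hnat (c' * q)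
    obtain ⟨hTk, hTa, hTy⟩ := hpow t a y htk hta n hty m
    obtain ⟨hT'k, hT'y, hT'a⟩ := hpow t' y a ht'k ht'y c ht'a m'
    set T := t ^ m
    set T' := t' ^ m'
    have hTy' : π (T y) = π y * π a ^ r := by
      rw [hTy]
      congr 1
      refine hmod _ ?_
      obtain ⟨w, hw⟩ := hm
      exact ⟨-(n * w) + v * r, by linear_combination (n : ℤ) * (-hw) - r * hn'⟩
    have hT'a' : π (T' a) = π a * π y ^ q := by
      rw [hT'a]
      congr 1
      refine hmod _ ?_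
      obtain ⟨w, hw⟩ := hm'
      exact ⟨-(c * w) + v' * q, by linear_combination (c : ℤ) * (-hw) - q * hc'⟩
    have hTG : T ∈ G := G.pow_mem (Subgroup.subset_closure (by simp)) _
    have hT'G : T' ∈ G := G.pow_mem (Subgroup.subset_closure (by simp)) _
    refine ⟨T * T' * T, G.mul_mem (G.mul_mem hTG hT'G) hTG, fun u hu => hTk _ (hT'k _ (hTk u hu)), ?_, ?_⟩
    · have e1 : π (T a) = π a ^ (1 : ℤ) * π y ^ (0 : ℤ) := by rw [hTa, zpow_one, zpow_zero, mul_one]
      have e2 := hexp hT'k e1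
      rw [hT'a', hT'y, zpow_one, zpow_zero, mul_one] at e2
      have e3 := hexp hTk (u := T' (T a)) (i := 1) (j := q) (by rw [zpow_one]; exact e2)
      rw [hTa, hTy', zpow_one, mul_zpow, ← zpow_mul] at e3
      refine e3.trans ?_
      rw [mul_left_comm, ← zpow_one_add, hmod (π a) (f := 0) (by
        obtain ⟨w, hw⟩ := hrq; exact ⟨-w, by linear_combination -hw⟩), zpow_zero, mul_one]
    · have e1 : π (T y) = π a ^ r * π y ^ (1 : ℤ) := by rw [hTy', zpow_one, mul_comm]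
      have e2 := hexp hT'k e1
      rw [hT'a', hT'y, zpow_one, mul_zpow, ← zpow_mul, mul_assoc, ← zpow_add_one,
        hmod (π y) (e := q * r + 1) (f := 0) (by
          obtain ⟨w, hw⟩ := hrq; exact ⟨-w, by linear_combination -hw⟩), zpow_zero, mul_one] at e2
      have e3 := hexp hTk (u := T' (T y)) (i := r) (j := 0) (by rw [zpow_zero, mul_one]; exact e2)
      rw [hTa, zpow_zero, mul_one] at e3
      exact e3
  obtain ⟨W₁, hW₁, -, h₁a, h₁y⟩ := hW 1 (-1) ⟨0, by ring⟩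
  have h2p : ¬ (p : ℤ) ∣ 2 := fun h => hp2
    ((Nat.prime_dvd_prime_iff_eq hp.out Nat.prime_two).mp (Int.natCast_dvd_natCast.mp h))
  obtain ⟨v, k, hk⟩ := (Nat.prime_iff_prime_int.mp hp.out).coprime_iff_not_dvd.mpr h2p
  obtain ⟨W₂, hW₂, hW₂k, h₂a, h₂y⟩ := hW 2 (-k) ⟨v, by linear_combination -hk⟩
  refine ⟨W₂ * W₁, G.mul_mem hW₂ hW₁, -k, ⟨v, by linear_combination -hk⟩, ?_, ?_⟩
  · have e := hexp hW₂k (u := W₁ a) (i := 0) (j := -1) (by rw [zpow_zero, one_mul]; exact h₁a)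
    rw [h₂y, zpow_zero, one_mul, ← zpow_mul] at e
    exact e
  · have e := hexp hW₂k (u := W₁ y) (i := 1) (j := 0) (by rw [zpow_zero, mul_one]; exact h₁y)
    rw [h₂a, zpow_one, zpow_zero, mul_one] at e
    exact e

end Cfsg.Agent.Fusion.RankTwoP5
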