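/-
Rank two `p`-groups, `p ≥ 5`: resistance.
-/
import Cfsg.Agent.Fusion.RankTwoSquare
import Cfsg.Agent.Fusion.RankTwoClosed
import Cfsg.Agent.Fusion.Torus
import Cfsg.Agent.OddLocal.RankTwo.RankTwoCentral
set_option autoImplicit false

namespace Cfsg.Agent.Fusion.RankTwoP5

open Cfsg Cfsg.FusionSystem
open scoped commutatorElement Pointwise

variable {Ω : Type*} [Group Ω] {S E : Subgroup Ω} {p : ℕ} [hp : Fact p.Prime] {F : FusionSystem S}

/-- The elements of `E` whose commutators with `S` lie in the powers of `z`. -/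
def InA (S E : Subgroup Ω) (z x : Ω) : Prop := x ∈ E ∧ ∀ g ∈ S, g * x * g⁻¹ * x⁻¹ ∈ Subgroup.zpowers z

theorem gen_of_card {y a z : Ω} [Finite E] (hyE : y ∈ E) (hcard : Nat.card E = p ^ 3) {A : Subgroup Ω}
    (hAE : A ≤ E) (hA : ∀ x ∈ A, ∃ j k : ℤ, x = a ^ j * z ^ k) (hAc : Nat.card A = p ^ 2) (hy : y ∉ A)
    (hconj : ∀ x ∈ A, y * x * y⁻¹ ∈ A) :
    ∀ x ∈ E, ∃ i j k : ℤ, x = y ^ i * a ^ j * z ^ k := by
  intro x hx
  haveI : Finite A := finite_of_le hAE
  have hle : A ⊔ Subgroup.zpowers y ≤ E := sup_le hAE (Subgroup.zpowers_le.mpr hyE)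
  haveI := finite_of_le hle
  have hlt : Nat.card A < Nat.card (A ⊔ Subgroup.zpowers y : Subgroup Ω) :=
    card_lt_of_lt (lt_of_le_of_ne le_sup_left fun e => hy (e ▸ Subgroup.mem_sup_right (Subgroup.mem_zpowers y)))
  have hd := Subgroup.card_dvd_of_le hle
  rw [hcard] at hd
  obtain ⟨i, hi, hX⟩ := (Nat.dvd_prime_pow hp.out).mp hd
  rw [hAc, hX, Nat.pow_lt_pow_iff_right hp.out.one_lt] at hlt
  have hi3 : i = 3 := by omega
  subst hi3
  have htop := eq_of_le_of_card hle (by rw [hcard, hX])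
  have hn : y ∈ Subgroup.normalizer (A : Set Ω) := by
    let φ : A → A := fun w => ⟨y * w * y⁻¹, hconj w w.2⟩
    have hφ : Function.Surjective φ := Finite.injective_iff_surjective.mp fun u v e => by
      have := congrArg Subtype.val e
      simpa [φ] using this
    rw [Subgroup.mem_normalizer_iff]
    refine fun w => ⟨hconj w, fun hw => ?_⟩
    obtain ⟨v, hv⟩ := hφ ⟨_, hw⟩
    have : (v : Ω) = w := by simpa [φ] using congrArg Subtype.val hv
    exact this ▸ v.2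
  have hxm : x ∈ Subgroup.zpowers y ⊔ A := by rw [sup_comm, htop]; exact hx
  have hxm' : x ∈ (Subgroup.zpowers y : Set Ω) * (A : Set Ω) := by
    rw [← Subgroup.coe_mul_of_left_le_normalizer_right _ _ (Subgroup.zpowers_le.mpr hn)]
    exact hxm
  obtain ⟨u, hu, v, hv, rfl⟩ := hxm'
  obtain ⟨i, rfl⟩ := Subgroup.mem_zpowers_iff.mp hu
  obtain ⟨j, k, rfl⟩ := hA v hv
  exact ⟨i, j, k, (mul_assoc _ _ _).symm⟩

/-- The facts shared by all coordinate systems. -/
structure Base (p : ℕ) (S E : Subgroup Ω) (z : Ω) : Prop where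
  hE : E ≤ S
  hn : S ≤ Subgroup.normalizer (E : Set Ω)
  small : ∀ x ∈ S, x ^ p = 1 → x ∈ E
  exp : ∀ x ∈ E, x ^ p = 1
  card : Nat.card E = p ^ 3
  zE : z ∈ E
  z1 : z ≠ 1
  zc : ∀ g ∈ S, Commute z g
  comm : ∀ u ∈ E, ∀ v ∈ E, u * v * u⁻¹ * v⁻¹ ∈ Subgroup.zpowers z
  nab : ∃ u ∈ E, ∃ v ∈ E, u * v ≠ v * u
  rank : ∀ A : Subgroup Ω, A ≤ S → IsElementaryAbelian p A → Nat.card A ≤ p ^ 2

namespace Base

variable {z : Ω} (hb : Base p S E z) [Finite S]
include hb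

theorem card_zp : Nat.card (Subgroup.zpowers z) = p := by
  rw [Nat.card_zpowers]; exact orderOf_eq_prime (hb.exp z hb.zE) hb.z1

omit hp in
theorem zp_conj {g w : Ω} (hg : g ∈ S) (hw : w ∈ Subgroup.zpowers z) : g * w * g⁻¹ = w := by
  obtain ⟨n, rfl⟩ := Subgroup.mem_zpowers_iff.mp hw
  rw [← ((hb.zc g hg).zpow_left n).eq, mul_inv_cancel_right]

/-- The subgroup of `E` centralized by `S` modulo `z`. -/
theorem exists_A (hS : IsPGroup p S) : ∃ A : Subgroup Ω, (∀ x, x ∈ A ↔ InA S E z x) ∧ Subgroup.zpowers z ≤ A ∧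
    (A ≠ E → Nat.card A = p ^ 2 ∧ ∀ x ∈ E, ∀ g ∈ S, g * x * g⁻¹ * x⁻¹ ∈ A) := by
  haveI := finite_of_le hb.hE
  let A : Subgroup Ω :=
    { carrier := {x | InA S E z x}
      one_mem' := ⟨E.one_mem, fun g hg => by simp⟩
      mul_mem' := by
        rintro u v ⟨hu, hu'⟩ ⟨hv, hv'⟩
        refine ⟨E.mul_mem hu hv, fun g hg => ?_⟩
        rw [show g * (u * v) * g⁻¹ * (u * v)⁻¹ = (g * u * g⁻¹ * u⁻¹) * (u * (g * v * g⁻¹ * v⁻¹) * u⁻¹) by group,
          hb.zp_conj (hb.hE hu) (hv' g hg)]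
        exact mul_mem (hu' g hg) (hv' g hg)
      inv_mem' := by
        rintro u ⟨hu, hu'⟩
        refine ⟨E.inv_mem hu, fun g hg => ?_⟩
        rw [show g * u⁻¹ * g⁻¹ * u⁻¹⁻¹ = u⁻¹ * (g * u * g⁻¹ * u⁻¹)⁻¹ * u⁻¹⁻¹ by group,
          hb.zp_conj (S.inv_mem (hb.hE hu)) (inv_mem (hu' g hg))]
        exact inv_mem (hu' g hg) }
  have hAE : A ≤ E := fun x hx => hx.1
  have hzA : Subgroup.zpowers z ≤ A := Subgroup.zpowers_le.mpr ⟨hb.zE, fun g hg => by
    rw [← (hb.zc g hg).eq, mul_inv_cancel_right, mul_inv_cancel]; exact one_mem _⟩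
  refine ⟨A, fun x => Iff.rfl, hzA, fun hne => ?_⟩
  haveI := finite_of_le hAE
  haveI : Finite (MulAut E) := finite_mulAut
  have hcard : Nat.card A = p ^ 2 := by
    obtain ⟨i, hi, hX⟩ := (Nat.dvd_prime_pow hp.out).mp (hb.card ▸ Subgroup.card_dvd_of_le hAE)
    have h1 : p ≤ Nat.card A := hb.card_zp ▸ card_le_of_le hzA
    rw [hX]
    rcases i with _ | _ | _ | i
    · rw [hX, pow_zero] at h1; exact absurd h1 (by have := hp.out.two_le; omega)
    · exfalso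
      -- `A = ⟨z⟩`: a central element of `E/⟨z⟩` gives more
      have hAz : A = Subgroup.zpowers z := (eq_of_le_of_card hzA (by rw [hX, pow_one, hb.card_zp])).symm
      let N : Subgroup S := (Subgroup.zpowers z).subgroupOf S
      haveI : N.Normal := ⟨fun w hw g => by
        show (g : Ω) * w * (g : Ω)⁻¹ ∈ Subgroup.zpowers z
        rw [show (g : Ω) * w * (g : Ω)⁻¹ = w from hb.zp_conj g.2 hw]; exact hw⟩
      let π := QuotientGroup.mk' N
      haveI : Group.IsNilpotent (S ⧸ N) := (hS.to_quotient N).isNilpotent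
      haveI : ((E.subgroupOf S).map π).Normal := Subgroup.Normal.map
        ((Subgroup.normal_subgroupOf_iff_le_normalizer hb.hE).mpr hb.hn) π (QuotientGroup.mk'_surjective N)
      obtain ⟨w, hw, hw1, hwc⟩ := OddLocal.exists_ne_one_mem_center_of_normal ((E.subgroupOf S).map π) (by
        intro e
        rw [Subgroup.map_eq_bot_iff, QuotientGroup.ker_mk'] at e
        haveI := finite_of_le (Subgroup.zpowers_le.mpr (hb.hE hb.zE))
        have : E ≤ Subgroup.zpowers z := fun x hx => e (show (⟨x, hb.hE hx⟩ : S) ∈ E.subgroupOf S from hx)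
        have := card_le_of_le this
        rw [hb.card, hb.card_zp] at this
        exact absurd this (not_le.mpr (by
          calc p = p ^ 1 := (pow_one p).symm
            _ < p ^ 3 := Nat.pow_lt_pow_right hp.out.one_lt (by norm_num))))
      obtain ⟨x, hx, rfl⟩ := hw
      have hxA : (x : Ω) ∈ A := ⟨hx, fun g hg => by
        have := Subgroup.mem_center_iff.mp hwc (π ⟨g, hg⟩)
        rw [← commutatorElement_eq_one_iff_mul_comm, ← map_commutatorElement, QuotientGroup.mk'_apply,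
          QuotientGroup.eq_one_iff] at this
        exact this⟩
      rw [hAz] at hxA
      exact hw1 ((QuotientGroup.eq_one_iff x).mpr hxA)
    · rfl
    · exact absurd (eq_of_le_of_card hAE (by rw [hX, hb.card]; exact Nat.pow_le_pow_right hp.out.pos (by omega))) hne
  refine ⟨hcard, fun x hx g hg => ?_⟩
  obtain ⟨k, hk⟩ := (isPGroup_autInducedBy hS E) ⟨_, (range_actHom S E).le ⟨⟨g, hg, hb.hn hg⟩, rfl⟩⟩
  have hAn : ∀ w ∈ A, g * w * g⁻¹ ∈ A := fun w hw => by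
    have := A.mul_mem (hzA (hw.2 g hg)) hw
    simpa using this
  have h := EssShape.fix_small (congrArg Subtype.val hk) (le_top : A.subgroupOf E ≤ ⊤)
    (fun w hw => by
      show ((actHom S E ⟨g, hg, hb.hn hg⟩ w : E) : Ω) ∈ A
      rw [actHom_apply]; exact hAn w hw)
    (fun _ _ => Subgroup.mem_top _)
    (by rw [Subgroup.card_top, hb.card, Nat.card_congr (Subgroup.subgroupOfEquivOfLe hAE).toEquiv, hcard]; exact le_of_eq (by ring))
    ⟨x, hx⟩ (Subgroup.mem_top _)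
  have h' : ((⟨x, hx⟩ : E)⁻¹ * actHom S E ⟨g, hg, hb.hn hg⟩ ⟨x, hx⟩ : E).1 ∈ A := h
  rw [Subgroup.coe_mul, Subgroup.coe_inv, actHom_apply] at h'
  have h3 := A.mul_mem (hzA (h'.2 x (hb.hE hx))) h'
  rw [show g * x * g⁻¹ * x⁻¹ = x * (x⁻¹ * (g * x * g⁻¹)) * x⁻¹ * (x⁻¹ * (g * x * g⁻¹))⁻¹ *
    (x⁻¹ * (g * x * g⁻¹)) by group]
  exact h3

theorem exists_ctx (hS : IsPGroup p S) {A : Subgroup Ω} (hA : ∀ x, x ∈ A ↔ InA S E z x)
    (hAc : A ≠ E → Nat.card A = p ^ 2 ∧ ∀ x ∈ E, ∀ g ∈ S, g * x * g⁻¹ * x⁻¹ ∈ A)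
    (hne : A ≠ E) {y : Ω} (hyE : y ∈ E) (hyA : y ∉ A) :
    ∃ (a : Ω) (z' : Ω) (s : Ω) (w₁ w₂ : ℤ), Ctx p S E y a z' ∧ Subgroup.zpowers z' = Subgroup.zpowers z ∧
      s ∈ S ∧ Acts y a z' s 1 w₁ w₂ ∧ (∀ x, x ∈ A ↔ ∃ j k : ℤ, x = a ^ j * z' ^ k) := by
  haveI := finite_of_le hb.hE
  obtain ⟨hcard, hcomA⟩ := hAc hne
  have hAE : A ≤ E := fun x hx => ((hA x).mp hx).1
  haveI := finite_of_le hAE
  haveI := finite_of_le (Subgroup.zpowers_le.mpr (hb.hE hb.zE))
  obtain ⟨s, hs, hsy⟩ : ∃ s ∈ S, y⁻¹ * (s * y * s⁻¹) ∉ Subgroup.zpowers z := by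
    by_contra h
    push_neg at h
    refine hyA ((hA y).mpr ⟨hyE, fun g hg => ?_⟩)
    have h1 := h g hg
    rw [show g * y * g⁻¹ * y⁻¹ = y * (y⁻¹ * (g * y * g⁻¹)) * y⁻¹ by group, hb.zp_conj (hb.hE hyE) h1]
    exact h1
  set a := y⁻¹ * (s * y * s⁻¹) with ha
  have hcA : ∀ x ∈ E, ∀ g ∈ S, x⁻¹ * (g * x * g⁻¹) ∈ A := fun x hx g hg => by
    have h1 := hcomA x hx g hg
    have h2 := A.mul_mem (Subgroup.zpowers_le.mpr ((hA z).mpr ⟨hb.zE, fun g hg => by
      rw [← (hb.zc g hg).eq, mul_inv_cancel_right, mul_inv_cancel]; exact one_mem _⟩)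
      (((hA _).mp h1).2 x⁻¹ (S.inv_mem (hb.hE hx)))) h1
    rw [inv_inv] at h2
    simpa [mul_assoc] using h2
  have haA : a ∈ A := hcA y hyE s hs
  set z' := a⁻¹ * (y⁻¹ * a * y) with hz'
  have hz'Z : z' ∈ Subgroup.zpowers z := by
    have := hb.comm a⁻¹ (E.inv_mem (hAE haA)) y⁻¹ (E.inv_mem hyE)
    simpa [hz', mul_assoc] using this
  have hz'1 : z' ≠ 1 := by
    intro e
    have hcay : Commute a y := by
      have : y⁻¹ * a * y = a := (inv_mul_eq_one.mp e).symm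
      show a * y = y * a
      conv_rhs => rw [← this]
      group
    have hcaz : Commute a z := (hb.zc a (hb.hE (hAE haA))).symm
    -- `E` would be abelian
    have hA' : ∀ x ∈ A, ∃ j k : ℤ, x = a ^ j * z ^ k := by
      intro x hx
      have hle : Subgroup.zpowers z ⊔ Subgroup.zpowers a ≤ A := sup_le (Subgroup.zpowers_le.mpr ((hA z).mpr
        ⟨hb.zE, fun g hg => by rw [← (hb.zc g hg).eq, mul_inv_cancel_right, mul_inv_cancel]; exact one_mem _⟩))
        (Subgroup.zpowers_le.mpr haA)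
      haveI := finite_of_le hle
      have hlt : Nat.card (Subgroup.zpowers z) < Nat.card (Subgroup.zpowers z ⊔ Subgroup.zpowers a : Subgroup Ω) :=
        card_lt_of_lt (lt_of_le_of_ne le_sup_left fun e => hsy (e ▸ Subgroup.mem_sup_right (Subgroup.mem_zpowers a)))
      obtain ⟨i, hi, hX⟩ := (Nat.dvd_prime_pow hp.out).mp (hcard ▸ Subgroup.card_dvd_of_le hle)
      rw [hb.card_zp, hX] at hlt
      have hi2 : i = 2 := by
        rcases i with _ | _ | i
        · rw [pow_zero] at hlt; have := hp.out.two_le; omega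
        · rw [pow_one] at hlt; omega
        · omega
      subst hi2
      have hm : x ∈ Subgroup.zpowers z ⊔ Subgroup.zpowers a := by
        rw [eq_of_le_of_card hle (by rw [hX, hcard])]; exact hx
      have hn : Subgroup.zpowers a ≤ Subgroup.normalizer (Subgroup.zpowers z : Set Ω) := by
        refine Subgroup.zpowers_le.mpr ?_
        rw [Subgroup.mem_normalizer_iff]
        refine fun w => ⟨fun hw => by rw [hb.zp_conj (hb.hE (hAE haA)) hw]; exact hw, fun hw => ?_⟩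
        have h1 := hb.zp_conj (S.inv_mem (hb.hE (hAE haA))) hw
        rw [show a⁻¹ * (a * w * a⁻¹) * a⁻¹⁻¹ = w by group] at h1
        exact h1 ▸ hw
      have hm' : x ∈ (Subgroup.zpowers z : Set Ω) * (Subgroup.zpowers a : Set Ω) := by
        rw [← Subgroup.coe_mul_of_right_le_normalizer_left _ _ hn]
        exact hm
      obtain ⟨u, hu, v, hv, rfl⟩ := hm'
      obtain ⟨j, rfl⟩ := Subgroup.mem_zpowers_iff.mp hv
      obtain ⟨k, rfl⟩ := Subgroup.mem_zpowers_iff.mp hu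
      exact ⟨j, k, ((hcaz.symm.zpow_zpow k j)).eq⟩
    have hgen := gen_of_card hyE hb.card hAE hA' hcard hyA (fun x hx => by
      obtain ⟨j, k, rfl⟩ := hA' x hx
      rw [show y * (a ^ j * z ^ k) * y⁻¹ = (a ^ j * z ^ k) by
        rw [← ((hcay.zpow_left j).mul_left ((hb.zc y (hb.hE hyE)).zpow_left k)).eq, mul_inv_cancel_right]]
      exact hx)
    obtain ⟨u, hu, v, hv, huv⟩ := hb.nab
    obtain ⟨i, j, k, rfl⟩ := hgen u hu
    obtain ⟨i', j', k', rfl⟩ := hgen v hv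
    have hzy : Commute z y := hb.zc y (hb.hE hyE)
    refine huv ?_
    exact ((((Commute.refl y).zpow_zpow i i').mul_right (hcay.symm.zpow_zpow i j')).mul_right
        (hzy.symm.zpow_zpow i k')).mul_left
      (((hcay.zpow_zpow j i').mul_right ((Commute.refl a).zpow_zpow j j')).mul_right (hcaz.zpow_zpow j k')) |>.mul_left
      (((hzy.zpow_zpow k i').mul_right (hcaz.symm.zpow_zpow k j')).mul_right ((Commute.refl z).zpow_zpow k k'))
  have hzeq : Subgroup.zpowers z' = Subgroup.zpowers z :=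
    eq_of_le_of_card (Subgroup.zpowers_le.mpr hz'Z) (le_of_eq (by
      rw [hb.card_zp, Nat.card_zpowers, orderOf_eq_prime (hb.exp z' (by
        obtain ⟨n, hn⟩ := Subgroup.mem_zpowers_iff.mp hz'Z
        exact hn ▸ E.zpow_mem hb.zE n)) hz'1]))
  have hz'E : z' ∈ E := by
    obtain ⟨n, hn⟩ := Subgroup.mem_zpowers_iff.mp hz'Z
    exact hn ▸ E.zpow_mem hb.zE n
  have hz'c : ∀ g ∈ S, Commute z' g := fun g hg => by
    obtain ⟨n, hn⟩ := Subgroup.mem_zpowers_iff.mp hz'Z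
    exact hn ▸ (hb.zc g hg).zpow_left n
  have hza : Commute z' a := hz'c a (hb.hE (hAE haA))
  have hZA : Subgroup.zpowers z' ≤ A := Subgroup.zpowers_le.mpr ((hA z').mpr ⟨hz'E, fun g hg => by
    rw [← (hz'c g hg).eq, mul_inv_cancel_right, mul_inv_cancel]; exact one_mem _⟩)
  haveI := finite_of_le hZA
  have hA' : ∀ x ∈ A, ∃ j k : ℤ, x = a ^ j * z' ^ k := by
    intro x hx
    have hle : Subgroup.zpowers z' ⊔ Subgroup.zpowers a ≤ A := sup_le hZA (Subgroup.zpowers_le.mpr haA)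
    haveI := finite_of_le hle
    have hlt : Nat.card (Subgroup.zpowers z') < Nat.card (Subgroup.zpowers z' ⊔ Subgroup.zpowers a : Subgroup Ω) :=
      card_lt_of_lt (lt_of_le_of_ne le_sup_left fun e => hsy (hzeq ▸ (e ▸ Subgroup.mem_sup_right (Subgroup.mem_zpowers a))))
    obtain ⟨i, hi, hX⟩ := (Nat.dvd_prime_pow hp.out).mp (hcard ▸ Subgroup.card_dvd_of_le hle)
    rw [hX, hzeq, hb.card_zp] at hlt
    have hi2 : i = 2 := by
      rcases i with _ | _ | i
      · rw [pow_zero] at hlt; have := hp.out.two_le; omega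
      · rw [pow_one] at hlt; omega
      · omega
    subst hi2
    have hm : x ∈ Subgroup.zpowers z' ⊔ Subgroup.zpowers a := by
      rw [eq_of_le_of_card hle (by rw [hX, hcard])]; exact hx
    have hn : Subgroup.zpowers a ≤ Subgroup.normalizer (Subgroup.zpowers z' : Set Ω) := by
      refine Subgroup.zpowers_le.mpr ?_
      rw [hzeq, Subgroup.mem_normalizer_iff]
      refine fun w => ⟨fun hw => by rw [hb.zp_conj (hb.hE (hAE haA)) hw]; exact hw, fun hw => ?_⟩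
      have h1 := hb.zp_conj (S.inv_mem (hb.hE (hAE haA))) hw
      rw [show a⁻¹ * (a * w * a⁻¹) * a⁻¹⁻¹ = w by group] at h1
      exact h1 ▸ hw
    have hm' : x ∈ (Subgroup.zpowers z' : Set Ω) * (Subgroup.zpowers a : Set Ω) := by
      rw [← Subgroup.coe_mul_of_right_le_normalizer_left _ _ hn]
      exact hm
    obtain ⟨u, hu, v, hv, rfl⟩ := hm'
    obtain ⟨j, rfl⟩ := Subgroup.mem_zpowers_iff.mp hv
    obtain ⟨k, rfl⟩ := Subgroup.mem_zpowers_iff.mp hu
    exact ⟨j, k, (hza.zpow_zpow k j).eq⟩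
  have hAiff : ∀ x, x ∈ A ↔ ∃ j k : ℤ, x = a ^ j * z' ^ k := fun x => ⟨hA' x, by
    rintro ⟨j, k, rfl⟩
    exact A.mul_mem (A.zpow_mem haA j) (hZA (Subgroup.zpow_mem _ (Subgroup.mem_zpowers z') k))⟩
  have hay : a * y = y * a * z' := by simp only [hz']; group
  have hconjA : ∀ x ∈ A, y * x * y⁻¹ ∈ A := fun x hx => by
    have h1 := hzeq.symm ▸ ((hA x).mp hx).2 y (hb.hE hyE)
    have h2 := A.mul_mem (hZA h1) hx
    rwa [inv_mul_cancel_right] at h2
  have hgen := gen_of_card hyE hb.card hAE hA' hcard hyA hconjA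
  have hdiv : ∀ {x : Ω}, x ∈ E → ∀ {n : ℤ}, ∀ {B : Subgroup Ω}, x ^ n ∈ B → x ∉ B → (p : ℤ) ∣ n := by
    intro x hx n B hxn hxB
    by_contra hn
    obtain ⟨r, q, hrq⟩ := (Nat.prime_iff_prime_int.mp hp.out).coprime_iff_not_dvd.mpr hn
    refine hxB ?_
    have := B.zpow_mem hxn q
    rwa [← zpow_mul, show n * q = 1 + (p : ℤ) * (-r) by linear_combination hrq, zpow_add, zpow_mul, zpow_natCast,
      hb.exp x hx, one_zpow, mul_one, zpow_one] at this
  refine ⟨a, z', s, 0, ?_⟩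
  have hctx : Ctx p S E y a z' :=
    { hE := hb.hE
      hn := hb.hn
      small := hb.small
      exp := hb.exp
      z1 := hz'1
      yE := hyE
      aE := hAE haA
      zE := hz'E
      zc := hz'c
      ay := hay
      gen := hgen
      uniq := by
        intro i j k e
        have hz'k : z' ^ k ∈ A := hZA (Subgroup.zpow_mem _ (Subgroup.mem_zpowers z') k)
        have hi : (p : ℤ) ∣ i := hdiv hyE (B := A) (by
          rw [show y ^ i = (a ^ j * z' ^ k)⁻¹ from eq_inv_of_mul_eq_one_left (by rw [← mul_assoc]; exact e)]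
          exact A.inv_mem (A.mul_mem (A.zpow_mem haA j) hz'k)) hyA
        obtain ⟨t, rfl⟩ := hi
        rw [zpow_mul, zpow_natCast, hb.exp y hyE, one_zpow, one_mul] at e
        have hj : (p : ℤ) ∣ j := hdiv (hAE haA) (B := Subgroup.zpowers z) (by
          rw [show a ^ j = (z' ^ k)⁻¹ from eq_inv_of_mul_eq_one_left e, ← hzeq]
          exact inv_mem (Subgroup.zpow_mem _ (Subgroup.mem_zpowers z') k)) hsy
        obtain ⟨t', rfl⟩ := hj
        rw [zpow_mul, zpow_natCast, hb.exp a (hAE haA), one_zpow, one_mul] at e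
        exact ⟨dvd_mul_right _ _, dvd_mul_right _ _, hdiv hz'E (B := ⊥) (Subgroup.mem_bot.mpr e)
          (by rw [Subgroup.mem_bot]; exact hz'1)⟩
      shape := by
        intro g hg
        obtain ⟨i, k, e⟩ := hA' _ (hcA y hyE g hg)
        obtain ⟨l, hl⟩ := Subgroup.mem_zpowers_iff.mp (hzeq.symm ▸ ((hA a).mp haA).2 g hg)
        refine ⟨i, k, l, ?_, ?_⟩
        · rw [mul_assoc y, ← e]; group
        · rw [(hz'c a (hb.hE (hAE haA))).symm.zpow_right l |>.eq, hl]; group }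
  obtain ⟨l, hl⟩ := Subgroup.mem_zpowers_iff.mp (hzeq.symm ▸ ((hA a).mp haA).2 s hs)
  refine ⟨l, hctx, hzeq, hs, ⟨?_, ?_⟩, hAiff⟩
  · rw [zpow_one, zpow_zero, mul_one, ha]; group
  · rw [((hz'c a (hb.hE (hAE haA))).symm.zpow_right l).eq, hl]; group

/-- Coordinates when `S` centralizes `E` modulo `z`. -/
theorem exists_ctx_inner (hS : IsPGroup p S) (h : ∀ x, x ∈ E → InA S E z x) :
    ∃ y a z', Ctx p S E y a z' ∧ ∀ g ∈ S, ∃ k l : ℤ, Acts y a z' g 0 k l := by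
  haveI := finite_of_le hb.hE
  haveI := finite_of_le (Subgroup.zpowers_le.mpr (hb.hE hb.zE))
  obtain ⟨a, haE, y, hyE, hnc⟩ := hb.nab
  set z' := a⁻¹ * (y⁻¹ * a * y) with hz'
  have hz'Z : z' ∈ Subgroup.zpowers z := by
    have := hb.comm a⁻¹ (E.inv_mem haE) y⁻¹ (E.inv_mem hyE)
    simpa [hz', mul_assoc] using this
  have hay : a * y = y * a * z' := by simp only [hz']; group
  have hz'1 : z' ≠ 1 := fun e => hnc (by rw [hay, e, mul_one])
  obtain ⟨n, hn⟩ := Subgroup.mem_zpowers_iff.mp hz'Z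
  have hz'E : z' ∈ E := hn ▸ E.zpow_mem hb.zE n
  have hz'c : ∀ g ∈ S, Commute z' g := fun g hg => hn ▸ (hb.zc g hg).zpow_left n
  have hzeq : Subgroup.zpowers z' = Subgroup.zpowers z :=
    eq_of_le_of_card (Subgroup.zpowers_le.mpr hz'Z) (le_of_eq (by
      rw [hb.card_zp, Nat.card_zpowers, orderOf_eq_prime (hb.exp z' hz'E) hz'1]))
  have hza : Commute z' a := hz'c a (hb.hE haE)
  have hzy : Commute z' y := hz'c y (hb.hE hyE)
  have haz : a ∉ Subgroup.zpowers z' := fun hm => hnc (by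
    obtain ⟨m, hm'⟩ := Subgroup.mem_zpowers_iff.mp hm
    exact (hm' ▸ hzy.zpow_left m : Commute a y).eq)
  let A₀ : Subgroup Ω :=
    { carrier := {x | ∃ j k : ℤ, x = a ^ j * z' ^ k}
      one_mem' := ⟨0, 0, by simp⟩
      mul_mem' := by
        rintro _ _ ⟨j, k, rfl⟩ ⟨j', k', rfl⟩
        exact ⟨j + j', k + k', by rw [zpow_add, zpow_add, (hza.zpow_zpow k j').symm.mul_mul_mul_comm]⟩
      inv_mem' := by
        rintro _ ⟨j, k, rfl⟩
        exact ⟨-j, -k, by rw [zpow_neg, zpow_neg, mul_inv_rev, (hza.zpow_zpow k j).inv_inv.eq]⟩ }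
  have hA₀E : A₀ ≤ E := by rintro _ ⟨j, k, rfl⟩; exact E.mul_mem (E.zpow_mem haE j) (E.zpow_mem hz'E k)
  have hyA₀ : y ∉ A₀ := by
    rintro ⟨j, k, e⟩
    exact hnc (e ▸ (((Commute.refl a).zpow_right j).mul_right (hza.symm.zpow_right k)) : Commute a y).eq
  haveI := finite_of_le hA₀E
  have hA₀c : Nat.card A₀ = p ^ 2 := by
    obtain ⟨i, hi, hX⟩ := (Nat.dvd_prime_pow hp.out).mp (hb.card ▸ Subgroup.card_dvd_of_le hA₀E)
    have h1 : Nat.card (Subgroup.zpowers z') < Nat.card A₀ := card_lt_of_lt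
      (lt_of_le_of_ne (Subgroup.zpowers_le.mpr ⟨0, 1, by simp⟩) fun e => haz (e ▸ ⟨1, 0, by simp⟩))
    have h2 : Nat.card A₀ < Nat.card E := card_lt_of_lt (lt_of_le_of_ne hA₀E fun e => hyA₀ (e ▸ hyE))
    rw [hzeq, hb.card_zp, hX] at h1
    rw [hb.card, hX, Nat.pow_lt_pow_iff_right hp.out.one_lt] at h2
    rw [hX]
    interval_cases i
    · rw [pow_zero] at h1; have := hp.out.two_le; omega
    · rw [pow_one] at h1; omega
    · rfl
  have hconjA : ∀ x ∈ A₀, y * x * y⁻¹ ∈ A₀ := fun x hx => by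
    obtain ⟨m, hm⟩ := Subgroup.mem_zpowers_iff.mp (hzeq.symm ▸ (h x (hA₀E hx)).2 y (hb.hE hyE))
    have h2 := A₀.mul_mem (show z' ^ m ∈ A₀ from ⟨0, m, by simp⟩) hx
    rwa [hm, inv_mul_cancel_right] at h2
  have hgen := gen_of_card hyE hb.card hA₀E (fun x hx => hx) hA₀c hyA₀ hconjA
  have hdiv : ∀ {x : Ω}, x ∈ E → ∀ {n : ℤ}, ∀ {B : Subgroup Ω}, x ^ n ∈ B → x ∉ B → (p : ℤ) ∣ n := by
    intro x hx n B hxn hxB
    by_contra hn
    obtain ⟨r, q, hrq⟩ := (Nat.prime_iff_prime_int.mp hp.out).coprime_iff_not_dvd.mpr hn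
    refine hxB ?_
    have := B.zpow_mem hxn q
    rwa [← zpow_mul, show n * q = 1 + (p : ℤ) * (-r) by linear_combination hrq, zpow_add, zpow_mul, zpow_natCast,
      hb.exp x hx, one_zpow, mul_one, zpow_one] at this
  have hsh : ∀ g ∈ S, ∃ k l : ℤ, Acts y a z' g 0 k l := fun g hg => by
    obtain ⟨k, hk⟩ := Subgroup.mem_zpowers_iff.mp (hzeq.symm ▸ (h y hyE).2 g hg)
    obtain ⟨l, hl⟩ := Subgroup.mem_zpowers_iff.mp (hzeq.symm ▸ (h a haE).2 g hg)
    refine ⟨k, l, ?_, ?_⟩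
    · rw [zpow_zero, mul_one, (hzy.zpow_left k).symm.eq, hk]; group
    · rw [(hza.zpow_left l).symm.eq, hl]; group
  refine ⟨y, a, z', ⟨hb.hE, hb.hn, hb.small, hb.exp, hz'1, hyE, haE, hz'E, hz'c, hay, hgen, ?_,
    fun g hg => ⟨0, hsh g hg⟩⟩, hsh⟩
  intro i j k e
  have hi : (p : ℤ) ∣ i := hdiv hyE (B := A₀) (by
    rw [show y ^ i = (a ^ j * z' ^ k)⁻¹ from eq_inv_of_mul_eq_one_left (by rw [← mul_assoc]; exact e)]
    exact A₀.inv_mem ⟨j, k, rfl⟩) hyA₀
  obtain ⟨t, rfl⟩ := hi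
  rw [zpow_mul, zpow_natCast, hb.exp y hyE, one_zpow, one_mul] at e
  have hj : (p : ℤ) ∣ j := hdiv haE (B := Subgroup.zpowers z') (by
    rw [show a ^ j = (z' ^ k)⁻¹ from eq_inv_of_mul_eq_one_left e]
    exact inv_mem (Subgroup.zpow_mem _ (Subgroup.mem_zpowers z') k)) haz
  obtain ⟨t', rfl⟩ := hj
  rw [zpow_mul, zpow_natCast, hb.exp a haE, one_zpow, one_mul] at e
  exact ⟨dvd_mul_right _ _, dvd_mul_right _ _, hdiv hz'E (B := ⊥) (Subgroup.mem_bot.mpr e)
    (by rw [Subgroup.mem_bot]; exact hz'1)⟩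

end Base

end Cfsg.Agent.Fusion.RankTwoP5
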