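/-
Resistance of rank two `p`-groups, `p ≥ 5`.
-/
import Cfsg.Agent.Fusion.RankTwoP5
set_option autoImplicit false

namespace Cfsg.Agent.Fusion.RankTwoP5

open Cfsg Cfsg.FusionSystem
open scoped commutatorElement

variable {Ω : Type*} [Group Ω] {S E : Subgroup Ω} {y a z : Ω} {p : ℕ} [hp : Fact p.Prime]
  {F : FusionSystem S}

/-- A morphism onto `z` extends to the centralizer of its preimage. -/
theorem exists_to_z [Finite S] (hS : IsPGroup p S) (hF : F.IsSaturated p) {z : Ω} (hzS : z ∈ S)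
    (hzc : ∀ g ∈ S, Commute z g) {D : Subgroup Ω} {φ : Ω → Ω} (hφ : Mor F D φ) {x : Ω} (hx : x ∈ D)
    (e : φ x = z) :
    ∃ (N : Subgroup Ω) (g : Ω → Ω), Mor F N g ∧ g x = z ∧ ∀ u ∈ S, Commute u x → u ∈ N := by
  have hm := hφ.restrict (Subgroup.zpowers_le.mpr hx : Subgroup.zpowers x ≤ D)
  have himg : hm.img = Subgroup.zpowers z := by
    ext w
    rw [hm.mem_img]
    constructor
    · rintro ⟨v, hv, rfl⟩
      obtain ⟨n, rfl⟩ := Subgroup.mem_zpowers_iff.mp hv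
      rw [show φ (x ^ n) = φ x ^ n from map_zpow hm.hom ⟨x, Subgroup.mem_zpowers x⟩ n, e]
      exact Subgroup.zpow_mem _ (Subgroup.mem_zpowers z) n
    · intro hw
      obtain ⟨n, rfl⟩ := Subgroup.mem_zpowers_iff.mp hw
      exact ⟨x ^ n, Subgroup.zpow_mem _ (Subgroup.mem_zpowers x) n, by
        rw [show φ (x ^ n) = φ x ^ n from map_zpow hm.hom ⟨x, Subgroup.mem_zpowers x⟩ n, e]⟩
  have hi : Iso F φ (Subgroup.zpowers x) (Subgroup.zpowers z) := himg ▸ hm.toIso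
  have hfn : F.IsFullyNormalized (Subgroup.zpowers z) := by
    refine ⟨Subgroup.zpowers_le.mpr hzS, fun Q _ => ?_⟩
    haveI := finite_of_le (normalizerIn_le (S := S) (P := Subgroup.zpowers z))
    refine card_le_of_le (le_inf normalizerIn_le (normalizerIn_le.trans fun g hg => ?_))
    refine Subgroup.centralizer_le_normalizer _ fun w hw => ?_
    obtain ⟨n, rfl⟩ := Subgroup.mem_zpowers_iff.mp hw
    exact ((hzc g hg).zpow_left n).eq
  obtain ⟨g, hg, eg⟩ := (receptive_iff.mp (IsSaturated_fullyNormalized hS hF hfn).2.2).2 _ _ hi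
  refine ⟨_, g, hg, (eg x (Subgroup.mem_zpowers x)).trans e, fun u hu hc => centralizerIn_le_nphi ⟨hu, fun w hw => ?_⟩⟩
  obtain ⟨n, rfl⟩ := Subgroup.mem_zpowers_iff.mp hw
  exact ((hc.symm).zpow_left n).eq

namespace Ctx

variable (h : Ctx p S E y a z)
include h

theorem zdiv {k : ℤ} (e : z ^ k = 1) : (p : ℤ) ∣ k :=
  (h.uniq 0 0 k (by simpa using e)).2.2

theorem root {u : Ω} {k : ℤ} (hu : u = z ^ k) (hu1 : u ≠ 1) : ∃ t : ℤ, u ^ t = z := by
  have hk : ¬ (p : ℤ) ∣ k := fun hd => hu1 (by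
    rw [hu, h.pow_congr h.zE (f := 0) (by simpa using hd.neg_right), zpow_zero])
  obtain ⟨r, q, hrq⟩ := (Nat.prime_iff_prime_int.mp hp.out).coprime_iff_not_dvd.mpr hk
  refine ⟨q, ?_⟩
  rw [hu, ← zpow_mul]
  conv_rhs => rw [← zpow_one z]
  exact h.pow_congr h.zE ⟨r, by linear_combination -hrq⟩

/-- An element with a large element in its centralizer is not conjugate to `z` outside `⟨z⟩`. -/
theorem no_fusion [Finite S] (hS : IsPGroup p S) (hF : F.IsSaturated p) (hp2 : p ≠ 2) {D : Subgroup Ω}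
    {φ : Ω → Ω} (hφ : Mor F D φ) {x : Ω} (hx : x ∈ D) (e : φ x = z)
    (hu : ∃ u ∈ S, Commute u x ∧ u ^ p ≠ 1) : x ∈ Subgroup.zpowers z := by
  obtain ⟨u, huS, hux, hu1⟩ := hu
  obtain ⟨N, g, hg, hgx, hN⟩ := exists_to_z hS hF (h.hE h.zE) h.zc hφ hx e
  obtain ⟨m, hmp, hm1, hmo, k, hk⟩ := h.socle hS hp2 huS hu1
  have huN := hN u huS hux
  have hxN := hN x (hφ.dom_le hx) (Commute.refl x)
  have e1 : g (u ^ m) = g u ^ m := hg.map_pow huN m
  obtain ⟨k', hk'⟩ : ∃ k' : ℤ, g u ^ m = z ^ k' := by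
    refine h.centralizer_omega ?_ ?_
    · obtain ⟨m', rfl⟩ := hmp
      rw [pow_mul]
      exact (centralizerIn S E).pow_mem (h.pow_mem_centralizer hp2 (hg.map_mem huN)) m'
    · rw [← e1, ← hg.map_pow (N.pow_mem huN m), hmo, hg.map_one]
  have hne : g u ^ m ≠ 1 := fun e' => hm1 (hg.injOn (N.pow_mem huN m) N.one_mem (by rw [e1, e', hg.map_one]))
  obtain ⟨t, ht⟩ := h.root hk' hne
  have e2 : g ((u ^ m) ^ t) = g x := by
    rw [hgx, show g ((u ^ m) ^ t) = g (u ^ m) ^ t from map_zpow hg.hom ⟨_, N.pow_mem huN m⟩ t, e1, ht]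
  rw [← hg.injOn (N.zpow_mem (N.pow_mem huN m) t) hxN e2, hk, ← zpow_mul]
  exact Subgroup.zpow_mem _ (Subgroup.mem_zpowers z) _

theorem high {u : Ω} (hu : u ∈ S) (hE : u ∉ E) : u ^ p ≠ 1 := fun e => hE (h.small u hu e)

theorem central_mem {c : Ω} (hc : c ∈ centralizerIn S E) (hc1 : c ^ p = 1) : c ∈ E := h.small c hc.1 hc1

end Ctx

/-- `⟨z⟩` is strongly closed. -/
theorem Base.zp_stronglyClosed {z : Ω} (hb : Base p S E z) [Finite S] (hS : IsPGroup p S)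
    (hF : F.IsSaturated p) (h5 : 5 ≤ p) (hsc : F.StronglyClosed E) (hne : E ≠ S) :
    F.StronglyClosed (Subgroup.zpowers z) := by
  haveI := finite_of_le hb.hE
  have hp2 : p ≠ 2 := by omega
  refine stronglyClosed_of_mor (Subgroup.zpowers_le.mpr (hb.hE hb.zE)) fun P f hf x₀ hx₀P hx₀ => ?_
  obtain ⟨A, hA, hzA, hAc⟩ := hb.exists_A hS
  -- it suffices that no element outside `⟨z⟩` is conjugate to `z`
  suffices main : ∀ {D : Subgroup Ω} {φ : Ω → Ω}, Mor F D φ → ∀ x ∈ D, x ∈ E → φ x = z → x ∈ Subgroup.zpowers z by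
    by_contra hnot
    obtain ⟨n, rfl⟩ := Subgroup.mem_zpowers_iff.mp hx₀
    have hn : ¬ (p : ℤ) ∣ n := by
      rintro ⟨t, rfl⟩
      rw [zpow_mul, zpow_natCast, hb.exp z hb.zE, one_zpow, hf.map_one] at hnot
      exact hnot (one_mem _)
    obtain ⟨r, q, hrq⟩ := (Nat.prime_iff_prime_int.mp hp.out).coprime_iff_not_dvd.mpr hn
    have hzq : (z ^ n) ^ q = z := by
      rw [← zpow_mul, show n * q = 1 + (p : ℤ) * (-r) by linear_combination hrq, zpow_add, zpow_mul, zpow_natCast,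
        hb.exp z hb.zE, one_zpow, mul_one, zpow_one]
    have hzP : z ∈ P := hzq ▸ P.zpow_mem hx₀P q
    have hm := hf.restrict (Subgroup.zpowers_le.mpr hzP : Subgroup.zpowers z ≤ P)
    obtain ⟨g, hg, hl, -⟩ := hm.toIso.exists_symm
    have hfz : f z ∈ hm.img := hm.mem_img.mpr ⟨z, Subgroup.mem_zpowers z, rfl⟩
    have h1 := main hg.mor (f z) hfz (stronglyClosed_mem hsc hm (Subgroup.mem_zpowers z) hb.zE) (hl z (Subgroup.mem_zpowers z))
    refine hnot ?_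
    rw [show f (z ^ n) = f z ^ n from map_zpow hf.hom ⟨z, hzP⟩ n]
    exact Subgroup.zpow_mem _ h1 n
  intro D φ hφ x hxD hxE hφx
  have hzS := hb.hE hb.zE
  -- a large element of `C_S(E)` settles everything
  by_cases hC : ∃ c ∈ centralizerIn S E, c ∉ E
  · obtain ⟨c, hc, hcE⟩ := hC
    have hcx : Commute c x := (hc.2 x hxE).symm
    by_cases hAE : A = E
    · obtain ⟨y, a, z', hctx, -⟩ := hb.exists_ctx_inner hS fun w hw => (hA w).mp (hAE ▸ hw)
      obtain ⟨j, hj⟩ := hctx.center_mem hb.zE (hb.zc y (hb.hE hctx.yE)) (hb.zc a (hb.hE hctx.aE))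
      obtain ⟨t, ht⟩ := hctx.root hj hb.z1
      have h1 := hctx.no_fusion hS hF hp2 hφ (x := x ^ t) (D.zpow_mem hxD t)
        (by rw [show φ (x ^ t) = φ x ^ t from map_zpow hφ.hom ⟨x, hxD⟩ t, hφx, ht])
        ⟨c, hc.1, hcx.zpow_right t, hctx.high hc.1 hcE⟩
      obtain ⟨m, hm⟩ := Subgroup.mem_zpowers_iff.mp h1
      have hzz : z' ∈ Subgroup.zpowers z := ht ▸ Subgroup.zpow_mem _ (Subgroup.mem_zpowers z) t
      have ht' : ¬ (p : ℤ) ∣ t := fun hd => hctx.z1 (by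
        rw [← ht, hctx.pow_congr hb.zE (f := 0) (by simpa using hd.neg_right), zpow_zero])
      obtain ⟨r, q, hrq⟩ := (Nat.prime_iff_prime_int.mp hp.out).coprime_iff_not_dvd.mpr ht'
      have : x = (x ^ t) ^ q := by
        rw [← zpow_mul]; conv_lhs => rw [← zpow_one x]
        exact hctx.pow_congr hxE ⟨-r, by linear_combination hrq⟩
      rw [this, ← hm, ← zpow_mul]
      exact Subgroup.zpow_mem _ hzz _
    · obtain ⟨y, hyE, hyA⟩ : ∃ y ∈ E, y ∉ A := by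
        by_contra h; push_neg at h; exact hAE (le_antisymm (fun w hw => ((hA w).mp hw).1) h)
      obtain ⟨a, z', s, w₁, w₂, hctx, hzeq, -, -, -⟩ := hb.exists_ctx hS hA hAc hAE hyE hyA
      obtain ⟨j, hj⟩ := Subgroup.mem_zpowers_iff.mp (hzeq ▸ Subgroup.mem_zpowers z' : z' ∈ Subgroup.zpowers z)
      have h1 := hctx.no_fusion hS hF hp2 hφ (x := x ^ j) (D.zpow_mem hxD j)
        (by rw [show φ (x ^ j) = φ x ^ j from map_zpow hφ.hom ⟨x, hxD⟩ j, hφx, hj])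
        ⟨c, hc.1, hcx.zpow_right j, hctx.high hc.1 hcE⟩
      rw [hzeq] at h1
      have hj' : ¬ (p : ℤ) ∣ j := fun hd => hctx.z1 (by
        rw [← hj, hctx.pow_congr hb.zE (f := 0) (by simpa using hd.neg_right), zpow_zero])
      obtain ⟨r, q, hrq⟩ := (Nat.prime_iff_prime_int.mp hp.out).coprime_iff_not_dvd.mpr hj'
      have : x = (x ^ j) ^ q := by
        rw [← zpow_mul]; conv_lhs => rw [← zpow_one x]
        exact hctx.pow_congr hxE ⟨-r, by linear_combination hrq⟩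
      rw [this]
      exact Subgroup.zpow_mem _ h1 q
  push_neg at hC
  by_cases hAE : A = E
  · -- then `S = E`
    exfalso
    obtain ⟨y, a, z', hctx, hsh⟩ := hb.exists_ctx_inner hS fun w hw => (hA w).mp (hAE ▸ hw)
    refine hne (le_antisymm hb.hE fun g hg => ?_)
    obtain ⟨k, l, hgA⟩ := hsh g hg
    have hu := hctx.acts_y_a (-l) k
    rw [neg_neg] at hu
    have huE : y ^ (-l) * a ^ k ∈ E := E.mul_mem (E.zpow_mem hctx.yE _) (E.zpow_mem hctx.aE _)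
    have h1 := hC _ (hctx.inv_mem_of_eq hg (hb.hE huE) hgA hu)
    have h2 := E.mul_mem huE h1
    rwa [mul_inv_cancel_left] at h2
  have hAE' : A ≤ E := fun w hw => ((hA w).mp hw).1
  -- conjugates of `z` in `A` lie in `⟨z⟩`
  have noA : ∀ {D : Subgroup Ω} {φ : Ω → Ω}, Mor F D φ → ∀ x ∈ D, x ∈ A → φ x = z → x ∈ Subgroup.zpowers z := by
    intro D φ hφ x hxD hxA hφx
    by_contra hxz
    obtain ⟨y, hyE, hyA⟩ : ∃ y ∈ E, y ∉ A := by
      by_contra h; push_neg at h; exact hAE (le_antisymm hAE' h)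
    obtain ⟨a, z', s, w₁, w₂, hctx, hzeq, hs, hsA, hAiff⟩ := hb.exists_ctx hS hA hAc hAE hyE hyA
    obtain ⟨m, -, e₀, he₀, heA⟩ := hctx.realize hs hsA 1 0 0
    have huS : e₀ * s ^ m ∈ S := S.mul_mem (hb.hE he₀) (S.pow_mem hs m)
    have huE : e₀ * s ^ m ∉ E := fun hu => by
      obtain ⟨k, l, hk⟩ := hctx.inE_acts hu
      exact hp.out.not_dvd_one (Int.natCast_dvd_natCast.mp (by simpa [dvd_neg] using hctx.dvd_of_acts heA hk))
    have hua : Commute (e₀ * s ^ m) a := mul_inv_eq_iff_eq_mul.mp (by rw [heA.2, zpow_zero, mul_one])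
    obtain ⟨j, k, rfl⟩ := (hAiff x).mp hxA
    have hux : Commute (e₀ * s ^ m) (a ^ j * z' ^ k) :=
      (hua.zpow_right j).mul_right ((hctx.zk huS k).symm)
    obtain ⟨t, ht⟩ := Subgroup.mem_zpowers_iff.mp (hzeq ▸ Subgroup.mem_zpowers z' : z' ∈ Subgroup.zpowers z)
    have h1 := hctx.no_fusion hS hF hp2 hφ (x := (a ^ j * z' ^ k) ^ t) (D.zpow_mem hxD t)
      (by rw [show φ ((a ^ j * z' ^ k) ^ t) = φ (a ^ j * z' ^ k) ^ t from map_zpow hφ.hom ⟨_, hxD⟩ t, hφx, ht])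
      ⟨_, huS, hux.zpow_right t, hctx.high huS huE⟩
    rw [hzeq] at h1
    have ht' : ¬ (p : ℤ) ∣ t := fun hd => hctx.z1 (by
      rw [← ht, hctx.pow_congr hb.zE (f := 0) (by simpa using hd.neg_right), zpow_zero])
    obtain ⟨r, q, hrq⟩ := (Nat.prime_iff_prime_int.mp hp.out).coprime_iff_not_dvd.mpr ht'
    refine hxz ?_
    have e2 : a ^ j * z' ^ k = ((a ^ j * z' ^ k) ^ t) ^ q := by
      rw [← zpow_mul]; conv_lhs => rw [← zpow_one (a ^ j * z' ^ k)]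
      exact hctx.pow_congr (hAE' hxA) ⟨-r, by linear_combination hrq⟩
    rw [e2]
    exact Subgroup.zpow_mem _ h1 q
  by_cases hxA : x ∈ A
  · exact noA hφ x hxD hxA hφx
  exfalso
  obtain ⟨a, z', s, w₁, w₂, hctx, hzeq, hs, hsA, hAiff⟩ := hb.exists_ctx hS hA hAc hAE hxE hxA
  obtain ⟨N, g, hg, hgx, hN⟩ := exists_to_z hS hF hzS hb.zc hφ hxD hφx
  have hzN : z ∈ N := hN z hzS (hb.zc x (hb.hE hxE))
  have hxN : x ∈ N := hN x (hb.hE hxE) (Commute.refl x)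
  obtain ⟨n₀, hn₀⟩ := Subgroup.mem_zpowers_iff.mp (hzeq.symm ▸ Subgroup.mem_zpowers z : z ∈ Subgroup.zpowers z')
  have hz'N : z' ∈ N := by
    obtain ⟨t, ht⟩ := Subgroup.mem_zpowers_iff.mp (hzeq ▸ Subgroup.mem_zpowers z' : z' ∈ Subgroup.zpowers z)
    exact ht ▸ N.zpow_mem hzN t
  set u := g z' with hu
  have huE : u ∈ E := stronglyClosed_mem hsc hg hz'N hctx.zE
  have huA : u ∉ A := by
    intro huA
    have hm := hg.restrict (Subgroup.zpowers_le.mpr hz'N : Subgroup.zpowers z' ≤ N)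
    obtain ⟨g', hg', hl, -⟩ := hm.toIso.exists_symm
    have h0 : u ∈ hm.img := hm.mem_img.mpr ⟨z', Subgroup.mem_zpowers z', rfl⟩
    have e3 : g' (u ^ n₀) = z := by
      rw [show g' (u ^ n₀) = g' u ^ n₀ from map_zpow hg'.mor.hom ⟨u, h0⟩ n₀, hu, hl z' (Subgroup.mem_zpowers z'), hn₀]
    have h1 := noA hg'.mor (u ^ n₀) (hm.img.zpow_mem h0 n₀) (A.zpow_mem huA n₀) e3
    obtain ⟨t, ht⟩ := Subgroup.mem_zpowers_iff.mp h1
    -- `g z = z ^ t` contradicts `g x = z`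
    have e4 : g (x ^ t) = g z := by
      rw [show g (x ^ t) = g x ^ t from map_zpow hg.hom ⟨x, hxN⟩ t, hgx, ht, ← hn₀,
        show g (z' ^ n₀) = g z' ^ n₀ from map_zpow hg.hom ⟨z', hz'N⟩ n₀]
    have e5 := hg.injOn (N.zpow_mem hxN t) hzN e4
    have e6 : x ^ t * a ^ (0 : ℤ) * z' ^ (0 : ℤ) = x ^ (0 : ℤ) * a ^ (0 : ℤ) * z' ^ n₀ := by
      simp only [zpow_zero, one_mul, mul_one]; rw [e5, hn₀]
    obtain ⟨v, hv⟩ := (hctx.nf_eq e6).2.2
    exact hb.z1 (by rw [← hn₀, hctx.pow_congr hctx.zE (f := 0) ⟨v, by linarith⟩, zpow_zero])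
  -- move `g ⟨x, z⟩` back onto `⟨x, z⟩`
  obtain ⟨i, j, k, huf⟩ := hctx.gen u huE
  have hi : ¬ (p : ℤ) ∣ i := fun hd => huA ((hAiff u).mpr ⟨j, k, by
    rw [huf, hctx.pow_congr hxE (e := i) (f := 0) (by simpa using hd.neg_right), zpow_zero, one_mul]⟩)
  obtain ⟨r₀, q₀, hrq⟩ := (Nat.prime_iff_prime_int.mp hp.out).coprime_iff_not_dvd.mpr hi
  obtain ⟨m, hm⟩ := exists_nat_congr (p := p) (-(q₀ * j))
  set v := s ^ m with hv
  have hvS : v ∈ S := S.pow_mem hs m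
  have hvA := hctx.acts_pow hs hsA m
  obtain ⟨k', hk'⟩ := hctx.conj_nf hvS hvA i j k
  have hgu : cj v u = x ^ i * z' ^ k' := by
    rw [cj_apply, huf, hk', hctx.pow_congr hctx.aE (f := 0) (by
      obtain ⟨m₁, hm₁⟩ := hm
      exact ⟨-(i * m₁) - j * r₀, by linear_combination (-i) * hm₁ + j * hrq⟩), zpow_zero, mul_one]
  have hxz : Commute z' x := hctx.zc x (hb.hE hxE)
  let R : Subgroup Ω :=
    { carrier := {w | ∃ i k : ℤ, w = x ^ i * z' ^ k}
      one_mem' := ⟨0, 0, by simp⟩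
      mul_mem' := by
        rintro _ _ ⟨i, k, rfl⟩ ⟨i', k', rfl⟩
        exact ⟨i + i', k + k', by rw [zpow_add, zpow_add, (hxz.zpow_zpow k i').symm.mul_mul_mul_comm]⟩
      inv_mem' := by
        rintro _ ⟨i, k, rfl⟩
        exact ⟨-i, -k, by rw [zpow_neg, zpow_neg, mul_inv_rev, (hxz.zpow_zpow k i).inv_inv.eq]⟩ }
  have hxR : x ∈ R := ⟨1, 0, by simp⟩
  have hz'R : z' ∈ R := ⟨0, 1, by simp⟩
  have hRE : R ≤ E := by rintro _ ⟨i, k, rfl⟩; exact E.mul_mem (E.zpow_mem hxE i) (E.zpow_mem hctx.zE k)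
  have hRN : R ≤ N := by rintro _ ⟨i, k, rfl⟩; exact N.mul_mem (N.zpow_mem hxN i) (N.zpow_mem hz'N k)
  haveI := finite_of_le hRE
  have hzR : z ∈ R := hn₀ ▸ R.zpow_mem hz'R n₀
  have hmR := (hg.restrict hRN).comp (Mor.conj (F := F) le_rfl hvS) (fun w hw => hg.map_mem (hRN hw))
  have hcz : cj v z = z := by rw [cj_apply, ← (hb.zc v hvS).eq, mul_inv_cancel_right]
  have hcpow : ∀ (w : Ω) (n : ℤ), cj v (w ^ n) = cj v w ^ n := fun w n => by
    rw [cj_apply, cj_apply, conj_zpow]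
  have hα : Iso F (cj v ∘ g) R R := by
    refine hmR.iso_of_card ?_ le_rfl
    rintro _ ⟨i', k₀, rfl⟩
    show cj v (g (x ^ i' * z' ^ k₀)) ∈ R
    rw [hg.map_mul (N.zpow_mem hxN i') (N.zpow_mem hz'N k₀), cj_map_mul,
      show g (x ^ i') = g x ^ i' from map_zpow hg.hom ⟨x, hxN⟩ i', hgx,
      show g (z' ^ k₀) = g z' ^ k₀ from map_zpow hg.hom ⟨z', hz'N⟩ k₀, ← hu, hcpow, hcpow, hcz, hgu]
    exact R.mul_mem (R.zpow_mem hzR i') (R.zpow_mem ⟨i, k', rfl⟩ k₀)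
  set α := cj v ∘ g with hαdef
  have hαx : α x = z := by show cj v (g x) = z; rw [hgx, hcz]
  have hαz' : α z' = x ^ i * z' ^ k' := by show cj v (g z') = _; rw [← hu, hgu]
  -- `R` is fully normalized
  have hRfn : F.IsFullyNormalized R := by
    refine ⟨hRE.trans hb.hE, fun Q hQ => ?_⟩
    obtain ⟨h, hh⟩ := isConj_iff.mp hQ
    haveI := finite_of_le (normalizerIn_le (S := S) (P := R))
    have hEN : E ≤ normalizerIn S R := by
      refine le_inf hb.hE fun e he => ?_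
      have hkey : ∀ e ∈ E, ∀ w ∈ R, e * w * e⁻¹ ∈ R := fun e he w hw => by
        have h1 := R.mul_mem ((hzeq ▸ (Subgroup.zpowers_le.mpr hz'R : Subgroup.zpowers z' ≤ R) :
          Subgroup.zpowers z ≤ R) (hb.comm e he w (hRE hw))) hw
        simpa using h1
      rw [Subgroup.mem_normalizer_iff]
      refine fun w => ⟨hkey e he w, fun hw => ?_⟩
      have := hkey e⁻¹ (E.inv_mem he) _ hw
      simpa [mul_assoc] using this
    refine le_trans ?_ (card_le_of_le hEN)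
    -- `N_S(Q) ≤ E`
    refine card_le_of_le fun w hw => ?_
    have hQS : Q ≤ S := hh.cod_le
    haveI := finite_of_le hQS
    have hQE : Q ≤ E := fun q hq => by
      obtain ⟨r, hr, rfl⟩ := hh.surj hq
      exact stronglyClosed_mem hsc hh.mor hr (hRE hr)
    have hQc : ∀ q ∈ Q, ∀ q' ∈ Q, Commute q q' := by
      intro q hq q' hq'
      obtain ⟨r, hr, rfl⟩ := hh.surj hq
      obtain ⟨r', hr', rfl⟩ := hh.surj hq'
      obtain ⟨i₁, k₁, rfl⟩ := hr
      obtain ⟨i₂, k₂, rfl⟩ := hr'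
      have hc : Commute (x ^ i₁ * z' ^ k₁) (x ^ i₂ * z' ^ k₂) :=
        (((Commute.refl x).zpow_zpow i₁ i₂).mul_right (hxz.symm.zpow_zpow i₁ k₂)).mul_left
          ((hxz.zpow_zpow k₁ i₂).mul_right ((Commute.refl z').zpow_zpow k₁ k₂))
      show _ = _
      rw [← hh.mor.map_mul ⟨i₁, k₁, rfl⟩ ⟨i₂, k₂, rfl⟩, ← hh.mor.map_mul ⟨i₂, k₂, rfl⟩ ⟨i₁, k₁, rfl⟩, hc.eq]
    have hRcard : p ^ 2 ≤ Nat.card R := by
      have h1 : Nat.card (Subgroup.zpowers z') < Nat.card R := card_lt_of_lt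
        (lt_of_le_of_ne (Subgroup.zpowers_le.mpr hz'R) fun e => by
          obtain ⟨t, ht⟩ := Subgroup.mem_zpowers_iff.mp (e ▸ hxR : x ∈ Subgroup.zpowers z')
          have e6 : x ^ (1 : ℤ) * a ^ (0 : ℤ) * z' ^ (0 : ℤ) = x ^ (0 : ℤ) * a ^ (0 : ℤ) * z' ^ t := by simp [ht]
          exact hp.out.not_dvd_one (Int.natCast_dvd_natCast.mp (by simpa using (hctx.nf_eq e6).1)))
      obtain ⟨e, -, hX⟩ := (Nat.dvd_prime_pow hp.out).mp (hb.card ▸ Subgroup.card_dvd_of_le hRE)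
      rw [hzeq, hb.card_zp, hX] at h1
      rw [hX]
      refine Nat.pow_le_pow_right hp.out.pos ?_
      by_contra hlt
      exact absurd ((Nat.pow_le_pow_right hp.out.pos (by omega : e ≤ 1)).trans (pow_one p).le) (not_le.mpr h1)
    have hzQ : z' ∈ Q := by
      by_contra hzQ
      let Q' : Subgroup Ω := Q ⊔ Subgroup.zpowers z'
      have hQ'E : Q' ≤ E := sup_le hQE (Subgroup.zpowers_le.mpr hctx.zE)
      have hQ'c : ∀ q ∈ Q', ∀ q' ∈ Q', q * q' = q' * q := by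
        have hcl : Q' ≤ Subgroup.centralizer (Q' : Set Ω) := by
          refine sup_le (fun q hq => ?_) (Subgroup.zpowers_le.mpr fun w hw => ((hctx.zc w (hb.hE (hQ'E hw))).eq).symm)
          have : Q' ≤ Subgroup.centralizer {q} := sup_le
            (fun q' hq' => Subgroup.mem_centralizer_iff.mpr fun w hw => (Set.mem_singleton_iff.mp hw) ▸ (hQc q hq q' hq').eq)
            (Subgroup.zpowers_le.mpr (Subgroup.mem_centralizer_iff.mpr fun w hw =>
              (Set.mem_singleton_iff.mp hw) ▸ ((hctx.zc q (hQS hq)).eq).symm))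
          exact fun w hw => (Subgroup.mem_centralizer_iff.mp (this hw) q rfl).symm
        exact fun q hq q' hq' => (hcl hq' q hq)
      have h2 := hb.rank Q' (hQ'E.trans hb.hE) ⟨⟨⟨fun u v => Subtype.ext (hQ'c u u.2 v v.2)⟩⟩,
        fun w hw => hb.exp w (hQ'E hw)⟩
      haveI := finite_of_le hQ'E
      have h3 : Nat.card Q < Nat.card Q' := card_lt_of_lt (lt_of_le_of_ne le_sup_left fun e =>
        hzQ (e ▸ Subgroup.mem_sup_right (Subgroup.mem_zpowers z')))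
      have h4 : Nat.card Q = Nat.card R := hh.card_eq.symm
      omega
    -- `Q` is not `A`
    obtain ⟨q, hq, hqA⟩ : ∃ q ∈ Q, q ∉ A := by
      by_contra hall
      push_neg at hall
      obtain ⟨h', hh', hl', hr'⟩ := hh.exists_symm
      have hy' : h x ∈ Q := hh.mapsTo hxR
      have hcomp := hh'.comp hα
      have e1 : (α ∘ h') (h x) = z := by show α (h' (h x)) = z; rw [hl' x hxR, hαx]
      have h1 := noA hcomp.mor (h x) hy' (hall _ hy') e1
      obtain ⟨t, ht⟩ := Subgroup.mem_zpowers_iff.mp h1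
      -- the preimage of `z` in `Q`
      have hzQ' : z ∈ Q := hn₀ ▸ Q.zpow_mem hzQ n₀
      obtain ⟨q', hq', e2⟩ := hh'.surj hzR
      have h2 := noA hh'.mor q' hq' (hall _ hq') e2
      obtain ⟨t₂, ht₂⟩ := Subgroup.mem_zpowers_iff.mp h2
      rw [← ht₂, show h' (z ^ t₂) = h' z ^ t₂ from map_zpow hh'.mor.hom ⟨z, hzQ'⟩ t₂] at e2
      have ht₂' : ¬ (p : ℤ) ∣ t₂ := fun hd => hb.z1 (by
        rw [← e2, hctx.pow_congr (hRE (hh'.mapsTo hzQ')) (f := 0) (by simpa using hd.neg_right), zpow_zero])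
      obtain ⟨r₁, q₁, hrq₁⟩ := (Nat.prime_iff_prime_int.mp hp.out).coprime_iff_not_dvd.mpr ht₂'
      have e3 : h' z = z ^ q₁ := by
        calc h' z = (h' z) ^ (1 : ℤ) := (zpow_one _).symm
          _ = (h' z) ^ (t₂ * q₁) := hctx.pow_congr (hRE (hh'.mapsTo hzQ')) ⟨-r₁, by linear_combination hrq₁⟩
          _ = z ^ q₁ := by rw [zpow_mul, e2]
      have e4 : x = z ^ (q₁ * t) := by
        rw [← hl' x hxR, ← ht, show h' (z ^ t) = h' z ^ t from map_zpow hh'.mor.hom ⟨z, hzQ'⟩ t, e3, ← zpow_mul]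
      exact hxA (e4 ▸ A.zpow_mem (hzA (Subgroup.mem_zpowers z)) _)
    obtain ⟨α₁, β₁, γ₁, hqf⟩ := hctx.gen q (hQE hq)
    have hα₁ : ¬ (p : ℤ) ∣ α₁ := fun hd => hqA ((hAiff q).mpr ⟨β₁, γ₁, by
      rw [hqf, hctx.pow_congr hxE (e := α₁) (f := 0) (by simpa using hd.neg_right), zpow_zero, one_mul]⟩)
    obtain ⟨i₂, k₂, l₂, hwA⟩ := hctx.shape w hw.1
    -- `w q w⁻¹ q⁻¹` lies in `Q ∩ A = ⟨z⟩`
    have hi₂ : (p : ℤ) ∣ i₂ := by
      by_contra hi₂
      obtain ⟨m', hm'⟩ := hctx.conj_nf hw.1 hwA α₁ β₁ γ₁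
      have hQw : w * q * w⁻¹ ∈ Q := (Subgroup.mem_normalizer_iff.mp hw.2 q).mp hq
      have hd : a ^ (i₂ * α₁) * z' ^ (m' - γ₁) ∈ Q := by
        have h1 := Q.mul_mem (Q.inv_mem hq) hQw
        rw [hqf, hm'] at h1
        convert h1 using 1
        calc a ^ (i₂ * α₁) * z' ^ (m' - γ₁)
            = (z' ^ γ₁)⁻¹ * (z' ^ γ₁ * a ^ (i₂ * α₁)) * z' ^ (m' - γ₁) := by group
          _ = (z' ^ γ₁)⁻¹ * a ^ (i₂ * α₁) * z' ^ m' := by
              rw [(hctx.zk (S.zpow_mem (hb.hE hctx.aE) (i₂ * α₁)) γ₁).eq]; group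
          _ = _ := by rw [show i₂ * α₁ + β₁ = β₁ + i₂ * α₁ by ring, zpow_add a]; group
      have haQ : a ∈ Q := by
        have h1 : a ^ (i₂ * α₁) ∈ Q := by
          have := Q.mul_mem hd (Q.zpow_mem hzQ (-(m' - γ₁)))
          rwa [mul_assoc, ← zpow_add, add_neg_cancel, zpow_zero, mul_one] at this
        have hnd : ¬ (p : ℤ) ∣ i₂ * α₁ := fun hd => ((Nat.prime_iff_prime_int.mp hp.out).dvd_or_dvd hd).elim hi₂ hα₁
        obtain ⟨r₂, q₂, hrq₂⟩ := (Nat.prime_iff_prime_int.mp hp.out).coprime_iff_not_dvd.mpr hnd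
        have := Q.zpow_mem h1 q₂
        rwa [← zpow_mul, hctx.pow_congr hctx.aE (f := 1) ⟨r₂, by linear_combination -hrq₂⟩, zpow_one] at this
      -- `a` and `q` commute
      have hc := (hQc a haQ q hq).eq
      rw [hqf] at hc
      have e1 := hctx.mul_nf 0 1 0 α₁ β₁ γ₁
      have e2 := hctx.mul_nf α₁ β₁ γ₁ 0 1 0
      simp only [zpow_zero, zpow_one, one_mul, mul_one, zero_add, add_zero, zero_mul] at e1 e2
      rw [e1, e2] at hc
      obtain ⟨v', hv'⟩ := (hctx.nf_eq hc).2.2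
      exact hα₁ ⟨v', by linarith⟩
    -- so `w` acts as an element of `E`
    have hu' := hctx.acts_y_a (-l₂) k₂
    rw [neg_neg] at hu'
    have hwA' : Acts x a z' w 0 k₂ l₂ := ⟨by
      rw [hwA.1, hctx.pow_congr hctx.aE (e := i₂) (f := 0) (by simpa using hi₂.neg_right)], hwA.2⟩
    have huE' : x ^ (-l₂) * a ^ k₂ ∈ E := E.mul_mem (E.zpow_mem hxE _) (E.zpow_mem hctx.aE _)
    have h1 := hC _ (hctx.inv_mem_of_eq hw.1 (hb.hE huE') hwA' hu')
    have h2 := E.mul_mem huE' h1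
    rwa [mul_inv_cancel_left] at h2
  haveI : Finite (MulAut R) := finite_mulAut
  have hRab : ∀ u w : R, u * w = w * u := by
    rintro ⟨_, i₁, k₁, rfl⟩ ⟨_, i₂, k₂, rfl⟩
    exact Subtype.ext ((((Commute.refl x).zpow_zpow i₁ i₂).mul_right (hxz.symm.zpow_zpow i₁ k₂)).mul_left
          ((hxz.zpow_zpow k₁ i₂).mul_right ((Commute.refl z').zpow_zpow k₁ k₂))).eq
  have hax : a * x * a⁻¹ = x * z' := by
    rw [hctx.ay, mul_assoc (x * a), (hctx.zc a⁻¹ (S.inv_mem (hb.hE hctx.aE))).eq]; group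
  have haR : a ∈ Subgroup.normalizer (R : Set Ω) := by
    have haz : ∀ n : ℤ, a * z' ^ n * a⁻¹ = z' ^ n := fun n => by
      rw [← (hctx.zk (hb.hE hctx.aE) n).eq, mul_inv_cancel_right]
    let ψ : R → R := fun w => ⟨a * w * a⁻¹, by
      obtain ⟨i', k₀, e⟩ := w.2
      rw [e, show a * (x ^ i' * z' ^ k₀) * a⁻¹ = (a * x * a⁻¹) ^ i' * (a * z' ^ k₀ * a⁻¹) by rw [conj_zpow]; group,
        hax, haz]
      exact R.mul_mem (R.zpow_mem (R.mul_mem hxR hz'R) i') (R.zpow_mem hz'R k₀)⟩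
    have hψ : Function.Surjective ψ := Finite.injective_iff_surjective.mp fun u w e => Subtype.ext (by
      simpa [ψ] using congrArg Subtype.val e)
    rw [Subgroup.mem_normalizer_iff]
    refine fun w => ⟨fun hw => (ψ ⟨w, hw⟩).2, fun hw => ?_⟩
    obtain ⟨v, hv⟩ := hψ ⟨_, hw⟩
    have : (v : Ω) = w := by simpa [ψ] using congrArg Subtype.val hv
    exact this ▸ v.2
  let T : MulAut R := actHom S R ⟨a, hb.hE hctx.aE, haR⟩
  have hT : ∀ w : R, ((T w : R) : Ω) = a * w * a⁻¹ := fun w => actHom_apply S R _ w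
  have hTmem : T ∈ F.autGroup R :=
    autInducedBy_le_autGroup (hRE.trans hb.hE) ((range_actHom S R).le ⟨_, rfl⟩)
  let γ : MulAut R := hα.equiv
  let T' : MulAut R := γ * T * γ⁻¹
  let zR : R := ⟨z', hz'R⟩
  let xR : R := ⟨x, hxR⟩
  let uR : R := γ zR
  have huR : (uR : Ω) = x ^ i * z' ^ k' := hαz'
  have hγx : γ xR = zR ^ n₀ := Subtype.ext (by
    show α x = _
    rw [hαx, Subgroup.coe_zpow, hn₀])
  have hTz : T zR = zR := Subtype.ext (by rw [hT]; exact (mul_inv_eq_iff_eq_mul.mpr (hctx.zc a (hb.hE hctx.aE)).symm.eq))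
  have hTx : T xR = xR * zR := Subtype.ext (by rw [hT]; exact hax)
  have hTu : T uR = uR * zR ^ i := by
    have e1 : uR = xR ^ i * zR ^ k' := Subtype.ext (by rw [huR]; simp [xR, zR])
    rw [e1, map_mul, map_zpow, map_zpow, hTx, hTz, (show Commute xR zR from hRab _ _).mul_zpow, mul_assoc,
      hRab (zR ^ i), ← mul_assoc]
  have hγγ : ∀ w : R, γ⁻¹ (γ w) = w := fun w => γ.symm_apply_apply w
  have hT'u : T' uR = uR := by
    show γ (T (γ⁻¹ (γ zR))) = γ zR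
    rw [hγγ, hTz]
  have hn₀p : ¬ (p : ℤ) ∣ n₀ := fun hd => hb.z1 (by
    rw [← hn₀, hctx.pow_congr hctx.zE (f := 0) (by simpa using hd.neg_right), zpow_zero])
  obtain ⟨r₃, n', hn'⟩ := (Nat.prime_iff_prime_int.mp hp.out).coprime_iff_not_dvd.mpr hn₀p
  have hel : ∀ w : R, w ^ p = 1 := fun w => Subtype.ext (hb.exp w (hRE w.2))
  have hzR' : zR = γ (xR ^ n') := by
    rw [map_zpow, hγx, ← zpow_mul]
    refine Subtype.ext ?_
    rw [Subgroup.coe_zpow]
    show z' = z' ^ (n₀ * n')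
    conv_lhs => rw [← zpow_one z']
    exact hctx.pow_congr hctx.zE ⟨-r₃, by linear_combination hn'⟩
  have hT'z : T' zR = zR * uR ^ n' := by
    show γ (T (γ⁻¹ zR)) = _
    conv_lhs => rw [hzR', hγγ, map_zpow T, hTx, (show Commute xR zR from hRab _ _).mul_zpow, map_mul]
    rw [← hzR', map_zpow]
  have hn'p : ¬ (p : ℤ) ∣ n' := fun ⟨w, hw⟩ => hp.out.not_dvd_one (Int.natCast_dvd_natCast.mp
    ⟨r₃ + w * n₀, by linear_combination -hn' + n₀ * hw⟩)
  obtain ⟨δ, hδ, q, hq, hδz, hδu⟩ := torus hp2 (MonoidHom.id R) hel hRab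
    (a := zR) (y := uR) (t := T) (t' := T') (fun w hw => by simp only [MonoidHom.id_apply] at hw ⊢; rw [hw, map_one])
    (fun w hw => by simp only [MonoidHom.id_apply] at hw ⊢; rw [hw, map_one]) hi hn'p hTz hTu hT'u hT'z
  simp only [MonoidHom.id_apply] at hδz hδu
  have hδmem : δ ∈ F.autGroup R := by
    refine (Subgroup.closure_le _).mpr ?_ hδ
    rintro _ (rfl | rfl)
    · exact hTmem
    · exact mul_mem (mul_mem hα.equiv_mem_autGroup hTmem) (inv_mem hα.equiv_mem_autGroup)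
  -- `δ x = x ^ q * z ^ *`
  obtain ⟨w₀, hδx⟩ : ∃ w₀ : ℤ, δ xR = xR ^ q * zR ^ w₀ := by
    letI : CommGroup R := { (inferInstance : Group R) with mul_comm := hRab }
    have e1 : xR = (uR * zR ^ (-k')) ^ q₀ := by
      refine Subtype.ext ?_
      rw [Subgroup.coe_zpow, Subgroup.coe_mul, Subgroup.coe_zpow, huR]
      show x = (x ^ i * z' ^ k' * z' ^ (-k')) ^ q₀
      rw [mul_assoc, ← zpow_add, add_neg_cancel, zpow_zero, mul_one, ← zpow_mul]
      conv_lhs => rw [← zpow_one x]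
      exact hctx.pow_congr hxE ⟨-r₀, by linear_combination hrq⟩
    refine ⟨k' * q * q₀ + 2 * k' * q₀, ?_⟩
    conv_lhs => rw [e1]
    rw [map_zpow, map_mul, map_zpow, hδu, hδz]
    have e2 : uR = xR ^ i * zR ^ k' := Subtype.ext (by rw [huR]; simp [xR, zR])
    rw [e2]
    simp only [mul_zpow, ← zpow_mul]
    rw [mul_assoc, ← zpow_add, show k' * q * q₀ + -2 * -k' * q₀ = k' * q * q₀ + 2 * k' * q₀ by ring]
    congr 1
    refine Subtype.ext ?_
    rw [Subgroup.coe_zpow, Subgroup.coe_zpow]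
    exact hctx.pow_congr hxE ⟨q * r₀, by linear_combination -q * hrq⟩
  obtain ⟨f, hf, ef⟩ := (mem_autGroup_iff (hRE.trans hb.hE)).mp hδmem
  have hfx : f x = x ^ q * z' ^ w₀ := by
    rw [show f x = _ from ef xR, hδx]; simp [xR, zR]
  have hfz : f z' = z' ^ (-2 : ℤ) := by
    rw [show f z' = _ from ef zR, hδz]; simp [zR]
  have hEn : E ≤ nphi S R f := by
    intro g₁ hg₁
    obtain ⟨d, l, hdl⟩ := hctx.inE_acts hg₁
    have haz : ∀ n m : ℤ, a ^ n * z' ^ m * (a ^ n)⁻¹ = z' ^ m := fun n m => by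
      rw [← (hctx.zk (S.zpow_mem (hb.hE hctx.aE) n) m).eq, mul_inv_cancel_right]
    have hgz : ∀ m : ℤ, g₁ * z' ^ m * g₁⁻¹ = z' ^ m := fun m => by
      rw [← (hctx.zk (hb.hE hg₁) m).eq, mul_inv_cancel_right]
    have hgR : g₁ ∈ Subgroup.normalizer (R : Set Ω) := by
      let ψ : R → R := fun w => ⟨g₁ * w * g₁⁻¹, by
        obtain ⟨i', k₀, e⟩ := w.2
        rw [e, show g₁ * (x ^ i' * z' ^ k₀) * g₁⁻¹ = (g₁ * x * g₁⁻¹) ^ i' * (g₁ * z' ^ k₀ * g₁⁻¹) by
          rw [conj_zpow]; group, hgz, hdl.1, zpow_zero, mul_one]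
        exact R.mul_mem (R.zpow_mem (R.mul_mem hxR (R.zpow_mem hz'R d)) i') (R.zpow_mem hz'R k₀)⟩
      have hψ : Function.Surjective ψ := Finite.injective_iff_surjective.mp fun u w e => Subtype.ext (by
        simpa [ψ] using congrArg Subtype.val e)
      rw [Subgroup.mem_normalizer_iff]
      refine fun w => ⟨fun hw => (ψ ⟨w, hw⟩).2, fun hw => ?_⟩
      obtain ⟨v, hv⟩ := hψ ⟨_, hw⟩
      have : (v : Ω) = w := by simpa [ψ] using congrArg Subtype.val hv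
      exact this ▸ v.2
    refine ⟨hb.hE hg₁, hgR, a ^ (4 * d), S.zpow_mem (hb.hE hctx.aE) _, fun w hw => ?_⟩
    obtain ⟨i', k₀, rfl⟩ := hw
    have hxz' : ∀ n : ℤ, x * z' ^ n ∈ R := fun n => R.mul_mem hxR (R.zpow_mem hz'R n)
    have haxq : a ^ (4 * d) * x ^ q * (a ^ (4 * d))⁻¹ = x ^ q * z' ^ (q * (4 * d)) := by
      rw [hctx.swap, mul_assoc (x ^ q * a ^ (4 * d)),
        (hctx.zk (S.inv_mem (S.zpow_mem (hb.hE hctx.aE) (4 * d))) (q * (4 * d))).eq]; group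
    have haxq' : a ^ (4 * d) * (x ^ q * z' ^ w₀) * (a ^ (4 * d))⁻¹ = x ^ q * z' ^ (-2 * d + w₀) := by
      calc a ^ (4 * d) * (x ^ q * z' ^ w₀) * (a ^ (4 * d))⁻¹
          = (a ^ (4 * d) * x ^ q * (a ^ (4 * d))⁻¹) * (a ^ (4 * d) * z' ^ w₀ * (a ^ (4 * d))⁻¹) := by group
        _ = _ := by
          rw [haxq, haz, mul_assoc, ← zpow_add]
          congr 1
          obtain ⟨t, ht⟩ := hq
          exact hctx.pow_congr hctx.zE ⟨-(2 * d * t), by linear_combination (-2 * d) * ht⟩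
    have hg1x : cj g₁ (x ^ i' * z' ^ k₀) = (x * z' ^ d) ^ i' * z' ^ k₀ := by
      rw [cj_apply, show g₁ * (x ^ i' * z' ^ k₀) * g₁⁻¹ = (g₁ * x * g₁⁻¹) ^ i' * (g₁ * z' ^ k₀ * g₁⁻¹) by
        rw [conj_zpow]; group, hdl.1, hgz, zpow_zero, mul_one]
    rw [hg1x, hf.mor.map_mul (R.zpow_mem (hxz' d) i') (R.zpow_mem hz'R k₀),
      hf.mor.map_mul (R.zpow_mem hxR i') (R.zpow_mem hz'R k₀),
      show f ((x * z' ^ d) ^ i') = f (x * z' ^ d) ^ i' from map_zpow hf.mor.hom ⟨_, hxz' d⟩ i',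
      show f (x ^ i') = f x ^ i' from map_zpow hf.mor.hom ⟨x, hxR⟩ i',
      show f (z' ^ k₀) = f z' ^ k₀ from map_zpow hf.mor.hom ⟨z', hz'R⟩ k₀,
      hf.mor.map_mul hxR (R.zpow_mem hz'R d),
      show f (z' ^ d) = f z' ^ d from map_zpow hf.mor.hom ⟨z', hz'R⟩ d, hfx, hfz, cj_map_mul]
    rw [show cj (a ^ (4 * d)) ((x ^ q * z' ^ w₀) ^ i') = (a ^ (4 * d) * (x ^ q * z' ^ w₀) * (a ^ (4 * d))⁻¹) ^ i' by
      rw [cj_apply, conj_zpow], haxq', cj_apply, ← zpow_mul, ← zpow_mul, haz, mul_assoc (x ^ q), ← zpow_add]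
    congr 3
    ring
  obtain ⟨h₁, hh₁, eh₁⟩ := (receptive_iff.mp (IsSaturated_fullyNormalized hS hF hRfn).2.2).2 R f hf
  have hE₁ : Iso F h₁ E E := hctx.iso_image hsc (hh₁.restrict hEn)
  obtain ⟨i₄, j₄, k₄, hha⟩ := hctx.gen _ (hE₁.mapsTo hctx.aE)
  have hhx : h₁ x = x ^ q * a ^ (0 : ℤ) * z' ^ w₀ := by rw [eh₁ x hxR, hfx, zpow_zero, mul_one]
  have hhz : h₁ z' = z' ^ (-2 : ℤ) := by rw [eh₁ z' hz'R, hfz]
  by_cases hi₄ : (p : ℤ) ∣ i₄
  · rw [hctx.pow_congr hxE (e := i₄) (f := 0) (by simpa using hi₄.neg_right), zpow_zero, one_mul] at hha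
    have hsq := hctx.extend_square hS hF h5 hsc hs hsA hE₁ hhx hha
    obtain ⟨t, ht⟩ := hq
    obtain ⟨t', ht'⟩ := hsq
    have : p ∣ 3 := Int.natCast_dvd_natCast.mp
      (show (p : ℤ) ∣ ((3 : ℕ) : ℤ) from ⟨(2 * q - 1) * t - 4 * t', by push_cast; linear_combination (2 * q - 1) * ht - 4 * ht'⟩)
    have := Nat.le_of_dvd (by norm_num) this
    omega
  -- otherwise `A` would be conjugate to `R`
  obtain ⟨r₄, e₄, he₄⟩ := (Nat.prime_iff_prime_int.mp hp.out).coprime_iff_not_dvd.mpr hi₄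
  obtain ⟨m₄, hm₄⟩ := exists_nat_congr (p := p) (-(e₄ * j₄))
  set v₄ := s ^ m₄ with hv₄
  have hv₄S : v₄ ∈ S := S.pow_mem hs m₄
  obtain ⟨k₅, hk₅⟩ := hctx.conj_nf hv₄S (hctx.acts_pow hs hsA m₄) i₄ j₄ k₄
  have hca : cj v₄ (h₁ a) = x ^ i₄ * z' ^ k₅ := by
    rw [cj_apply, hha, hk₅, hctx.pow_congr hctx.aE (f := 0) (by
      obtain ⟨m₁, hm₁⟩ := hm₄
      exact ⟨-(i₄ * m₁) - j₄ * r₄, by linear_combination (-i₄) * hm₁ + j₄ * he₄⟩), zpow_zero, mul_one]
  have h2p : ¬ (p : ℤ) ∣ 2 := fun h => by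
    have h2 := Nat.le_of_dvd (by norm_num) (Int.natCast_dvd_natCast.mp (show (p : ℤ) ∣ ((2 : ℕ) : ℤ) by exact_mod_cast h))
    omega
  obtain ⟨r₂, half, hhalf⟩ := (Nat.prime_iff_prime_int.mp hp.out).coprime_iff_not_dvd.mpr h2p
  set g₄ := half * (k₅ * e₄)
  set x' := a ^ e₄ * z' ^ g₄ with hx'
  have hx'E : x' ∈ E := E.mul_mem (E.zpow_mem hctx.aE _) (E.zpow_mem hctx.zE _)
  have hx'A : x' ∈ A := (hAiff x').mpr ⟨e₄, g₄, rfl⟩
  have hkx : cj v₄ (h₁ x') = x := by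
    have hcz' : ∀ n : ℤ, cj v₄ (z' ^ n) = z' ^ n := fun n => by
      rw [cj_apply, ← (hctx.zk hv₄S n).eq, mul_inv_cancel_right]
    have hcp' : ∀ (w : Ω) (n : ℤ), cj v₄ (w ^ n) = cj v₄ w ^ n := fun w n => by
      rw [cj_apply, cj_apply, conj_zpow]
    rw [hx', hE₁.mor.map_mul (E.zpow_mem hctx.aE _) (E.zpow_mem hctx.zE _), cj_map_mul,
      show h₁ (a ^ e₄) = h₁ a ^ e₄ from map_zpow hE₁.mor.hom ⟨a, hctx.aE⟩ e₄,
      show h₁ (z' ^ g₄) = h₁ z' ^ g₄ from map_zpow hE₁.mor.hom ⟨z', hctx.zE⟩ g₄, hhz, hcp', hca, ← zpow_mul, hcz',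
      (show Commute (x ^ i₄) (z' ^ k₅) from (hxz.zpow_zpow k₅ i₄).symm).mul_zpow, ← zpow_mul, ← zpow_mul, mul_assoc,
      ← zpow_add, hctx.pow_congr hctx.zE (f := 0) ⟨-(r₂ * (k₅ * e₄)), by
        simp only [g₄]; linear_combination (k₅ * e₄) * hhalf⟩, zpow_zero, mul_one]
    conv_rhs => rw [← zpow_one x]
    exact hctx.pow_congr hxE ⟨r₄, by linear_combination -he₄⟩
  have hm₁ := (hE₁.mor.comp (Mor.conj (F := F) le_rfl hv₄S) (fun w hw => hb.hE (hE₁.mapsTo hw))).restrict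
    (Subgroup.zpowers_le.mpr hx'E : Subgroup.zpowers x' ≤ E)
  have hm₂ := hm₁.comp hα.mor (by
    intro w hw
    obtain ⟨n, rfl⟩ := Subgroup.mem_zpowers_iff.mp hw
    rw [show (cj v₄ ∘ h₁) (x' ^ n) = (cj v₄ ∘ h₁) x' ^ n from map_zpow hm₁.hom ⟨x', Subgroup.mem_zpowers x'⟩ n]
    show (cj v₄ (h₁ x')) ^ n ∈ R
    rw [hkx]
    exact R.zpow_mem hxR n)
  have h1 := noA hm₂ x' (Subgroup.mem_zpowers x') hx'A (by show α (cj v₄ (h₁ x')) = z; rw [hkx, hαx])
  obtain ⟨t, ht⟩ := Subgroup.mem_zpowers_iff.mp h1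
  rw [← hn₀, ← zpow_mul] at ht
  have e6 : x ^ (0 : ℤ) * a ^ e₄ * z' ^ g₄ = x ^ (0 : ℤ) * a ^ (0 : ℤ) * z' ^ (n₀ * t) := by
    simp [ht, hx']
  obtain ⟨t₅, ht₅⟩ := (hctx.nf_eq e6).2.1
  exact hp.out.not_dvd_one (Int.natCast_dvd_natCast.mp ⟨r₄ + i₄ * t₅, by
    push_cast; linear_combination -he₄ + i₄ * ht₅⟩)

/-- `A` is strongly closed. -/
theorem Base.A_stronglyClosed {z : Ω} (hb : Base p S E z) [Finite S] (hS : IsPGroup p S)
    (hF : F.IsSaturated p) (h5 : 5 ≤ p) (hsc : F.StronglyClosed E)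
    (hZ : F.StronglyClosed (Subgroup.zpowers z)) (hEN : F.IsNormal E) {A : Subgroup Ω}
    (hA : ∀ x, x ∈ A ↔ InA S E z x) (hzA : Subgroup.zpowers z ≤ A)
    (hAc : A ≠ E → Nat.card A = p ^ 2 ∧ ∀ x ∈ E, ∀ g ∈ S, g * x * g⁻¹ * x⁻¹ ∈ A) :
    F.StronglyClosed A := by
  by_cases hAE : A = E
  · rw [hAE]; exact hsc
  haveI := finite_of_le hb.hE
  haveI : Finite (MulAut E) := finite_mulAut
  have hp2 : p ≠ 2 := by omega
  have hAE' : A ≤ E := fun w hw => ((hA w).mp hw).1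
  refine stronglyClosed_of_mor (hAE'.trans hb.hE) fun P f hf a₀ ha₀P ha₀ => ?_
  obtain ⟨g, hg, eg⟩ := (isNormal_iff_ext hS hF hb.hE).mp hEN (Subgroup.zpowers a₀)
    (Subgroup.zpowers_le.mpr (hAE' ha₀)) f (hf.restrict (Subgroup.zpowers_le.mpr ha₀P))
  rw [← eg a₀ (Subgroup.mem_zpowers a₀)]
  by_contra hy
  obtain ⟨a, z', s, w₁, w₂, hctx, hzeq, hs, hsA, hAiff⟩ :=
    hb.exists_ctx hS hA hAc hAE (hg.mapsTo (hAE' ha₀)) hy
  obtain ⟨u₀, v₀, hu₀⟩ := (hAiff a₀).mp ha₀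
  have hgz : ∀ n : ℤ, g (z' ^ n) ∈ Subgroup.zpowers z := fun n =>
    stronglyClosed_mem hZ hg.mor (E.zpow_mem hctx.zE n)
      (hzeq ▸ Subgroup.zpow_mem _ (Subgroup.mem_zpowers z') n)
  have hu₀p : ¬ (p : ℤ) ∣ u₀ := fun hd => by
    refine hy ?_
    rw [hu₀, hctx.pow_congr hctx.aE (e := u₀) (f := 0) (by simpa using hd.neg_right), zpow_zero, one_mul]
    exact hzA (hgz v₀)
  let N : Subgroup E := (Subgroup.zpowers z').subgroupOf E
  haveI : N.Normal := ⟨fun w hw v => by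
    show (v : Ω) * w * (v : Ω)⁻¹ ∈ Subgroup.zpowers z'
    have h1 : ((w : Ω)) ∈ Subgroup.zpowers z := hzeq ▸ (show (w : Ω) ∈ Subgroup.zpowers z' from hw)
    rw [hb.zp_conj (hb.hE v.2) h1]; exact hw⟩
  let π := QuotientGroup.mk' N
  have hel : ∀ u : E ⧸ N, u ^ p = 1 := by
    intro u
    obtain ⟨v, rfl⟩ := QuotientGroup.mk'_surjective N u
    rw [← map_pow, show v ^ p = 1 from Subtype.ext (hb.exp v v.2), map_one]
  have hcomm : ∀ u v : E ⧸ N, u * v = v * u := by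
    intro u v
    obtain ⟨u, rfl⟩ := QuotientGroup.mk'_surjective N u
    obtain ⟨v, rfl⟩ := QuotientGroup.mk'_surjective N v
    rw [← commutatorElement_eq_one_iff_mul_comm, ← map_commutatorElement, QuotientGroup.mk'_apply,
      QuotientGroup.eq_one_iff]
    show _ ∈ Subgroup.zpowers z'
    rw [hzeq]
    exact hb.comm u u.2 v v.2
  letI : CommGroup (E ⧸ N) := { (inferInstance : Group (E ⧸ N)) with mul_comm := hcomm }
  have hπ1 : ∀ {u : E}, (u : Ω) ∈ Subgroup.zpowers z' → π u = 1 := fun {u} hu => (QuotientGroup.eq_one_iff u).mpr hu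
  let yE : E := ⟨g a₀, hctx.yE⟩
  let aE : E := ⟨a, hctx.aE⟩
  let zE : E := ⟨z', hctx.zE⟩
  let a₀E : E := ⟨a₀, hAE' ha₀⟩
  have hπz : ∀ n : ℤ, π (zE ^ n) = 1 := fun n => hπ1 (by
    rw [Subgroup.coe_zpow]; exact Subgroup.zpow_mem _ (Subgroup.mem_zpowers z') n)
  let t : MulAut E := actHom S E ⟨s, hs, hb.hn hs⟩
  have ht : ∀ w : E, ((t w : E) : Ω) = s * w * s⁻¹ := fun w => actHom_apply S E _ w
  let α : MulAut E := hg.equiv
  have hαa₀ : α a₀E = yE := Subtype.ext rfl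
  have hαα : ∀ w : E, α⁻¹ (α w) = w := fun w => α.symm_apply_apply w
  have hαα' : ∀ w : E, α (α⁻¹ w) = w := fun w => α.apply_symm_apply w
  have hπker : ∀ (r : MulAut E), (r ∈ F.autGroup E) → ∀ u, π u = 1 → π (r u) = 1 := by
    intro r hr u hu
    obtain ⟨h, hh, eh⟩ := (mem_autGroup_iff hb.hE).mp hr
    refine hπ1 ?_
    rw [← eh u, hzeq]
    exact stronglyClosed_mem hZ hh.mor u.2 (hzeq ▸ (show (u : Ω) ∈ Subgroup.zpowers z' from (QuotientGroup.eq_one_iff u).mp hu))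
  have htmem : t ∈ F.autGroup E := autInducedBy_le_autGroup hb.hE ((range_actHom S E).le ⟨_, rfl⟩)
  have ht'mem : α * t * α⁻¹ ∈ F.autGroup E :=
    mul_mem (mul_mem hg.equiv_mem_autGroup htmem) (inv_mem hg.equiv_mem_autGroup)
  have hta : π (t aE) = π aE := by
    rw [show t aE = aE * zE ^ w₂ from Subtype.ext (by rw [ht]; exact hsA.2), map_mul, hπz, mul_one]
  have hty : π (t yE) = π yE * π aE ^ (1 : ℤ) := by
    rw [show t yE = yE * aE ^ (1 : ℤ) * zE ^ w₁ from Subtype.ext (by rw [ht]; exact hsA.1), map_mul, hπz, mul_one,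
      map_mul, map_zpow]
  have ht'y : π ((α * t * α⁻¹) yE) = π yE := by
    show π (α (t (α⁻¹ yE))) = _
    rw [← hαa₀, hαα]
    obtain ⟨m, hm⟩ : ∃ m : ℤ, t a₀E = a₀E * zE ^ m := ⟨w₂ * u₀, Subtype.ext (by
      rw [ht]
      show s * a₀ * s⁻¹ = a₀ * z' ^ (w₂ * u₀)
      rw [hu₀, show s * (a ^ u₀ * z' ^ v₀) * s⁻¹ = (s * a * s⁻¹) ^ u₀ * (s * z' ^ v₀ * s⁻¹) by
          rw [conj_zpow]; group, hsA.2,
        (show Commute a (z' ^ w₂) from (hctx.zk (hb.hE hctx.aE) w₂).symm).mul_zpow,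
        ← (hctx.zk hs v₀).eq, mul_inv_cancel_right, ← zpow_mul, mul_assoc, mul_assoc, ← zpow_add, ← zpow_add,
        add_comm])⟩
    rw [hm, map_mul, map_mul π, hπker α hg.equiv_mem_autGroup _ (hπz m), mul_one]
  have hαz : π (α zE) = 1 := hπker α hg.equiv_mem_autGroup _ (by simpa using hπz 1)
  -- `α a` modulo `z`
  obtain ⟨r₀, q₀, hrq⟩ := (Nat.prime_iff_prime_int.mp hp.out).coprime_iff_not_dvd.mpr hu₀p
  have hαa : π (α aE) = π yE ^ q₀ := by
    have e1 : a₀E ^ q₀ = aE * zE ^ (v₀ * q₀) := Subtype.ext (by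
      rw [Subgroup.coe_zpow, Subgroup.coe_mul, Subgroup.coe_zpow]
      show a₀ ^ q₀ = a * z' ^ (v₀ * q₀)
      rw [hu₀, (show Commute (a ^ u₀) (z' ^ v₀) from (hctx.zk (S.zpow_mem (hb.hE hctx.aE) u₀) v₀).symm).mul_zpow,
        ← zpow_mul, ← zpow_mul]
      congr 1
      conv_rhs => rw [← zpow_one a]
      exact hctx.pow_congr hctx.aE ⟨r₀, by linear_combination -hrq⟩)
    have e2 := congrArg (fun w => π (α w)) e1
    simp only [map_zpow, map_mul, hαa₀] at e2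
    rw [hαz, one_zpow, mul_one] at e2
    exact e2.symm
  obtain ⟨i, j, k, hinv⟩ := hctx.gen ((α⁻¹ aE : E) : Ω) (α⁻¹ aE).2
  have hinv' : α⁻¹ aE = yE ^ i * aE ^ j * zE ^ k := Subtype.ext (by rw [hinv]; simp [yE, aE, zE])
  have hi : ¬ (p : ℤ) ∣ i := by
    intro hd
    rw [show yE ^ i = 1 from Subtype.ext (by
      rw [Subgroup.coe_zpow, hctx.pow_congr hctx.yE (f := 0) (by simpa using hd.neg_right), zpow_zero]; rfl), one_mul] at hinv'
    have e1 := congrArg (fun w => π (α w)) hinv'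
    simp only [hαα', map_mul, map_zpow] at e1
    rw [hαz, one_zpow, mul_one, hαa, ← zpow_mul, ← map_zpow] at e1
    obtain ⟨m, hm⟩ := Subgroup.mem_zpowers_iff.mp ((QuotientGroup.eq (s := N)).mp e1.symm :
      ((yE ^ (q₀ * j))⁻¹ * aE : E).1 ∈ Subgroup.zpowers z')
    change z' ^ m = ((g a₀) ^ (q₀ * j))⁻¹ * a at hm
    rw [eq_inv_mul_iff_mul_eq] at hm
    have e6 : (g a₀) ^ (q₀ * j) * a ^ (0 : ℤ) * z' ^ m = (g a₀) ^ (0 : ℤ) * a ^ (1 : ℤ) * z' ^ (0 : ℤ) := by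
      simp only [zpow_zero, mul_one, one_mul, zpow_one]; exact hm
    obtain ⟨w, hw⟩ := (hctx.nf_eq e6).2.1
    exact hp.out.not_dvd_one (Int.natCast_dvd_natCast.mp ⟨-w, by push_cast; linear_combination -hw⟩)
  have hq₀ : ¬ (p : ℤ) ∣ q₀ := fun ⟨w, hw⟩ => hp.out.not_dvd_one (Int.natCast_dvd_natCast.mp
    ⟨r₀ + w * u₀, by push_cast; linear_combination -hrq + u₀ * hw⟩)
  have hc : ¬ (p : ℤ) ∣ q₀ * i := fun hd =>
    ((Nat.prime_iff_prime_int.mp hp.out).dvd_or_dvd hd).elim hq₀ hi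
  have ht'a : π ((α * t * α⁻¹) aE) = π aE * π yE ^ (q₀ * i) := by
    show π (α (t (α⁻¹ aE))) = _
    have e1 : π (t (α⁻¹ aE)) = π (α⁻¹ aE * aE ^ i) := by
      rw [hinv']
      simp only [map_mul, map_zpow]
      rw [hta, hty, ← map_zpow π zE, hπz, mul_one, ← map_zpow π (t zE), ← map_zpow t zE,
        hπker t htmem _ (hπz k), mul_one, zpow_one, mul_zpow, mul_right_comm]
    have e2 : π ((α⁻¹ aE * aE ^ i)⁻¹ * t (α⁻¹ aE)) = 1 := by rw [map_mul, map_inv, e1, inv_mul_cancel]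
    have e3 := hπker α hg.equiv_mem_autGroup _ e2
    rw [map_mul, map_mul π, map_inv, map_inv π, inv_mul_eq_one] at e3
    rw [← e3, map_mul, hαα', map_mul, map_zpow, map_zpow, hαa, ← zpow_mul]
  obtain ⟨δ, hδ, q, hq, hδa, hδy⟩ := torus hp2 π hel hcomm (a := aE) (y := yE) (t := t) (t' := α * t * α⁻¹)
    (hπker t htmem) (hπker _ ht'mem) (n := 1) (fun hd => hp.out.not_dvd_one (Int.natCast_dvd_natCast.mp (by simpa using hd)))
    hc hta hty ht'y ht'a
  have hδmem : δ ∈ F.autGroup E := by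
    refine (Subgroup.closure_le _).mpr ?_ hδ
    rintro _ (rfl | rfl)
    exacts [htmem, ht'mem]
  obtain ⟨h, hh, eh⟩ := (mem_autGroup_iff hb.hE).mp hδmem
  rw [← map_zpow] at hδa hδy
  obtain ⟨ka, hka⟩ := Subgroup.mem_zpowers_iff.mp ((QuotientGroup.eq (s := N)).mp hδa.symm :
      ((aE ^ (-2 : ℤ))⁻¹ * δ aE : E).1 ∈ Subgroup.zpowers z')
  obtain ⟨ky, hky⟩ := Subgroup.mem_zpowers_iff.mp ((QuotientGroup.eq (s := N)).mp hδy.symm :
      ((yE ^ q)⁻¹ * δ yE : E).1 ∈ Subgroup.zpowers z')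
  have hsq := hctx.extend_square hS hF h5 hsc hs hsA hh (q := q) (r := 0) (m := ky) (j := -2) (k := ka)
    (by
      rw [show h (g a₀) = _ from eh yE, hky, zpow_zero, mul_one]
      exact (mul_inv_cancel_left ((g a₀) ^ q) _).symm)
    (by
      rw [show h a = _ from eh aE, hka]
      exact (mul_inv_cancel_left (a ^ (-2 : ℤ)) _).symm)
  obtain ⟨t₁, ht₁⟩ := hq
  obtain ⟨t₂, ht₂⟩ := hsq
  have : p ∣ 3 := Int.natCast_dvd_natCast.mp
    (show (p : ℤ) ∣ ((3 : ℕ) : ℤ) from ⟨(2 * q - 1) * t₁ - 4 * t₂, by push_cast; linear_combination (2 * q - 1) * ht₁ - 4 * ht₂⟩)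
  have := Nat.le_of_dvd (by norm_num) this
  omega

/-- Resistance. -/
theorem isNormal_self [Finite S] (hS : IsPGroup p S) (hF : F.IsSaturated p) (h5 : 5 ≤ p)
    (hrank : ∀ E : Subgroup Ω, E ≤ S → IsElementaryAbelian p E → Nat.card E ≤ p ^ 2)
    (hnotE : ¬ (Nat.card S = p ^ 3 ∧ Monoid.exponent S = p)) : F.IsNormal S := by
  have hp2 : p ≠ 2 := by omega
  have hr : PRankLE p 2 S := by
    intro A hAc hAe
    rw [Nat.card_congr (A.equivMapOfInjective S.subtype S.subtype_injective).toEquiv]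
    refine hrank _ (Subgroup.map_subtype_le A) ⟨⟨⟨?_⟩⟩, ?_⟩
    · rintro ⟨_, u, hu, rfl⟩ ⟨_, v, hv, rfl⟩
      exact Subtype.ext (congrArg (fun w : A => ((w : S) : Ω)) (mul_comm' (⟨u, hu⟩ : A) ⟨v, hv⟩))
    · rintro _ ⟨u, hu, rfl⟩
      rw [← map_pow, hAe u hu, map_one]
  set E := omegaOne p S with hEdef
  have hEmem : ∀ x : Ω, x ∈ E ↔ x ∈ S ∧ x ^ p = 1 := by
    intro x
    refine ⟨fun hx => ?_, fun h => Subgroup.subset_closure h⟩
    induction hx using Subgroup.closure_induction with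
    | mem v hv => exact hv
    | one => exact ⟨S.one_mem, one_pow _⟩
    | mul u v _ _ hu hv =>
      refine ⟨S.mul_mem hu.1 hv.1, ?_⟩
      have := OddLocal.RankTwo.omega_mul_of_rankLE_two _ (by omega) hS hr le_rfl ⟨u, hu.1⟩ ⟨v, hv.1⟩
        (Subtype.ext hu.2) (Subtype.ext hv.2)
      exact congrArg Subtype.val this
    | inv u _ hu => exact ⟨S.inv_mem hu.1, by rw [inv_pow, hu.2, inv_one]⟩
  have hES : E ≤ S := fun x hx => ((hEmem x).mp hx).1
  have hexp : ∀ x ∈ E, x ^ p = 1 := fun x hx => ((hEmem x).mp hx).2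
  haveI := finite_of_le hES
  have hEp : IsPGroup p E := hS.to_le hES
  have hstop : F.StronglyClosed S := stronglyClosed_of_mor le_rfl fun P f hf x hx _ => hf.map_mem hx
  have hsc : F.StronglyClosed E := stronglyClosed_of_mor hES fun P f hf x hxP hx =>
    (hEmem _).mpr ⟨hf.map_mem hxP, by rw [← hf.map_pow hxP, hexp x hx, hf.map_one]⟩
  have hrE : PRankLE p 2 E := by
    intro A hAc hAe
    rw [Nat.card_congr (A.equivMapOfInjective E.subtype E.subtype_injective).toEquiv]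
    refine hrank _ ((Subgroup.map_subtype_le A).trans hES) ⟨⟨⟨?_⟩⟩, ?_⟩
    · rintro ⟨_, u, hu, rfl⟩ ⟨_, v, hv, rfl⟩
      exact Subtype.ext (congrArg (fun w : A => ((w : E) : Ω)) (mul_comm' (⟨u, hu⟩ : A) ⟨v, hv⟩))
    · rintro _ ⟨u, hu, rfl⟩
      rw [← map_pow, hAe u hu, map_one]
  have hle3 : Nat.card E ≤ p ^ 3 :=
    OddLocal.RankTwo.card_le_of_exponent hEp (fun x => Subtype.ext (hexp x x.2)) hrE
  by_cases hsmall : Nat.card E ≤ p ^ 2
  · obtain ⟨i, hi⟩ := IsPGroup.iff_card.mp hEp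
    have hi2 : i ≤ 2 := (Nat.pow_le_pow_iff_right hp.out.one_lt).mp (hi ▸ hsmall)
    refine RankTwoClosed.isNormal_of_omega_le_sq hS hF hp2 hstop ⟨⟨⟨fun u v => ?_⟩⟩, hexp⟩ hsmall
    interval_cases i
    · haveI := (Nat.card_eq_one_iff_unique.mp (hi.trans (pow_zero p))).1
      exact Subsingleton.elim _ _
    · rw [pow_one] at hi
      haveI := isCyclic_of_prime_card hi
      letI := IsCyclic.commGroup (α := E)
      exact mul_comm u v
    · exact IsPGroup.commutative_of_card_eq_prime_sq hi u v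
  obtain ⟨i, hi⟩ := IsPGroup.iff_card.mp hEp
  have hcard : Nat.card E = p ^ 3 := by
    rw [hi] at hle3 hsmall ⊢
    have h3 := (Nat.pow_le_pow_iff_right hp.out.one_lt).mp hle3
    have h2 : ¬ i ≤ 2 := fun h => hsmall (Nat.pow_le_pow_right hp.out.pos h)
    congr 1
    omega
  have hne : E ≠ S := fun e => hnotE ⟨e ▸ hcard, by
    refine ((Nat.dvd_prime hp.out).mp (Monoid.exponent_dvd_of_forall_pow_eq_one fun x =>
      Subtype.ext (hexp x (by rw [e]; exact x.2)))).resolve_left fun e1 => ?_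
    haveI := Monoid.exp_eq_one_iff.mp e1
    have := Nat.card_of_subsingleton (1 : S)
    rw [← e, hcard] at this
    exact (Nat.one_lt_pow (by norm_num) hp.out.one_lt).ne this.symm⟩
  have hnab : ∃ u ∈ E, ∃ v ∈ E, u * v ≠ v * u := by
    by_contra hab
    push_neg at hab
    have := hrank E hES ⟨⟨⟨fun u v => Subtype.ext (hab u u.2 v v.2)⟩⟩, hexp⟩
    rw [hcard] at this
    exact absurd ((Nat.pow_le_pow_iff_right hp.out.one_lt).mp this) (by norm_num)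
  set Z := Subgroup.center E
  have hnc : ¬ IsCyclic (E ⧸ Z) := fun hc => by
    obtain ⟨u, hu, v, hv, huv⟩ := hnab
    exact huv (congrArg Subtype.val (commutative_of_cyclic_center_quotient (QuotientGroup.mk' Z)
      (le_of_eq (QuotientGroup.ker_mk' Z)) (⟨u, hu⟩ : E) ⟨v, hv⟩))
  have hZcard : Nat.card Z = p ∧ Nat.card (E ⧸ Z) = p ^ 2 := by
    haveI : Nontrivial E := Finite.one_lt_card_iff_nontrivial.mp (hcard ▸ Nat.one_lt_pow (by norm_num) hp.out.one_lt)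
    haveI := hEp.center_nontrivial
    obtain ⟨k, hk3, hk⟩ := (Nat.dvd_prime_pow hp.out).mp (hcard ▸ Subgroup.card_subgroup_dvd_card Z)
    have hk0 : k ≠ 0 := fun e => by
      have := Finite.one_lt_card (α := Z)
      rw [hk, e, pow_zero] at this
      omega
    have hq := Z.index_mul_card
    rw [Subgroup.index_eq_card, hk, hcard, show p ^ 3 = p ^ (3 - k) * p ^ k by rw [← pow_add]; congr 1; omega] at hq
    have hq' := Nat.eq_of_mul_eq_mul_right (pow_pos hp.out.pos k) hq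
    rcases Nat.lt_or_ge k 2 with h | h
    · obtain rfl : k = 1 := by omega
      exact ⟨hk.trans (pow_one p), hq'⟩
    · refine absurd ?_ hnc
      rcases Nat.lt_or_ge k 3 with h' | h'
      · rw [show 3 - k = 1 by omega, pow_one] at hq'
        exact isCyclic_of_prime_card hq'
      · rw [show 3 - k = 0 by omega, pow_zero] at hq'
        haveI := (Nat.card_eq_one_iff_unique.mp hq').1
        infer_instance
  obtain ⟨zE, hzgen⟩ := (Subgroup.isCyclic_iff_exists_zpowers_eq_top Z).mp (isCyclic_of_prime_card hZcard.1)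
  have hzmem : ∀ w : E, (w : Ω) ∈ Subgroup.zpowers (zE : Ω) ↔ w ∈ Z := fun w => by
    rw [← hzgen]
    constructor
    · intro h
      obtain ⟨n, hn⟩ := Subgroup.mem_zpowers_iff.mp h
      exact Subgroup.mem_zpowers_iff.mpr ⟨n, Subtype.ext hn⟩
    · intro h
      obtain ⟨n, hn⟩ := Subgroup.mem_zpowers_iff.mp h
      exact Subgroup.mem_zpowers_iff.mpr ⟨n, congrArg Subtype.val hn⟩
  have hz1 : (zE : Ω) ≠ 1 := fun e => by
    rw [show zE = 1 from Subtype.ext e, Subgroup.zpowers_one_eq_bot] at hzgen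
    have := hZcard.1
    rw [← hzgen, Subgroup.card_bot] at this
    exact hp.out.ne_one this.symm
  have hSn : S ≤ Subgroup.normalizer (E : Set Ω) := stronglyClosed_normalizer hsc
  have hzc : ∀ g ∈ S, Commute (zE : Ω) g := by
    intro g hg
    let W : Subgroup Ω := Subgroup.zpowers (zE : Ω)
    have hWS : W ≤ S := Subgroup.zpowers_le.mpr (hES zE.2)
    have hW : ∀ x ∈ S, ∀ w ∈ W, x * w * x⁻¹ ∈ W := by
      intro x hx w hw
      have hwE : w ∈ E := (Subgroup.zpowers_le.mpr zE.2 : W ≤ E) hw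
      have hxwE : x * w * x⁻¹ ∈ E := (cj_mem_iff (hSn hx) w).mpr hwE
      refine (hzmem ⟨_, hxwE⟩).mpr (Subgroup.mem_center_iff.mpr fun v => Subtype.ext ?_)
      have hv : x⁻¹ * v * x ∈ E := (Subgroup.mem_normalizer_iff''.mp (hSn hx) (v : Ω)).mp v.2
      have h1 := congrArg Subtype.val (Subgroup.mem_center_iff.mp ((hzmem ⟨w, hwE⟩).mp hw) ⟨_, hv⟩)
      change (x⁻¹ * (v : Ω) * x) * w = w * (x⁻¹ * (v : Ω) * x) at h1
      show (v : Ω) * (x * w * x⁻¹) = x * w * x⁻¹ * v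
      calc (v : Ω) * (x * w * x⁻¹) = x * ((x⁻¹ * v * x) * w) * x⁻¹ := by group
        _ = x * (w * (x⁻¹ * v * x)) * x⁻¹ := by rw [h1]
        _ = _ := by group
    haveI : (W.subgroupOf S).Normal := ⟨fun w hw x => hW x x.2 w hw⟩
    haveI : Group.IsNilpotent S := hS.isNilpotent
    have hcW : Nat.card (W.subgroupOf S) = p := by
      rw [Nat.card_congr (Subgroup.subgroupOfEquivOfLe hWS).toEquiv, Nat.card_zpowers]
      exact orderOf_eq_prime (hexp _ zE.2) hz1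
    obtain ⟨w, hw, hw1, hwc⟩ := OddLocal.exists_ne_one_mem_center_of_normal (W.subgroupOf S)
      fun e => hp.out.ne_one (by rw [← hcW, e, Subgroup.card_bot])
    obtain ⟨n, hn⟩ := Subgroup.mem_zpowers_iff.mp (show (w : Ω) ∈ W from hw)
    have hn' : ¬ (p : ℤ) ∣ n := by
      rintro ⟨t, rfl⟩
      rw [zpow_mul, zpow_natCast, hexp _ zE.2, one_zpow] at hn
      exact hw1 (Subtype.ext hn.symm)
    obtain ⟨r, q, hrq⟩ := (Nat.prime_iff_prime_int.mp hp.out).coprime_iff_not_dvd.mpr hn'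
    have e : (zE : Ω) = (w : Ω) ^ q := by
      rw [← hn, ← zpow_mul, show n * q = 1 + (p : ℤ) * (-r) by linear_combination hrq, zpow_add, zpow_mul,
        zpow_natCast, hexp _ zE.2, one_zpow, mul_one, zpow_one]
    rw [e]
    exact (show Commute (w : Ω) g from (congrArg Subtype.val (Subgroup.mem_center_iff.mp hwc ⟨g, hg⟩)).symm).zpow_left q
  have hb : Base p S E (zE : Ω) :=
    ⟨hES, hSn, fun x hx hxp => (hEmem x).mpr ⟨hx, hxp⟩, hexp, hcard, zE.2, hz1, hzc, fun u hu v hv => by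
      refine (hzmem ⁅(⟨u, hu⟩ : E), ⟨v, hv⟩⁆).mpr ?_
      rw [← QuotientGroup.eq_one_iff, show ((⁅(⟨u, hu⟩ : E), ⟨v, hv⟩⁆ : E) : E ⧸ Z) =
        ⁅((⟨u, hu⟩ : E) : E ⧸ Z), ((⟨v, hv⟩ : E) : E ⧸ Z)⁆ from map_commutatorElement (QuotientGroup.mk' Z) _ _,
        commutatorElement_eq_one_iff_mul_comm]
      exact IsPGroup.commutative_of_card_eq_prime_sq hZcard.2 _ _, hnab, hrank⟩
  have hZ := hb.zp_stronglyClosed hS hF h5 hsc hne
  set W : Subgroup Ω := Subgroup.zpowers (zE : Ω)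
  have hWE : W ≤ E := Subgroup.zpowers_le.mpr zE.2
  have hEN : F.IsNormal E := isNormal_of_chain hS hF hsc 2
    (fun i => if i = 0 then ⊥ else if i = 1 then W else E) rfl rfl
    (fun i hi => by rcases i with _ | _ | i; exacts [bot_le, hWE, by omega])
    (fun i hi => by
      rcases i with _ | _ | i
      exacts [weaklyClosed_of_stronglyClosed (stronglyClosed_bot F), weaklyClosed_of_stronglyClosed hZ, by omega])
    fun i hi x hx q hq => by
      rcases i with _ | _ | i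
      · obtain ⟨n, rfl⟩ := Subgroup.mem_zpowers_iff.mp (show x ∈ W from hx)
        exact Subgroup.mem_bot.mpr (commutatorElement_eq_one_iff_mul_comm.mpr ((hzc q (hES hq)).zpow_left n).eq)
      · exact hb.comm x hx q hq
      · omega
  obtain ⟨A, hA, hzA, hAc⟩ := hb.exists_A hS
  have hAsc := hb.A_stronglyClosed hS hF h5 hsc hZ hEN hA hzA hAc
  refine isNormal_of_omega_chain hS hF hp2 hstop 3
    (fun i => if i = 0 then ⊥ else if i = 1 then W else if i = 2 then A else E) rfl rfl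
    (fun i j hij => by
      have hAE : A ≤ E := fun w hw => ((hA w).mp hw).1
      rcases i with _ | _ | _ | i <;> rcases j with _ | _ | _ | j <;>
        first | exact bot_le | exact le_rfl | exact hzA | exact hAE | exact hWE | omega)
    (fun i _ => by rcases i with _ | _ | _ | i; exacts [stronglyClosed_bot F, hZ, hAsc, hsc])
    fun i hi => ?_
  rcases i with _ | _ | _ | i
  · refine Subgroup.commutator_le.mpr fun x hx q hq => ?_
    obtain ⟨n, rfl⟩ := Subgroup.mem_zpowers_iff.mp (show x ∈ W from hx)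
    exact Subgroup.mem_bot.mpr (commutatorElement_eq_one_iff_mul_comm.mpr ((hzc q hq).zpow_left n).eq)
  · refine Subgroup.commutator_le.mpr fun x hx q hq => ?_
    show x * q * x⁻¹ * q⁻¹ ∈ W
    have h1 := inv_mem (((hA x).mp hx).2 q hq)
    rwa [show (q * x * q⁻¹ * x⁻¹)⁻¹ = x * q * x⁻¹ * q⁻¹ by group] at h1
  · refine Subgroup.commutator_le.mpr fun x hx q hq => ?_
    show x * q * x⁻¹ * q⁻¹ ∈ A
    by_cases hAE : A = E
    · rw [hAE, show x * q * x⁻¹ * q⁻¹ = x * (q * x⁻¹ * q⁻¹) by group]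
      exact E.mul_mem hx ((cj_mem_iff (hSn hq) _).mpr (E.inv_mem hx))
    · have h1 := A.inv_mem ((hAc hAE).2 x hx q hq)
      rwa [show (q * x * q⁻¹ * x⁻¹)⁻¹ = x * q * x⁻¹ * q⁻¹ by group] at h1
  · omega

end Cfsg.Agent.Fusion.RankTwoP5
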