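/-
Simplicity along an isomorphism of fusion systems.
-/
import Cfsg.Agent.Fusion.SysTransport
set_option autoImplicit false
set_option linter.style.haveILetI false

namespace Cfsg.Agent.Fusion

open Cfsg Cfsg.FusionSystem

variable {Ω Ω' : Type*} [Group Ω] [Group Ω'] {S : Subgroup Ω} {S' : Subgroup Ω'}
  {F : FusionSystem S} {F' : FusionSystem S'} {e : Ω → Ω'} {e' : Ω' → Ω}
  {T : Subgroup Ω} {P Q : Subgroup Ω} {p : ℕ}

namespace SysIso

/-- Simplicity is invariant under isomorphism. -/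
theorem isSimple [Fact p.Prime] [Finite S] [Finite S'] (h : SysIso F F' e e')
    (hS : IsPGroup p S) (hS' : IsPGroup p S') (hF : F.IsSimple p) : F'.IsSimple p := by
  refine ⟨h.saturated hS hS' hF.1, fun hb => hF.2.1 ?_, fun T' E' hE' => ?_⟩
  · refine le_bot_iff.mp fun x hx => ?_
    have h1 : e x = 1 := by simpa [hb] using h.mem x hx
    have h2 : e 1 = 1 := by simpa [hb] using h.mem 1 S.one_mem
    rw [Subgroup.mem_bot, ← h.left x hx, h1, ← h2, h.left 1 S.one_mem]
  have hT' : T' ≤ S' := hE'.1.2.2.2.1.1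
  have hsub := hE'.1.2.2.1
  rcases hF.2.2 _ _ (h.symm.transfer_normal hS' hS (h.symm.subSys_sysIso E' hsub) hE') with h0 | ⟨hTS, hhom⟩
  · left
    refine le_bot_iff.mp fun y hy => ?_
    have h1 : e' y ∈ (⊥ : Subgroup Ω) := h0 ▸ (h.symm.mem_img hT').mpr ⟨y, hy, rfl⟩
    have h2 : e' 1 = 1 := by
      have : e' 1 ∈ (⊥ : Subgroup Ω) := h0 ▸ (h.symm.mem_img hT').mpr ⟨1, T'.one_mem, rfl⟩
      simpa using this
    rw [Subgroup.mem_bot, ← h.right y (hT' hy), Subgroup.mem_bot.mp h1, ← h2, h.right 1 S'.one_mem]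
  · right
    have hT'S : T' = S' := by
      refine le_antisymm hT' fun y hy => ?_
      have : e' y ∈ h.symm.img T' := hTS.symm ▸ h.mem' y hy
      exact (h.symm.mem_img_apply hT' hy).mp this
    refine ⟨hT'S, fun P => Set.Subset.antisymm (hsub P) fun φ hφ => ?_⟩
    have hPS := (F'.le_of_mem hφ).1
    have k := h.symm.subSys_sysIso E' hsub
    have hm := h.symm.mor (mor_of_mem hφ)
    have hm2 : Mor (h.symm.subSys E' hsub) (h.symm.img P) (e' ∘ extFun φ ∘ e) :=
      ⟨hm.hom, (hhom _).symm ▸ hm.hom_mem, fun _ => rfl⟩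
    have h3 := k.symm.mor hm2
    have hPT : P ≤ T' := hT'S ▸ hPS
    have hk : k.img P = h.symm.img P := by
      ext y; rw [k.mem_img hPT, h.symm.mem_img hPS]
    have himg : k.symm.img (h.symm.img P) = P := hk ▸ k.img_img hPT
    rw [himg] at h3
    refine mem_iff_mor.mpr (h3.congr fun x hx => ?_)
    show e (e' (extFun φ (e (e' x)))) = extFun φ x
    rw [h.right x (hPS hx), extFun_apply φ hx, h.right _ ((F'.le_of_mem hφ).2 ⟨x, hx⟩)]

end SysIso

end Cfsg.Agent.Fusion
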