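/-
A simple realizable system is realized by a simple group.
-/
import Cfsg.Agent.Fusion.SysSimple
import Cfsg.Agent.Fusion.MinimalRealize
import Cfsg.Agent.Fusion.GroupLift
set_option autoImplicit false
set_option linter.style.haveILetI false

universe u
namespace Cfsg.Agent.Fusion

open Cfsg Cfsg.FusionSystem

variable {Ω : Type u} [Group Ω] {S : Subgroup Ω} {p : ℕ}

theorem exists_simple_realization [Finite S] [Fact p.Prime] (hS : IsPGroup p S) (F : FusionSystem S)
    (hsimple : F.IsSimple p) (hreal : F.IsRealizable p) :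
    ∃ (G : Type u) (_ : Group G) (_ : Finite G) (_ : IsSimpleGroup G) (ι : ↥S →* G),
      F.IsRealizedBy ι ∧ ∃ T : Sylow p G, (T : Subgroup G) = ι.range := by
  classical
  have hex : ∃ n, ∃ (G : Type u) (_ : Group G) (_ : Finite G) (ι : ↥S →* G),
      F.IsRealizedBy ι ∧ (∃ T : Sylow p G, (T : Subgroup G) = ι.range) ∧ Nat.card G = n := by
    obtain ⟨G, iG, fG, ι, h1, h2⟩ := hreal
    exact ⟨_, G, iG, fG, ι, h1, h2, rfl⟩
  obtain ⟨G, iG, fG, ι, hι, ⟨T, hT⟩, hcard⟩ := Nat.find_spec hex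
  have hmin : ∀ (G' : Type u) [Group G'] [Finite G'] (ι' : ↥S →* G'), F.IsRealizedBy ι' →
      (∃ T' : Sylow p G', (T' : Subgroup G') = ι'.range) → Nat.card G ≤ Nat.card G' := by
    intro G' _ _ ι' h1 h2
    rw [hcard]
    exact Nat.find_min' hex ⟨G', inferInstance, inferInstance, ι', h1, h2, rfl⟩
  refine ⟨G, iG, fG, ?_, ι, hι, T, hT⟩
  obtain ⟨hinj, hiff⟩ := hι
  have hιT : ∀ x : S, ι x ∈ (T : Subgroup G) := fun x => hT ▸ ⟨x, rfl⟩
  have hsimpleT : (groupFusionSystem (T : Subgroup G)).IsSimple p := by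
    obtain ⟨e, e', hi, -⟩ := realized_sysIso ⟨hinj, hiff⟩
    rw [hT]
    exact hi.isSimple hS (hT ▸ T.isPGroup') hsimple
  have hcore : pPrimeCore p G = ⊥ := by
    by_contra hne
    set N := pPrimeCore p G with hN
    have hNc : (Nat.card N).Coprime p := Core.card_pPrimeCore_coprime p G
    haveI : N.Normal := inferInstance
    have hmeet : ∀ x ∈ (T : Subgroup G), x ∈ N → x = 1 := fun x hx hxN => by
      obtain ⟨k, hk⟩ := T.isPGroup' ⟨x, hx⟩
      have h1 : orderOf x ∣ p ^ k := orderOf_dvd_of_pow_eq_one (congrArg Subtype.val hk)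
      have h2 : orderOf x ∣ Nat.card N := by
        have := orderOf_dvd_natCard (⟨x, hxN⟩ : N)
        rwa [Subgroup.orderOf_mk] at this
      exact orderOf_eq_one_iff.mp (Nat.eq_one_of_dvd_coprimes (hNc.pow_right k) h2 h1)
    set π := QuotientGroup.mk' N
    have hlt : Nat.card (G ⧸ N) < Nat.card G := by
      rw [Subgroup.card_eq_card_quotient_mul_card_subgroup N]
      haveI : Nontrivial N := (Subgroup.nontrivial_iff_ne_bot N).mpr hne
      exact lt_mul_of_one_lt_right Nat.card_pos Finite.one_lt_card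
    refine absurd (hmin (G ⧸ N) (π.comp ι) ⟨fun x y hxy => hinj ?_, fun P hP φ hφ => ?_⟩
      ⟨T.mapSurjective (QuotientGroup.mk'_surjective N), by
        rw [Sylow.coe_mapSurjective, hT, MonoidHom.range_comp]⟩) (not_le.mpr hlt)
    · have h1 : (ι x)⁻¹ * ι y ∈ N := QuotientGroup.eq.mp hxy
      exact inv_mul_eq_one.mp (hmeet _ (mul_mem (inv_mem (hιT x)) (hιT y)) h1)
    · constructor
      · intro h
        obtain ⟨g, hg⟩ := (hiff P hP φ hφ).mp h
        exact ⟨π g, fun x => by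
          show π (ι ⟨φ x, hφ x⟩) = _
          rw [hg x, map_mul, map_mul, map_inv]; rfl⟩
      · rintro ⟨gb, hgb⟩
        obtain ⟨g, rfl⟩ := QuotientGroup.mk'_surjective N gb
        set P' : Subgroup G := (P.subgroupOf S).map ι
        have hP' : IsPGroup p P' := T.isPGroup'.to_le (by
          rintro _ ⟨x, -, rfl⟩; exact hιT x)
        have hmemsup : ∀ y ∈ P', cj g y ∈ (T : Subgroup G) ⊔ N := by
          rintro _ ⟨x, hx, rfl⟩
          have h1 : π (ι ⟨φ ⟨x, hx⟩, hφ _⟩) = π (cj g (ι x)) := by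
            rw [cj_apply, map_mul, map_mul, map_inv]
            exact hgb ⟨x, hx⟩
          have h2 := QuotientGroup.eq.mp h1
          have h3 := mul_mem (Subgroup.mem_sup_left (T := N) (hιT ⟨φ ⟨x, hx⟩, hφ _⟩))
            (Subgroup.mem_sup_right (S := (T : Subgroup G)) h2)
          rwa [mul_inv_cancel_left] at h3
        obtain ⟨m, hm, hmT⟩ := exists_lift_conj T N hP' g hmemsup
        refine (hiff P hP φ hφ).mpr ⟨m * g, fun x => ?_⟩
        have hxP' : ι ⟨x, hP x.2⟩ ∈ P' := ⟨_, x.2, rfl⟩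
        have hπm : π m = 1 := (QuotientGroup.eq_one_iff m).mpr hm
        have h1 : π (ι ⟨φ x, hφ x⟩) = π (cj (m * g) (ι ⟨x, hP x.2⟩)) := by
          rw [cj_apply, map_mul, map_mul, map_inv, map_mul, hπm, one_mul]
          exact hgb x
        exact inv_mul_eq_one.mp (hmeet _ (mul_mem (inv_mem (hιT _)) (hmT _ hxP')) (QuotientGroup.eq.mp h1))
  refine isSimpleGroup_of_minimal T hsimpleT hcore fun H hTH hne => ?_
  by_contra hall
  push Not at hall
  have hιH : ∀ x : S, ι x ∈ H := fun x => hTH (hιT x)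
  have hlt : Nat.card H < Nat.card G := by
    refine lt_of_le_of_ne (Nat.le_of_dvd Nat.card_pos (Subgroup.card_subgroup_dvd_card H)) fun e => hne ?_
    exact Subgroup.eq_top_of_card_eq H e
  refine absurd (hmin H (ι.codRestrict H hιH) ⟨fun x y hxy => hinj (congrArg Subtype.val hxy),
    fun P hP φ hφ => ?_⟩ ?_) (not_le.mpr hlt)
  · constructor
    · intro h
      obtain ⟨g, hg⟩ := (hiff P hP φ hφ).mp h
      set P' : Subgroup G := (P.subgroupOf S).map ι
      have hP'T : P' ≤ (T : Subgroup G) := by rintro _ ⟨x, -, rfl⟩; exact hιT x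
      have hmem : conjHom P' g ∈ (groupFusionSystem (T : Subgroup G)).Hom P' := by
        refine ⟨hP'T, ?_, g, fun _ => rfl⟩
        rintro ⟨_, x, hx, rfl⟩
        show g * ι x * g⁻¹ ∈ _
        have := hg ⟨x, hx⟩
        rw [show (⟨((⟨x, hx⟩ : P) : Ω), hP hx⟩ : S) = x from rfl] at this
        rw [← this]
        exact hιT _
      rw [← hall P'] at hmem
      obtain ⟨-, -, k, hk, hkg⟩ := hmem
      refine ⟨⟨k, hk⟩, fun x => Subtype.ext ?_⟩
      have h1 := hkg ⟨ι ⟨x, hP x.2⟩, _, x.2, rfl⟩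
      exact (hg x).trans h1
    · rintro ⟨g, hg⟩
      exact (hiff P hP φ hφ).mpr ⟨g, fun x => congrArg Subtype.val (hg x)⟩
  · obtain ⟨R, hR⟩ := (exists_sylow_eq_iff (L := H) T.isPGroup').mpr (not_dvd_relIndex_of_le T hTH)
    refine ⟨R, hR.trans ?_⟩
    ext y
    constructor
    · intro hy
      obtain ⟨x, hx⟩ := hT ▸ (show (y : G) ∈ (T : Subgroup G) from hy)
      exact ⟨x, Subtype.ext hx⟩
    · rintro ⟨x, rfl⟩
      exact hιT x

end Cfsg.Agent.Fusion
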