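/-
The fusion system of a `p`-stable group is constrained for odd `p`.
-/
import Cfsg.Agent.Fusion.NormalLifting
import Cfsg.Agent.Fusion.GroupSubnormal
import Cfsg.Agent.Fusion.GroupLift
import Cfsg.Agent.Fusion.Joins
import Cfsg.Agent.Fusion.ExtendMod
import Cfsg.Agent.Core.StableZJ.Fusion
import Cfsg.Agent.S3836
import Cfsg.Agent.PLocal.Functors
set_option autoImplicit false
set_option linter.style.haveILetI false

universe u

namespace Cfsg.Agent.Fusion

open Cfsg Cfsg.FusionSystem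

variable {p : ℕ} [Fact p.Prime]

theorem constrained_of_realizes {G : Type u} [Group G] [Finite G] {K : Type u} [Group K] [Finite K]
    (T : Sylow p G) (ι : ↥(T : Subgroup G) →* K) (R : Sylow p K) (hR : (R : Subgroup K) = ι.range)
    (hreal : (groupFusionSystem (T : Subgroup G)).IsRealizedBy ι)
    (h : (groupFusionSystem (R : Subgroup K)).IsConstrained p) :
    (groupFusionSystem (T : Subgroup G)).IsConstrained p := by
  obtain ⟨e, e', hsys, -⟩ := realized_sysIso hreal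
  rw [hR] at h
  exact sysIso_constrained (hR ▸ R.isPGroup') T.isPGroup' hsys.symm h

/-- An automorphism preserving the Sylow subgroup preserves the core of the system. -/
theorem core_invariant {G : Type*} [Group G] [Finite G] (T : Sylow p G) (φ : G ≃* G)
    (hφ : ∀ x ∈ (T : Subgroup G), φ x ∈ (T : Subgroup G)) :
    ∀ x ∈ (groupFusionSystem (T : Subgroup G)).core, φ x ∈ (groupFusionSystem (T : Subgroup G)).core := by
  set F := groupFusionSystem (T : Subgroup G)
  have hφ' : ∀ y ∈ (T : Subgroup G), φ.symm y ∈ (T : Subgroup G) := by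
    intro y hy
    have heq : (T : Subgroup G).map φ.toMonoidHom = (T : Subgroup G) :=
      Subgroup.eq_of_le_of_card_ge (by rintro _ ⟨x, hx, rfl⟩; exact hφ x hx)
        (Nat.card_congr ((T : Subgroup G).equivMapOfInjective _ φ.injective).toEquiv).le
    obtain ⟨x, hx, rfl⟩ := heq.ge hy
    exact (φ.symm_apply_apply x).symm ▸ hx
  have hI := groupFusion_inducedBy (T : Subgroup G)
  have push : ∀ (ψ : G ≃* G), (∀ x ∈ (T : Subgroup G), ψ x ∈ (T : Subgroup G)) → ∀ (P : Subgroup G)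
      (f : G → G), Mor F P f → ∀ P' : Subgroup G, (∀ y, y ∈ P' ↔ ∃ x ∈ P, ψ x = y) →
      Mor F P' (ψ ∘ f ∘ ψ.symm) := by
    intro ψ hψ P f hf P' hP'
    obtain ⟨hP, hv, g, -, eg⟩ := (hI _ _).mp hf
    refine (hI _ _).mpr ⟨fun y hy => ?_, fun y hy => ?_, ψ g, trivial, fun y hy => ?_⟩
    all_goals obtain ⟨x, hx, rfl⟩ := (hP' y).mp hy
    · exact hψ x (hP hx)
    · simp only [Function.comp_apply, MulEquiv.symm_apply_apply]
      exact hψ _ (hv x hx)
    · simp only [Function.comp_apply, MulEquiv.symm_apply_apply, eg x hx, cj_apply, map_mul, map_inv]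
  have h : SysIso F F φ φ.symm :=
    ⟨hφ, hφ', fun x _ => φ.symm_apply_apply x, fun x _ => φ.apply_symm_apply x,
      fun x _ y _ => map_mul φ x y, push φ hφ, push φ.symm hφ'⟩
  have hQ : F.IsNormal F.core := core_isNormal
  have hn : F.IsNormal (h.img F.core) := by
    refine isNormal_of_extStab (h.img_le _) fun P' f' hf' => ?_
    obtain ⟨g', hg', eg, hm⟩ := h.isNormal hQ.1 (fun P f hf => by
      obtain ⟨g, hg, eg, mg⟩ := ExtStab.of_isNormal hQ hf
      exact ⟨g, hg, eg, ((hg.restrict le_sup_right).iso_of_card mg le_rfl).bij.image_eq⟩) P' f' hf'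
    exact ⟨g', hg', eg, fun x hx => hm.le ⟨x, hx, rfl⟩⟩
  intro x hx
  exact (le_sSup hn : h.img F.core ≤ F.core) ((h.mem_img hQ.1).mpr ⟨x, hx, rfl⟩)

/-- The fusion system of a `p`-stable group is constrained, for odd `p`. -/
theorem constrained_of_stable (hp2 : p ≠ 2) :
    ∀ (n : ℕ) {G : Type u} [Group G] [Finite G], Nat.card G ≤ n → IsNormalizerPStable p G →
      ∀ T : Sylow p G, (groupFusionSystem (T : Subgroup G)).IsConstrained p := by
  classical
  intro n
  induction n with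
  | zero => intro G _ _ h; exact absurd h (by simp [Nat.card_pos.ne'])
  | succ n ih =>
  intro G _ _ hcard hst T
  have hsat := groupFusion_saturated T
  set F := groupFusionSystem (T : Subgroup G)
  have hI := groupFusion_inducedBy (T : Subgroup G)
  by_cases hT1 : (T : Subgroup G) = ⊥
  · refine ⟨hsat, F.core, core_isNormal, core_isNormal.1, fun R _ x hx => ?_⟩
    have h1 : x ∈ (T : Subgroup G) := hx.1
    rw [hT1, Subgroup.mem_bot] at h1
    exact h1 ▸ R.one_mem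
  -- the normalizer of `Z(J(T))` controls fusion
  set Z := centerThompsonAOf (T : Subgroup G) with hZdef
  have hctrl : ∀ A : Set G, A ⊆ (T : Subgroup G) → ControlsStrongFusionOf
      (Subgroup.normalizer (Z : Set G)) (T : Subgroup G) A := fun A hA => by
    refine ⟨hA, fun g hg => ?_⟩
    obtain ⟨m, hm, hma⟩ := Core.StableZJ.agreesIn_aux_odd hp2 _ le_rfl hst T (Subgroup.closure A)
      ((Subgroup.closure_le _).mpr hA) g (by
        rw [MonoidHom.map_closure, Subgroup.closure_le]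
        exact hg)
    exact ⟨m, hm, fun a ha => (hma a (Subgroup.subset_closure ha)).symm⟩
  by_cases hM : Subgroup.normalizer (Z : Set G) ≠ ⊤
  · set M := Subgroup.normalizer (Z : Set G)
    have hTM : (T : Subgroup G) ≤ M :=
      Subgroup.le_normalizer.trans (Core.StableZJ.normalizer_le_ctA _)
    let ι : ↥(T : Subgroup G) →* M := Subgroup.inclusion hTM
    refine constrained_of_realizes T ι (T.subtype hTM) ?_ ⟨Subgroup.inclusion_injective hTM, ?_⟩
      (ih ?_ (Cfsg.Agent.S3836.result hst M) _)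
    · ext y
      rw [Sylow.coe_subtype, Subgroup.mem_subgroupOf]
      exact ⟨fun hy => ⟨⟨y, hy⟩, rfl⟩, fun ⟨s, hs⟩ => hs ▸ s.2⟩
    · intro P hP φ hφ
      constructor
      · rintro ⟨-, -, g, eg⟩
        obtain ⟨-, hc⟩ := hctrl (P : Set G) hP
        obtain ⟨m, hm, em⟩ := hc g fun y ⟨x, hx, e⟩ => by
          rw [← e]
          show g * x * g⁻¹ ∈ (T : Subgroup G)
          exact eg ⟨x, hx⟩ ▸ hφ ⟨x, hx⟩
        refine ⟨⟨m, hm⟩, fun x => Subtype.ext ?_⟩
        show φ x = m * (x : G) * m⁻¹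
        rw [eg x]
        simpa using em x x.2
      · rintro ⟨g, eg⟩
        exact ⟨hP, hφ, g, fun x => congrArg Subtype.val (eg x)⟩
    · have hlt := lt_of_le_of_ne (Subgroup.card_le_card_group M) fun e => hM (Subgroup.eq_top_of_card_eq M e)
      omega
  push Not at hM
  haveI hZn : Z.Normal := Subgroup.normalizer_eq_top_iff.mp hM
  have hZT : Z ≤ (T : Subgroup G) := inf_le_left.trans (Subgroup.map_subtype_le _)
  have hZne : Z ≠ ⊥ := PLocal.centerThompsonAOf_ne_bot T.isPGroup' hT1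
  have hZab : ∀ a ∈ Z, ∀ b ∈ Z, a * b = b * a := fun a ha b hb =>
    (Subgroup.mem_inf.mp hb).2 a (Subgroup.mem_inf.mp ha).1
  set C := Subgroup.centralizer (Z : Set G) with hC
  haveI hCn : C.Normal := by rw [hC]; infer_instance
  have hZC : Z ≤ C := fun b hb a ha => hZab a ha b hb
  haveI : (Z.subgroupOf C).Normal := Subgroup.normal_subgroupOf
  set π := QuotientGroup.mk' (Z.subgroupOf C) with hπ
  have hπs : Function.Surjective π := QuotientGroup.mk'_surjective _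
  have hker : ∀ z : C, π z = 1 ↔ (z : G) ∈ Z := fun z => QuotientGroup.eq_one_iff z
  have hZp : IsPGroup p (Z.subgroupOf C) := (T.isPGroup'.to_le hZT).comap_subtype
  have hcent : ∀ x : C, x ∈ Subgroup.centralizer ((Z.subgroupOf C : Subgroup C) : Set C) :=
    fun x z hz => Subtype.ext (x.2 (z : G) hz)
  set T₁ : Sylow p C := (IsPGroup.toSylow (T.isPGroup'.comap_subtype (K := C))
    (inf_sylow_not_dvd T C |> fun h => by
      rw [Subgroup.relIndex, Subgroup.inf_subgroupOf_right] at h; exact h)) with hT₁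
  have hT₁m : ∀ x : C, x ∈ (T₁ : Subgroup C) ↔ (x : G) ∈ (T : Subgroup G) := fun x => Iff.rfl
  set T₂ : Sylow p (C ⧸ Z.subgroupOf C) := T₁.mapSurjective hπs
  have hT₂ : (T₂ : Subgroup _) = (T₁ : Subgroup C).map π := Sylow.coe_mapSurjective _ _
  have hT₂m : ∀ x : C, π x ∈ (T₂ : Subgroup _) → x ∈ (T₁ : Subgroup C) := by
    intro x hx
    rw [hT₂] at hx
    obtain ⟨t, ht, e⟩ := hx
    have h1 : (↑(t⁻¹ * x) : G) ∈ Z := (hker _).mp (by rw [map_mul, map_inv, e, inv_mul_cancel])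
    rw [← mul_inv_cancel_left t x]
    exact Subgroup.mul_mem _ ht ((hT₁m _).mpr (hZT h1))
  obtain ⟨-, Q₀, hQ₀, hQ₀c⟩ := ih (G := C ⧸ Z.subgroupOf C) (by
      have h2 := Subgroup.card_eq_card_quotient_mul_card_subgroup (Z.subgroupOf C)
      have h3 : 1 < Nat.card (Z.subgroupOf C) := by
        rw [Nat.card_congr (Subgroup.subgroupOfEquivOfLe hZC).toEquiv]
        exact (Subgroup.one_lt_card_iff_ne_bot Z).mpr hZne
      have h4 : 0 < Nat.card (C ⧸ Z.subgroupOf C) := Nat.card_pos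
      have h5 := Subgroup.card_le_card_group C
      nlinarith)
    (Core.StableZJ.stable_quotient_pGroup_odd hp2 (Cfsg.Agent.S3836.result hst C) _ hZp fun x _ => hcent x) T₂
  -- the preimage is normal in the system of `C`
  set F₁ := groupFusionSystem (T₁ : Subgroup C)
  have hI₁ := groupFusion_inducedBy (T₁ : Subgroup C)
  have hI₂ := groupFusion_inducedBy (T₂ : Subgroup (C ⧸ Z.subgroupOf C))
  set R₁ : Subgroup C := (T₁ : Subgroup C) ⊓ Q₀.comap π
  have hR₁s : F₁.StronglyClosed R₁ := by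
    refine stronglyClosed_of_mor inf_le_left fun P f hf x hxP hx => ?_
    obtain ⟨-, hv, g, -, eg⟩ := (hI₁ _ _).mp hf
    refine ⟨hv x hxP, ?_⟩
    show π (f x) ∈ Q₀
    have hm : Mor (groupFusionSystem (T₂ : Subgroup (C ⧸ Z.subgroupOf C))) (Subgroup.zpowers (π x))
        (cj (π g)) := by
      refine (hI₂ _ _).mpr ⟨Subgroup.zpowers_le.mpr (hQ₀.1 hx.2), fun y hy => ?_, π g, trivial, fun _ _ => rfl⟩
      obtain ⟨i, rfl⟩ := Subgroup.mem_zpowers_iff.mp hy
      rw [cj_apply, ← conj_zpow]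
      refine Subgroup.zpow_mem _ ?_ i
      rw [← map_inv, ← map_mul, ← map_mul, hT₂]
      exact ⟨_, cj_apply g x ▸ eg x hxP ▸ hv x hxP, rfl⟩
    have := stronglyClosed_mem (isNormal_stronglyClosed hQ₀) hm (Subgroup.mem_zpowers _) hx.2
    rwa [eg x hxP, cj_apply, map_mul, map_mul, map_inv]
  have hR₁n : F₁.IsNormal R₁ := by
    refine isNormal_of_local T₁ hR₁s ⊤ le_top π (fun z _ hz g _ => Subtype.ext ?_) fun U hU y _ hy => ?_
    · exact (g.2 (z : G) ((hker z).mp hz)).symm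
    · have hm : Mor (groupFusionSystem (T₂ : Subgroup (C ⧸ Z.subgroupOf C))) (U.map π) (cj (π y)) := by
        refine (hI₂ _ _).mpr ⟨?_, ?_, π y, trivial, fun _ _ => rfl⟩
        · rintro _ ⟨u, hu, rfl⟩; rw [hT₂]; exact ⟨u, hU hu, rfl⟩
        · rintro _ ⟨u, hu, rfl⟩
          rw [hT₂, cj_apply, ← map_inv, ← map_mul, ← map_mul]
          exact ⟨_, hU ((Subgroup.mem_normalizer_iff.mp hy u).mp hu), rfl⟩
      obtain ⟨g, hg, eg, mg⟩ := ExtStab.of_isNormal hQ₀ hm
      obtain ⟨-, -, c', -, ec⟩ := (hI₂ _ _).mp hg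
      obtain ⟨c, rfl⟩ := hπs c'
      refine ⟨c, trivial, fun u hu _ => ?_, fun r hr => ?_⟩
      · have h1 := eg (π u) ⟨u, hu, rfl⟩
        rw [ec _ (Subgroup.mem_sup_left ⟨u, hu, rfl⟩), cj_apply, cj_apply] at h1
        simpa only [map_mul, map_inv] using h1
      · have h1 := mg _ hr.2
        rw [ec _ (Subgroup.mem_sup_right hr.2), cj_apply, ← map_inv, ← map_mul, ← map_mul] at h1
        have h2 := hQ₀.1 h1
        exact ⟨c * r * c⁻¹, ⟨hT₂m _ h2, h1⟩, rfl⟩
  -- the core of the system of `C` is centric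
  have hZ₁ : ∀ z : C, (z : G) ∈ Z → z ∈ R₁ := fun z hz =>
    ⟨(hT₁m z).mpr (hZT hz), show π z ∈ Q₀ by rw [(hker z).mpr hz]; exact Q₀.one_mem⟩
  set W := F₁.core with hW
  have hWn : F₁.IsNormal W := core_isNormal
  have hR₁W : R₁ ≤ W := le_sSup hR₁n
  have hWc : ∀ c : C, c ∈ (T₁ : Subgroup C) → (∀ w ∈ W, w * c = c * w) → c ∈ W := by
    intro c hc hcw
    refine hR₁W ⟨hc, hQ₀c.2 Q₀ (isConj_refl hQ₀.1) ⟨by rw [hT₂]; exact ⟨c, hc, rfl⟩, fun q hq => ?_⟩⟩
    have hqT := hQ₀.1 hq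
    rw [hT₂] at hqT
    obtain ⟨r, hr, rfl⟩ := hqT
    rw [← map_mul, ← map_mul, hcw r (hR₁W ⟨hr, hq⟩)]
  set R : Subgroup G := W.map C.subtype with hRdef
  have hRC : R ≤ C := Subgroup.map_subtype_le _
  have hRT : R ≤ (T : Subgroup G) := by
    rintro _ ⟨w, hw, rfl⟩; exact (hT₁m w).mp (hWn.1 hw)
  -- elements normalizing `T ⊓ C` normalize the core
  have hinv : ∀ g ∈ Subgroup.normalizer (((T : Subgroup G) ⊓ C : Subgroup G) : Set G), ∀ r ∈ R,
      g * r * g⁻¹ ∈ R := by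
    rintro g hg _ ⟨w, hw, rfl⟩
    let φ : C ≃* C := MulAut.conjNormal g
    have hφ : ∀ x ∈ (T₁ : Subgroup C), φ x ∈ (T₁ : Subgroup C) := fun x hx => by
      rw [hT₁m]
      show g * (x : G) * g⁻¹ ∈ (T : Subgroup G)
      exact ((Subgroup.mem_normalizer_iff.mp hg (x : G)).mp ⟨(hT₁m x).mp hx, x.2⟩).1
    exact ⟨φ w, core_invariant T₁ φ hφ w hw, rfl⟩
  have hRs : F.StronglyClosed R := by
    refine stronglyClosed_of_mor hRT fun P f hf x hxP hx => ?_
    obtain ⟨-, hv, g, -, eg⟩ := (hI _ _).mp hf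
    rw [eg x hxP, cj_apply]
    have hgx : g * x * g⁻¹ ∈ (T : Subgroup G) := cj_apply g x ▸ eg x hxP ▸ hv x hxP
    -- the Frattini argument
    have htop : Subgroup.normalizer (((T₁ : Subgroup C).map C.subtype : Subgroup G) : Set G) ⊔ C = ⊤ :=
      Sylow.normalizer_sup_eq_top T₁
    have hmap : (T₁ : Subgroup C).map C.subtype = (T : Subgroup G) ⊓ C := by
      ext z
      constructor
      · rintro ⟨w, hw, rfl⟩; exact ⟨(hT₁m w).mp hw, w.2⟩
      · rintro ⟨h1, h2⟩; exact ⟨⟨z, h2⟩, (hT₁m _).mpr h1, rfl⟩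
    rw [hmap, sup_comm] at htop
    obtain ⟨c, hc, m, hm, rfl⟩ := Subgroup.mem_sup_of_normal_left.mp (htop.ge (Subgroup.mem_top g))
    obtain ⟨w, hw, hwe⟩ := hinv m hm x hx
    have h1 : c * m * x * (c * m)⁻¹ = ((⟨c, hc⟩ * w * ⟨c, hc⟩⁻¹ : C) : G) := by
      show _ = c * (w : G) * c⁻¹
      change (w : G) = _ at hwe
      rw [hwe]; group
    rw [h1] at hgx ⊢
    refine ⟨(⟨c, hc⟩ : C) * w * (⟨c, hc⟩ : C)⁻¹, ?_, rfl⟩
    have hm₁ : Mor F₁ (Subgroup.zpowers w) (cj (⟨c, hc⟩ : C)) := by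
      refine (hI₁ _ _).mpr ⟨Subgroup.zpowers_le.mpr (hWn.1 hw), fun y hy => ?_, _, trivial, fun _ _ => rfl⟩
      obtain ⟨i, rfl⟩ := Subgroup.mem_zpowers_iff.mp hy
      rw [cj_apply, ← conj_zpow]
      exact Subgroup.zpow_mem _ ((hT₁m _).mpr hgx) i
    exact stronglyClosed_mem (isNormal_stronglyClosed hWn) hm₁ (Subgroup.mem_zpowers _) hw
  have hRn : F.IsNormal R := by
    refine isNormal_of_local T hRs C hRC (MonoidHom.id G)
      (fun z _ hz g _ => by rw [show z = 1 from hz, one_mul, mul_one]) fun U hU y hyC hy => ?_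
    set y₁ : C := ⟨y, hyC⟩
    have hm : Mor F₁ (U.subgroupOf C) (cj y₁) := by
      refine (hI₁ _ _).mpr ⟨fun u hu => (hT₁m u).mpr (hU hu), fun u hu => ?_, y₁, trivial, fun _ _ => rfl⟩
      rw [hT₁m]
      exact hU ((Subgroup.mem_normalizer_iff.mp hy (u : G)).mp hu)
    obtain ⟨g, hg, eg, mg⟩ := ExtStab.of_isNormal hWn hm
    obtain ⟨-, -, c, -, ec⟩ := (hI₁ _ _).mp hg
    refine ⟨c, c.2, fun u hu huC => ?_, fun r hr => ?_⟩
    · have h1 := eg (⟨u, huC⟩ : C) hu
      rw [ec _ (Subgroup.mem_sup_left (show (⟨u, huC⟩ : C) ∈ U.subgroupOf C from hu)), cj_apply,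
        cj_apply] at h1
      exact congrArg Subtype.val h1
    · obtain ⟨w, hw, rfl⟩ := hr
      have h1 := mg w hw
      rw [ec _ (Subgroup.mem_sup_right hw), cj_apply] at h1
      exact ⟨_, ⟨_, h1, rfl⟩, rfl⟩
  refine ⟨hsat, R, hRn, hRT, fun Q hQ x hx => ?_⟩
  have hQR : Q = R := by
    obtain ⟨φ, hφ, e⟩ := hQ
    exact e.symm.trans ((weaklyClosed_of_stronglyClosed hRs).2 φ hφ)
  subst hQR
  have hxC : x ∈ C := fun z hz => hx.2 z ⟨⟨z, hZC hz⟩, hR₁W (hZ₁ _ hz), rfl⟩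
  refine ⟨⟨x, hxC⟩, hWc _ ((hT₁m _).mpr hx.1) (fun w hw => Subtype.ext ?_), rfl⟩
  exact hx.2 (w : G) ⟨w, hw, rfl⟩

end Cfsg.Agent.Fusion
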