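/-
Thompson transfer for fusion systems.
-/
import Cfsg.Agent.Fusion.TransferAb
set_option autoImplicit false

namespace Cfsg.Agent.Fusion

open Cfsg Cfsg.FusionSystem

variable {Ω : Type*} [Group Ω] {S : Subgroup Ω} {F : FusionSystem S}

theorem normalizerIn_zpowers_involution {i : Ω} (hi : orderOf i = 2) :
    normalizerIn S (Subgroup.zpowers i) = S ⊓ Subgroup.centralizer {i} := by
  ext s
  refine and_congr_right fun _ => ⟨fun hn => ?_, fun hc => Subgroup.mem_normalizer_iff.mpr fun x => ?_⟩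
  · refine Subgroup.mem_centralizer_singleton_iff.mpr ?_
    obtain ⟨k, hk⟩ := (Subgroup.mem_normalizer_iff.mp hn i).mp (Subgroup.mem_zpowers i)
    rcases Int.emod_two_eq_zero_or_one k with h | h
    · have : i ^ k = 1 := orderOf_dvd_iff_zpow_eq_one.mp (by rw [hi]; exact Int.dvd_of_emod_eq_zero h)
      have hk' : i ^ k = s * i * s⁻¹ := hk
      rw [this] at hk'
      have h1 : s * i * s⁻¹ = 1 := hk'.symm
      rw [mul_inv_eq_one, mul_eq_left] at h1
      rw [h1, orderOf_one] at hi
      exact absurd hi (by norm_num)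
    · have hk' : i ^ k = s * i * s⁻¹ := hk
      rw [← zpow_mod_orderOf, hi, show ((2 : ℕ) : ℤ) = 2 from rfl, h, zpow_one] at hk'
      exact (eq_mul_inv_iff_mul_eq.mp hk').symm
  · have hc' := Subgroup.mem_centralizer_singleton_iff.mp hc
    have hconj : ∀ k : ℤ, s * i ^ k * s⁻¹ = i ^ k := fun k => by
      rw [(Commute.zpow_right (show Commute s i from hc') k).eq, mul_inv_cancel_right]
    refine ⟨fun ⟨k, hk⟩ => ⟨k, ?_⟩, fun ⟨k, hk⟩ => ⟨k, ?_⟩⟩
    · show i ^ k = _
      rw [← show i ^ k = x from hk, hconj]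
    · have hk' : i ^ k = s * x * s⁻¹ := hk
      show i ^ k = x
      rw [← hconj k] at hk'
      exact mul_left_cancel (mul_right_cancel hk')

theorem thompson_transfer [Finite S] (hS : IsPGroup 2 ↥S) (hF : F.IsSaturated 2) (T : Subgroup Ω)
    (hT : T.relIndex S = 2) (i : Ω) (hi : i ∈ S) (hi2 : orderOf i = 2)
    (h : ∀ j : Ω, F.IsConjElt i j → F.IsFullyNormalized (Subgroup.zpowers j) → j ∉ T) :
    i ∉ F.hyperfocalSubgroup 2 := by
  classical
  haveI : Fact (Nat.Prime 2) := ⟨Nat.prime_two⟩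
  intro hhyp
  obtain ⟨X, hX⟩ := exists_stableBiset hS hF
  haveI : Fintype S := Fintype.ofFinite _
  set K := T.subgroupOf S with hK
  have hK2 : K.index = 2 := hT
  haveI : K.Normal := Subgroup.normal_of_index_eq_two hK2
  have hc2 : Nat.card (S ⧸ K) = 2 := hK2
  letI : CommGroup (S ⧸ K) :=
    { (inferInstance : Group (S ⧸ K)) with
      mul_comm := fun a b => by
        haveI := isCyclic_of_prime_card hc2
        exact (IsCyclic.commutative (α := S ⧸ K)).is_comm.comm a b }
  set χ : S →* S ⧸ K := QuotientGroup.mk' K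
  -- a fully normalized conjugate
  obtain ⟨R, hR, hRn⟩ := exists_fullyNormalized (F := F) (Subgroup.zpowers_le.mpr hi)
  obtain ⟨f, hf⟩ := isConj_iff.mp hR
  set x := f i with hxdef
  have hxR : x ∈ R := hf.mapsTo (Subgroup.mem_zpowers i)
  have hx2 : orderOf x = 2 := by
    have h1 : (⟨x, hxR⟩ : R) = hf.equiv ⟨i, Subgroup.mem_zpowers i⟩ := rfl
    rw [← Subgroup.orderOf_mk x hxR, h1, MulEquiv.orderOf_eq, Subgroup.orderOf_mk, hi2]
  have hRx : R = Subgroup.zpowers x := by
    haveI := finite_of_le hf.cod_le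
    refine (eq_of_le_of_card (Subgroup.zpowers_le.mpr hxR) ?_).symm
    rw [← hf.card_eq, Nat.card_zpowers, Nat.card_zpowers, hi2, hx2]
  set iS : S := ⟨i, hi⟩
  set xS : S := ⟨x, hf.cod_le hxR⟩
  have hV : X.transfer χ xS = 1 := by
    rw [X.transfer_invariant χ hf.mor (x := iS) (Subgroup.mem_zpowers i) rfl]
    exact X.transfer_focal χ (x := iS) (hyperfocal_le_focal hhyp)
  -- the transfer at `x` is nontrivial
  have hxx : xS * xS = 1 := by
    refine Subtype.ext ?_
    show x * x = 1
    rw [← sq, ← hx2, pow_orderOf_eq_one]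
  set A := Finset.univ.filter fun j => X.σ xS j = j with hA
  have hconj : ∀ j ∈ A, F.IsConjElt i (X.c xS j) := by
    intro j hj
    obtain ⟨P, g, hg, eg⟩ := X.orbit j
    obtain ⟨hP, e⟩ := eg xS (Finset.mem_filter.mp hj).2
    refine isConjElt_iff.mpr ⟨g ∘ f, hf.mor.comp hg fun y hy => ?_, ?_⟩
    · have h1 : R ≤ P := hRx.le.trans (Subgroup.zpowers_le.mpr hP)
      exact h1 (hf.mapsTo hy)
    · exact e
  -- conjugates inside `T` have smaller centralizers
  set C := fun y : Ω => Nat.card ↥(S ⊓ Subgroup.centralizer {y})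
  have hsmall : ∀ y, F.IsConjElt i y → y ∈ T → C y < C x := by
    intro y hy hyT
    obtain ⟨g, hg, rfl⟩ := isConjElt_iff.mp hy
    have hyi : orderOf (g i) = 2 := by
      have h1 : orderOf (g i) = orderOf (⟨i, Subgroup.mem_zpowers i⟩ : Subgroup.zpowers i) :=
        orderOf_injective hg.hom (F.injective_of_mem hg.hom_mem) ⟨i, Subgroup.mem_zpowers i⟩
      rw [h1, Subgroup.orderOf_mk, hi2]
    by_contra hlt
    refine h (g i) hy ⟨Subgroup.zpowers_le.mpr (hg.map_mem (Subgroup.mem_zpowers i)), fun Q hQ => ?_⟩ hyT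
    have hzi : F.IsConj (Subgroup.zpowers i) (Subgroup.zpowers (g i)) := by
      have hi' : hg.img = Subgroup.zpowers (g i) := by
        refine le_antisymm (fun z hz => ?_) (Subgroup.zpowers_le.mpr (hg.mem_img.mpr ⟨i, Subgroup.mem_zpowers i, rfl⟩))
        obtain ⟨w, ⟨k, rfl⟩, rfl⟩ := hg.mem_img.mp hz
        have := map_zpow hg.hom ⟨i, Subgroup.mem_zpowers i⟩ k
        exact ⟨k, this.symm⟩
      exact hi' ▸ hg.toIso.isConj
    have h1 : F.IsConj R Q := isConj_trans (isConj_symm hR) (isConj_trans hzi hQ)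
    calc Nat.card (normalizerIn S Q) ≤ Nat.card (normalizerIn S R) := hRn.2 Q h1
      _ = C x := by rw [hRx, normalizerIn_zpowers_involution hx2]
      _ ≤ C (g i) := not_lt.mp hlt
      _ = _ := by rw [normalizerIn_zpowers_involution hyi]
  -- the number of fixed points sent into `T` is even
  have hev : ∀ y : S, F.IsConjElt i y → (y : Ω) ∈ T →
      2 ∣ (A.filter fun j => ConjClasses.mk (X.c xS j) = ConjClasses.mk y).card := by
    intro y hy hyT
    set M := A.filter fun j => ConjClasses.mk (X.c xS j) = ConjClasses.mk y with hM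
    set W : Finset (Fin X.deg × S) :=
      Finset.univ.filter fun w => X.σ xS w.1 = w.1 ∧ w.2 * X.c xS w.1 * w.2⁻¹ = y with hW
    -- each point of `M` has `|C_S(y)|` lifts
    have hW1 : W.card = M.card * Nat.card (Subgroup.centralizer {y}) := by
      have hmaps : ∀ w ∈ W, w.1 ∈ M := fun w hw => by
        obtain ⟨-, hw1, hw2⟩ := Finset.mem_filter.mp hw
        exact Finset.mem_filter.mpr ⟨Finset.mem_filter.mpr ⟨Finset.mem_univ _, hw1⟩,
          ConjClasses.mk_eq_mk_iff_isConj.mpr (_root_.isConj_iff.mpr ⟨w.2, hw2⟩)⟩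
      rw [Finset.card_eq_sum_card_fiberwise (f := Prod.fst) (t := M) hmaps,
        Finset.sum_const_nat fun j hj => ?_]
      · obtain ⟨hjA, hjc⟩ := Finset.mem_filter.mp hj
        obtain ⟨t, ht⟩ := _root_.isConj_iff.mp (ConjClasses.mk_eq_mk_iff_isConj.mp hjc)
        rw [← Fintype.card_coe, ← Nat.card_eq_fintype_card]
        refine Nat.card_congr
          { toFun := fun w => ⟨w.1.2 * t⁻¹, ?_⟩
            invFun := fun u => ⟨(j, (u : S) * t), ?_⟩
            left_inv := fun w => ?_
            right_inv := fun u => ?_ }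
        · obtain ⟨hw, hwj⟩ := Finset.mem_filter.mp w.2
          obtain ⟨-, -, hw2⟩ := Finset.mem_filter.mp hw
          rw [hwj] at hw2
          refine Subgroup.mem_centralizer_singleton_iff.mpr ?_
          calc w.1.2 * t⁻¹ * y = w.1.2 * t⁻¹ * (t * X.c xS j * t⁻¹) := by rw [ht]
            _ = (w.1.2 * X.c xS j * w.1.2⁻¹) * (w.1.2 * t⁻¹) := by group
            _ = _ := by rw [hw2]
        · refine Finset.mem_filter.mpr ⟨Finset.mem_filter.mpr ⟨Finset.mem_univ _,
            (Finset.mem_filter.mp hjA).2, ?_⟩, rfl⟩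
          have hu := Subgroup.mem_centralizer_singleton_iff.mp u.2
          calc (u : S) * t * X.c xS j * ((u : S) * t)⁻¹ = (u : S) * (t * X.c xS j * t⁻¹) * (u : S)⁻¹ := by group
            _ = y := by rw [ht, hu, mul_inv_cancel_right]
        · refine Subtype.ext (Prod.ext (Finset.mem_filter.mp w.2).2.symm ?_)
          exact inv_mul_cancel_right _ _
        · exact Subtype.ext (mul_inv_cancel_right _ _)
    -- `C_S(x)` acts freely on the lifts
    set Cx := Subgroup.centralizer {xS}
    have hcomm : ∀ (s : Cx) (j : Fin X.deg), X.σ xS j = j →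
        X.σ xS (X.σ (s : S) j) = X.σ (s : S) j ∧
          X.c xS (X.σ (s : S) j) = X.c (s : S) j * X.c xS j * (X.c (s : S) j)⁻¹ := by
      intro s j hj
      have hs : (s : S) * xS = xS * (s : S) := Subgroup.mem_centralizer_singleton_iff.mp s.2
      refine ⟨?_, ?_⟩
      · rw [← Equiv.Perm.mul_apply, ← map_mul, ← hs, map_mul, Equiv.Perm.mul_apply, hj]
      · have h1 := X.cocycle (s : S) xS j
        rw [hs, X.cocycle, hj] at h1
        exact eq_mul_inv_iff_mul_eq.mpr h1
    letI : MulAction Cx W :=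
      { smul := fun s w => ⟨(X.σ (s : S) w.1.1, w.1.2 * (X.c (s : S) w.1.1)⁻¹),
          Finset.mem_filter.mpr ⟨Finset.mem_univ _, (hcomm s _ (Finset.mem_filter.mp w.2).2.1).1, by
            show w.1.2 * (X.c (s : S) w.1.1)⁻¹ * X.c xS (X.σ (s : S) w.1.1) *
              (w.1.2 * (X.c (s : S) w.1.1)⁻¹)⁻¹ = y
            rw [(hcomm s _ (Finset.mem_filter.mp w.2).2.1).2]
            refine Eq.trans ?_ (Finset.mem_filter.mp w.2).2.2
            group⟩⟩
        one_smul := fun w => Subtype.ext (Prod.ext (X.σ_one _) (by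
          show w.1.2 * (X.c (1 : S) w.1.1)⁻¹ = w.1.2
          rw [X.c_one, inv_one, mul_one]))
        mul_smul := fun s t w => Subtype.ext (Prod.ext (by
          show X.σ ((s : S) * t) w.1.1 = _
          rw [map_mul]; rfl) (by
          show w.1.2 * (X.c ((s : S) * t) w.1.1)⁻¹ = _
          rw [X.cocycle, mul_inv_rev, ← mul_assoc]; rfl)) }
    have hfree : ∀ w : W, MulAction.stabilizer Cx w = ⊥ := by
      intro w
      rw [eq_bot_iff]
      intro s hs
      have h1 : X.σ (s : S) w.1.1 = w.1.1 := congrArg (fun u : W => u.1.1) hs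
      have h2 : w.1.2 * (X.c (s : S) w.1.1)⁻¹ = w.1.2 := congrArg (fun u : W => u.1.2) hs
      rw [mul_eq_left, inv_eq_one] at h2
      obtain ⟨P, g, hg, eg⟩ := X.orbit w.1.1
      obtain ⟨hP, e⟩ := eg _ h1
      rw [h2] at e
      exact Subgroup.mem_bot.mpr (Subtype.ext (Subtype.ext
        (hg.injOn hP P.one_mem (e.trans hg.map_one.symm))))
    have hdvd : Nat.card Cx ∣ W.card := by
      rw [← Fintype.card_coe, ← Nat.card_eq_fintype_card,
        Nat.card_congr (MulAction.selfEquivSigmaOrbits Cx W), Nat.card_sigma]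
      refine Finset.dvd_sum fun o _ => ?_
      rw [Nat.card_congr (MulAction.orbitEquivQuotientStabilizer Cx _), hfree]
      exact dvd_of_eq (Nat.card_congr (QuotientGroup.quotientBot (G := Cx)).toEquiv).symm
    have hCC : ∀ z : S, C z = Nat.card (Subgroup.centralizer {z}) := by
      intro z
      refine Nat.card_congr
        { toFun := fun u => ⟨⟨u.1, u.2.1⟩, ?_⟩
          invFun := fun u => ⟨(u : S), (u : S).2, ?_⟩
          left_inv := fun _ => rfl
          right_inv := fun _ => rfl }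
      · exact Subgroup.mem_centralizer_singleton_iff.mpr
          (Subtype.ext (Subgroup.mem_centralizer_singleton_iff.mp u.2.2))
      · exact Subgroup.mem_centralizer_singleton_iff.mpr
          (congrArg Subtype.val (Subgroup.mem_centralizer_singleton_iff.mp u.2))
    have hlt := hsmall y hy hyT
    rw [show x = (xS : Ω) from rfl, hCC, hCC] at hlt
    obtain ⟨a, ha⟩ := IsPGroup.iff_card.mp (hS.to_subgroup Cx)
    obtain ⟨b, hb⟩ := IsPGroup.iff_card.mp (hS.to_subgroup (Subgroup.centralizer {y}))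
    rw [hW1, ha, hb] at hdvd
    rw [ha, hb] at hlt
    have hba : b < a := (Nat.pow_lt_pow_iff_right (by norm_num)).mp hlt
    obtain ⟨d, rfl⟩ := Nat.exists_eq_add_of_lt hba
    rw [show b + d + 1 = (d + 1) + b by ring, pow_add] at hdvd
    exact (dvd_pow_self 2 (Nat.succ_ne_zero d)).trans (Nat.dvd_of_mul_dvd_mul_right (by positivity) hdvd)
  -- parity
  have hsum : X.transfer χ xS = ∏ j ∈ A, χ (X.c xS j) := by
    rw [StableBiset.transfer_apply, prod_eq_of_cycles (X.σ xS) _
      (fun j => if X.σ xS j = j then χ (X.c xS j) else 1) fun j => ?_, Finset.prod_filter]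
    set m := Function.minimalPeriod (X.σ xS) j with hm
    by_cases hj : X.σ xS j = j
    · have : m = 1 := Function.minimalPeriod_eq_one_iff_isFixedPt.mpr hj
      rw [this]; simp [hj]
    · rw [← X.c_pow χ xS j]
      have hp : (X.σ xS)^[2] j = j := by
        rw [← Equiv.Perm.coe_pow, ← map_pow, sq, hxx, X.σ_one]
      have hm2 : m = 2 := by
        have h1 : m ∣ 2 := Function.IsPeriodicPt.minimalPeriod_dvd hp
        rcases (Nat.dvd_prime Nat.prime_two).mp h1 with h2 | h2
        · exact absurd (Function.minimalPeriod_eq_one_iff_isFixedPt.mp h2) hj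
        · exact h2
      rw [hm2, sq, hxx, X.c_one, map_one, Finset.prod_range_succ, Finset.prod_range_one]
      simp only [Function.iterate_zero, id_eq, Function.iterate_one, if_neg hj, one_mul]
      simp [hj]
  set B := A.filter fun j => (X.c xS j : Ω) ∈ T with hB
  have hBeven : 2 ∣ B.card := by
    rw [Finset.card_eq_sum_card_image (fun j => ConjClasses.mk (X.c xS j)) B]
    refine Finset.dvd_sum fun c hc => ?_
    obtain ⟨j, hj, rfl⟩ := Finset.mem_image.mp hc
    obtain ⟨hjA, hjT⟩ := Finset.mem_filter.mp hj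
    refine (hev (X.c xS j) (hconj j hjA) hjT).trans (dvd_of_eq (congrArg Finset.card ?_))
    ext k
    simp only [hB, Finset.mem_filter, and_congr_left_iff]
    intro hk
    symm
    refine ⟨fun h => h.1, fun hkA => ⟨hkA, ?_⟩⟩
    obtain ⟨t, ht⟩ := _root_.isConj_iff.mp (ConjClasses.mk_eq_mk_iff_isConj.mp hk)
    have h1 : X.c xS j ∈ K := hjT
    rw [← ht] at h1
    have h2 := (inferInstance : K.Normal).conj_mem _ h1 t⁻¹
    have h3 : X.c xS k ∈ K := by simpa [mul_assoc] using h2
    exact h3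
  have hAodd : ¬ 2 ∣ A.card := by
    intro hd
    apply hX
    have hmod : Nat.card (Fin X.deg) ≡ A.card [MOD 2] := by
      letI : MulAction (Subgroup.zpowers xS) (Fin X.deg) :=
        MulAction.compHom _ (X.σ.comp (Subgroup.zpowers xS).subtype)
      have hp : IsPGroup 2 (Subgroup.zpowers xS) := hS.to_subgroup _
      have := hp.card_modEq_card_fixedPoints (Fin X.deg)
      refine (Nat.ModEq.trans this (congrArg (· % 2) ?_))
      rw [← Nat.card_eq_finsetCard, hA]
      refine Nat.card_congr (Equiv.subtypeEquivRight fun j => ?_)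
      simp only [Finset.mem_filter, Finset.mem_univ, true_and, MulAction.mem_fixedPoints]
      constructor
      · exact fun h => h ⟨xS, Subgroup.mem_zpowers _⟩
      · rintro h ⟨w, k, rfl⟩
        show X.σ (xS ^ k) j = j
        rw [map_zpow]
        exact Equiv.Perm.zpow_apply_eq_self_of_apply_eq_self h k
    rw [Nat.card_fin] at hmod
    exact (Nat.ModEq.dvd_iff hmod dvd_rfl).mpr hd
  obtain ⟨a, -, hauniq⟩ : ∃ a : S ⧸ K, a ≠ 1 ∧ ∀ b, b ≠ 1 → b = a := by
    obtain ⟨u, v, huv, hall⟩ := (Nat.card_eq_two_iff' (1 : S ⧸ K)).mp hc2 |> fun ⟨b, hb, hu⟩ =>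
      (⟨b, b, rfl, fun c hc => hu c hc⟩ : ∃ u v : S ⧸ K, u = v ∧ ∀ c, c ≠ 1 → c = u)
    obtain ⟨b, hb, hu⟩ := (Nat.card_eq_two_iff' (1 : S ⧸ K)).mp hc2
    exact ⟨b, hb, hu⟩
  have hne : a ≠ 1 := by
    obtain ⟨b, hb, -⟩ := (Nat.card_eq_two_iff' (1 : S ⧸ K)).mp hc2
    exact hauniq b hb ▸ hb
  have hval : ∏ j ∈ A, χ (X.c xS j) = a ^ (A.card - B.card) := by
    have h1 : ∀ j ∈ A.filter (fun j => (X.c xS j : Ω) ∈ T), χ (X.c xS j) = 1 := fun j hj =>
      (QuotientGroup.eq_one_iff (N := K) _).mpr (Finset.mem_filter.mp hj).2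
    have h2 : ∀ j ∈ A.filter (fun j => ¬ (X.c xS j : Ω) ∈ T), χ (X.c xS j) = a := fun j hj =>
      hauniq _ fun h => (Finset.mem_filter.mp hj).2 ((QuotientGroup.eq_one_iff (N := K) _).mp h)
    rw [← Finset.prod_filter_mul_prod_filter_not A (fun j => (X.c xS j : Ω) ∈ T),
      Finset.prod_eq_one h1, one_mul, Finset.prod_eq_pow_card h2]
    congr 1
    have := Finset.card_filter_add_card_filter_not (s := A) (fun j => (X.c xS j : Ω) ∈ T)
    have hBc : B.card = (A.filter fun j => (X.c xS j : Ω) ∈ T).card := by rw [hB]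
    omega
  rw [hsum, hval] at hV
  have h2 : orderOf a ∣ A.card - B.card := orderOf_dvd_of_pow_eq_one hV
  have h3 : orderOf a = 2 := by
    rcases (Nat.dvd_prime Nat.prime_two).mp (hc2 ▸ orderOf_dvd_natCard a) with h4 | h4
    · exact absurd (orderOf_eq_one_iff.mp h4) hne
    · exact h4
  rw [h3] at h2
  have hle : B.card ≤ A.card := Finset.card_filter_le _ _
  refine hAodd ?_
  have := Nat.dvd_add h2 hBeven
  rwa [Nat.sub_add_cancel hle] at this

end Cfsg.Agent.Fusion
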